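import Mathlib
import Cfsg.Agent.H2.Cores

/-!
# Conjugate subgroups and Sylow subgroups of subgroups (ambient style)
-/

set_option autoImplicit false

namespace H22

open Subgroup

section Cj
variable {G : Type*} [Group G]

/-- the conjugate `g A g⁻¹`, in the form used by the statements -/
abbrev cj (g : G) (A : Subgroup G) : Subgroup G := A.map (MulAut.conj g).toMonoidHom

theorem mem_cj {g x : G} {A : Subgroup G} : x ∈ cj g A ↔ g⁻¹ * x * g ∈ A := by
  constructor
  · rintro ⟨a, ha, rfl⟩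
    simpa [mul_assoc] using ha
  · intro h
    exact ⟨_, h, by simp [mul_assoc]⟩

theorem conj_mem_cj {g a : G} {A : Subgroup G} (h : a ∈ A) : g * a * g⁻¹ ∈ cj g A :=
  ⟨a, h, rfl⟩

theorem conj_mem_cj_iff {g a : G} {A : Subgroup G} : g * a * g⁻¹ ∈ cj g A ↔ a ∈ A := by
  rw [mem_cj]; simp [mul_assoc]

theorem cj_one (A : Subgroup G) : cj 1 A = A := by
  ext x; rw [mem_cj]; simp

theorem cj_mul (g h : G) (A : Subgroup G) : cj (g * h) A = cj g (cj h A) := by
  ext x; simp only [mem_cj, mul_inv_rev, mul_assoc]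

theorem cj_inv_cj (g : G) (A : Subgroup G) : cj g⁻¹ (cj g A) = A := by
  rw [← cj_mul, inv_mul_cancel, cj_one]

theorem cj_cj_inv (g : G) (A : Subgroup G) : cj g (cj g⁻¹ A) = A := by
  rw [← cj_mul, mul_inv_cancel, cj_one]

theorem cj_mono {g : G} {A B : Subgroup G} (h : A ≤ B) : cj g A ≤ cj g B := map_mono h

theorem cj_le_cj_iff {g : G} {A B : Subgroup G} : cj g A ≤ cj g B ↔ A ≤ B := by
  refine ⟨fun h => ?_, cj_mono⟩
  have := cj_mono (g := g⁻¹) h
  rwa [cj_inv_cj, cj_inv_cj] at this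

theorem cj_le_iff {g : G} {A B : Subgroup G} : cj g A ≤ B ↔ ∀ a ∈ A, g * a * g⁻¹ ∈ B := by
  constructor
  · intro h a ha; exact h (conj_mem_cj ha)
  · rintro h _ ⟨a, ha, rfl⟩; exact h a ha

theorem cj_le_iff_le_cj_inv {g : G} {A B : Subgroup G} : cj g A ≤ B ↔ A ≤ cj g⁻¹ B := by
  rw [← cj_le_cj_iff (g := g⁻¹), cj_inv_cj]

theorem cj_injective (g : G) : Function.Injective (cj g : Subgroup G → Subgroup G) :=
  map_injective (MulAut.conj g).injective

/-- `A` is isomorphic to its conjugates -/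
noncomputable def cjEquiv (g : G) (A : Subgroup G) : A ≃* cj g A :=
  A.equivMapOfInjective _ (MulAut.conj g).injective

theorem card_cj (g : G) (A : Subgroup G) : Nat.card (cj g A) = Nat.card A :=
  card_map_of_injective (MulAut.conj g).injective

theorem cj_eq_iff {g : G} {A : Subgroup G} : cj g A = A ↔ g ∈ normalizer (A : Set G) :=
  mem_normalizer_iff_map_conj_eq.symm

theorem cj_eq_of_mem {g : G} {A : Subgroup G} (h : g ∈ A) : cj g A = A :=
  cj_eq_iff.2 (le_normalizer h)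

theorem cj_eq_of_normal (g : G) (A : Subgroup G) [A.Normal] : cj g A = A :=
  cj_eq_iff.2 (by rw [normalizer_eq_top]; trivial)

theorem cj_eq_of_le [Finite G] {g : G} {A : Subgroup G} (h : cj g A ≤ A) : cj g A = A :=
  eq_of_le_of_card_ge h (card_cj g A).ge

theorem mem_normalizer_of_conj_mem [Finite G] {g : G} {A : Subgroup G}
    (h : ∀ a ∈ A, g * a * g⁻¹ ∈ A) : g ∈ normalizer (A : Set G) :=
  cj_eq_iff.1 (cj_eq_of_le (cj_le_iff.2 h))

theorem conj_mem_of_mem_normalizer {g a : G} {A : Subgroup G} (h : g ∈ normalizer (A : Set G))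
    (ha : a ∈ A) : g * a * g⁻¹ ∈ A := (mem_normalizer_iff.1 h a).1 ha

theorem conj_mem_of_mem_normalizer' {g a : G} {A : Subgroup G} (h : g ∈ normalizer (A : Set G))
    (ha : a ∈ A) : g⁻¹ * a * g ∈ A := (mem_normalizer_iff''.1 h a).1 ha

theorem cj_inf (g : G) (A B : Subgroup G) : cj g (A ⊓ B) = cj g A ⊓ cj g B := by
  ext x; simp only [mem_cj, mem_inf]

theorem cj_sup (g : G) (A B : Subgroup G) : cj g (A ⊔ B) = cj g A ⊔ cj g B :=
  Subgroup.map_sup _ _ _

theorem cj_bot (g : G) : cj g (⊥ : Subgroup G) = ⊥ := Subgroup.map_bot _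

theorem cj_top (g : G) : cj g (⊤ : Subgroup G) = ⊤ := cj_eq_of_normal g ⊤

theorem cj_normalizer (g : G) (A : Subgroup G) :
    cj g (normalizer (A : Set G)) = normalizer (cj g A : Set G) :=
  map_equiv_normalizer_eq A (MulAut.conj g)

theorem cj_centralizer (g : G) (A : Subgroup G) :
    cj g (centralizer (A : Set G)) = centralizer (cj g A : Set G) := by
  ext x
  simp only [mem_cj, mem_centralizer_iff, SetLike.mem_coe]
  constructor
  · intro h a ha
    have := h _ ha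
    calc a * x = g * (g⁻¹ * a * g * (g⁻¹ * x * g)) * g⁻¹ := by group
      _ = x * a := by rw [this]; group
  · intro h a ha
    have := h (g * a * g⁻¹) (by simpa [mul_assoc] using ha)
    calc a * (g⁻¹ * x * g) = g⁻¹ * (g * a * g⁻¹ * x) * g := by group
      _ = g⁻¹ * x * g * a := by rw [this]; group

theorem cj_centralizer_singleton (g a : G) :
    cj g (centralizer ({a} : Set G)) = centralizer ({g * a * g⁻¹} : Set G) := by
  ext x
  simp only [mem_cj, mem_centralizer_singleton_iff]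
  constructor
  · intro h
    calc x * (g * a * g⁻¹) = g * (g⁻¹ * x * g * a) * g⁻¹ := by group
      _ = g * a * g⁻¹ * x := by rw [h]; group
  · intro h
    calc g⁻¹ * x * g * a = g⁻¹ * (x * (g * a * g⁻¹)) * g := by group
      _ = a * (g⁻¹ * x * g) := by rw [h]; group

theorem cj_zpowers (g a : G) : cj g (zpowers a) = zpowers (g * a * g⁻¹) := by
  rw [cj, MonoidHom.map_zpowers]; rfl

theorem cj_closure (g : G) (s : Set G) :
    cj g (closure s) = closure ((fun a => g * a * g⁻¹) '' s) := by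
  rw [cj, MonoidHom.map_closure]; rfl

theorem isPGroup_cj {p : ℕ} {A : Subgroup G} (h : IsPGroup p A) (g : G) : IsPGroup p (cj g A) :=
  h.map _

theorem relIndex_cj (g : G) (A B : Subgroup G) : (cj g A).relIndex (cj g B) = A.relIndex B :=
  relIndex_map_map_of_injective A B (MulAut.conj g).injective

theorem normalizer_le_normalizer_centralizer (A : Subgroup G) :
    normalizer (A : Set G) ≤ normalizer (centralizer (A : Set G) : Set G) := by
  intro g hg
  rw [← cj_eq_iff] at hg ⊢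
  rw [cj_centralizer, hg]

theorem normalizer_le_normalizer_normalizer (A : Subgroup G) :
    normalizer (A : Set G) ≤ normalizer (normalizer (A : Set G) : Set G) := le_normalizer

theorem mem_normalizer_inf {g : G} {A B : Subgroup G} (hA : g ∈ normalizer (A : Set G))
    (hB : g ∈ normalizer (B : Set G)) : g ∈ normalizer ((A ⊓ B : Subgroup G) : Set G) := by
  rw [← cj_eq_iff] at *
  rw [cj_inf, hA, hB]

theorem mem_normalizer_sup {g : G} {A B : Subgroup G} (hA : g ∈ normalizer (A : Set G))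
    (hB : g ∈ normalizer (B : Set G)) : g ∈ normalizer ((A ⊔ B : Subgroup G) : Set G) := by
  rw [← cj_eq_iff] at *
  rw [cj_sup, hA, hB]

theorem coe_smul_sylow {p : ℕ} (g : G) (P : Sylow p G) :
    ((g • P : Sylow p G) : Subgroup G) = cj g P := rfl

theorem mem_sup_of_le_normalizer {A B : Subgroup G} (h : A ≤ normalizer (B : Set G)) {x : G} :
    x ∈ A ⊔ B ↔ ∃ a ∈ A, ∃ b ∈ B, a * b = x := by
  rw [← SetLike.mem_coe, coe_mul_of_left_le_normalizer_right A B h]
  simp [Set.mem_mul]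

theorem isPGroup_sup_of_le_normalizer {p : ℕ} {A B : Subgroup G} (hA : IsPGroup p A)
    (hB : IsPGroup p B) (h : A ≤ normalizer (B : Set G)) : IsPGroup p ↥(A ⊔ B) :=
  hA.to_sup_of_normal_right' hB h

theorem isPGroup_iff_forall_mem {p : ℕ} {A : Subgroup G} :
    IsPGroup p A ↔ ∀ a ∈ A, ∃ k : ℕ, a ^ p ^ k = 1 := by
  constructor
  · intro h a ha
    obtain ⟨k, hk⟩ := h ⟨a, ha⟩
    exact ⟨k, congrArg Subtype.val hk⟩
  · rintro h ⟨a, ha⟩
    obtain ⟨k, hk⟩ := h a ha
    exact ⟨k, Subtype.ext hk⟩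

theorem isPGroup_zpowers {p k : ℕ} {a : G} (h : a ^ p ^ k = 1) : IsPGroup p (zpowers a) := by
  rw [isPGroup_iff_forall_mem]
  rintro _ ⟨m, rfl⟩
  refine ⟨k, ?_⟩
  show (a ^ m) ^ p ^ k = 1
  rw [← zpow_natCast, ← zpow_mul, mul_comm, zpow_mul, zpow_natCast, h, one_zpow]

end Cj

section SylIn
variable {G : Type*} [Group G] {p : ℕ}

/-- `Q` is a Sylow `p`-subgroup of the subgroup `H` (a maximal `p`-subgroup of `H`). -/
def SylIn (p : ℕ) (Q H : Subgroup G) : Prop :=
  Q ≤ H ∧ IsPGroup p Q ∧ ∀ R : Subgroup G, R ≤ H → IsPGroup p R → Q ≤ R → R = Q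

theorem SylIn.le {Q H : Subgroup G} (h : SylIn p Q H) : Q ≤ H := h.1
theorem SylIn.isPGroup {Q H : Subgroup G} (h : SylIn p Q H) : IsPGroup p Q := h.2.1

/-- the Sylow subgroup of `H` given by `SylIn` -/
def SylIn.toSylow {Q H : Subgroup G} (h : SylIn p Q H) : Sylow p H where
  toSubgroup := Q.subgroupOf H
  isPGroup' := h.2.1.comap_subtype
  is_maximal' := by
    intro R hR hQR
    have h1 := h.2.2 (R.map H.subtype) (map_subtype_le R) (hR.map _) (by
      intro x hx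
      exact ⟨⟨x, h.1 hx⟩, hQR hx, rfl⟩)
    rw [← h1]
    ext x
    simp [mem_subgroupOf]

theorem SylIn.coe_toSylow {Q H : Subgroup G} (h : SylIn p Q H) :
    (h.toSylow : Subgroup H) = Q.subgroupOf H := rfl

theorem sylIn_map_subtype {H : Subgroup G} (P : Sylow p H) :
    SylIn p ((P : Subgroup H).map H.subtype) H := by
  refine ⟨map_subtype_le _, P.isPGroup'.map _, fun R hRH hR hPR => ?_⟩
  have := P.is_maximal' (Q := R.subgroupOf H) hR.comap_subtype (map_le_iff_le_comap.1 hPR)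
  rw [← this, subgroupOf_map_subtype, inf_of_le_left hRH]

theorem sylIn_top (P : Sylow p G) : SylIn p (P : Subgroup G) ⊤ :=
  ⟨le_top, P.isPGroup', fun _ _ hR hPR => P.is_maximal' hR hPR⟩

theorem sylIn_of_sylow_le (P : Sylow p G) {H : Subgroup G} (h : (P : Subgroup G) ≤ H) :
    SylIn p (P : Subgroup G) H :=
  ⟨h, P.isPGroup', fun _ _ hR hPR => P.is_maximal' hR hPR⟩

theorem SylIn.mono {Q H K : Subgroup G} (h : SylIn p Q H) (hQK : Q ≤ K) (hKH : K ≤ H) :
    SylIn p Q K :=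
  ⟨hQK, h.2.1, fun R hR => h.2.2 R (hR.trans hKH)⟩

theorem exists_sylIn {R H : Subgroup G} (hRH : R ≤ H) (hR : IsPGroup p R) :
    ∃ Q : Subgroup G, SylIn p Q H ∧ R ≤ Q := by
  obtain ⟨Q, hQ⟩ := (hR.comap_subtype (K := H)).exists_le_sylow
  refine ⟨_, sylIn_map_subtype Q, fun x hx => ⟨⟨x, hRH hx⟩, hQ hx, rfl⟩⟩

theorem SylIn.cj {Q H : Subgroup G} (h : SylIn p Q H) (g : G) : SylIn p (cj g Q) (cj g H) := by
  refine ⟨cj_mono h.1, isPGroup_cj h.2.1 g, fun R hR hRp hQR => ?_⟩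
  have := h.2.2 (H22.cj g⁻¹ R) (by rw [← cj_inv_cj g H]; exact cj_mono hR) (isPGroup_cj hRp _)
    (cj_le_iff_le_cj_inv.1 hQR)
  rw [← this, cj_cj_inv]

variable [Fact p.Prime] [Finite G]

theorem SylIn.exists_cj_le {Q H R : Subgroup G} (h : SylIn p Q H) (hRH : R ≤ H)
    (hR : IsPGroup p R) : ∃ g ∈ H, H22.cj g R ≤ Q := by
  obtain ⟨P, hP⟩ := (hR.comap_subtype (K := H)).exists_le_sylow
  obtain ⟨g, hg⟩ := MulAction.exists_smul_eq H P h.toSylow
  refine ⟨g, g.2, cj_le_iff.2 fun a ha => ?_⟩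
  have h1 : (⟨a, hRH ha⟩ : H) ∈ (P : Subgroup H) := hP ha
  have h2 : g * ⟨a, hRH ha⟩ * g⁻¹ ∈ ((g • P : Sylow p H) : Subgroup H) := conj_mem_cj h1
  rw [hg] at h2
  exact h2

theorem SylIn.exists_cj_eq {Q H R : Subgroup G} (h : SylIn p Q H) (hR : SylIn p R H) :
    ∃ g ∈ H, H22.cj g R = Q := by
  obtain ⟨g, hg, hle⟩ := h.exists_cj_le hR.1 hR.2.1
  refine ⟨g, hg, ?_⟩
  have := hR.cj g
  rw [cj_eq_of_mem hg] at this
  exact (this.2.2 Q h.1 h.2.1 hle).symm

theorem sylow_exists_cj_le (P : Sylow p G) {R : Subgroup G} (hR : IsPGroup p R) :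
    ∃ g : G, H22.cj g R ≤ P := by
  obtain ⟨g, -, hg⟩ := (sylIn_top P).exists_cj_le le_top hR
  exact ⟨g, hg⟩

theorem sylow_exists_conj_mem (P : Sylow p G) {a : G} {k : ℕ} (ha : a ^ p ^ k = 1) :
    ∃ g : G, g * a * g⁻¹ ∈ P := by
  obtain ⟨g, hg⟩ := sylow_exists_cj_le P (isPGroup_zpowers ha)
  exact ⟨g, hg (conj_mem_cj (mem_zpowers a))⟩

theorem SylIn.card_le {Q H R : Subgroup G} (h : SylIn p Q H) (hRH : R ≤ H)
    (hR : IsPGroup p R) : Nat.card R ≤ Nat.card Q := by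
  obtain ⟨g, -, hg⟩ := h.exists_cj_le hRH hR
  rw [← card_cj g R]; exact card_le_of_le hg

theorem SylIn.card_dvd {Q H R : Subgroup G} (h : SylIn p Q H) (hRH : R ≤ H)
    (hR : IsPGroup p R) : Nat.card R ∣ Nat.card Q := by
  obtain ⟨g, -, hg⟩ := h.exists_cj_le hRH hR
  rw [← card_cj g R]; exact card_dvd_of_le hg

theorem SylIn.not_dvd {Q H : Subgroup G} (h : SylIn p Q H) : ¬ p ∣ Q.relIndex H :=
  h.toSylow.not_dvd_index

theorem sylIn_of_not_dvd {Q H : Subgroup G} (hQH : Q ≤ H) (hQ : IsPGroup p Q)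
    (h : ¬ p ∣ Q.relIndex H) : SylIn p Q H := by
  have : SylIn p ((Q.subgroupOf H).map H.subtype) H :=
    sylIn_map_subtype ((hQ.comap_subtype (K := H)).toSylow h)
  rwa [subgroupOf_map_subtype, inf_of_le_left hQH] at this

omit [Fact p.Prime] in
theorem sylIn_of_card_ge {Q H : Subgroup G} (hQH : Q ≤ H) (hQ : IsPGroup p Q)
    (h : ∀ R : Subgroup G, R ≤ H → IsPGroup p R → Q ≤ R → Nat.card R ≤ Nat.card Q) :
    SylIn p Q H :=
  ⟨hQH, hQ, fun R hR hRp hQR => (eq_of_le_of_card_ge hQR (h R hR hRp hQR)).symm⟩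

theorem SylIn.of_card_ge {Q H R : Subgroup G} (h : SylIn p Q H) (hRH : R ≤ H)
    (hR : IsPGroup p R) (hc : Nat.card Q ≤ Nat.card R) : SylIn p R H :=
  sylIn_of_card_ge hRH hR fun _ hT hTp _ => (h.card_le hT hTp).trans hc

omit [Fact p.Prime] [Finite G] in
/-- a `SylIn` subgroup of the whole group is a Sylow subgroup -/
theorem SylIn.exists_sylow {Q : Subgroup G} (h : SylIn p Q ⊤) : ∃ P : Sylow p G, (P : Subgroup G) = Q := by
  obtain ⟨P, hP⟩ := h.2.1.exists_le_sylow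
  exact ⟨P, h.2.2 P le_top P.isPGroup' hP⟩

/-- intersection with a normal subgroup -/
theorem SylIn.inf_normal {Q H K : Subgroup G} (h : SylIn p Q H) (hKH : K ≤ H)
    (hn : H ≤ normalizer (K : Set G)) : SylIn p (Q ⊓ K) K := by
  obtain ⟨R, hR, -⟩ := exists_sylIn (p := p) (R := ⊥) (H := K) bot_le IsPGroup.of_bot
  obtain ⟨g, hg, hle⟩ := h.exists_cj_le (hR.1.trans hKH) hR.2.1
  have hK : H22.cj g K = K := cj_eq_iff.2 (hn hg)
  refine hR.of_card_ge inf_le_right h.2.1.to_inf_left ?_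
  rw [← card_cj g R]
  exact card_le_of_le (le_inf hle (by rw [← hK]; exact cj_mono hR.1))

/-- Frattini argument -/
theorem SylIn.frattini {Q H K : Subgroup G} (h : SylIn p Q K)
    (hn : H ≤ normalizer (K : Set G)) {g : G} (hg : g ∈ H) :
    ∃ k ∈ K, k * g ∈ normalizer (Q : Set G) := by
  have h1 := h.cj g
  rw [cj_eq_iff.2 (hn hg)] at h1
  obtain ⟨k, hk, hkq⟩ := h.exists_cj_eq h1
  exact ⟨k, hk, by rw [← cj_eq_iff, cj_mul, hkq]⟩

/-- Frattini argument, other side -/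
theorem SylIn.frattini' {Q H K : Subgroup G} (h : SylIn p Q K)
    (hn : H ≤ normalizer (K : Set G)) {g : G} (hg : g ∈ H) :
    ∃ k ∈ K, g * k ∈ normalizer (Q : Set G) := by
  obtain ⟨k, hk, hkq⟩ := h.frattini hn (H.inv_mem hg)
  exact ⟨k⁻¹, K.inv_mem hk, by simpa using inv_mem hkq⟩

omit [Finite G] in
theorem exists_pow_coprime {g : G} (hg : IsOfFinOrder g) :
    ∃ k : ℕ, Nat.Coprime (orderOf (g ^ p ^ k)) p := by
  have hp : p.Prime := Fact.out
  have hpos : orderOf g ≠ 0 := hg.orderOf_pos.ne'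
  obtain ⟨k, m, hm, he⟩ := Nat.exists_eq_pow_mul_and_not_dvd hpos p hp.ne_one
  refine ⟨k, ?_⟩
  have : orderOf (g ^ p ^ k) ∣ m := by
    apply orderOf_dvd_of_pow_eq_one
    rw [← pow_mul, ← he, pow_orderOf_eq_one]
  exact Nat.Coprime.coprime_dvd_left this ((Nat.Prime.coprime_iff_not_dvd hp).2 hm).symm

/-- If `K ⊴ H` contains all `p'`-elements of `H`, then `H = Q K` for a Sylow `p`-subgroup `Q`. -/
theorem SylIn.exists_mul_of_coprime_mem {Q H K : Subgroup G} (h : SylIn p Q H) (hKH : K ≤ H)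
    (hn : H ≤ normalizer (K : Set G))
    (hK : ∀ g ∈ H, Nat.Coprime (orderOf g) p → g ∈ K) {g : G} (hg : g ∈ H) :
    ∃ q ∈ Q, ∃ k ∈ K, g = q * k := by
  have : (K.subgroupOf H).Normal := (normal_subgroupOf_iff_le_normalizer hKH).2 hn
  have hpq : IsPGroup p (H ⧸ K.subgroupOf H) := by
    intro x
    obtain ⟨x, rfl⟩ := QuotientGroup.mk_surjective x
    obtain ⟨k, hk⟩ := exists_pow_coprime (p := p) (isOfFinOrder_of_finite (x : G))
    refine ⟨k, ?_⟩
    rw [← QuotientGroup.mk_pow, QuotientGroup.eq_one_iff, mem_subgroupOf]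
    exact hK _ (H.pow_mem x.2 _) hk
  obtain ⟨n, hn'⟩ := IsPGroup.iff_card.1 hpq
  have htop : Q.subgroupOf H ⊔ K.subgroupOf H = ⊤ := by
    rw [← index_eq_one]
    have h1 : (Q.subgroupOf H ⊔ K.subgroupOf H).index ∣ p ^ n := by
      rw [← hn']; exact index_dvd_of_le le_sup_right
    have h2 : (Q.subgroupOf H ⊔ K.subgroupOf H).index ∣ Q.relIndex H := index_dvd_of_le le_sup_left
    have h3 : Nat.Coprime (p ^ n) (Q.relIndex H) :=
      ((Nat.Prime.coprime_iff_not_dvd Fact.out).2 h.not_dvd).pow_left n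
    exact Nat.eq_one_of_dvd_coprimes h3 h1 h2
  have : (⟨g, hg⟩ : H) ∈ Q.subgroupOf H ⊔ K.subgroupOf H := by rw [htop]; trivial
  obtain ⟨q, hq, k, hk, e⟩ := mem_sup_of_normal_right.1 this
  exact ⟨q, hq, k, hk, (congrArg Subtype.val e).symm⟩

omit [Fact p.Prime] in
/-- normalizers grow in a `p`-subgroup -/
theorem lt_inf_normalizer_of_nilpotent {A P : Subgroup G} (hP : Group.IsNilpotent P) (h : A < P) :
    A < P ⊓ normalizer (A : Set G) := by
  have hnc : NormalizerCondition P := Group.normalizerCondition_of_isNilpotent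
  have h1 : A.subgroupOf P < ⊤ := by
    rw [lt_top_iff_ne_top, Ne, subgroupOf_eq_top]
    exact not_le_of_gt h
  have h2 := hnc _ h1
  rw [← subgroupOf_normalizer_eq h.le] at h2
  refine lt_of_le_of_ne (le_inf h.le le_normalizer) fun e => h2.ne ?_
  rw [← inf_subgroupOf_left (normalizer (A : Set G)), ← e]

theorem lt_inf_normalizer {A P : Subgroup G} (hP : IsPGroup p P) (h : A < P) :
    A < P ⊓ normalizer (A : Set G) :=
  lt_inf_normalizer_of_nilpotent hP.isNilpotent h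

/-- In a `p`-subgroup, a proper subgroup is normalized by an element outside it. -/
theorem exists_mem_normalizer_not_mem {A P : Subgroup G} (hP : IsPGroup p P) (h : A < P) :
    ∃ g ∈ P, g ∈ normalizer (A : Set G) ∧ g ∉ A := by
  obtain ⟨g, hg, hgA⟩ := SetLike.exists_of_lt (lt_inf_normalizer hP h)
  exact ⟨g, hg.1, hg.2, hgA⟩

end SylIn

end H22
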