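import Mathlib
import Cfsg.Prelude.Def_TwoFusion

/-!
# Isolated involutions: elementary facts
-/

set_option autoImplicit false

namespace H22

open Cfsg

section Dihedral
variable {G : Type*} [Group G]

theorem mul_self_of_orderOf_two {z : G} (hz : orderOf z = 2) : z * z = 1 := by
  rw [← sq, ← hz]; exact pow_orderOf_eq_one z

theorem inv_eq_of_orderOf_two {z : G} (hz : orderOf z = 2) : z⁻¹ = z :=
  inv_eq_of_mul_eq_one_right (mul_self_of_orderOf_two hz)

theorem ne_one_of_orderOf_two {z : G} (hz : orderOf z = 2) : z ≠ 1 := by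
  rintro rfl; simp at hz

theorem orderOf_eq_two_of_mul_self {z : G} (h1 : z * z = 1) (h2 : z ≠ 1) : orderOf z = 2 :=
  orderOf_eq_prime (by rw [sq]; exact h1) h2

theorem orderOf_conj' (g z : G) : orderOf (g * z * g⁻¹) = orderOf z :=
  (MulAut.conj g).orderOf_eq z

theorem conj_zpow_of_inverts {z a : G} (h : z * a * z⁻¹ = a⁻¹) (m : ℤ) :
    z * a ^ m * z⁻¹ = a ^ (-m) := by
  rw [← conj_zpow, h, inv_zpow, zpow_neg]

theorem conj_pow_of_inverts {z a : G} (h : z * a * z⁻¹ = a⁻¹) (m : ℕ) :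
    z * a ^ m * z⁻¹ = (a ^ m)⁻¹ := by
  rw [← conj_pow, h, inv_pow]

theorem inverts_mul_of_mul_self {x y : G} (hx : x * x = 1) (hy : y * y = 1) :
    x * (x * y) * x⁻¹ = (x * y)⁻¹ := by
  have hx' : x⁻¹ = x := inv_eq_of_mul_eq_one_right hx
  have hy' : y⁻¹ = y := inv_eq_of_mul_eq_one_right hy
  rw [mul_inv_rev, hx', hy', ← mul_assoc, hx, one_mul]

theorem inverts_mul_of_mul_self' {x y : G} (hx : x * x = 1) (hy : y * y = 1) :
    y * (x * y) * y⁻¹ = (x * y)⁻¹ := by
  have hx' : x⁻¹ = x := inv_eq_of_mul_eq_one_right hx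
  have hy' : y⁻¹ = y := inv_eq_of_mul_eq_one_right hy
  rw [mul_inv_rev, hx', hy']
  calc y * (x * y) * y = y * x * (y * y) := by group
    _ = y * x := by rw [hy, mul_one]

/-- If `z` inverts `a`, then `a^j z a^{-j} = a^{2j} z`. -/
theorem zpow_conj_of_inverts {z a : G} (h : z * a * z⁻¹ = a⁻¹) (j : ℤ) :
    a ^ j * z * (a ^ j)⁻¹ = a ^ (2 * j) * z := by
  have h1 := conj_zpow_of_inverts h (-j)
  rw [neg_neg] at h1
  have h2 : z * (a ^ j)⁻¹ = a ^ j * z := by
    rw [← zpow_neg, ← h1]; group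
  rw [mul_assoc, h2, ← mul_assoc, ← zpow_add, two_mul]

/-- two involutions with product of odd order are conjugate by a power of the product -/
theorem exists_conj_of_odd_orderOf {x y : G} (hx : x * x = 1) (hy : y * y = 1)
    (hodd : Odd (orderOf (x * y))) :
    ∃ j : ℕ, (x * y) ^ j * y * ((x * y) ^ j)⁻¹ = x := by
  obtain ⟨m, hm⟩ := hodd
  refine ⟨m + 1, ?_⟩
  have h := zpow_conj_of_inverts (inverts_mul_of_mul_self' hx hy) ((m + 1 : ℕ) : ℤ)
  rw [zpow_natCast] at h
  rw [h]
  have h2 : (x * y) ^ (2 * ((m + 1 : ℕ) : ℤ)) = x * y := by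
    have : (2 * ((m + 1 : ℕ) : ℤ)) = ((orderOf (x * y) + 1 : ℕ) : ℤ) := by
      rw [hm]; push_cast; ring
    rw [this, zpow_natCast, pow_succ, pow_orderOf_eq_one, one_mul]
  rw [h2, mul_assoc, hy, mul_one]

/-- `a^m x` is conjugate to `x` or `y` inside `⟨a⟩`, where `a = x y`. -/
theorem zpow_mul_conj {x y : G} (hx : x * x = 1) (hy : y * y = 1) (m : ℤ) :
    (Even m ∧ ∃ j : ℤ, (x * y) ^ j * x * ((x * y) ^ j)⁻¹ = (x * y) ^ m * x) ∨
    (Odd m ∧ ∃ j : ℤ, (x * y) ^ j * y * ((x * y) ^ j)⁻¹ = (x * y) ^ m * x) := by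
  rcases Int.even_or_odd m with ⟨k, hk⟩ | ⟨k, hk⟩
  · left
    refine ⟨⟨k, hk⟩, k, ?_⟩
    rw [zpow_conj_of_inverts (inverts_mul_of_mul_self hx hy), hk, two_mul]
  · right
    refine ⟨⟨k, hk⟩, k + 1, ?_⟩
    rw [zpow_conj_of_inverts (inverts_mul_of_mul_self' hx hy), hk]
    have : (2 * (k + 1) : ℤ) = (2 * k + 1) + 1 := by ring
    rw [this, zpow_add_one, mul_assoc, mul_assoc x y y, hy, mul_one]

/-- the half power of an element of even order -/
theorem half_pow_spec [Finite G] {a : G} {k : ℕ} (hk : orderOf a = k + k) :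
    a ^ k ≠ 1 ∧ a ^ k * a ^ k = 1 := by
  have hpos : 0 < orderOf a := orderOf_pos a
  refine ⟨?_, ?_⟩
  · exact pow_ne_one_of_lt_orderOf (by omega) (by omega)
  · rw [← pow_add, ← hk, pow_orderOf_eq_one]

end Dihedral

section Isolated
variable {G : Type*} [Group G]

theorem isolated_mul_self {z : G} (hz : IsIsolatedInvolution z) : z * z = 1 :=
  mul_self_of_orderOf_two hz.1

theorem isolated_inv {z : G} (hz : IsIsolatedInvolution z) : z⁻¹ = z :=
  inv_eq_of_orderOf_two hz.1

theorem conj_mul_self {z : G} (hz : z * z = 1) (g : G) : g * z * g⁻¹ * (g * z * g⁻¹) = 1 := by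
  calc g * z * g⁻¹ * (g * z * g⁻¹) = g * (z * z) * g⁻¹ := by group
    _ = 1 := by rw [hz]; group

theorem isolated_conj {z : G} (hz : IsIsolatedInvolution z) (g : G) :
    IsIsolatedInvolution (g * z * g⁻¹) := by
  refine ⟨by rw [orderOf_conj', hz.1], fun h hc => ?_⟩
  have h1 : Commute z ((g⁻¹ * h * g) * z * (g⁻¹ * h * g)⁻¹) := by
    have := hc.map (MulAut.conj g⁻¹)
    simp only [MulAut.conj_apply] at this
    convert this using 1 <;> group
  have h2 := hz.2 _ h1
  calc h * (g * z * g⁻¹) * h⁻¹ = g * ((g⁻¹ * h * g) * z * (g⁻¹ * h * g)⁻¹) * g⁻¹ := by group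
    _ = g * z * g⁻¹ := by rw [h2]

/-- For an isolated involution `z`, the product of `z` with a conjugate has odd order. -/
theorem isolated_odd [Finite G] {z : G} (hz : IsIsolatedInvolution z) (g : G) :
    Odd (orderOf (z * (g * z * g⁻¹))) := by
  by_contra hodd
  rw [Nat.not_odd_iff_even] at hodd
  obtain ⟨k, hk⟩ := hodd
  set w := g * z * g⁻¹ with hw
  have hzz := isolated_mul_self hz
  have hww : w * w = 1 := conj_mul_self hzz g
  obtain ⟨hc1, hc2⟩ := half_pow_spec hk
  have hinv := conj_pow_of_inverts (inverts_mul_of_mul_self hzz hww) k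
  have hcinv : ((z * w) ^ k)⁻¹ = (z * w) ^ k := inv_eq_of_mul_eq_one_right hc2
  rw [hcinv] at hinv
  have hcomm : Commute z ((z * w) ^ k * z) := by
    have : z * (z * w) ^ k = (z * w) ^ k * z := by
      rw [← hinv]; nth_rw 1 [hinv]; group
    exact (Commute.mul_right this (Commute.refl z))
  have key : ∃ h : G, h * z * h⁻¹ = (z * w) ^ k * z := by
    rcases zpow_mul_conj hzz hww (k : ℤ) with ⟨-, j, hj⟩ | ⟨-, j, hj⟩
    · exact ⟨_, by rw [hj, zpow_natCast]⟩
    · refine ⟨(z * w) ^ j * g, ?_⟩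
      rw [zpow_natCast] at hj
      rw [← hj]
      generalize (z * w) ^ j = b
      rw [hw]
      group
  obtain ⟨h, hh⟩ := key
  have := hz.2 h (hh ▸ hcomm)
  rw [hh] at this
  exact hc1 (by simpa using this)

theorem isolated_odd' [Finite G] {z : G} (hz : IsIsolatedInvolution z) (g h : G) :
    Odd (orderOf (g * z * g⁻¹ * (h * z * h⁻¹))) := by
  have := isolated_odd (isolated_conj hz g) (h * g⁻¹)
  convert this using 3
  group

/-- two conjugates of an isolated involution are conjugate by a power of their product -/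
theorem isolated_exists_conj [Finite G] {z : G} (hz : IsIsolatedInvolution z) (g h : G) :
    ∃ j : ℕ, (g * z * g⁻¹ * (h * z * h⁻¹)) ^ j * (h * z * h⁻¹) *
      ((g * z * g⁻¹ * (h * z * h⁻¹)) ^ j)⁻¹ = g * z * g⁻¹ :=
  exists_conj_of_odd_orderOf (conj_mul_self (isolated_mul_self hz) g)
    (conj_mul_self (isolated_mul_self hz) h) (isolated_odd' hz g h)

/-- S1180 -/
theorem isolated_conj_in_subgroup [Finite G] {z : G} (hz : IsIsolatedInvolution z)
    (H : Subgroup G) (hzH : z ∈ H) (g : G) (hg : g * z * g⁻¹ ∈ H) :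
    ∃ h ∈ H, h * z * h⁻¹ = g * z * g⁻¹ := by
  obtain ⟨j, hj⟩ := isolated_exists_conj hz g 1
  simp only [one_mul, inv_one, mul_one] at hj
  exact ⟨_, H.pow_mem (H.mul_mem hg hzH) j, hj⟩

/-- If `u`, `v` are conjugates of the isolated involution `z`, and `H` contains `u * v`, then
`v` is conjugate to `u` by an element of `H`. -/
theorem isolated_conj_of_mul_mem [Finite G] {z : G} (hz : IsIsolatedInvolution z)
    (H : Subgroup G) (g h : G) (hg : g * z * g⁻¹ * (h * z * h⁻¹) ∈ H) :
    ∃ c ∈ H, c * (h * z * h⁻¹) * c⁻¹ = g * z * g⁻¹ := by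
  obtain ⟨j, hj⟩ := isolated_exists_conj hz g h
  exact ⟨_, H.pow_mem hg j, hj⟩

/-- an isolated involution is isolated in every subgroup containing it -/
theorem isolated_subgroup {z : G} (hz : IsIsolatedInvolution z) (H : Subgroup G) (hzH : z ∈ H) :
    IsIsolatedInvolution (⟨z, hzH⟩ : H) := by
  refine ⟨by rw [← Subgroup.orderOf_coe]; exact hz.1, fun g hc => ?_⟩
  apply Subtype.ext
  apply hz.2 g
  exact congrArg Subtype.val hc

/-- S1184 -/
theorem isolated_not_commute_mul [Finite G] {z : G} (hz : IsIsolatedInvolution z) (g h : G)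
    (hne : g * z * g⁻¹ ≠ h * z * h⁻¹) : ¬ Commute (g * z * g⁻¹ * (h * z * h⁻¹)) z := by
  intro hc
  set u := g * z * g⁻¹ with hu
  set v := h * z * h⁻¹ with hv
  have hzz := isolated_mul_self hz
  have huu : u * u = 1 := conj_mul_self hzz g
  have hvv : v * v = 1 := conj_mul_self hzz h
  -- `z` and `u` both normalize `⟨c⟩`, `c = u v`; `z * u` has odd order and inverts `c`
  have hodd : Odd (orderOf (z * u)) := isolated_odd hz g
  have hinv : (z * u) * (u * v) * (z * u)⁻¹ = (u * v)⁻¹ := by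
    have h1 := inverts_mul_of_mul_self huu hvv
    calc (z * u) * (u * v) * (z * u)⁻¹ = z * (u * (u * v) * u⁻¹) * z⁻¹ := by group
      _ = z * (u * v)⁻¹ * z⁻¹ := by rw [h1]
      _ = (u * v)⁻¹ := by rw [← hc.inv_left.eq]; group
  have hpow : ∀ n : ℕ, (z * u) ^ (2 * n + 1) * (u * v) * ((z * u) ^ (2 * n + 1))⁻¹ = (u * v)⁻¹ := by
    intro n
    induction n with
    | zero => simpa using hinv
    | succ n ih =>
      have hinv2 : (z * u) * (u * v)⁻¹ * (z * u)⁻¹ = (u * v) := by
        rw [← conj_inv, hinv, inv_inv]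
      generalize z * u = a at *
      generalize u * v = b at *
      calc a ^ (2 * (n + 1) + 1) * b * (a ^ (2 * (n + 1) + 1))⁻¹
          = a * (a * (a ^ (2 * n + 1) * b * (a ^ (2 * n + 1))⁻¹) * a⁻¹) * a⁻¹ := by group
        _ = b⁻¹ := by rw [ih, hinv2, hinv]
  obtain ⟨n, hn⟩ := hodd
  have h3 := hpow n
  rw [← hn, pow_orderOf_eq_one] at h3
  simp only [one_mul, inv_one, mul_one] at h3
  have h4 : (u * v) ^ 2 = 1 := by rw [sq]; nth_rw 1 [h3]; group
  have h5 : Odd (orderOf (u * v)) := isolated_odd' hz g h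
  have h6 : orderOf (u * v) ∣ 2 := orderOf_dvd_of_pow_eq_one h4
  have h7 : orderOf (u * v) = 1 := by
    rcases (Nat.dvd_prime Nat.prime_two).1 h6 with h | h
    · exact h
    · rw [h] at h5; exact absurd h5 (by decide)
  have h8 : u * v = 1 := orderOf_eq_one_iff.1 h7
  apply hne
  calc u = u * (v * v) := by rw [hvv, mul_one]
    _ = v := by rw [← mul_assoc, h8, one_mul]

/-- S1182 -/
theorem isolated_controls_fusion [Finite G] {z : G} (hz : IsIsolatedInvolution z)
    (H : Subgroup G) (hzH : z ∈ Subgroup.normalizer (H : Set G)) (x y : G)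
    (hxz : Commute x z) (hyz : Commute y z) (h : G) (hh : h ∈ H) (hconj : h * x * h⁻¹ = y) :
    ∃ c ∈ H, Commute c z ∧ c * x * c⁻¹ = y := by
  -- `z` and `h z h⁻¹` both centralize `y`
  have hzz := isolated_mul_self hz
  have h1 : Commute (h * z * h⁻¹) y := by
    rw [← hconj]
    have := hxz.symm.map (MulAut.conj h)
    simpa only [MulAut.conj_apply] using this
  have hmem : z * (h * z * h⁻¹) ∈ H ⊓ Subgroup.centralizer ({y} : Set G) := by
    refine Subgroup.mem_inf.2 ⟨?_, ?_⟩
    · have : z * h * z⁻¹ ∈ H := (Subgroup.mem_normalizer_iff.1 hzH h).1 hh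
      rw [isolated_inv hz] at this
      have h2 : z * (h * z * h⁻¹) = (z * h * z) * h⁻¹ := by group
      rw [h2]; exact H.mul_mem this (H.inv_mem hh)
    · rw [Subgroup.mem_centralizer_singleton_iff]
      exact (hyz.symm.mul_left h1).eq
  obtain ⟨c, hc, hcz⟩ := isolated_conj_of_mul_mem hz (H ⊓ Subgroup.centralizer ({y} : Set G)) 1 h
    (by simpa using hmem)
  simp only [one_mul, inv_one, mul_one] at hcz
  have hcy : c * y = y * c := Subgroup.mem_centralizer_singleton_iff.1 hc.2
  refine ⟨c * h, H.mul_mem hc.1 hh, ?_, ?_⟩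
  · have : c * h * z = z * (c * h) := by
      conv_rhs => rw [← hcz]
      group
    exact this
  · calc c * h * x * (c * h)⁻¹ = c * (h * x * h⁻¹) * c⁻¹ := by group
      _ = y := by rw [hconj, hcy]; group

/-- S1181 -/
theorem isolated_quotient [Finite G] {z : G} (hz : IsIsolatedInvolution z) (N : Subgroup G)
    [N.Normal] (hzN : z ∉ N) :
    Subgroup.centralizer ({(QuotientGroup.mk z : G ⧸ N)} : Set (G ⧸ N)) =
      (Subgroup.centralizer ({z} : Set G)).map (QuotientGroup.mk' N) ∧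
    IsIsolatedInvolution (QuotientGroup.mk z : G ⧸ N) := by
  have hzz := isolated_mul_self hz
  have hzz' : (QuotientGroup.mk z : G ⧸ N) * (QuotientGroup.mk z : G ⧸ N) = 1 := by
    rw [← QuotientGroup.mk_mul, hzz, QuotientGroup.mk_one]
  have hz1 : (QuotientGroup.mk z : G ⧸ N) ≠ 1 := by
    rwa [Ne, QuotientGroup.eq_one_iff]
  constructor
  · apply le_antisymm
    · intro q hq
      obtain ⟨g, rfl⟩ := QuotientGroup.mk_surjective q
      rw [Subgroup.mem_centralizer_singleton_iff] at hq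
      have hmem : z * (g * z * g⁻¹) ∈ N := by
        rw [← QuotientGroup.eq_one_iff]
        simp only [QuotientGroup.mk_mul, QuotientGroup.mk_inv]
        rw [hq, mul_assoc, mul_inv_cancel, mul_one, hzz']
      obtain ⟨c, hc, hcz⟩ := isolated_conj_of_mul_mem hz N 1 g (by simpa using hmem)
      simp only [one_mul, inv_one, mul_one] at hcz
      refine ⟨c * g, ?_, ?_⟩
      · rw [SetLike.mem_coe, Subgroup.mem_centralizer_singleton_iff]
        conv_rhs => rw [← hcz]
        group
      · simp only [QuotientGroup.mk'_apply, QuotientGroup.mk_mul]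
        rw [(QuotientGroup.eq_one_iff c).2 hc, one_mul]
    · rintro q ⟨g, hg, rfl⟩
      rw [SetLike.mem_coe, Subgroup.mem_centralizer_singleton_iff] at hg
      rw [Subgroup.mem_centralizer_singleton_iff]
      simp only [QuotientGroup.mk'_apply, ← QuotientGroup.mk_mul, hg]
  · refine ⟨orderOf_eq_two_of_mul_self hzz' hz1, fun q hq => ?_⟩
    obtain ⟨g, rfl⟩ := QuotientGroup.mk_surjective q
    have hodd := isolated_odd hz g
    set zb := (QuotientGroup.mk z : G ⧸ N) with hzb
    set wb := (QuotientGroup.mk g : G ⧸ N) * zb * (QuotientGroup.mk g : G ⧸ N)⁻¹ with hwb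
    have hww : wb * wb = 1 := conj_mul_self hzz' _
    have h2 : (zb * wb) ^ 2 = 1 := by
      rw [hq.mul_pow, sq, sq, hzz', hww, one_mul]
    have h3 : orderOf (zb * wb) ∣ orderOf (z * (g * z * g⁻¹)) := by
      have := orderOf_map_dvd (QuotientGroup.mk' N) (z * (g * z * g⁻¹))
      simpa using this
    have h4 : orderOf (zb * wb) ∣ 2 := orderOf_dvd_of_pow_eq_one h2
    have h5 : orderOf (zb * wb) = 1 := by
      rcases (Nat.dvd_prime Nat.prime_two).1 h4 with h | h
      · exact h
      · rw [h] at h3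
        exact absurd (hodd.of_dvd_nat h3) (by decide)
    have h8 : zb * wb = 1 := orderOf_eq_one_iff.1 h5
    calc wb = (zb * zb) * wb := by rw [hzz', one_mul]
      _ = zb := by rw [mul_assoc, h8, mul_one]

/-- an element of odd order is determined by its square: two odd-order elements with the same
square are equal -/
theorem eq_of_sq_eq_of_odd {a b : G} (ha : Odd (orderOf a)) (hb : Odd (orderOf b))
    (h : a ^ 2 = b ^ 2) : a = b := by
  have hab : Odd (orderOf a * orderOf b) := ha.mul hb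
  obtain ⟨m, hm⟩ := hab
  have h1 : a ^ (2 * m + 1) = 1 := by rw [← hm, pow_mul, pow_orderOf_eq_one, one_pow]
  have h2 : b ^ (2 * m + 1) = 1 := by
    rw [← hm, mul_comm, pow_mul, pow_orderOf_eq_one, one_pow]
  have h3 : a = (a ^ 2) ^ (m + 1) := by
    rw [← pow_mul, show 2 * (m + 1) = (2 * m + 1) + 1 by ring, pow_succ, h1, one_mul]
  have h4 : b = (b ^ 2) ^ (m + 1) := by
    rw [← pow_mul, show 2 * (m + 1) = (2 * m + 1) + 1 by ring, pow_succ, h2, one_mul]
  rw [h3, h4, h]

/-- S1185 -/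
theorem isolated_existsUnique_transversal [Finite G] {z : G} (hz : IsIsolatedInvolution z) (g : G) :
    ∃! k : G, (Odd (orderOf k) ∧ z * k * z⁻¹ = k⁻¹) ∧
      g⁻¹ * k ∈ Subgroup.centralizer ({z} : Set G) := by
  have hzz := isolated_mul_self hz
  obtain ⟨j, hj⟩ := isolated_exists_conj hz g 1
  simp only [one_mul, inv_one, mul_one] at hj
  have hsq : ∀ k : G, z * k * z⁻¹ = k⁻¹ → k * z * k⁻¹ = k ^ 2 * z := by
    intro k hk
    have := zpow_conj_of_inverts hk 1
    simpa using this
  refine ⟨(g * z * g⁻¹ * z) ^ j, ⟨⟨?_, ?_⟩, ?_⟩, ?_⟩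
  · have := isolated_odd' hz g 1
    simp only [one_mul, inv_one, mul_one] at this
    exact this.of_dvd_nat (orderOf_pow_dvd j)
  · exact conj_pow_of_inverts (inverts_mul_of_mul_self' (conj_mul_self hzz g) hzz) j
  · rw [Subgroup.mem_centralizer_singleton_iff]
    set a := (g * z * g⁻¹ * z) ^ j
    calc g⁻¹ * a * z = g⁻¹ * (a * z * a⁻¹) * a := by group
      _ = z * (g⁻¹ * a) := by rw [hj]; group
  · rintro k ⟨⟨hk1, hk2⟩, hk3⟩
    rw [Subgroup.mem_centralizer_singleton_iff] at hk3
    have hk4 : k * z * k⁻¹ = g * z * g⁻¹ := by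
      calc k * z * k⁻¹ = g * (g⁻¹ * k * z) * k⁻¹ := by group
        _ = g * z * g⁻¹ := by rw [hk3]; group
    apply eq_of_sq_eq_of_odd hk1
    · have := isolated_odd' hz g 1
      simp only [one_mul, inv_one, mul_one] at this
      exact this.of_dvd_nat (orderOf_pow_dvd j)
    · have h1 := hsq k hk2
      have h2 := hsq _ (conj_pow_of_inverts (inverts_mul_of_mul_self' (conj_mul_self hzz g) hzz) j)
      rw [hj] at h2
      rw [hk4, h2] at h1
      exact (mul_right_cancel h1).symm

end Isolated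

end H22
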