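import Mathlib
import Cfsg.Agent.H22.SylIn

/-!
# Groups with an abelian subgroup of index 2, in coordinates
-/

set_option autoImplicit false

namespace H22

open Subgroup

variable {G : Type*} [Group G]

/-- Coordinates on a subgroup `S` of `G` having an abelian subgroup `r(A)` of index two. -/
structure Ext2 (S : Subgroup G) (A : Type) [AddCommGroup A] (σ : A →+ A) (c : A) where
  r : A → G
  s : A → G
  r_mul_r : ∀ a b, r a * r b = r (a + b)
  r_mul_s : ∀ a b, r a * s b = s (a + b)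
  s_mul_r : ∀ a b, s a * r b = s (a + σ b)
  s_mul_s : ∀ a b, s a * s b = r (a + σ b + c)
  r_injective : Function.Injective r
  r_ne_s : ∀ a b, r a ≠ s b
  mem_iff : ∀ g, g ∈ S ↔ (∃ a, r a = g) ∨ ∃ a, s a = g
  σσ : ∀ a, σ (σ a) = a
  σc : σ c = c

theorem nonempty_ext2 [Finite G] (S : Subgroup G) (A : Type) [AddCommGroup A] (σ : A →+ A) (c : A)
    (r : A → G) (y : G) (hr : ∀ a b, r a * r b = r (a + b)) (hinj : Function.Injective r)
    (hy : ∀ a, y * r a = r (σ a) * y) (hyy : y * y = r c) (hne : ∀ a, r a ≠ y)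
    (hrS : ∀ a, r a ∈ S) (hyS : y ∈ S) (hcard : Nat.card S = 2 * Nat.card A) :
    ∃ E : Ext2 S A σ c, E.r = r ∧ E.s 0 = y := by
  have h0 : r 0 = 1 := by
    have := hr 0 0
    rw [add_zero] at this
    exact mul_eq_left.1 this
  have hrs : ∀ a b, r a ≠ r b * y := by
    intro a b e
    apply hne (-b + a)
    rw [← hr, e, ← mul_assoc, hr, neg_add_cancel, h0, one_mul]
  refine ⟨⟨r, fun a => r a * y, hr, ?_, ?_, ?_, hinj, hrs, ?_, ?_, ?_⟩, rfl, by simp [h0]⟩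
  · intro a b; rw [← mul_assoc, hr]
  · intro a b; rw [mul_assoc, hy, ← mul_assoc, hr]
  · intro a b
    rw [mul_assoc, ← mul_assoc y, hy, mul_assoc, hyy, hr, hr, add_assoc]
  · have hinj' : Function.Injective (Sum.elim (fun a => (⟨r a, hrS a⟩ : S))
        (fun a => (⟨r a * y, S.mul_mem (hrS a) hyS⟩ : S))) := by
      rintro (a | a) (b | b) e
      · rw [hinj (congrArg Subtype.val e)]
      · exact absurd (congrArg Subtype.val e) (hrs a b)
      · exact absurd (congrArg Subtype.val e).symm (hrs b a)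
      · rw [hinj (mul_right_cancel (congrArg Subtype.val e))]
    have hfin : Finite A := Finite.of_injective r hinj
    have hbij := hinj'.bijective_of_nat_card_le (by rw [Nat.card_sum, hcard]; omega)
    intro g
    constructor
    · intro hg
      obtain ⟨a | a, e⟩ := hbij.2 ⟨g, hg⟩
      · exact Or.inl ⟨a, congrArg Subtype.val e⟩
      · exact Or.inr ⟨a, congrArg Subtype.val e⟩
    · rintro (⟨a, rfl⟩ | ⟨a, rfl⟩)
      · exact hrS a
      · exact S.mul_mem (hrS a) hyS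
  · intro a
    apply hinj
    have h1 : y * y * r a = r (σ (σ a)) * (y * y) := by
      rw [mul_assoc, hy, ← mul_assoc, hy, mul_assoc]
    rw [hyy, hr, add_comm, ← hr] at h1
    exact (mul_right_cancel h1).symm
  · apply hinj
    have h1 := hy c
    rw [← hyy] at h1
    rw [← hyy]
    exact mul_right_cancel (h1.symm.trans (mul_assoc y y y).symm)

namespace Ext2
variable {S : Subgroup G} {A : Type} [AddCommGroup A] {σ : A →+ A} {c : A} (E : Ext2 S A σ c)

theorem r_zero : E.r 0 = 1 := by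
  have := E.r_mul_r 0 0
  rw [add_zero] at this
  exact mul_eq_left.1 this

theorem r_inj {a b : A} : E.r a = E.r b ↔ a = b := E.r_injective.eq_iff

theorem s_inj {a b : A} : E.s a = E.s b ↔ a = b := by
  refine ⟨fun e => ?_, fun e => e ▸ rfl⟩
  have h1 := E.r_mul_s a 0
  have h2 := E.r_mul_s b 0
  rw [add_zero] at h1 h2
  rw [← h1, ← h2] at e
  exact E.r_injective (mul_right_cancel e)

theorem s_ne_r (a b : A) : E.s a ≠ E.r b := (E.r_ne_s b a).symm

theorem r_eq_one {a : A} : E.r a = 1 ↔ a = 0 := by rw [← E.r_zero, E.r_inj]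

theorem s_ne_one (a : A) : E.s a ≠ 1 := by rw [← E.r_zero]; exact E.s_ne_r a 0

theorem r_inv (a : A) : (E.r a)⁻¹ = E.r (-a) :=
  inv_eq_of_mul_eq_one_right (by rw [E.r_mul_r, add_neg_cancel, E.r_zero])

theorem s_inv (a : A) : (E.s a)⁻¹ = E.s (-σ a - c) :=
  inv_eq_of_mul_eq_one_right (by
    rw [E.s_mul_s, E.r_eq_one, map_sub, map_neg, E.σσ, E.σc]; abel)

theorem r_mem (a : A) : E.r a ∈ S := (E.mem_iff _).2 (Or.inl ⟨a, rfl⟩)
theorem s_mem (a : A) : E.s a ∈ S := (E.mem_iff _).2 (Or.inr ⟨a, rfl⟩)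

theorem cases {g : G} (hg : g ∈ S) : (∃ a, g = E.r a) ∨ ∃ a, g = E.s a := by
  rcases (E.mem_iff g).1 hg with ⟨a, rfl⟩ | ⟨a, rfl⟩
  · exact Or.inl ⟨a, rfl⟩
  · exact Or.inr ⟨a, rfl⟩

theorem r_pow (a : A) (m : ℕ) : E.r a ^ m = E.r (m • a) := by
  induction m with
  | zero => simp [E.r_zero]
  | succ m ih => rw [pow_succ, ih, E.r_mul_r, succ_nsmul]

theorem r_zpow (a : A) (m : ℤ) : E.r a ^ m = E.r (m • a) := by
  cases m with
  | ofNat m => simp [E.r_pow]
  | negSucc m => rw [zpow_negSucc, E.r_pow, E.r_inv, negSucc_zsmul]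

theorem s_sq (a : A) : E.s a ^ 2 = E.r (a + σ a + c) := by rw [sq, E.s_mul_s]

theorem orderOf_r (a : A) : orderOf (E.r a) = addOrderOf a := by
  let f : Multiplicative A →* G := MonoidHom.mk' (fun a => E.r a.toAdd)
    (fun a b => (E.r_mul_r _ _).symm)
  have := orderOf_injective f (fun a b e => E.r_injective e) (Multiplicative.ofAdd a)
  rw [orderOf_ofAdd_eq_addOrderOf] at this
  exact this

theorem r_conj_r (a b : A) : E.r a * E.r b * (E.r a)⁻¹ = E.r b := by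
  rw [E.r_inv, E.r_mul_r, E.r_mul_r]; congr 1; abel

theorem s_conj_r (a b : A) : E.s a * E.r b * (E.s a)⁻¹ = E.r (σ b) := by
  rw [mul_inv_eq_iff_eq_mul, E.s_mul_r, E.r_mul_s, add_comm]

theorem r_conj_s (a b : A) : E.r a * E.s b * (E.r a)⁻¹ = E.s (b + (a - σ a)) := by
  rw [mul_inv_eq_iff_eq_mul, E.s_mul_r, E.r_mul_s]; congr 1; abel

theorem s_conj_s (a b : A) : E.s a * E.s b * (E.s a)⁻¹ = E.s (σ b + (a - σ a)) := by
  rw [mul_inv_eq_iff_eq_mul, E.s_mul_s, E.s_mul_s]; congr 1; abel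

theorem r_comm_r (a b : A) : E.r a * E.r b = E.r b * E.r a := by
  rw [E.r_mul_r, E.r_mul_r, add_comm]

theorem r_comm_s {a b : A} : E.r a * E.s b = E.s b * E.r a ↔ σ a = a := by
  rw [E.r_mul_s, E.s_mul_r, E.s_inj, add_comm, add_right_inj, eq_comm]

theorem s_comm_r {a b : A} : E.s b * E.r a = E.r a * E.s b ↔ σ a = a := by
  rw [eq_comm, E.r_comm_s]

theorem s_comm_s {a b : A} : E.s a * E.s b = E.s b * E.s a ↔ σ (a - b) = a - b := by
  rw [E.s_mul_s, E.s_mul_s, E.r_inj, add_left_inj, map_sub, sub_eq_sub_iff_add_eq_add, eq_comm,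
    add_comm b]

theorem r_inv_mul_s (a b : A) : (E.r a)⁻¹ * E.s b = E.s (b - a) := by
  rw [E.r_inv, E.r_mul_s]; congr 1; abel

theorem r_inv_mul_r (a b : A) : (E.r a)⁻¹ * E.r b = E.r (b - a) := by
  rw [E.r_inv, E.r_mul_r]; congr 1; abel

theorem s_inv_mul_s (a b : A) : (E.s a)⁻¹ * E.s b = E.r (σ (b - a)) := by
  rw [E.s_inv, E.s_mul_s, map_sub]; congr 1; abel

theorem s_mul_s_inv (a b : A) : E.s a * (E.s b)⁻¹ = E.r (a - b) := by
  rw [mul_inv_eq_iff_eq_mul, E.r_mul_s, sub_add_cancel]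

theorem s_mul_self_eq_one {a : A} : E.s a * E.s a = 1 ↔ a + σ a + c = 0 := by
  rw [E.s_mul_s, E.r_eq_one]

theorem r_mul_self_eq_one {a : A} : E.r a * E.r a = 1 ↔ a + a = 0 := by
  rw [E.r_mul_r, E.r_eq_one]

theorem orderOf_s_eq_two {a : A} : orderOf (E.s a) = 2 ↔ a + σ a + c = 0 := by
  rw [← E.s_mul_self_eq_one]
  constructor
  · intro h; rw [← sq, ← h, pow_orderOf_eq_one]
  · intro h; exact orderOf_eq_prime (by rw [sq, h]) (E.s_ne_one a)

theorem orderOf_r_eq_two {a : A} : orderOf (E.r a) = 2 ↔ a + a = 0 ∧ a ≠ 0 := by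
  rw [← E.r_mul_self_eq_one, Ne, ← E.r_eq_one]
  constructor
  · intro h
    refine ⟨by rw [← sq, ← h, pow_orderOf_eq_one], fun e => ?_⟩
    rw [e, orderOf_one] at h; exact absurd h (by decide)
  · intro h; exact orderOf_eq_prime (by rw [sq, h.1]) h.2

theorem mem_zpowers_r {a : A} {g : G} : g ∈ zpowers (E.r a) ↔ ∃ m : ℤ, E.r (m • a) = g := by
  simp only [mem_zpowers_iff, E.r_zpow]

theorem s_not_mem_zpowers_r (a b : A) : E.s b ∉ zpowers (E.r a) := by
  rw [E.mem_zpowers_r]; rintro ⟨m, e⟩; exact E.r_ne_s _ _ e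

/-- `X` is the subgroup `r(B)` -/
structure IsR (X : Subgroup G) (B : AddSubgroup A) : Prop where
  le : X ≤ S
  r_mem : ∀ a, E.r a ∈ X ↔ a ∈ B
  s_not_mem : ∀ a, E.s a ∉ X

/-- `X` is the subgroup `r(B) ∪ s(d + B)` -/
structure IsS (X : Subgroup G) (B : AddSubgroup A) (d : A) : Prop where
  le : X ≤ S
  r_mem : ∀ a, E.r a ∈ X ↔ a ∈ B
  s_mem : ∀ a, E.s a ∈ X ↔ a - d ∈ B

/-- the coordinates of `X ∩ r(A)` -/
def rpart (X : Subgroup G) : AddSubgroup A where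
  carrier := {a | E.r a ∈ X}
  zero_mem' := by show E.r 0 ∈ X; rw [E.r_zero]; exact X.one_mem
  add_mem' := by intro a b ha hb; show E.r (a + b) ∈ X; rw [← E.r_mul_r]; exact X.mul_mem ha hb
  neg_mem' := by intro a ha; show E.r (-a) ∈ X; rw [← E.r_inv]; exact X.inv_mem ha

theorem isS_of_mem {X : Subgroup G} (hX : X ≤ S) {d : A} (hd : E.s d ∈ X) :
    E.IsS X (E.rpart X) d := by
  refine ⟨hX, fun a => Iff.rfl, fun a => ?_⟩
  show _ ↔ E.r (a - d) ∈ X
  rw [← E.s_mul_s_inv, X.mul_mem_cancel_right (X.inv_mem hd)]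

theorem isR_or_isS {X : Subgroup G} (hX : X ≤ S) :
    E.IsR X (E.rpart X) ∨ ∃ d, E.IsS X (E.rpart X) d := by
  by_cases h : ∃ d, E.s d ∈ X
  · obtain ⟨d, hd⟩ := h
    exact Or.inr ⟨d, E.isS_of_mem hX hd⟩
  · push Not at h
    exact Or.inl ⟨hX, fun a => Iff.rfl, h⟩

/-- the subgroup `r(B)` -/
def rsub (B : AddSubgroup A) : Subgroup G where
  carrier := {g | ∃ a ∈ B, E.r a = g}
  one_mem' := ⟨0, B.zero_mem, E.r_zero⟩
  mul_mem' := by
    rintro _ _ ⟨a, ha, rfl⟩ ⟨b, hb, rfl⟩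
    exact ⟨a + b, B.add_mem ha hb, (E.r_mul_r a b).symm⟩
  inv_mem' := by
    rintro _ ⟨a, ha, rfl⟩
    exact ⟨-a, B.neg_mem ha, (E.r_inv a).symm⟩

theorem isR_rsub (B : AddSubgroup A) : E.IsR (E.rsub B) B := by
  refine ⟨?_, fun a => ⟨?_, fun h => ⟨a, h, rfl⟩⟩, ?_⟩
  · rintro _ ⟨a, -, rfl⟩; exact E.r_mem a
  · rintro ⟨b, hb, e⟩; rwa [← E.r_injective e]
  · rintro a ⟨b, -, e⟩; exact E.r_ne_s _ _ e

/-- the subgroup `r(B) ∪ s(d + B)` -/
def ssub (B : AddSubgroup A) (d : A) (hB : ∀ b ∈ B, σ b ∈ B) (hd : d + σ d + c ∈ B) :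
    Subgroup G where
  carrier := {g | (∃ a ∈ B, E.r a = g) ∨ ∃ a, a - d ∈ B ∧ E.s a = g}
  one_mem' := Or.inl ⟨0, B.zero_mem, E.r_zero⟩
  mul_mem' := by
    rintro _ _ (⟨a, ha, rfl⟩ | ⟨a, ha, rfl⟩) (⟨b, hb, rfl⟩ | ⟨b, hb, rfl⟩)
    · exact Or.inl ⟨a + b, B.add_mem ha hb, (E.r_mul_r a b).symm⟩
    · refine Or.inr ⟨a + b, ?_, (E.r_mul_s a b).symm⟩
      convert B.add_mem ha hb using 1; abel
    · refine Or.inr ⟨a + σ b, ?_, (E.s_mul_r a b).symm⟩
      convert B.add_mem ha (hB _ hb) using 1; abel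
    · refine Or.inl ⟨a + σ b + c, ?_, (E.s_mul_s a b).symm⟩
      convert B.add_mem (B.add_mem ha (hB _ hb)) hd using 1
      rw [map_sub]; abel
  inv_mem' := by
    rintro _ (⟨a, ha, rfl⟩ | ⟨a, ha, rfl⟩)
    · exact Or.inl ⟨-a, B.neg_mem ha, (E.r_inv a).symm⟩
    · refine Or.inr ⟨_, ?_, (E.s_inv a).symm⟩
      convert B.neg_mem (B.add_mem (hB _ ha) hd) using 1
      rw [map_sub]; abel

theorem exists_isS (B : AddSubgroup A) (d : A) (hB : ∀ b ∈ B, σ b ∈ B) (hd : d + σ d + c ∈ B) :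
    ∃ X, E.IsS X B d := by
  refine ⟨E.ssub B d hB hd, ?_, fun a => ⟨?_, fun h => Or.inl ⟨a, h, rfl⟩⟩,
    fun a => ⟨?_, fun h => Or.inr ⟨a, h, rfl⟩⟩⟩
  · rintro _ (⟨a, -, rfl⟩ | ⟨a, -, rfl⟩)
    · exact E.r_mem a
    · exact E.s_mem a
  · rintro (⟨b, hb, e⟩ | ⟨b, hb, e⟩)
    · rwa [← E.r_injective e]
    · exact absurd e (E.s_ne_r _ _)
  · rintro (⟨b, hb, e⟩ | ⟨b, hb, e⟩)
    · exact absurd e (E.r_ne_s _ _)
    · rwa [← E.s_inj.1 e]

theorem isS_top (d : A) : E.IsS S ⊤ d :=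
  ⟨le_rfl, fun a => by simp [E.r_mem], fun a => by simp [E.s_mem]⟩

theorem isR_bot : E.IsR ⊥ ⊥ :=
  ⟨bot_le, fun a => by simp [E.r_eq_one], fun a => by simp [E.s_ne_one]⟩

theorem isR_zpowers (a : A) : E.IsR (zpowers (E.r a)) (AddSubgroup.zmultiples a) := by
  refine ⟨zpowers_le.2 (E.r_mem a), fun b => ?_, fun b => E.s_not_mem_zpowers_r a b⟩
  simp only [E.mem_zpowers_r, E.r_inj, AddSubgroup.mem_zmultiples_iff]

variable {E}

theorem le_of_forall {X Y : Subgroup G} (hX : X ≤ S) (hr : ∀ a, E.r a ∈ X → E.r a ∈ Y)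
    (hs : ∀ a, E.s a ∈ X → E.s a ∈ Y) : X ≤ Y := by
  intro g hg
  rcases E.cases (hX hg) with ⟨a, rfl⟩ | ⟨a, rfl⟩
  · exact hr a hg
  · exact hs a hg

namespace IsR
variable {X Y : Subgroup G} {B B' : AddSubgroup A} {d : A}

theorem cases (h : E.IsR X B) {g : G} (hg : g ∈ X) : ∃ a ∈ B, g = E.r a := by
  rcases E.cases (h.le hg) with ⟨a, rfl⟩ | ⟨a, rfl⟩
  · exact ⟨a, (h.r_mem a).1 hg, rfl⟩
  · exact absurd hg (h.s_not_mem a)

theorem le_of (h : E.IsR X B) (hY : ∀ a ∈ B, E.r a ∈ Y) : X ≤ Y := by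
  intro g hg
  obtain ⟨a, ha, rfl⟩ := h.cases hg
  exact hY a ha

theorem le_isR (h : E.IsR X B) (h' : E.IsR Y B') (hB : B ≤ B') : X ≤ Y :=
  h.le_of fun a ha => (h'.r_mem a).2 (hB ha)

theorem le_isS (h : E.IsR X B) (h' : E.IsS Y B' d) (hB : B ≤ B') : X ≤ Y :=
  h.le_of fun a ha => (h'.r_mem a).2 (hB ha)

theorem unique (h : E.IsR X B) (h' : E.IsR Y B) : X = Y :=
  le_antisymm (h.le_isR h' le_rfl) (h'.le_isR h le_rfl)

theorem rpart_eq (h : E.IsR X B) : E.rpart X = B := AddSubgroup.ext h.r_mem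

theorem card (h : E.IsR X B) : Nat.card X = Nat.card B := by
  symm
  refine Nat.card_eq_of_bijective (fun a => ⟨E.r a, (h.r_mem a).2 a.2⟩) ⟨?_, ?_⟩
  · intro a b e
    exact Subtype.ext (E.r_injective (congrArg Subtype.val e))
  · rintro ⟨g, hg⟩
    obtain ⟨a, ha, rfl⟩ := h.cases hg
    exact ⟨⟨a, ha⟩, rfl⟩

theorem comm (h : E.IsR X B) : ∀ x ∈ X, ∀ y ∈ X, x * y = y * x := by
  intro x hx y hy
  obtain ⟨a, -, rfl⟩ := h.cases hx
  obtain ⟨b, -, rfl⟩ := h.cases hy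
  exact E.r_comm_r a b

theorem isMulCommutative (h : E.IsR X B) : IsMulCommutative X :=
  IsMulCommutative.of_setLike_mul_comm h.comm

theorem r_mem_centralizer (h : E.IsR X B) (a : A) : E.r a ∈ centralizer (X : Set G) := by
  refine mem_centralizer_iff.2 fun x hx => ?_
  obtain ⟨b, -, rfl⟩ := h.cases hx
  exact E.r_comm_r b a

theorem s_mem_centralizer (h : E.IsR X B) (a : A) :
    E.s a ∈ centralizer (X : Set G) ↔ ∀ b ∈ B, σ b = b := by
  rw [mem_centralizer_iff]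
  constructor
  · intro H b hb; exact E.r_comm_s.1 (H _ ((h.r_mem b).2 hb))
  · intro H x hx
    obtain ⟨b, hb, rfl⟩ := h.cases hx
    exact E.r_comm_s.2 (H b hb)

theorem le_normalizer [Finite G] (h : E.IsR X B) (hB : ∀ b ∈ B, σ b ∈ B) :
    S ≤ normalizer (X : Set G) := by
  intro g hg
  refine mem_normalizer_of_conj_mem fun x hx => ?_
  obtain ⟨b, hb, rfl⟩ := h.cases hx
  rcases E.cases hg with ⟨a, rfl⟩ | ⟨a, rfl⟩
  · rwa [E.r_conj_r]
  · rw [E.s_conj_r, h.r_mem]; exact hB b hb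

/-- `r(B)` is isomorphic to `B` -/
noncomputable def equiv (h : E.IsR X B) : Multiplicative B ≃* X :=
  MulEquiv.ofBijective (MonoidHom.mk' (fun a : Multiplicative B =>
    (⟨E.r (a.toAdd : A), (h.r_mem _).2 a.toAdd.2⟩ : X)) fun a b =>
      Subtype.ext (E.r_mul_r _ _).symm) ⟨fun a b e =>
    Subtype.ext (E.r_injective (congrArg Subtype.val e)), by
      rintro ⟨g, hg⟩
      obtain ⟨a, ha, rfl⟩ := h.cases hg
      exact ⟨Multiplicative.ofAdd ⟨a, ha⟩, rfl⟩⟩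

theorem eq_zpowers {a : A} (h : E.IsR X (AddSubgroup.zmultiples a)) : X = zpowers (E.r a) :=
  h.unique (E.isR_zpowers a)

end IsR

namespace IsS
variable {X Y : Subgroup G} {B B' : AddSubgroup A} {d d' : A}

theorem cases (h : E.IsS X B d) {g : G} (hg : g ∈ X) :
    (∃ a ∈ B, g = E.r a) ∨ ∃ a, a - d ∈ B ∧ g = E.s a := by
  rcases E.cases (h.le hg) with ⟨a, rfl⟩ | ⟨a, rfl⟩
  · exact Or.inl ⟨a, (h.r_mem a).1 hg, rfl⟩
  · exact Or.inr ⟨a, (h.s_mem a).1 hg, rfl⟩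

theorem self_mem (h : E.IsS X B d) : E.s d ∈ X := (h.s_mem d).2 (by simp)

theorem le_of (h : E.IsS X B d) (hY : ∀ a ∈ B, E.r a ∈ Y) (hd : E.s d ∈ Y) : X ≤ Y := by
  intro g hg
  rcases h.cases hg with ⟨a, ha, rfl⟩ | ⟨a, ha, rfl⟩
  · exact hY a ha
  · have := Y.mul_mem (hY _ ha) hd
    rwa [E.r_mul_s, sub_add_cancel] at this

theorem le_isS (h : E.IsS X B d) (h' : E.IsS Y B' d') (hB : B ≤ B') (hd : d - d' ∈ B') : X ≤ Y :=
  h.le_of (fun a ha => (h'.r_mem a).2 (hB ha)) ((h'.s_mem d).2 hd)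

theorem change (h : E.IsS X B d) (hd : d' - d ∈ B) : E.IsS X B d' := by
  refine ⟨h.le, h.r_mem, fun a => ?_⟩
  rw [h.s_mem, ← B.add_mem_cancel_right (B.neg_mem hd)]
  congr! 1; abel

theorem unique (h : E.IsS X B d) (h' : E.IsS Y B d') (hd : d - d' ∈ B) : X = Y :=
  le_antisymm (h.le_isS h' le_rfl hd) (h'.le_isS h le_rfl (by simpa using B.neg_mem hd))

theorem rpart_eq (h : E.IsS X B d) : E.rpart X = B := AddSubgroup.ext h.r_mem

theorem σ_mem (h : E.IsS X B d) {b : A} (hb : b ∈ B) : σ b ∈ B := by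
  rw [← h.r_mem, ← E.s_conj_r d]
  exact X.mul_mem (X.mul_mem h.self_mem ((h.r_mem b).2 hb)) (X.inv_mem h.self_mem)

theorem sq_mem (h : E.IsS X B d) : d + σ d + c ∈ B := by
  rw [← h.r_mem, ← E.s_mul_s]
  exact X.mul_mem h.self_mem h.self_mem

theorem card (h : E.IsS X B d) : Nat.card X = 2 * Nat.card B := by
  have hsum : Nat.card (B ⊕ B) = Nat.card B + Nat.card B := by
    cases finite_or_infinite B
    · exact Nat.card_sum
    · simp
  rw [two_mul, ← hsum]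
  symm
  refine Nat.card_eq_of_bijective (Sum.elim (fun a => ⟨E.r a, (h.r_mem a).2 a.2⟩)
    (fun a => ⟨E.s (a + d), (h.s_mem _).2 (by simp)⟩)) ⟨?_, ?_⟩
  · rintro (a | a) (b | b) e
    · rw [Subtype.ext (E.r_injective (congrArg Subtype.val e))]
    · exact absurd (congrArg Subtype.val e) (E.r_ne_s _ _)
    · exact absurd (congrArg Subtype.val e) (E.s_ne_r _ _)
    · rw [Subtype.ext (add_right_cancel (E.s_inj.1 (congrArg Subtype.val e)))]
  · rintro ⟨g, hg⟩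
    rcases h.cases hg with ⟨a, ha, rfl⟩ | ⟨a, ha, rfl⟩
    · exact ⟨Sum.inl ⟨a, ha⟩, rfl⟩
    · exact ⟨Sum.inr ⟨a - d, ha⟩, by simp⟩

theorem cj_r (h : E.IsS X B d) (b : A) : E.IsS (cj (E.r b) X) B (d + (b - σ b)) := by
  refine ⟨?_, fun a => ?_, fun a => ?_⟩
  · exact (cj_mono h.le).trans (cj_eq_of_mem (E.r_mem b)).le
  · rw [← E.r_conj_r b a, conj_mem_cj_iff, h.r_mem]
  · have : E.s a = E.r b * E.s (a - (b - σ b)) * (E.r b)⁻¹ := by
      rw [E.r_conj_s, sub_add_cancel]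
    rw [this, conj_mem_cj_iff, h.s_mem]
    congr! 1; abel

theorem r_mem_normalizer (h : E.IsS X B d) (b : A) :
    E.r b ∈ normalizer (X : Set G) ↔ b - σ b ∈ B := by
  rw [← cj_eq_iff]
  constructor
  · intro e
    have := (h.cj_r b).self_mem
    rwa [e, h.s_mem, add_sub_cancel_left] at this
  · intro e
    exact (h.cj_r b).unique h (by rwa [add_sub_cancel_left])

theorem inf_normalizer (h : E.IsS X B d) (hB' : ∀ b, b ∈ B' ↔ b - σ b ∈ B) :
    E.IsS (S ⊓ normalizer (X : Set G)) B' d := by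
  refine ⟨inf_le_left, fun a => ?_, fun a => ?_⟩
  · simp only [mem_inf, E.r_mem, true_and, h.r_mem_normalizer, hB']
  · have : E.s a = E.r (a - d) * E.s d := by rw [E.r_mul_s, sub_add_cancel]
    simp only [mem_inf, E.s_mem, true_and, hB']
    rw [this, (normalizer (X : Set G)).mul_mem_cancel_right (le_normalizer h.self_mem),
      h.r_mem_normalizer]

theorem r_mem_centralizer (h : E.IsS X B d) (a : A) :
    E.r a ∈ centralizer (X : Set G) ↔ σ a = a := by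
  rw [mem_centralizer_iff]
  constructor
  · intro H; exact E.s_comm_r.1 (H _ h.self_mem)
  · intro H x hx
    rcases h.cases hx with ⟨b, -, rfl⟩ | ⟨b, -, rfl⟩
    · exact E.r_comm_r b a
    · exact E.s_comm_r.2 H

theorem s_mem_centralizer (h : E.IsS X B d) (a : A) :
    E.s a ∈ centralizer (X : Set G) ↔ (∀ b ∈ B, σ b = b) ∧ σ (a - d) = a - d := by
  rw [mem_centralizer_iff]
  constructor
  · intro H
    exact ⟨fun b hb => E.r_comm_s.1 (H _ ((h.r_mem b).2 hb)),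
      E.s_comm_s.1 (H _ h.self_mem).symm⟩
  · rintro ⟨H, H'⟩ x hx
    rcases h.cases hx with ⟨b, hb, rfl⟩ | ⟨b, hb, rfl⟩
    · exact E.r_comm_s.2 (H b hb)
    · rw [E.s_comm_s]
      have := H _ hb
      have e : b - a = (b - d) - (a - d) := by abel
      rw [e, map_sub, this, H']

theorem relIndex_isS [Finite G] (h : E.IsS X B d) (h' : E.IsS Y B' d') (hle : X ≤ Y) {m : ℕ}
    (hm : Nat.card B' = Nat.card B * m) : X.relIndex Y = m := by
  have h1 := H2.card_mul_relIndex hle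
  rw [h.card, h'.card, hm, ← mul_assoc] at h1
  have : 0 < 2 * Nat.card B := by rw [← h.card]; exact Nat.card_pos
  exact Nat.eq_of_mul_eq_mul_left this h1

theorem isMulCommutative_iff (h : E.IsS X B d) : IsMulCommutative X ↔ ∀ b ∈ B, σ b = b := by
  constructor
  · intro H b hb
    exact E.r_comm_s.1 (setLike_mul_comm ((h.r_mem b).2 hb) h.self_mem)
  · intro H
    refine IsMulCommutative.of_setLike_mul_comm fun x hx y hy => ?_
    rcases h.cases hy with ⟨b, hb, rfl⟩ | ⟨b, hb, rfl⟩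
    · exact mem_centralizer_iff.1 ((h.r_mem_centralizer b).2 (H b hb)) x hx
    · exact mem_centralizer_iff.1 ((h.s_mem_centralizer b).2 ⟨H, H _ hb⟩) x hx

end IsS

theorem card_eq (E : Ext2 S A σ c) : Nat.card S = 2 * Nat.card A := by
  rw [(E.isS_top 0).card, AddSubgroup.card_top]

/-- transport of coordinates along an injective homomorphism -/
def map (E : Ext2 S A σ c) {G' : Type*} [Group G'] (f : G →* G') (hf : Function.Injective f) :
    Ext2 (S.map f) A σ c where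
  r a := f (E.r a)
  s a := f (E.s a)
  r_mul_r a b := by rw [← map_mul, E.r_mul_r]
  r_mul_s a b := by rw [← map_mul, E.r_mul_s]
  s_mul_r a b := by rw [← map_mul, E.s_mul_r]
  s_mul_s a b := by rw [← map_mul, E.s_mul_s]
  r_injective := hf.comp E.r_injective
  r_ne_s a b e := E.r_ne_s a b (hf e)
  mem_iff g := by
    constructor
    · rintro ⟨x, hx, rfl⟩
      rcases E.cases hx with ⟨a, rfl⟩ | ⟨a, rfl⟩
      · exact Or.inl ⟨a, rfl⟩
      · exact Or.inr ⟨a, rfl⟩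
    · rintro (⟨a, rfl⟩ | ⟨a, rfl⟩)
      · exact mem_map_of_mem f (E.r_mem a)
      · exact mem_map_of_mem f (E.s_mem a)
  σσ := E.σσ
  σc := E.σc

/-- transport along an equality of subgroups -/
def cast (E : Ext2 S A σ c) {S' : Subgroup G} (h : S = S') : Ext2 S' A σ c :=
  { E with mem_iff := fun g => h ▸ E.mem_iff g }

/-- coordinates on the type `↥S` give coordinates on the subgroup `S` -/
def ofTop {S : Subgroup G} (E : Ext2 (⊤ : Subgroup S) A σ c) : Ext2 S A σ c :=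
  (E.map S.subtype S.subtype_injective).cast (by rw [← MonoidHom.range_eq_map, range_subtype])

/-- coordinates on `S ≤ H` seen inside `H` -/
def subgroupOf (E : Ext2 S A σ c) {H : Subgroup G} (h : S ≤ H) : Ext2 (S.subgroupOf H) A σ c where
  r a := ⟨E.r a, h (E.r_mem a)⟩
  s a := ⟨E.s a, h (E.s_mem a)⟩
  r_mul_r a b := Subtype.ext (E.r_mul_r a b)
  r_mul_s a b := Subtype.ext (E.r_mul_s a b)
  s_mul_r a b := Subtype.ext (E.s_mul_r a b)
  s_mul_s a b := Subtype.ext (E.s_mul_s a b)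
  r_injective a b e := E.r_injective (congrArg Subtype.val e)
  r_ne_s a b e := E.r_ne_s a b (congrArg Subtype.val e)
  mem_iff g := by
    rw [mem_subgroupOf, E.mem_iff]
    simp only [Subtype.ext_iff]
  σσ := E.σσ
  σc := E.σc

end Ext2

end H22
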