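import Mathlib
import Cfsg.Agent.H3.PNil
import Cfsg.Agent.H22.SylIn

/-!
# Automorphisms of odd order of `2`-subgroups, and automizers isomorphic to `Z₂` or `S₃`
-/

set_option autoImplicit false

namespace H22

open Subgroup

variable {G : Type*} [Group G]

/-- `φ` induces an automorphism of odd order of the subgroup `X`. -/
structure OddAut (X : Subgroup G) (φ : G → G) : Prop where
  mem : ∀ x ∈ X, φ x ∈ X
  mul : ∀ x ∈ X, ∀ y ∈ X, φ (x * y) = φ x * φ y
  odd : ∃ m : ℕ, Odd m ∧ ∀ x ∈ X, φ^[m] x = x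

namespace OddAut
variable {X : Subgroup G} {φ : G → G}

theorem one (h : OddAut X φ) : φ 1 = 1 := by
  have := h.mul 1 X.one_mem 1 X.one_mem
  rw [one_mul] at this
  exact left_eq_mul.1 this

theorem inv (h : OddAut X φ) {x : G} (hx : x ∈ X) : φ x⁻¹ = (φ x)⁻¹ := by
  have := h.mul x hx x⁻¹ (X.inv_mem hx)
  rw [mul_inv_cancel, h.one] at this
  exact (eq_inv_of_mul_eq_one_right this.symm)

theorem pow (h : OddAut X φ) {x : G} (hx : x ∈ X) (k : ℕ) : φ (x ^ k) = φ x ^ k := by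
  induction k with
  | zero => simpa using h.one
  | succ k ih => rw [pow_succ, h.mul _ (X.pow_mem hx k) _ hx, ih, pow_succ]

theorem zpow (h : OddAut X φ) {x : G} (hx : x ∈ X) (k : ℤ) : φ (x ^ k) = φ x ^ k := by
  cases k with
  | ofNat k => simpa using h.pow hx k
  | negSucc k => rw [zpow_negSucc, zpow_negSucc, h.inv (X.pow_mem hx _), h.pow hx]

theorem injOn (h : OddAut X φ) {x y : G} (hx : x ∈ X) (hy : y ∈ X) (e : φ x = φ y) : x = y := by
  obtain ⟨m, ⟨k, rfl⟩, hm⟩ := h.odd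
  rw [← hm x hx, ← hm y hy, Function.iterate_add_apply, Function.iterate_add_apply,
    Function.iterate_one, e]

theorem eq_one_iff (h : OddAut X φ) {x : G} (hx : x ∈ X) : φ x = 1 ↔ x = 1 :=
  ⟨fun e => h.injOn hx X.one_mem (e.trans h.one.symm), fun e => e ▸ h.one⟩

theorem pow_eq_one_iff (h : OddAut X φ) {x : G} (hx : x ∈ X) (k : ℕ) :
    φ x ^ k = 1 ↔ x ^ k = 1 := by
  rw [← h.pow hx, h.eq_one_iff (X.pow_mem hx k)]

theorem orderOf_eq (h : OddAut X φ) {x : G} (hx : x ∈ X) : orderOf (φ x) = orderOf x :=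
  orderOf_eq_orderOf_iff.2 fun k => h.pow_eq_one_iff hx k

theorem iterate_mem (h : OddAut X φ) {x : G} (hx : x ∈ X) (k : ℕ) : φ^[k] x ∈ X := by
  induction k with
  | zero => exact hx
  | succ k ih => rw [Function.iterate_succ_apply']; exact h.mem _ ih

theorem surjOn (h : OddAut X φ) {y : G} (hy : y ∈ X) : ∃ x ∈ X, φ x = y := by
  obtain ⟨m, ⟨k, rfl⟩, hm⟩ := h.odd
  exact ⟨φ^[2 * k] y, h.iterate_mem hy _, by rw [← Function.iterate_succ_apply' φ]; exact hm y hy⟩

theorem restrict (h : OddAut X φ) {Y : Subgroup G} (hY : Y ≤ X) (hm : ∀ y ∈ Y, φ y ∈ Y) :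
    OddAut Y φ :=
  ⟨hm, fun x hx y hy => h.mul x (hY hx) y (hY hy), by
    obtain ⟨m, hm, h'⟩ := h.odd
    exact ⟨m, hm, fun x hx => h' x (hY hx)⟩⟩

theorem commute (h : OddAut X φ) {x y : G} (hx : x ∈ X) (hy : y ∈ X) (e : x * y = y * x) :
    φ x * φ y = φ y * φ x := by
  rw [← h.mul x hx y hy, ← h.mul y hy x hx, e]

/-- an element central in `X` is mapped to an element central in `X` -/
theorem central (h : OddAut X φ) {x : G} (hx : x ∈ X) (e : ∀ y ∈ X, x * y = y * x) :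
    ∀ y ∈ X, φ x * y = y * φ x := by
  intro y hy
  obtain ⟨y', hy', rfl⟩ := h.surjOn hy
  exact h.commute hx hy' (e y' hy')

/-- an element moved only by a fixed `2`-element is fixed -/
theorem fix_of_mul (h : OddAut X φ) {x c : G} (hx : x ∈ X) (hc : c ∈ X) (hφc : φ c = c)
    (e : φ x = x * c) {k : ℕ} (hk : c ^ 2 ^ k = 1) : φ x = x := by
  have key : ∀ j : ℕ, φ^[j] x = x * c ^ j := by
    intro j
    induction j with
    | zero => simp
    | succ j ih =>
      rw [Function.iterate_succ_apply', ih, h.mul x hx _ (X.pow_mem hc j), h.pow hc, hφc, e,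
        pow_succ', mul_assoc]
  obtain ⟨m, hm, h'⟩ := h.odd
  have h1 := key m
  rw [h' x hx] at h1
  have h2 : c ^ m = 1 := left_eq_mul.1 h1
  have h3 : c = 1 := H3.eq_one_of_pow_eq_one_of_coprime h2 hk
    ((Nat.coprime_two_right.2 hm).pow_right k)
  rw [e, h3, mul_one]

/-- `φ` fixes `D` if it fixes `C` and acts trivially on `D / C`. -/
theorem fix_of_stable (h : OddAut X φ) (hX : IsPGroup 2 X) {C : Subgroup G} (hCX : C ≤ X)
    (hC : ∀ c ∈ C, φ c = c) {x : G} (hx : x ∈ X) (e : x⁻¹ * φ x ∈ C) : φ x = x := by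
  obtain ⟨k, hk⟩ := isPGroup_iff_forall_mem.1 hX _ (hCX e)
  exact h.fix_of_mul hx (hCX e) (hC _ e) (by group) hk

/-- `φ` fixes `D` if it fixes a subgroup `C` of index at most `2` in `D`. -/
theorem fix_of_index_two (h : OddAut X φ) (hX : IsPGroup 2 X) {C D : Subgroup G} (hCD : C ≤ D)
    (hDX : D ≤ X) (hC : ∀ c ∈ C, φ c = c) (hD : ∀ x ∈ D, φ x ∈ D)
    (hi : ∀ x ∈ D, ∀ y ∈ D, x ∉ C → y ∉ C → x⁻¹ * y ∈ C) : ∀ x ∈ D, φ x = x := by
  intro x hx
  by_cases hxC : x ∈ C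
  · exact hC x hxC
  refine h.fix_of_stable hX (hCD.trans hDX) hC (hDX hx) (hi x hx _ (hD x hx) hxC fun hc => hxC ?_)
  have := h.injOn (hDX hx) (hDX (hCD hc)) (hC _ hc).symm
  rwa [this]

/-- `φ` fixes every invariant cyclic `2`-subgroup -/
theorem fix_of_mem_zpowers (h : OddAut X φ) {k : ℕ} :
    ∀ {u : G}, u ∈ X → u ^ 2 ^ k = 1 → φ u ∈ zpowers u → φ u = u := by
  induction k with
  | zero => intro u _ hu _; rw [pow_zero, pow_one] at hu; rw [hu, h.one]
  | succ k ih =>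
    intro u huX hu hφ
    obtain ⟨i, hi⟩ := hφ
    have hi : u ^ i = φ u := hi
    have h2 : φ (u ^ 2) = u ^ 2 := by
      refine ih (X.pow_mem huX 2) (by rw [← pow_mul, ← pow_succ', hu]) ⟨i, ?_⟩
      show (u ^ 2) ^ i = φ (u ^ 2)
      rw [h.pow huX, ← hi, ← zpow_natCast, ← zpow_natCast, ← zpow_mul, ← zpow_mul, mul_comm]
    have hfix : ∀ j : ℤ, φ ((u ^ 2) ^ j) = (u ^ 2) ^ j := fun j => by
      rw [h.zpow (X.pow_mem huX 2), h2]
    have h2' : ∀ j : ℤ, (u ^ 2) ^ j = u ^ (2 * j) := fun j => by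
      rw [zpow_mul]; norm_cast
    rcases Int.even_or_odd' i with ⟨j, rfl | rfl⟩
    · rw [← h2'] at hi
      have := h.injOn (X.zpow_mem (X.pow_mem huX 2) j) huX ((hfix j).trans hi)
      rw [← hi, this]
    · refine h.fix_of_mul huX (X.zpow_mem (X.pow_mem huX 2) j) (hfix j) ?_ (k := k) ?_
      · rw [← hi, h2', add_comm, zpow_add, zpow_one]
      · rw [← zpow_natCast, ← zpow_mul, mul_comm, zpow_mul, zpow_natCast, ← pow_mul,
          ← pow_succ', hu, one_zpow]

theorem fix_zpowers (h : OddAut X φ) {k : ℕ} {u : G} (huX : u ∈ X) (hu : u ^ 2 ^ k = 1)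
    (hφ : φ u ∈ zpowers u) : ∀ x ∈ zpowers u, φ x = x := by
  rintro _ ⟨j, rfl⟩
  show φ (u ^ j) = u ^ j
  rw [h.zpow huX, h.fix_of_mem_zpowers huX hu hφ]

/-- an element fixed by `φ ∘ φ` is fixed -/
theorem fix_of_sq (h : OddAut X φ) {x : G} (hx : x ∈ X) (e : φ (φ x) = x) : φ x = x := by
  obtain ⟨m, ⟨k, rfl⟩, hm⟩ := h.odd
  have : ∀ j : ℕ, φ^[2 * j] x = x := by
    intro j
    induction j with
    | zero => rfl
    | succ j ih => rw [Nat.mul_succ, Function.iterate_add_apply]; simpa [e] using ih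
  have h1 := hm x hx
  rwa [add_comm, Function.iterate_add_apply, Function.iterate_one, this] at h1

end OddAut

theorem oddAut_conj {X : Subgroup G} {g : G} (hg : g ∈ normalizer (X : Set G))
    (ho : Odd (orderOf g)) : OddAut X (fun x => g * x * g⁻¹) := by
  refine ⟨fun x hx => conj_mem_of_mem_normalizer hg hx, fun x _ y _ => by group,
    orderOf g, ho, fun x _ => ?_⟩
  have : ∀ k : ℕ, (fun x => g * x * g⁻¹)^[k] x = g ^ k * x * (g ^ k)⁻¹ := by
    intro k
    induction k with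
    | zero => simp
    | succ k ih => rw [Function.iterate_succ_apply', ih, pow_succ']; group
  rw [this, pow_orderOf_eq_one]; simp

open Classical in
theorem exists_oddAut_of_not_isPGroup [Finite G] {X : Subgroup G}
    (h : ¬ IsPGroup 2 (MulAut X)) : ∃ φ : G → G, OddAut X φ ∧ ∃ x ∈ X, φ x ≠ x := by
  rw [isPGroup_iff_pow_pow_eq_one] at h
  push Not at h
  obtain ⟨α, hα⟩ := h
  obtain ⟨k, hk⟩ := exists_pow_coprime (p := 2) (isOfFinOrder_of_finite α)
  set β := α ^ 2 ^ k with hβ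
  have hβ1 : β ≠ 1 := hα k
  refine ⟨fun x => if hx : x ∈ X then (β ⟨x, hx⟩ : G) else x, ⟨?_, ?_, orderOf β,
    Nat.coprime_two_right.1 hk, ?_⟩, ?_⟩
  · intro x hx; simp [hx]
  · intro x hx y hy
    simp only [hx, hy, X.mul_mem hx hy, dif_pos]
    rw [← coe_mul, ← map_mul]; rfl
  · intro x hx
    have : ∀ j : ℕ, (fun x => if hx : x ∈ X then (β ⟨x, hx⟩ : G) else x)^[j] x =
        ((β ^ j) ⟨x, hx⟩ : G) := by
      intro j
      induction j with
      | zero => simp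
      | succ j ih => rw [Function.iterate_succ_apply', ih, pow_succ']; simp
    rw [this, pow_orderOf_eq_one]; simp
  · by_contra hne
    push Not at hne
    apply hβ1
    ext x
    have := hne x x.2
    simpa using this

/-- some element of odd order acts nontrivially on `X` -/
def HasOdd (X : Subgroup G) : Prop :=
  ∃ g ∈ normalizer (X : Set G), Nat.Coprime (orderOf g) 2 ∧ g ∉ centralizer (X : Set G)

theorem HasOdd.exists_oddAut {X : Subgroup G} (h : HasOdd X) :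
    ∃ φ : G → G, OddAut X φ ∧ ∃ x ∈ X, φ x ≠ x := by
  obtain ⟨g, hg, ho, hc⟩ := h
  refine ⟨_, oddAut_conj hg (Nat.coprime_two_right.1 ho), ?_⟩
  by_contra hne
  push Not at hne
  refine hc (mem_centralizer_iff.2 fun x hx => ?_)
  conv_lhs => rw [← hne x hx]
  group

theorem HasOdd.cj {X : Subgroup G} (h : HasOdd X) (s : G) : HasOdd (cj s X) := by
  obtain ⟨g, hg, ho, hc⟩ := h
  refine ⟨s * g * s⁻¹, ?_, ?_, ?_⟩
  · rw [← cj_normalizer]; exact conj_mem_cj hg
  · rwa [show orderOf (s * g * s⁻¹) = orderOf g from (MulAut.conj s).orderOf_eq g]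
  · rwa [← cj_centralizer, conj_mem_cj_iff]

theorem hasOdd_cj_iff {X : Subgroup G} (s : G) : HasOdd (cj s X) ↔ HasOdd X :=
  ⟨fun h => by simpa only [cj_inv_cj] using h.cj s⁻¹, fun h => h.cj s⟩

theorem mem_centralizer_of_forall_conj_eq {X : Subgroup G} {g : G}
    (h : ∀ x ∈ X, g * x * g⁻¹ = x) : g ∈ centralizer (X : Set G) := by
  refine mem_centralizer_iff.2 fun x hx => ?_
  conv_lhs => rw [← h x hx]
  group

theorem conj_eq_of_mem_centralizer {X : Subgroup G} {g x : G} (h : g ∈ centralizer (X : Set G))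
    (hx : x ∈ X) : g * x * g⁻¹ = x := by
  rw [← mem_centralizer_iff.1 h x hx]; group

theorem relIndex_le_of_map {α : Type*} {K N : Subgroup G} (f : G → α) (s : Finset α)
    (hs : ∀ g ∈ N, f g ∈ s) (hf : ∀ g ∈ N, ∀ h ∈ N, f g = f h → g⁻¹ * h ∈ K) :
    K.relIndex N ≤ s.card := by
  classical
  have : Function.Injective fun q : N ⧸ K.subgroupOf N => (⟨f q.out, hs _ q.out.2⟩ : s) := by
    intro q q' e
    have e' : f q.out = f q'.out := congrArg Subtype.val e
    rw [← q.out_eq, ← q'.out_eq]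
    exact QuotientGroup.eq.2 (hf _ q.out.2 _ q'.out.2 e')
  have h1 := Nat.card_le_card_of_injective _ this
  rwa [Nat.card_eq_finsetCard] at h1

/-- If `N(X)/C(X)` has no elements of odd order then `N(X) = P₀ C(X)`. -/
theorem exists_mul_of_not_hasOdd [Finite G] {X P₀ : Subgroup G} (h : ¬ HasOdd X)
    (hP : SylIn 2 P₀ (normalizer (X : Set G))) {g : G} (hg : g ∈ normalizer (X : Set G)) :
    ∃ s ∈ P₀, ∃ c ∈ centralizer (X : Set G), g = s * c := by
  refine hP.exists_mul_of_coprime_mem (centralizer_le_normalizer _)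
    (normalizer_le_normalizer_centralizer X) (fun g hg ho => ?_) hg
  by_contra hc
  exact h ⟨g, hg, ho, hc⟩

theorem exists_conj_of_not_hasOdd [Finite G] {X P₀ : Subgroup G} (h : ¬ HasOdd X)
    (hP : SylIn 2 P₀ (normalizer (X : Set G))) {g : G} (hg : g ∈ normalizer (X : Set G)) :
    ∃ s ∈ P₀, ∀ a ∈ X, s * a * s⁻¹ = g * a * g⁻¹ := by
  obtain ⟨s, hs, c, hc, rfl⟩ := exists_mul_of_not_hasOdd h hP hg
  refine ⟨s, hs, fun a ha => ?_⟩
  conv_lhs => rw [← conj_eq_of_mem_centralizer hc ha]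
  group

theorem mem_centralizer_of_odd_of_mem_sup [Finite G] {X : Subgroup G} (hX : IsPGroup 2 X) {g : G}
    (hg : g ∈ X ⊔ centralizer (X : Set G)) (ho : Nat.Coprime (orderOf g) 2) :
    g ∈ centralizer (X : Set G) := by
  obtain ⟨x, hx, c, hc, rfl⟩ := (mem_sup_of_le_normalizer
    (le_normalizer.trans (normalizer_le_normalizer_centralizer X))).1 hg
  obtain ⟨k, hk⟩ := isPGroup_iff_forall_mem.1 hX x hx
  have hxc : Commute x c := mem_centralizer_iff.1 hc x hx
  refine H3.mem_of_pow_mem_of_coprime (m := 2 ^ k) ?_ (ho.pow_right k)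
  rw [hxc.mul_pow, hk, one_mul]
  exact pow_mem hc _

/-- The subgroup of `N` acting trivially on the section `X₁ / X₀`. -/
def sectionKer (N X₁ X₀ : Subgroup G) (h₁ : N ≤ normalizer (X₁ : Set G))
    (h₀ : N ≤ normalizer (X₀ : Set G)) : Subgroup G where
  carrier := {g | g ∈ N ∧ ∀ x ∈ X₁, x⁻¹ * (g * x * g⁻¹) ∈ X₀}
  one_mem' := ⟨N.one_mem, fun x _ => by simp⟩
  mul_mem' := by
    rintro g h ⟨hg, hg'⟩ ⟨hh, hh'⟩
    refine ⟨N.mul_mem hg hh, fun x hx => ?_⟩
    have e : x⁻¹ * (g * h * x * (g * h)⁻¹) =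
        x⁻¹ * (g * x * g⁻¹) * (g * (x⁻¹ * (h * x * h⁻¹)) * g⁻¹) := by group
    rw [e]
    exact X₀.mul_mem (hg' x hx) (conj_mem_of_mem_normalizer (h₀ hg) (hh' x hx))
  inv_mem' := by
    rintro g ⟨hg, hg'⟩
    refine ⟨N.inv_mem hg, fun x hx => ?_⟩
    have := X₀.inv_mem (hg' _ (conj_mem_of_mem_normalizer' (h₁ hg) hx))
    convert this using 1; group

/-- The automizer of `X` modulo inner automorphisms has order `2` or `6` when it acts faithfully
(in the sense below) on a four-group section `X₁ / X₀` and has Sylow `2`-subgroups of order `2`. -/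
theorem relIndex_two_or_six [Finite G] {X X₁ X₀ P₀ : Subgroup G} {a b : G} (hX : IsPGroup 2 X)
    (hX₁ : X₁ ≤ X) (h₁ : normalizer (X : Set G) ≤ normalizer (X₁ : Set G))
    (h₀ : normalizer (X : Set G) ≤ normalizer (X₀ : Set G))
    (ha : a ∈ X₁) (hb : b ∈ X₁) (ha₀ : a ∉ X₀) (hb₀ : b ∉ X₀)
    (hcov : ∀ x ∈ X₁, x ∈ X₀ ∨ a⁻¹ * x ∈ X₀ ∨ b⁻¹ * x ∈ X₀ ∨ (a * b)⁻¹ * x ∈ X₀)
    (hinn : ∀ y ∈ X, ∀ x ∈ X₁, x⁻¹ * (y * x * y⁻¹) ∈ X₀)
    (hP : SylIn 2 P₀ (normalizer (X : Set G)))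
    (hidx : (X ⊔ centralizer (X : Set G)).relIndex P₀ = 2)
    (hK2 : ∀ g ∈ P₀, (∀ x ∈ X₁, x⁻¹ * (g * x * g⁻¹) ∈ X₀) → g ∈ X ⊔ centralizer (X : Set G))
    (hKo : ∀ φ : G → G, OddAut X φ → (∀ x ∈ X₁, x⁻¹ * φ x ∈ X₀) → ∀ x ∈ X, φ x = x) :
    ((X ⊔ centralizer (X : Set G)).relIndex (normalizer (X : Set G)) = 2 ∧ ¬ HasOdd X) ∨
    ((X ⊔ centralizer (X : Set G)).relIndex (normalizer (X : Set G)) = 6 ∧ HasOdd X) := by
  classical
  set N := normalizer (X : Set G) with hN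
  set D := X ⊔ centralizer (X : Set G) with hD
  have hDN : D ≤ N := sup_le le_normalizer (centralizer_le_normalizer _)
  have hND : N ≤ normalizer (D : Set G) := fun g hg =>
    mem_normalizer_sup hg (normalizer_le_normalizer_centralizer X hg)
  set K := sectionKer N X₁ X₀ h₁ h₀ with hK
  have hKN : K ≤ N := fun g hg => hg.1
  have hNK : N ≤ normalizer (K : Set G) := by
    intro g hg
    refine mem_normalizer_of_conj_mem fun k hk => ⟨N.mul_mem (N.mul_mem hg hk.1) (N.inv_mem hg),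
      fun x hx => ?_⟩
    have := conj_mem_of_mem_normalizer (h₀ hg) (hk.2 _ (conj_mem_of_mem_normalizer' (h₁ hg) hx))
    convert this using 1; group
  have hDK : D ≤ K := by
    refine sup_le (fun y hy => ⟨le_normalizer hy, hinn y hy⟩)
      fun c hc => ⟨centralizer_le_normalizer _ hc, fun x hx => ?_⟩
    rw [conj_eq_of_mem_centralizer hc (hX₁ hx)]; simp
  have hKD : K ≤ D := by
    intro g hg
    obtain ⟨q, hq, k, hk, rfl⟩ := (hP.inf_normal hKN hNK).exists_mul_of_coprime_mem hDK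
      (hKN.trans hND) (fun g hg ho => mem_sup_right (mem_centralizer_of_forall_conj_eq
        (hKo _ (oddAut_conj hg.1 (Nat.coprime_two_right.1 ho)) hg.2))) hg
    exact D.mul_mem (hK2 q hq.1 hq.2.2) hk
  -- the bound `≤ 9`
  have hXX₀ : X₁ ≤ normalizer (X₀ : Set G) := hX₁.trans (le_normalizer.trans h₀)
  have hle : D.relIndex N ≤ 9 := by
    set s : Finset (G ⧸ X₀) := {QuotientGroup.mk a, QuotientGroup.mk b, QuotientGroup.mk (a * b)}
    have hs3 : s.card ≤ 3 := Finset.card_le_three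
    have hmem : ∀ g ∈ N, ∀ x ∈ X₁, x ∉ X₀ → (QuotientGroup.mk (g * x * g⁻¹) : G ⧸ X₀) ∈ s := by
      intro g hg x hx hx₀
      rcases hcov _ (conj_mem_of_mem_normalizer (h₁ hg) hx) with h | h | h | h
      · exact absurd ((mem_normalizer_iff.1 (h₀ hg) x).2 h) hx₀
      · simp [s, (QuotientGroup.eq.2 h).symm]
      · simp [s, (QuotientGroup.eq.2 h).symm]
      · simp only [s, (QuotientGroup.eq.2 h).symm]; simp
    refine (relIndex_le_of_map (fun g => ((QuotientGroup.mk (g * a * g⁻¹) : G ⧸ X₀),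
      (QuotientGroup.mk (g * b * g⁻¹) : G ⧸ X₀))) (s ×ˢ s) ?_ ?_).trans ?_
    · intro g hg
      exact Finset.mem_product.2 ⟨hmem g hg a ha ha₀, hmem g hg b hb hb₀⟩
    · intro g hg h hh e
      have key : ∀ x : G, (QuotientGroup.mk (g * x * g⁻¹) : G ⧸ X₀) =
          QuotientGroup.mk (h * x * h⁻¹) → x⁻¹ * (g⁻¹ * h * x * (g⁻¹ * h)⁻¹) ∈ X₀ := by
        intro x e
        have := conj_mem_of_mem_normalizer' (h₀ hg) (QuotientGroup.eq.1 e)
        convert this using 1; group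
      have ea := key a (congrArg Prod.fst e)
      have eb := key b (congrArg Prod.snd e)
      have hgh : g⁻¹ * h ∈ N := N.mul_mem (N.inv_mem hg) hh
      apply hKD
      refine ⟨hgh, fun x hx => ?_⟩
      generalize g⁻¹ * h = k at *
      have hmul : ∀ u ∈ X₁, ∀ v ∈ X₁, u⁻¹ * (k * u * k⁻¹) ∈ X₀ → v⁻¹ * (k * v * k⁻¹) ∈ X₀ →
          (u * v)⁻¹ * (k * (u * v) * k⁻¹) ∈ X₀ := by
        intro u _ v hv e1 e2
        have := X₀.mul_mem (conj_mem_of_mem_normalizer' (hXX₀ hv) e1) e2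
        convert this using 1; group
      have hX₀ : ∀ u ∈ X₀, u⁻¹ * (k * u * k⁻¹) ∈ X₀ := fun u hu =>
        X₀.mul_mem (X₀.inv_mem hu) (conj_mem_of_mem_normalizer (h₀ hgh) hu)
      have hgen : ∀ u ∈ X₁, u⁻¹ * (k * u * k⁻¹) ∈ X₀ → u⁻¹ * x ∈ X₀ →
          x⁻¹ * (k * x * k⁻¹) ∈ X₀ := by
        intro u hu e1 e2
        have := hmul u hu _ (X₁.mul_mem (X₁.inv_mem hu) hx) e1 (hX₀ _ e2)
        rwa [mul_inv_cancel_left] at this
      rcases hcov x hx with h | h | h | h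
      · exact hX₀ x h
      · exact hgen a ha ea h
      · exact hgen b hb eb h
      · exact hgen _ (X₁.mul_mem ha hb) (hmul a ha b hb ea eb) h
    · rw [Finset.card_product]; nlinarith
  -- the index is twice an odd number
  have h2 : D.relIndex (P₀ ⊔ D) = 2 := by
    rw [H2.relIndex_sup_of_le_normalizer (hP.le.trans hND), hidx]
  have hPDN : P₀ ⊔ D ≤ N := sup_le hP.le hDN
  have h3 := relIndex_mul_relIndex D (P₀ ⊔ D) N le_sup_right hPDN
  have h4 : ¬ 2 ∣ (P₀ ⊔ D).relIndex N := fun h =>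
    hP.not_dvd (h.trans (relIndex_dvd_of_le_left N le_sup_left))
  rw [h2] at h3
  by_cases ho : HasOdd X
  · right
    refine ⟨?_, ho⟩
    have h5 : D.relIndex N ≠ 2 := by
      intro h5
      obtain ⟨g, hg, hgo, hgc⟩ := ho
      apply hgc
      refine mem_centralizer_of_odd_of_mem_sup hX ?_ hgo
      refine H3.mem_of_pow_mem_of_coprime (m := 2) ?_ hgo
      have : (D.subgroupOf N).Normal := (normal_subgroupOf_iff_le_normalizer hDN).2 hND
      have := pow_index_mem (H := D.subgroupOf N) ⟨g, hg⟩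
      rw [show (D.subgroupOf N).index = 2 from h5] at this
      exact this
    omega
  · left
    refine ⟨?_, ho⟩
    have : N ≤ P₀ ⊔ D := by
      intro g hg
      obtain ⟨s, hs, c, hc, rfl⟩ := exists_mul_of_not_hasOdd ho hP hg
      exact mul_mem (mem_sup_left hs) (mem_sup_right (mem_sup_right hc))
    rw [← le_antisymm hPDN this, h2]

end H22
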