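import Mathlib

/-!
# Arithmetic in `ZMod (2 ^ n)`
-/

set_option autoImplicit false

namespace H22

/-- the subgroup of order `2 ^ j` of `ZMod (2 ^ n)` -/
def K (n j : ℕ) : AddSubgroup (ZMod (2 ^ n)) where
  carrier := {a | (2 : ZMod (2 ^ n)) ^ j * a = 0}
  zero_mem' := by simp
  add_mem' := by
    intro a b ha hb
    simp only [Set.mem_ofPred_eq] at *
    rw [mul_add, ha, hb, add_zero]
  neg_mem' := by
    intro a ha
    simp only [Set.mem_ofPred_eq] at *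
    rw [mul_neg, ha, neg_zero]

/-- the involution of `ZMod (2 ^ n)` -/
def hh (n : ℕ) : ZMod (2 ^ n) := 2 ^ (n - 1)

/-- an element of order four of `ZMod (2 ^ n)` -/
def qq (n : ℕ) : ZMod (2 ^ n) := 2 ^ (n - 2)

variable {n i j : ℕ}

theorem mem_K {a : ZMod (2 ^ n)} : a ∈ K n j ↔ (2 : ZMod (2 ^ n)) ^ j * a = 0 := Iff.rfl

theorem two_pow_eq_zero : (2 : ZMod (2 ^ n)) ^ n = 0 := by
  have := ZMod.natCast_self (2 ^ n)
  exact_mod_cast this

theorem two_pow_eq_zero_iff : (2 : ZMod (2 ^ n)) ^ j = 0 ↔ n ≤ j := by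
  rw [show (2 : ZMod (2 ^ n)) ^ j = ((2 ^ j : ℕ) : ZMod (2 ^ n)) by push_cast; rfl,
    ZMod.natCast_eq_zero_iff, Nat.pow_dvd_pow_iff_le_right (by decide)]

theorem mul_mem_K {a : ZMod (2 ^ n)} (h : a ∈ K n j) (b : ZMod (2 ^ n)) : b * a ∈ K n j := by
  rw [mem_K] at *
  rw [mul_left_comm, h, mul_zero]

theorem mem_K_mul {a : ZMod (2 ^ n)} (h : a ∈ K n j) (b : ZMod (2 ^ n)) : a * b ∈ K n j := by
  rw [mul_comm]; exact mul_mem_K h b

theorem unit_mul_mem_K {u a : ZMod (2 ^ n)} (hu : IsUnit u) : u * a ∈ K n j ↔ a ∈ K n j := by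
  refine ⟨fun h => ?_, fun h => mul_mem_K h u⟩
  obtain ⟨v, hv⟩ := hu.exists_left_inv
  have := mul_mem_K h v
  rwa [← mul_assoc, hv, one_mul] at this

theorem two_mul_mem_K {a : ZMod (2 ^ n)} : 2 * a ∈ K n j ↔ a ∈ K n (j + 1) := by
  rw [mem_K, mem_K, pow_succ, mul_assoc]

theorem add_self_mem_K {a : ZMod (2 ^ n)} : a + a ∈ K n j ↔ a ∈ K n (j + 1) := by
  rw [← two_mul, two_mul_mem_K]

theorem K_mono (h : i ≤ j) : K n i ≤ K n j := by
  intro a ha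
  obtain ⟨k, rfl⟩ := Nat.exists_eq_add_of_le h
  rw [mem_K] at *
  rw [add_comm, pow_add, mul_assoc, ha, mul_zero]

theorem mem_K_of_le (h : n ≤ j) (a : ZMod (2 ^ n)) : a ∈ K n j := by
  rw [mem_K, two_pow_eq_zero_iff.2 h, zero_mul]

theorem K_self : K n n = ⊤ := eq_top_iff.2 fun a _ => mem_K_of_le le_rfl a

theorem mem_K_zero {a : ZMod (2 ^ n)} : a ∈ K n 0 ↔ a = 0 := by simp [mem_K]

theorem K_zero : K n 0 = ⊥ := by ext a; simp [mem_K]

theorem two_pow_mem_K : (2 : ZMod (2 ^ n)) ^ i ∈ K n j ↔ n ≤ j + i := by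
  rw [mem_K, ← pow_add, two_pow_eq_zero_iff]

theorem mem_K_iff_exists (h : j ≤ n) {a : ZMod (2 ^ n)} :
    a ∈ K n j ↔ ∃ b : ZMod (2 ^ n), a = 2 ^ (n - j) * b := by
  constructor
  · intro ha
    obtain ⟨a, rfl⟩ := ZMod.natCast_zmod_surjective a
    rw [mem_K, show (2 : ZMod (2 ^ n)) ^ j * (a : ZMod (2 ^ n)) =
      ((2 ^ j * a : ℕ) : ZMod (2 ^ n)) by push_cast; rfl, ZMod.natCast_eq_zero_iff] at ha
    obtain ⟨k, rfl⟩ := Nat.exists_eq_add_of_le h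
    rw [pow_add, Nat.mul_dvd_mul_iff_left (by positivity)] at ha
    obtain ⟨b, rfl⟩ := ha
    exact ⟨b, by simp⟩
  · rintro ⟨b, rfl⟩
    exact mem_K_mul (two_pow_mem_K.2 (by omega)) b

theorem K_eq_zmultiples (h : j ≤ n) :
    K n j = AddSubgroup.zmultiples ((2 : ZMod (2 ^ n)) ^ (n - j)) := by
  ext a
  rw [mem_K_iff_exists h, AddSubgroup.mem_zmultiples_iff]
  constructor
  · rintro ⟨b, rfl⟩
    obtain ⟨b, rfl⟩ := ZMod.intCast_surjective b
    exact ⟨b, by rw [zsmul_eq_mul, mul_comm]⟩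
  · rintro ⟨b, rfl⟩
    exact ⟨b, by rw [zsmul_eq_mul, mul_comm]⟩

theorem addOrderOf_dvd_iff_mem_K {a : ZMod (2 ^ n)} : addOrderOf a ∣ 2 ^ j ↔ a ∈ K n j := by
  rw [addOrderOf_dvd_iff_nsmul_eq_zero, mem_K, nsmul_eq_mul]; push_cast; rfl

theorem addOrderOf_eq_of_mem_K {a : ZMod (2 ^ n)} (h1 : a ∈ K n (j + 1)) (h2 : a ∉ K n j) :
    addOrderOf a = 2 ^ (j + 1) := by
  rw [← addOrderOf_dvd_iff_mem_K] at h1 h2
  obtain ⟨k, hk, e⟩ := (Nat.dvd_prime_pow Nat.prime_two).1 h1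
  rw [e] at h2 ⊢
  rw [Nat.pow_dvd_pow_iff_le_right (by decide)] at h2
  congr 1; omega

theorem addOrderOf_eq_iff_K {a : ZMod (2 ^ n)} :
    addOrderOf a = 2 ^ (j + 1) ↔ a ∈ K n (j + 1) ∧ a ∉ K n j := by
  refine ⟨fun h => ?_, fun h => addOrderOf_eq_of_mem_K h.1 h.2⟩
  rw [← addOrderOf_dvd_iff_mem_K, ← addOrderOf_dvd_iff_mem_K, h,
    Nat.pow_dvd_pow_iff_le_right (by decide), Nat.pow_dvd_pow_iff_le_right (by decide)]
  omega

theorem addOrderOf_two_pow (h : j ≤ n) :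
    addOrderOf ((2 : ZMod (2 ^ n)) ^ (n - j)) = 2 ^ j := by
  cases j with
  | zero => simp [two_pow_eq_zero]
  | succ j =>
    exact addOrderOf_eq_of_mem_K (two_pow_mem_K.2 (by omega)) (by rw [two_pow_mem_K]; omega)

theorem card_K (h : j ≤ n) : Nat.card (K n j) = 2 ^ j := by
  rw [K_eq_zmultiples h, Nat.card_zmultiples, addOrderOf_two_pow h]

theorem exists_eq_K (B : AddSubgroup (ZMod (2 ^ n))) : ∃ j ≤ n, B = K n j := by
  have h1 : Nat.card B ∣ 2 ^ n := by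
    have := B.card_addSubgroup_dvd_card
    rwa [Nat.card_zmod] at this
  obtain ⟨j, hj, e⟩ := (Nat.dvd_prime_pow Nat.prime_two).1 h1
  refine ⟨j, hj, AddSubgroup.eq_of_le_of_card_ge (fun a ha => ?_) (by rw [card_K hj, e])⟩
  rw [← addOrderOf_dvd_iff_mem_K, ← e]
  exact B.addOrderOf_dvd_natCard ha

theorem eq_K_of_card {B : AddSubgroup (ZMod (2 ^ n))} (h : Nat.card B = 2 ^ j) :
    j ≤ n ∧ B = K n j := by
  obtain ⟨i, hi, rfl⟩ := exists_eq_K B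
  rw [card_K hi] at h
  obtain rfl := Nat.pow_right_injective le_rfl h
  exact ⟨hi, rfl⟩

theorem K_le_K_iff (hi : i ≤ n) : K n i ≤ K n j ↔ i ≤ j := by
  refine ⟨fun h => ?_, K_mono⟩
  have := h (two_pow_mem_K.2 (show n ≤ i + (n - i) by omega))
  rw [two_pow_mem_K] at this
  omega

theorem zmultiples_eq_K {a : ZMod (2 ^ n)} (h1 : a ∈ K n (j + 1)) (h2 : a ∉ K n j) :
    AddSubgroup.zmultiples a = K n (j + 1) :=
  (eq_K_of_card (by rw [Nat.card_zmultiples, addOrderOf_eq_of_mem_K h1 h2])).2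

theorem K_le_of_mem {B : AddSubgroup (ZMod (2 ^ n))} {a : ZMod (2 ^ n)} (ha : a ∈ B)
    (h2 : a ∉ K n j) : K n (j + 1) ≤ B := by
  obtain ⟨i, -, rfl⟩ := exists_eq_K B
  refine K_mono ?_
  by_contra h
  exact h2 (K_mono (by omega) ha)

theorem even_or_odd (a : ZMod (2 ^ n)) : (∃ b, a = 2 * b) ∨ ∃ b, a = 2 * b + 1 := by
  obtain ⟨a, rfl⟩ := ZMod.intCast_surjective a
  rcases Int.even_or_odd' a with ⟨b, rfl | rfl⟩
  · exact Or.inl ⟨b, by push_cast; rfl⟩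
  · exact Or.inr ⟨b, by push_cast; rfl⟩

theorem mem_K_pred (hn : 1 ≤ n) {a : ZMod (2 ^ n)} : a ∈ K n (n - 1) ↔ ∃ b, a = 2 * b := by
  rw [mem_K_iff_exists (by omega), show n - (n - 1) = 1 by omega, pow_one]

theorem two_mul_mem_K_pred (a : ZMod (2 ^ n)) : 2 * a ∈ K n (n - 1) :=
  two_mul_mem_K.2 (mem_K_of_le (by omega) a)

theorem one_not_mem_K (h : j < n) : (1 : ZMod (2 ^ n)) ∉ K n j := by
  rw [← pow_zero (2 : ZMod (2 ^ n)), two_pow_mem_K]; omega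

theorem odd_not_mem_K_pred (hn : 1 ≤ n) (b : ZMod (2 ^ n)) : 2 * b + 1 ∉ K n (n - 1) := by
  rw [(K n (n - 1)).add_mem_cancel_left (two_mul_mem_K_pred b)]
  exact one_not_mem_K (by omega)

theorem not_mem_K_pred (hn : 1 ≤ n) {a : ZMod (2 ^ n)} :
    a ∉ K n (n - 1) ↔ ∃ b, a = 2 * b + 1 := by
  constructor
  · intro h
    exact (even_or_odd a).resolve_left fun h' => h ((mem_K_pred hn).2 h')
  · rintro ⟨b, rfl⟩; exact odd_not_mem_K_pred hn b

theorem isUnit_odd (b : ZMod (2 ^ n)) : IsUnit (2 * b + 1) := by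
  have : IsNilpotent (2 * b) := ⟨n, by rw [mul_pow, two_pow_eq_zero, zero_mul]⟩
  exact this.isUnit_add_one

theorem isUnit_of_not_mem (hn : 1 ≤ n) {a : ZMod (2 ^ n)} (h : a ∉ K n (n - 1)) : IsUnit a := by
  obtain ⟨b, rfl⟩ := (not_mem_K_pred hn).1 h
  exact isUnit_odd b

theorem sub_mem_K_of_not_mem {a b : ZMod (2 ^ n)} (ha : a ∈ K n (j + 1)) (hb : b ∈ K n (j + 1))
    (ha' : a ∉ K n j) (hb' : b ∉ K n j) : a - b ∈ K n j := by
  by_cases hj : n ≤ j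
  · exact mem_K_of_le hj _
  have hj' : j + 1 ≤ n := by omega
  have key : ∀ x : ZMod (2 ^ n), 2 ^ (n - (j + 1)) * (2 * x) ∈ K n j := fun x => by
    rw [← mul_assoc, ← pow_succ]
    exact mem_K_mul (two_pow_mem_K.2 (by omega)) x
  obtain ⟨a, rfl⟩ := (mem_K_iff_exists hj').1 ha
  obtain ⟨b, rfl⟩ := (mem_K_iff_exists hj').1 hb
  rcases even_or_odd a with ⟨a, rfl⟩ | ⟨a, rfl⟩
  · exact absurd (key a) ha'
  rcases even_or_odd b with ⟨b, rfl⟩ | ⟨b, rfl⟩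
  · exact absurd (key b) hb'
  convert key (a - b) using 1; ring

theorem two_mul_hh (hn : 1 ≤ n) : 2 * hh n = 0 := by
  rw [hh, ← pow_succ', two_pow_eq_zero_iff]; omega

theorem hh_add_hh (hn : 1 ≤ n) : hh n + hh n = 0 := by rw [← two_mul, two_mul_hh hn]

theorem neg_hh (hn : 1 ≤ n) : -hh n = hh n := neg_eq_of_add_eq_zero_left (hh_add_hh hn)

theorem hh_ne_zero (hn : 1 ≤ n) : hh n ≠ 0 := by
  rw [hh, Ne, two_pow_eq_zero_iff]; omega

theorem hh_mem_K (hj : 1 ≤ j) : hh n ∈ K n j := two_pow_mem_K.2 (by omega)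

theorem two_mul_qq (hn : 2 ≤ n) : 2 * qq n = hh n := by
  rw [qq, hh, ← pow_succ']; congr 1; omega

theorem qq_add_qq (hn : 2 ≤ n) : qq n + qq n = hh n := by rw [← two_mul, two_mul_qq hn]

theorem qq_mem_K (hj : 2 ≤ j) : qq n ∈ K n j := two_pow_mem_K.2 (by omega)

theorem qq_not_mem_K_one (hn : 2 ≤ n) : qq n ∉ K n 1 := by rw [qq, two_pow_mem_K]; omega

theorem addOrderOf_hh (hn : 1 ≤ n) : addOrderOf (hh n) = 2 := addOrderOf_two_pow (j := 1) hn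

theorem addOrderOf_qq (hn : 2 ≤ n) : addOrderOf (qq n) = 4 := addOrderOf_two_pow (j := 2) hn

theorem hh_mul_of_mem (_hn : 1 ≤ n) {a : ZMod (2 ^ n)} (h : a ∈ K n (n - 1)) : hh n * a = 0 := h

theorem hh_mul_two_mul (hn : 1 ≤ n) (a : ZMod (2 ^ n)) : hh n * (2 * a) = 0 := by
  rw [mul_left_comm, ← mul_assoc, two_mul_hh hn, zero_mul]

theorem hh_mul_odd (hn : 1 ≤ n) (a : ZMod (2 ^ n)) : hh n * (2 * a + 1) = hh n := by
  rw [mul_add, hh_mul_two_mul hn, zero_add, mul_one]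

theorem hh_mul_of_not_mem (hn : 1 ≤ n) {a : ZMod (2 ^ n)} (h : a ∉ K n (n - 1)) :
    hh n * a = hh n := by
  obtain ⟨b, rfl⟩ := (not_mem_K_pred hn).1 h
  exact hh_mul_odd hn b

theorem hh_mul_eq_zero_iff {a : ZMod (2 ^ n)} : hh n * a = 0 ↔ a ∈ K n (n - 1) := Iff.rfl

theorem mem_K_one (hn : 1 ≤ n) {a : ZMod (2 ^ n)} : a ∈ K n 1 ↔ a = 0 ∨ a = hh n := by
  constructor
  · intro h
    obtain ⟨b, rfl⟩ := (mem_K_iff_exists hn).1 h
    rcases even_or_odd b with ⟨b, rfl⟩ | ⟨b, rfl⟩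
    · exact Or.inl (hh_mul_two_mul hn b)
    · exact Or.inr (hh_mul_odd hn b)
  · rintro (rfl | rfl)
    · exact zero_mem _
    · exact hh_mem_K le_rfl

theorem mem_K_one' {a : ZMod (2 ^ n)} : a ∈ K n 1 ↔ a + a = 0 := by
  rw [mem_K, pow_one, two_mul]

theorem add_self_eq_zero_iff (hn : 1 ≤ n) {a : ZMod (2 ^ n)} : a + a = 0 ↔ a = 0 ∨ a = hh n := by
  rw [← mem_K_one', mem_K_one hn]

theorem mem_K_two (hn : 2 ≤ n) {a : ZMod (2 ^ n)} :
    a ∈ K n 2 ↔ a = 0 ∨ a = hh n ∨ a = qq n ∨ a = -qq n := by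
  have hn1 : 1 ≤ n := by omega
  constructor
  · intro h
    by_cases h1 : a ∈ K n 1
    · rcases (mem_K_one hn1).1 h1 with h | h
      · exact Or.inl h
      · exact Or.inr (Or.inl h)
    · rcases (mem_K_one hn1).1
        (sub_mem_K_of_not_mem h (qq_mem_K le_rfl) h1 (qq_not_mem_K_one hn)) with h | h
      · exact Or.inr (Or.inr (Or.inl (sub_eq_zero.1 h)))
      · refine Or.inr (Or.inr (Or.inr ?_))
        have h2 := two_mul_qq hn
        have h3 := two_mul_hh hn1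
        linear_combination h + h2 + h3
  · rintro (rfl | rfl | rfl | rfl)
    · exact zero_mem _
    · exact hh_mem_K (by decide)
    · exact qq_mem_K le_rfl
    · exact neg_mem (qq_mem_K le_rfl)

theorem addOrderOf_eq_two_iff (hn : 1 ≤ n) {a : ZMod (2 ^ n)} : addOrderOf a = 2 ↔ a = hh n := by
  rw [show addOrderOf a = 2 ↔ addOrderOf a = 2 ^ (0 + 1) from Iff.rfl, addOrderOf_eq_iff_K,
    mem_K_zero, zero_add, mem_K_one hn]
  constructor
  · rintro ⟨h | h, h'⟩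
    · exact absurd h h'
    · exact h
  · rintro rfl; exact ⟨Or.inr rfl, hh_ne_zero hn⟩

theorem addOrderOf_eq_four_iff (hn : 2 ≤ n) {a : ZMod (2 ^ n)} :
    addOrderOf a = 4 ↔ a = qq n ∨ a = -qq n := by
  have hn1 : 1 ≤ n := by omega
  rw [show (4 : ℕ) = 2 ^ (1 + 1) from rfl, addOrderOf_eq_iff_K, mem_K_two hn, mem_K_one hn1]
  constructor
  · rintro ⟨h | h | h, h'⟩
    · exact absurd (Or.inl h) h'
    · exact absurd (Or.inr h) h'
    · exact h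
  · intro h
    refine ⟨Or.inr (Or.inr h), ?_⟩
    rw [← mem_K_one hn1]
    rcases h with rfl | rfl
    · exact qq_not_mem_K_one hn
    · rw [neg_mem_iff]; exact qq_not_mem_K_one hn

theorem natCast_two_pow (k : ℕ) : ((2 ^ k : ℕ) : ZMod (2 ^ n)) = 2 ^ k := by push_cast; rfl

end H22
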