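import Mathlib
import Cfsg.Prelude.Def_CaseTheorems
import Cfsg.Agent.H7.DihQuat
import Cfsg.Agent.H22.Ext2
import Cfsg.Agent.H22.Z2
import Cfsg.Agent.H22.OddAut
import Cfsg.Agent.H22.Isolated

/-!
# Dihedral, generalized quaternion and semidihedral 2-groups in coordinates
-/

set_option autoImplicit false

namespace H22

open Subgroup

variable {G : Type*} [Group G] {n : ℕ}

/-- multiplication by `e - 1` -/
def sig (e : ZMod (2 ^ n)) : ZMod (2 ^ n) →+ ZMod (2 ^ n) := AddMonoidHom.mulLeft (e - 1)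

theorem sig_apply (e a : ZMod (2 ^ n)) : sig e a = (e - 1) * a := rfl

/-- admissible twists: `0` (dihedral, quaternion) or `2 ^ (n - 1)` (semidihedral) -/
def Tw (n : ℕ) (e : ZMod (2 ^ n)) : Prop := e = 0 ∨ (3 ≤ n ∧ e = hh n)

/-- coordinates on a dihedral, generalized quaternion or semidihedral group -/
abbrev MC (S : Subgroup G) (n : ℕ) (e c : ZMod (2 ^ n)) := Ext2 S (ZMod (2 ^ n)) (sig e) c

theorem add_sig (e a : ZMod (2 ^ n)) : a + sig e a = e * a := by rw [sig_apply]; ring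

namespace Tw
variable {e : ZMod (2 ^ n)}

theorem exists_unit (he : Tw n e) : ∃ u : ZMod (2 ^ n), IsUnit u ∧ ∀ a, a - sig e a = u * (2 * a) := by
  rcases he with rfl | ⟨hn, rfl⟩
  · exact ⟨1, isUnit_one, fun a => by rw [sig_apply]; ring⟩
  · obtain ⟨b, hb⟩ := (mem_K_pred (by omega)).1 (qq_mem_K (n := n) (j := n - 1) (by omega))
    refine ⟨2 * (-b) + 1, isUnit_odd _, fun a => ?_⟩
    rw [sig_apply, ← two_mul_qq (by omega), hb]; ring

theorem sub_sig_mem_K (he : Tw n e) {a : ZMod (2 ^ n)} {j : ℕ} :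
    a - sig e a ∈ K n j ↔ a ∈ K n (j + 1) := by
  obtain ⟨u, hu, h⟩ := he.exists_unit
  rw [h, unit_mul_mem_K hu, two_mul_mem_K]

theorem sig_eq_self (he : Tw n e) {a : ZMod (2 ^ n)} : sig e a = a ↔ a ∈ K n 1 := by
  rw [← he.sub_sig_mem_K, mem_K_zero, sub_eq_zero, eq_comm]

theorem mul_eq_zero (he : Tw n e) {a : ZMod (2 ^ n)} (ha : a ∈ K n (n - 1)) : e * a = 0 := by
  rcases he with rfl | ⟨_, rfl⟩
  · exact zero_mul a
  · exact ha

theorem sig_eq_neg (he : Tw n e) {a : ZMod (2 ^ n)} (ha : a ∈ K n (n - 1)) : sig e a = -a := by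
  rw [sig_apply, sub_mul, he.mul_eq_zero ha]; ring

theorem mul_mem_K_one (he : Tw n e) (a : ZMod (2 ^ n)) : e * a ∈ K n 1 := by
  rcases he with rfl | ⟨_, rfl⟩
  · rw [zero_mul]; exact zero_mem _
  · exact mem_K_mul (hh_mem_K le_rfl) a

theorem exists_sub_sig (he : Tw n e) (hn : 1 ≤ n) {a : ZMod (2 ^ n)} (ha : a ∈ K n (n - 1)) :
    ∃ b, b - sig e b = a := by
  obtain ⟨u, hu, h⟩ := he.exists_unit
  obtain ⟨b, rfl⟩ := (mem_K_pred hn).1 ha
  obtain ⟨v, hv⟩ := hu.exists_right_inv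
  exact ⟨v * b, by rw [h]; linear_combination 2 * b * hv⟩

theorem mul_eq_zero_of_le (he : Tw n e) {j : ℕ} (hj : j ≤ 2) {a : ZMod (2 ^ n)} (ha : a ∈ K n j) :
    e * a = 0 := by
  rcases he with rfl | ⟨hn, rfl⟩
  · exact zero_mul a
  · exact K_mono (show j ≤ n - 1 by omega) ha

end Tw

theorem sig_mem_K (e : ZMod (2 ^ n)) {j : ℕ} (a : ZMod (2 ^ n)) (ha : a ∈ K n j) :
    sig e a ∈ K n j := mul_mem_K ha _

/-- coordinates from a presentation -/
theorem nonempty_MC [Finite G] (S : Subgroup G) (n : ℕ) (e c : ZMod (2 ^ n)) (x y : G) (k l : ℤ)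
    (hx : orderOf x = 2 ^ n) (hk : (k : ZMod (2 ^ n)) = e - 1) (hl : (l : ZMod (2 ^ n)) = c)
    (hyx : y * x * y⁻¹ = x ^ k) (hyy : y * y = x ^ l) (hy : y ∉ zpowers x)
    (hxS : x ∈ S) (hyS : y ∈ S) (hcard : Nat.card S = 2 * 2 ^ n) :
    ∃ E : MC S n e c, (∀ i : ℤ, E.r i = x ^ i) ∧ E.s 0 = y := by
  have hx1 : x ^ 2 ^ n = 1 := hx ▸ pow_orderOf_eq_one x
  refine (nonempty_ext2 S (ZMod (2 ^ n)) (sig e) c (H7.zmodPow x) y ?_ ?_ ?_ ?_ ?_
    ?_ hyS (by rw [hcard, Nat.card_zmod])).imp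
    fun E hE => ⟨fun i => by rw [hE.1, H7.zmodPow_intCast hx1], hE.2⟩
  · intro a b
    obtain ⟨a, rfl⟩ := ZMod.intCast_surjective a
    obtain ⟨b, rfl⟩ := ZMod.intCast_surjective b
    rw [← Int.cast_add]
    simp only [H7.zmodPow_intCast hx1, zpow_add]
  · intro a b h
    obtain ⟨a, rfl⟩ := ZMod.intCast_surjective a
    obtain ⟨b, rfl⟩ := ZMod.intCast_surjective b
    simp only [H7.zmodPow_intCast hx1] at h
    rw [zpow_eq_zpow_iff_modEq, hx] at h
    exact (ZMod.intCast_eq_intCast_iff a b _).2 h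
  · intro a
    obtain ⟨a, rfl⟩ := ZMod.intCast_surjective a
    rw [sig_apply, ← hk, ← Int.cast_mul]
    simp only [H7.zmodPow_intCast hx1]
    rw [zpow_mul, ← hyx, conj_zpow]; group
  · rw [← hl, H7.zmodPow_intCast hx1, hyy]
  · intro a e
    obtain ⟨a, rfl⟩ := ZMod.intCast_surjective a
    rw [H7.zmodPow_intCast hx1] at e
    exact hy ⟨a, e⟩
  · intro a
    obtain ⟨a, rfl⟩ := ZMod.intCast_surjective a
    rw [H7.zmodPow_intCast hx1]
    exact S.zpow_mem hxS a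

theorem exists_MC_top_of_isQuasiDihedral {S : Type*} [Group S] [Finite S]
    (hS : Cfsg.IsQuasiDihedral S) :
    ∃ n, 3 ≤ n ∧ Nonempty (MC (⊤ : Subgroup S) n (hh n) 0) := by
  obtain ⟨n, hn, hcard, x, y, hx, hy, hyx⟩ := hS
  have h1 : 1 ≤ 2 ^ (n - 1) := Nat.one_le_two_pow
  refine ⟨n, hn, ?_⟩
  refine Exists.nonempty (nonempty_MC (⊤ : Subgroup S) n (hh n) 0 x y ((2 ^ (n - 1) - 1 : ℕ) : ℤ) 0 hx
    (by rw [Int.cast_natCast, Nat.cast_sub h1, natCast_two_pow, Nat.cast_one, hh]) Int.cast_zero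
    (by rw [zpow_natCast, hyx]) (by rw [zpow_zero, mul_self_of_orderOf_two hy]) ?_ trivial trivial
    (by rw [card_top, hcard, pow_succ']))
  · rintro ⟨i, rfl⟩
    have h2 : x ^ (2 ^ (n - 1) - 1) = x ^ 1 := by
      rw [← hyx]; show x ^ i * x * (x ^ i)⁻¹ = _; group
    rw [pow_eq_pow_iff_modEq, hx] at h2
    obtain ⟨m, rfl⟩ : ∃ m, n = m + 3 := ⟨n - 3, by omega⟩
    have h3 : 0 < 2 ^ m := by positivity
    have h4 : 2 ^ (m + 3 - 1) = 4 * 2 ^ m := by rw [show m + 3 - 1 = m + 2 by omega]; ring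
    have h5 : 2 ^ (m + 3) = 8 * 2 ^ m := by ring
    have := Nat.ModEq.eq_of_lt_of_lt h2 (by omega) (by omega)
    omega

theorem exists_MC_of_isQuasiDihedral [Finite G] {S : Subgroup G} (hS : Cfsg.IsQuasiDihedral S) :
    ∃ n, 3 ≤ n ∧ Nonempty (MC S n (hh n) 0) := by
  obtain ⟨n, hn, ⟨E⟩⟩ := exists_MC_top_of_isQuasiDihedral hS
  exact ⟨n, hn, ⟨E.ofTop⟩⟩

theorem exists_MC_top_of_dihedral {S : Type*} [Group S] (n : ℕ)
    (e : S ≃* DihedralGroup (2 ^ n)) : Nonempty (MC (⊤ : Subgroup S) n 0 0) := by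
  have : Finite S := Finite.of_equiv _ e.symm.toEquiv
  refine Exists.nonempty (nonempty_MC (⊤ : Subgroup S) n 0 0 (e.symm (.r 1)) (e.symm (.sr 0)) (-1) 0
    (by rw [e.symm.orderOf_eq, DihedralGroup.orderOf_r_one]) (by simp) Int.cast_zero
    (by rw [← map_inv, ← map_mul, ← map_mul, ← map_zpow]; simp) (by rw [← map_mul]; simp) ?_
    trivial trivial (by rw [card_top, Nat.card_congr e.toEquiv, DihedralGroup.nat_card]))
  · rintro ⟨i, hi⟩
    have : e.symm (.r 1 ^ i) = e.symm (.sr 0) := by rw [map_zpow]; exact hi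
    have := e.symm.injective this
    simp at this

theorem exists_MC_of_dihedral {S : Subgroup G} (n : ℕ) (e : S ≃* DihedralGroup (2 ^ n)) :
    Nonempty (MC S n 0 0) :=
  (exists_MC_top_of_dihedral n e).elim fun E => ⟨E.ofTop⟩

theorem quaternion_a_zpow {m : ℕ} (i : ZMod (2 * m)) (k : ℤ) :
    (QuaternionGroup.a i : QuaternionGroup m) ^ k = .a (k * i) := by
  induction k using Int.induction_on with
  | zero => simp
  | succ k ih => rw [zpow_add_one, ih]; simp [add_mul]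
  | pred k ih =>
    rw [zpow_sub_one, ih, mul_inv_eq_iff_eq_mul]; simp [sub_mul]

theorem exists_MC_top_of_quaternion {S : Type*} [Group S] (m : ℕ)
    (e : S ≃* QuaternionGroup (2 ^ m)) : Nonempty (MC (⊤ : Subgroup S) (m + 1) 0 (hh (m + 1))) := by
  have : Finite S := Finite.of_equiv _ e.symm.toEquiv
  refine Exists.nonempty (nonempty_MC (⊤ : Subgroup S) (m + 1) 0 (hh (m + 1)) (e.symm (.a 1))
    (e.symm (.xa 0)) (-1) ((2 ^ m : ℕ) : ℤ)
    (by rw [e.symm.orderOf_eq, QuaternionGroup.orderOf_a_one, pow_succ']) (by simp)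
    (by simp [hh])
    (by rw [mul_inv_eq_iff_eq_mul, ← map_mul, ← map_zpow, ← map_mul, quaternion_a_zpow]; simp)
    (by rw [← map_mul, ← map_zpow, quaternion_a_zpow]; simp) ?_
    trivial trivial (by
      rw [card_top, Nat.card_congr e.toEquiv, Nat.card_eq_fintype_card, QuaternionGroup.card]; ring))
  · rintro ⟨i, hi⟩
    have : e.symm (.a 1 ^ i) = e.symm (.xa 0) := by rw [map_zpow]; exact hi
    have := e.symm.injective this
    rw [quaternion_a_zpow] at this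
    simp at this

theorem exists_MC_of_quaternion {S : Subgroup G} (m : ℕ) (e : S ≃* QuaternionGroup (2 ^ m)) :
    Nonempty (MC S (m + 1) 0 (hh (m + 1))) :=
  (exists_MC_top_of_quaternion m e).elim fun E => ⟨E.ofTop⟩

theorem isKleinFour_of {X : Subgroup G} (h4 : Nat.card X = 4) (h : ∀ x ∈ X, x * x = 1) :
    IsKleinFour X := by
  have : Finite X := Nat.finite_of_card_ne_zero (by omega)
  have : Nontrivial X := Finite.one_lt_card_iff_nontrivial.1 (by omega)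
  refine ⟨h4, (Monoid.exponent_eq_prime_iff Nat.prime_two).2 fun g hg => ?_⟩
  exact orderOf_eq_two_of_mul_self (Subtype.ext (h g g.2)) hg

theorem kleinFour_mul_self {X : Subgroup G} (h : IsKleinFour X) {x : G} (hx : x ∈ X) : x * x = 1 :=
  congrArg Subtype.val (IsKleinFour.mul_self (⟨x, hx⟩ : X))

theorem kleinFour_comm {X : Subgroup G} (h : IsKleinFour X) {x y : G} (hx : x ∈ X) (hy : y ∈ X) :
    x * y = y * x := by
  have := IsKleinFour.isMulCommutative (G := X)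
  exact setLike_mul_comm hx hy

theorem isKleinFour_cj {X : Subgroup G} (h : IsKleinFour X) (g : G) : IsKleinFour (cj g X) := by
  refine isKleinFour_of (by rw [card_cj, h.card_four]) fun x hx => ?_
  have := kleinFour_mul_self h (mem_cj.1 hx)
  calc x * x = g * (g⁻¹ * x * g * (g⁻¹ * x * g)) * g⁻¹ := by group
    _ = 1 := by rw [this]; group

theorem isPGroup_of_kleinFour {X : Subgroup G} (h : IsKleinFour X) : IsPGroup 2 X :=
  IsPGroup.of_card (n := 2) h.card_four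

theorem q8_card {Q : Type*} [Group Q] (e : Q ≃* QuaternionGroup 2) : Nat.card Q = 8 := by
  rw [Nat.card_congr e.toEquiv, Nat.card_eq_fintype_card, QuaternionGroup.card]

theorem q8_unique_involution {Q : Subgroup G} (e : Q ≃* QuaternionGroup 2) {x y : G} (hx : x ∈ Q)
    (hy : y ∈ Q) (hx2 : x * x = 1) (hy2 : y * y = 1) (hx1 : x ≠ 1) (hy1 : y ≠ 1) : x = y := by
  have key : ∀ a b : QuaternionGroup 2, a * a = 1 → b * b = 1 → a ≠ 1 → b ≠ 1 → a = b := by
    decide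
  have := key (e ⟨x, hx⟩) (e ⟨y, hy⟩)
    (by rw [← map_mul, map_eq_one_iff _ e.injective]; exact Subtype.ext hx2)
    (by rw [← map_mul, map_eq_one_iff _ e.injective]; exact Subtype.ext hy2)
    (by rw [Ne, map_eq_one_iff _ e.injective]; exact fun h => hx1 (congrArg Subtype.val h))
    (by rw [Ne, map_eq_one_iff _ e.injective]; exact fun h => hy1 (congrArg Subtype.val h))
  exact congrArg Subtype.val (e.injective this)

theorem q8_not_comm {Q : Type*} [Group Q] (e : Q ≃* QuaternionGroup 2) : ¬ IsMulCommutative Q := by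
  intro h
  have := mul_comm' (e.symm (.a 1)) (e.symm (.xa 0))
  rw [← map_mul, ← map_mul] at this
  exact absurd (e.symm.injective this) (by decide)

namespace MC
variable {S : Subgroup G} {e c : ZMod (2 ^ n)} (E : MC S n e c)

theorem s_mul_self (a : ZMod (2 ^ n)) : E.s a * E.s a = E.r (e * a + c) := by
  rw [E.s_mul_s, add_sig]

theorem orderOf_s_two {a : ZMod (2 ^ n)} : orderOf (E.s a) = 2 ↔ e * a + c = 0 := by
  rw [E.orderOf_s_eq_two, add_sig]

theorem orderOf_r_two (hn : 1 ≤ n) {a : ZMod (2 ^ n)} : orderOf (E.r a) = 2 ↔ a = hh n := by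
  rw [E.orderOf_r, addOrderOf_eq_two_iff hn]

theorem orderOf_r_four (hn : 2 ≤ n) {a : ZMod (2 ^ n)} :
    orderOf (E.r a) = 4 ↔ a = qq n ∨ a = -qq n := by
  rw [E.orderOf_r, addOrderOf_eq_four_iff hn]

theorem orderOf_s_of_eq_hh (hn : 1 ≤ n) {a : ZMod (2 ^ n)} (h : e * a + c = hh n) :
    orderOf (E.s a) = 4 := by
  refine orderOf_eq_prime_pow (p := 2) (n := 1) ?_ ?_
  · rw [pow_one, sq, E.s_mul_self, h, E.r_eq_one]; exact hh_ne_zero hn
  · rw [show 2 ^ (1 + 1) = 2 * 2 from rfl, pow_mul, sq (E.s a), E.s_mul_self, h, sq, E.r_mul_r,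
      hh_add_hh hn, E.r_zero]

theorem sq_cases (hn : 1 ≤ n) (he : Tw n e) (hc : c ∈ K n 1) (a : ZMod (2 ^ n)) :
    e * a + c = 0 ∨ e * a + c = hh n :=
  (mem_K_one hn).1 (add_mem (he.mul_mem_K_one a) hc)

theorem orderOf_s_four (hn : 1 ≤ n) (he : Tw n e) (hc : c ∈ K n 1) {a : ZMod (2 ^ n)} :
    orderOf (E.s a) = 4 ↔ e * a + c = hh n := by
  refine ⟨fun h => (sq_cases hn he hc a).resolve_left fun h' => ?_, E.orderOf_s_of_eq_hh hn⟩
  rw [E.orderOf_s_two.2 h'] at h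
  exact absurd h (by decide)

include E in
theorem card : Nat.card S = 2 ^ (n + 1) := by rw [E.card_eq, Nat.card_zmod, pow_succ']

include E in
theorem isPGroup : IsPGroup 2 S := IsPGroup.of_card E.card

theorem isR_or_isS_K {X : Subgroup G} (hX : X ≤ S) :
    (∃ j ≤ n, E.IsR X (K n j)) ∨ ∃ j ≤ n, ∃ d, E.IsS X (K n j) d := by
  obtain ⟨j, hj, e⟩ := exists_eq_K (E.rpart X)
  rcases E.isR_or_isS hX with h | ⟨d, h⟩
  · exact Or.inl ⟨j, hj, e ▸ h⟩
  · exact Or.inr ⟨j, hj, d, e ▸ h⟩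

theorem exists_isS_K {j : ℕ} (d : ZMod (2 ^ n)) (hd : e * d + c ∈ K n j) :
    ∃ X, E.IsS X (K n j) d :=
  E.exists_isS _ d (sig_mem_K e) (by rwa [add_sig])

theorem isR_zpowers_K {j : ℕ} (hj : j ≤ n) : E.IsR (zpowers (E.r (2 ^ (n - j)))) (K n j) := by
  rw [K_eq_zmultiples hj]; exact E.isR_zpowers _

theorem r_pow_two_pow (a : ZMod (2 ^ n)) : E.r a ^ 2 ^ n = 1 := by
  rw [E.r_pow, E.r_eq_one, nsmul_eq_mul, natCast_two_pow, two_pow_eq_zero, zero_mul]

theorem orderOf_r_gen {j : ℕ} (hj : j ≤ n) : orderOf (E.r (2 ^ (n - j))) = 2 ^ j := by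
  rw [E.orderOf_r, addOrderOf_two_pow hj]

variable {E}

theorem isR_card {X : Subgroup G} {j : ℕ} (h : E.IsR X (K n j)) (hj : j ≤ n) :
    Nat.card X = 2 ^ j := by rw [h.card, card_K hj]

theorem isS_card {X : Subgroup G} {j : ℕ} {d : ZMod (2 ^ n)} (h : E.IsS X (K n j) d) (hj : j ≤ n) :
    Nat.card X = 2 ^ (j + 1) := by rw [h.card, card_K hj, pow_succ']

theorem isR_isCyclic {X : Subgroup G} {j : ℕ} (h : E.IsR X (K n j)) (hj : j ≤ n) : IsCyclic X := by
  rw [h.unique (E.isR_zpowers_K hj)]; infer_instance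

theorem isR_normal_le [Finite G] {X : Subgroup G} {j : ℕ} (h : E.IsR X (K n j)) :
    S ≤ normalizer (X : Set G) := h.le_normalizer (sig_mem_K e)

theorem isS_normalizer (he : Tw n e) {X : Subgroup G} {j : ℕ} {d : ZMod (2 ^ n)}
    (h : E.IsS X (K n j) d) : E.IsS (S ⊓ normalizer (X : Set G)) (K n (j + 1)) d :=
  h.inf_normalizer fun _ => he.sub_sig_mem_K.symm

theorem isS_relIndex_normalizer [Finite G] (he : Tw n e) {X : Subgroup G} {j : ℕ}
    {d : ZMod (2 ^ n)} (h : E.IsS X (K n j) d) (hj : j + 1 ≤ n) :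
    X.relIndex (S ⊓ normalizer (X : Set G)) = 2 :=
  h.relIndex_isS (isS_normalizer he h) (le_inf h.le le_normalizer)
    (by rw [card_K hj, card_K (by omega), pow_succ])

/-- two subgroups `r(K j) ∪ s(d + K j)` whose `d` have the same parity are conjugate -/
theorem isS_conj (he : Tw n e) (hn : 1 ≤ n) {X Y : Subgroup G} {B : AddSubgroup (ZMod (2 ^ n))}
    {d d' : ZMod (2 ^ n)} (h : E.IsS X B d) (h' : E.IsS Y B d') (hd : d' - d ∈ K n (n - 1)) :
    ∃ b, cj (E.r b) X = Y := by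
  obtain ⟨b, hb⟩ := he.exists_sub_sig hn hd
  exact ⟨b, (h.cj_r b).unique h' (by rw [hb]; simp)⟩

theorem s_conj (E : MC S n e c) (he : Tw n e) (hn : 1 ≤ n) {d d' : ZMod (2 ^ n)}
    (hd : d' - d ∈ K n (n - 1)) : ∃ b, E.r b * E.s d * (E.r b)⁻¹ = E.s d' := by
  obtain ⟨b, hb⟩ := he.exists_sub_sig hn hd
  exact ⟨b, by rw [E.r_conj_s, hb, add_sub_cancel]⟩

theorem isS_equiv_dihedral {X : Subgroup G} {j : ℕ} {d : ZMod (2 ^ n)} (h : E.IsS X (K n j) d)
    (hj : j ≤ n) (hd : e * d + c = 0) (hσ : ∀ a ∈ K n j, e * a = 0) :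
    Nonempty (X ≃* DihedralGroup (2 ^ j)) := by
  have hg : (2 : ZMod (2 ^ n)) ^ (n - j) ∈ K n j := two_pow_mem_K.2 (by omega)
  refine H7.nonempty_equiv_dihedral_of_card (2 ^ j) (by positivity)
    (⟨E.r (2 ^ (n - j)), (h.r_mem _).2 hg⟩ : X) ⟨E.s d, h.self_mem⟩ ?_ ?_ ?_ ?_ ?_
  · rw [← orderOf_coe]; exact E.orderOf_r_gen hj
  · exact Subtype.ext (by simp [E.s_mul_self, hd, E.r_zero])
  · refine Subtype.ext ?_
    simp only [coe_mul, coe_inv, E.s_conj_r, E.r_inv]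
    rw [sig_apply, sub_mul, hσ _ hg]; simp
  · rintro ⟨i, hi⟩
    exact E.s_not_mem_zpowers_r _ _ ⟨i, congrArg Subtype.val hi⟩
  · rw [isS_card h hj, pow_succ']

theorem isS_equiv_quaternion {X : Subgroup G} {j : ℕ} {d : ZMod (2 ^ n)}
    (h : E.IsS X (K n (j + 1)) d) (hj : j + 1 ≤ n) (hd : e * d + c = hh n)
    (hσ : ∀ a ∈ K n (j + 1), e * a = 0) : Nonempty (X ≃* QuaternionGroup (2 ^ j)) := by
  have hg : (2 : ZMod (2 ^ n)) ^ (n - (j + 1)) ∈ K n (j + 1) := two_pow_mem_K.2 (by omega)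
  refine H7.nonempty_equiv_quaternion_of_card (2 ^ j) (by positivity)
    (⟨E.r (2 ^ (n - (j + 1))), (h.r_mem _).2 hg⟩ : X) ⟨E.s d, h.self_mem⟩ ?_ ?_ ?_ ?_ ?_
  · rw [← orderOf_coe, ← pow_succ']; exact E.orderOf_r_gen hj
  · refine Subtype.ext ?_
    simp only [coe_mul, E.s_mul_self, hd, SubgroupClass.coe_pow, E.r_pow]
    rw [nsmul_eq_mul, natCast_two_pow, ← pow_add, hh]
    congr 2; omega
  · refine Subtype.ext ?_
    simp only [coe_mul, coe_inv, E.s_conj_r, E.r_inv]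
    rw [sig_apply, sub_mul, hσ _ hg]; simp
  · rintro ⟨i, hi⟩
    exact E.s_not_mem_zpowers_r _ _ ⟨i, congrArg Subtype.val hi⟩
  · rw [isS_card h hj]; ring

theorem isS_isKleinFour (he : Tw n e) (hn : 1 ≤ n) {X : Subgroup G} {d : ZMod (2 ^ n)}
    (h : E.IsS X (K n 1) d) (hd : e * d + c = 0) : IsKleinFour X := by
  refine isKleinFour_of (isS_card h hn) fun x hx => ?_
  rcases h.cases hx with ⟨a, ha, rfl⟩ | ⟨a, ha, rfl⟩
  · rw [E.r_mul_self_eq_one, ← mem_K_one']; exact ha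
  · rw [E.s_mul_self, E.r_eq_one]
    have := he.mul_eq_zero_of_le (by decide) ha
    linear_combination this + hd

theorem exists_isS_of_isKleinFour (E : MC S n e c) {X : Subgroup G} (hX : X ≤ S)
    (h : IsKleinFour X) : 1 ≤ n ∧ ∃ d, E.IsS X (K n 1) d ∧ e * d + c = 0 := by
  rcases E.isR_or_isS_K hX with ⟨j, hj, h'⟩ | ⟨j, hj, d, h'⟩
  · exact absurd (isR_isCyclic h' hj) IsKleinFour.not_isCyclic
  · have h1 := isS_card h' hj
    rw [h.card_four] at h1
    obtain rfl : j = 1 := by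
      have := Nat.pow_right_injective le_rfl (show 2 ^ 2 = 2 ^ (j + 1) from h1)
      omega
    refine ⟨hj, d, h', ?_⟩
    rw [← E.r_eq_one, ← E.s_mul_self]
    exact kleinFour_mul_self h h'.self_mem

theorem exists_isS_of_q8 (E : MC S n e c) (he : Tw n e) (hc : c ∈ K n 1) {X : Subgroup G}
    (hX : X ≤ S) (f : X ≃* QuaternionGroup 2) :
    2 ≤ n ∧ ∃ d, E.IsS X (K n 2) d ∧ e * d + c = hh n := by
  rcases E.isR_or_isS_K hX with ⟨j, hj, h'⟩ | ⟨j, hj, d, h'⟩
  · exact absurd h'.isMulCommutative (q8_not_comm f)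
  · have h1 := isS_card h' hj
    rw [q8_card f] at h1
    obtain rfl : j = 2 := by
      have := Nat.pow_right_injective le_rfl (show 2 ^ 3 = 2 ^ (j + 1) from h1)
      omega
    have hn : 1 ≤ n := by omega
    refine ⟨hj, d, h', (sq_cases hn he hc d).resolve_left fun hd => ?_⟩
    refine E.r_ne_s _ _ (q8_unique_involution f ((h'.r_mem _).2 (hh_mem_K (by decide))) h'.self_mem
      ?_ ?_ ?_ (E.s_ne_one d))
    · rw [E.r_mul_r, hh_add_hh hn, E.r_zero]
    · rw [E.s_mul_self, hd, E.r_zero]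
    · rw [Ne, E.r_eq_one]; exact hh_ne_zero hn

/-- subgroups with a nontrivial automorphism of odd order are four-groups or quaternion of
order `8` -/
theorem oddAut_cases (E : MC S n e c) (hn : 1 ≤ n) (he : Tw n e) (hc : c ∈ K n 1)
    {X : Subgroup G} (hX : X ≤ S) {φ : G → G} (hφ : OddAut X φ) (hne : ∃ x ∈ X, φ x ≠ x) :
    (∃ d, E.IsS X (K n 1) d ∧ e * d + c = 0) ∨
      (2 ≤ n ∧ ∃ d, E.IsS X (K n 2) d ∧ e * d + c = hh n) := by
  obtain ⟨x, hx, hne⟩ := hne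
  rcases E.isR_or_isS_K hX with ⟨j, hj, h⟩ | ⟨j, hj, d, h⟩
  · obtain rfl := h.unique (E.isR_zpowers_K hj)
    exact absurd (hφ.fix_zpowers (mem_zpowers _) (E.r_pow_two_pow _) (hφ.mem _ (mem_zpowers _))
      x hx) hne
  have hg : (2 : ZMod (2 ^ n)) ^ (n - j) ∈ K n j := two_pow_mem_K.2 (by omega)
  have hgX := (h.r_mem _).2 hg
  have hC := E.isR_zpowers_K hj
  have ho := hφ.orderOf_eq hgX
  rw [E.orderOf_r_gen hj] at ho
  rcases h.cases (hφ.mem _ hgX) with ⟨a, ha, e1⟩ | ⟨a, ha, e1⟩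
  · exfalso
    refine hne (hφ.fix_of_index_two (E.isPGroup.to_le hX) (hC.le_isS h le_rfl) le_rfl
      (hφ.fix_zpowers hgX (E.r_pow_two_pow _) (e1 ▸ (hC.r_mem a).2 ha)) hφ.mem ?_ x hx)
    intro u hu v hv hu' hv'
    rcases h.cases hu with ⟨a, ha, rfl⟩ | ⟨a, ha, rfl⟩
    · exact absurd ((hC.r_mem a).2 ha) hu'
    rcases h.cases hv with ⟨b, hb, rfl⟩ | ⟨b, hb, rfl⟩
    · exact absurd ((hC.r_mem b).2 hb) hv'
    rw [E.s_inv_mul_s, hC.r_mem]
    refine sig_mem_K e _ ?_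
    convert sub_mem hb ha using 1; ring
  · rw [e1] at ho
    rcases sq_cases hn he hc a with h0 | h0
    · rw [E.orderOf_s_two.2 h0] at ho
      obtain rfl : 1 = j := Nat.pow_right_injective le_rfl (show 2 ^ 1 = 2 ^ j from ho)
      exact Or.inl ⟨a, h.change ha, h0⟩
    · rw [E.orderOf_s_of_eq_hh hn h0] at ho
      obtain rfl : 2 = j := Nat.pow_right_injective le_rfl (show 2 ^ 2 = 2 ^ j from ho)
      exact Or.inr ⟨hj, a, h.change ha, h0⟩

theorem hasOdd_cases (E : MC S n e c) (hn : 1 ≤ n) (he : Tw n e) (hc : c ∈ K n 1)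
    {X : Subgroup G} (hX : X ≤ S) (h : HasOdd X) :
    (∃ d, E.IsS X (K n 1) d ∧ e * d + c = 0) ∨
      (2 ≤ n ∧ ∃ d, E.IsS X (K n 2) d ∧ e * d + c = hh n) := by
  obtain ⟨φ, hφ, hne⟩ := h.exists_oddAut
  exact E.oddAut_cases hn he hc hX hφ hne

/-- four-subgroups are self-centralizing -/
theorem inf_centralizer_four (he : Tw n e) {X : Subgroup G} {d : ZMod (2 ^ n)}
    (h : E.IsS X (K n 1) d) : S ⊓ centralizer (X : Set G) = X := by
  refine Ext2.IsS.unique ⟨inf_le_left, fun a => ?_, fun a => ?_⟩ h (d := d) (by simp)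
  · simp only [mem_inf, E.r_mem, true_and, h.r_mem_centralizer, he.sig_eq_self]
  · simp only [mem_inf, E.s_mem, true_and, h.s_mem_centralizer, he.sig_eq_self]
    exact ⟨fun h => h.2, fun h => ⟨fun _ h => h, h⟩⟩

theorem isR_inf_centralizer (he : Tw n e) {X : Subgroup G} {j : ℕ} {d : ZMod (2 ^ n)}
    (h : E.IsS X (K n j) d) (hj : 2 ≤ j) (hn : 2 ≤ n) :
    E.IsR (S ⊓ centralizer (X : Set G)) (K n 1) := by
  refine ⟨inf_le_left, fun a => ?_, fun a => ?_⟩
  · simp only [mem_inf, E.r_mem, true_and, h.r_mem_centralizer, he.sig_eq_self]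
  · simp only [mem_inf, E.s_mem, true_and, h.s_mem_centralizer, he.sig_eq_self, not_and]
    intro h
    exact absurd (h _ (qq_mem_K hj)) (qq_not_mem_K_one hn)

end MC

end H22
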