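import Mathlib
import Cfsg.Prelude.Def_Transfer
import Cfsg.Agent.H22.SylIn

/-!
# Alperin's fusion theorem (working form), control of fusion and normal complements
-/

set_option autoImplicit false

namespace H22

open Subgroup
open scoped commutatorElement

variable {G : Type*} [Group G] {p : ℕ} [Fact p.Prime] [Finite G]

/-- Every subgroup `A ≤ P` has a conjugate `X = h A h⁻¹ ≤ P` that is fully normalized, with
`h N_P(A) h⁻¹ ≤ P`. -/
theorem exists_cj_fullyNormalized (P : Sylow p G) (A : Subgroup G) :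
    ∃ h : G, cj h ((P : Subgroup G) ⊓ normalizer (A : Set G)) ≤ P ∧
      SylIn p ((P : Subgroup G) ⊓ normalizer (cj h A : Set G)) (normalizer (cj h A : Set G)) := by
  obtain ⟨T, hT, hle⟩ := exists_sylIn (p := p) (R := (P : Subgroup G) ⊓ normalizer (A : Set G))
    (H := normalizer (A : Set G)) inf_le_right P.isPGroup'.to_inf_left
  obtain ⟨h, hh⟩ := sylow_exists_cj_le P hT.isPGroup
  refine ⟨h, (cj_mono hle).trans hh, ?_⟩
  have h1 := hT.cj h
  rw [cj_normalizer] at h1
  have h2 := h1.2.2 ((P : Subgroup G) ⊓ normalizer (cj h A : Set G)) inf_le_right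
    P.isPGroup'.to_inf_left (le_inf hh h1.le)
  rwa [h2]

/-- If `X ≤ P` is fully normalized and `B ≤ P` is conjugate to `X`, then some conjugation maps
`B` to `X` and `N_P(B)` into `P`. -/
theorem exists_cj_onto_fullyNormalized (P : Sylow p G) {X B : Subgroup G}
    (hX : SylIn p ((P : Subgroup G) ⊓ normalizer (X : Set G)) (normalizer (X : Set G)))
    {g : G} (hg : cj g B = X) :
    ∃ h : G, cj h B = X ∧ cj h ((P : Subgroup G) ⊓ normalizer (B : Set G)) ≤ P := by
  have h1 : cj g ((P : Subgroup G) ⊓ normalizer (B : Set G)) ≤ normalizer (X : Set G) := by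
    rw [← hg, ← cj_normalizer]; exact cj_mono inf_le_right
  obtain ⟨n, hn, hle⟩ := hX.exists_cj_le h1 (isPGroup_cj P.isPGroup'.to_inf_left g)
  refine ⟨n * g, by rw [cj_mul, hg, cj_eq_iff.2 hn], ?_⟩
  rw [cj_mul]; exact hle.trans inf_le_left

/-- fully normalized subgroups are fully centralized -/
theorem sylIn_centralizer_of_fullyNormalized {P X : Subgroup G}
    (hX : SylIn p (P ⊓ normalizer (X : Set G)) (normalizer (X : Set G))) :
    SylIn p (P ⊓ centralizer (X : Set G)) (centralizer (X : Set G)) := by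
  have := hX.inf_normal (centralizer_le_normalizer (X : Set G))
    (normalizer_le_normalizer_centralizer X)
  rwa [inf_assoc, inf_of_le_right (centralizer_le_normalizer (X : Set G))] at this

/-- **Alperin's fusion theorem**, as an induction principle for properties of conjugation maps
between subgroups of a Sylow subgroup `P`. -/
theorem alperin (P : Sylow p G) (Good : Subgroup G → G → Prop)
    (hres : ∀ A B g, A ≤ B → Good B g → Good A g)
    (hmul : ∀ A g h, Good A g → Good (cj g A) h → Good A (h * g))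
    (hinv : ∀ A g, Good A g → Good (cj g A) g⁻¹)
    (hcent : ∀ (A : Subgroup G) g c, c ∈ centralizer (A : Set G) → Good A g → Good A (g * c))
    (hP : ∀ s ∈ P, Good P s)
    (hX : ∀ X : Subgroup G, X ≤ P → (P : Subgroup G) ⊓ centralizer (X : Set G) ≤ X →
      SylIn p ((P : Subgroup G) ⊓ normalizer (X : Set G)) (normalizer (X : Set G)) →
      (∃ g ∈ normalizer (X : Set G), Nat.Coprime (orderOf g) p ∧ g ∉ centralizer (X : Set G)) →
      ∀ g ∈ normalizer (X : Set G), Good X g)
    (A : Subgroup G) (hA : A ≤ P) (g : G) (hg : cj g A ≤ P) : Good A g := by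
  -- strong induction on the index of `A`
  induction hn : Nat.card G - Nat.card A using Nat.strong_induction_on generalizing A g with
  | _ n ih =>
  have ih' : ∀ B : Subgroup G, Nat.card A < Nat.card B → B ≤ P → ∀ g : G, cj g B ≤ P →
      Good B g := by
    intro B hB hBP g hg
    have : Nat.card B ≤ Nat.card G := card_le_card_group B
    exact ih _ (by omega) B hBP g hg rfl
  -- the key case: `X` fully normalized of the same order as `A`
  have key : ∀ X : Subgroup G, Nat.card X = Nat.card A → X ≤ P →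
      SylIn p ((P : Subgroup G) ⊓ normalizer (X : Set G)) (normalizer (X : Set G)) →
      ∀ m ∈ normalizer (X : Set G), Good X m := by
    intro X hXA hXP hXs m hm
    by_cases hc : (P : Subgroup G) ⊓ centralizer (X : Set G) ≤ X
    · by_cases he : ∃ g ∈ normalizer (X : Set G), Nat.Coprime (orderOf g) p ∧
          g ∉ centralizer (X : Set G)
      · exact hX X hXP hc hXs he m hm
      · push Not at he
        obtain ⟨q, hq, k, hk, rfl⟩ := hXs.exists_mul_of_coprime_mem
          (centralizer_le_normalizer (X : Set G)) (normalizer_le_normalizer_centralizer X) he hm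
        exact hcent X q k hk (hres X P q hXP (hP q hq.1))
    · have hC := sylIn_centralizer_of_fullyNormalized hXs
      obtain ⟨k, hk, hmk⟩ := hC.frattini' (normalizer_le_normalizer_centralizer X) hm
      set Y := X ⊔ ((P : Subgroup G) ⊓ centralizer (X : Set G)) with hY
      have hXY : X < Y := lt_of_le_of_ne le_sup_left fun e => hc (le_sup_right.trans e.ge)
      have hYP : Y ≤ P := sup_le hXP inf_le_left
      have hmkY : m * k ∈ normalizer (Y : Set G) :=
        mem_normalizer_sup (mul_mem hm (centralizer_le_normalizer _ hk)) hmk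
      have h1 : Good Y (m * k) := ih' Y (hXA ▸ H2.card_lt_of_lt hXY) hYP _
        (by rw [cj_eq_iff.2 hmkY]; exact hYP)
      have h2 := hcent X (m * k) k⁻¹ (inv_mem hk) (hres X Y _ hXY.le h1)
      rwa [mul_inv_cancel_right] at h2
  by_cases hAP : A = P
  · subst hAP
    refine key _ rfl le_rfl ?_ g (cj_eq_iff.1 (cj_eq_of_le hg))
    rw [inf_of_le_left le_normalizer]
    exact sylIn_of_sylow_le P le_normalizer
  have hAP' : A < P := lt_of_le_of_ne hA hAP
  obtain ⟨h, hh1, hh2⟩ := exists_cj_fullyNormalized P A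
  have hlt := lt_inf_normalizer P.isPGroup' hAP'
  have gA : Good A h := hres _ _ h hlt.le (ih' _ (H2.card_lt_of_lt hlt) inf_le_left h hh1)
  have hXP : cj h A ≤ P := (cj_mono hlt.le).trans hh1
  obtain ⟨h', hh'1, hh'2⟩ := exists_cj_onto_fullyNormalized P hh2 (B := cj g A) (g := h * g⁻¹)
    (by rw [cj_mul, cj_inv_cj])
  have hBP' : cj g A < P := lt_of_le_of_ne hg fun e => hAP (eq_of_le_of_card_ge hA
    (by rw [← e, card_cj]))
  have hlt' := lt_inf_normalizer P.isPGroup' hBP'
  have gB : Good (cj g A) h' := hres _ _ h' hlt'.le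
    (ih' _ (by rw [← card_cj g A]; exact H2.card_lt_of_lt hlt') inf_le_left h' hh'2)
  have hm : h' * g * h⁻¹ ∈ normalizer (cj h A : Set G) := by
    rw [← cj_eq_iff, cj_mul, cj_mul, cj_inv_cj, hh'1]
  have gm := key (cj h A) (card_cj h A) hXP hh2 _ hm
  have g1 := hmul A h _ gA gm
  have g2 := hinv _ _ gB
  have e1 : h' * g * h⁻¹ * h = h' * g := by group
  rw [e1] at g1
  rw [← cj_mul] at g2
  have g3 := hmul A _ _ g1 g2
  rwa [inv_mul_cancel_left] at g3

/-- Alperin's fusion theorem for an equivalence relation on elements. -/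
theorem alperin_rel (P : Sylow p G) (R : G → G → Prop)
    (hsymm : ∀ a b, R a b → R b a) (htrans : ∀ a b c, R a b → R b c → R a c)
    (hP : ∀ a ∈ P, ∀ s ∈ P, R a (s * a * s⁻¹))
    (hX : ∀ X : Subgroup G, X ≤ P → (P : Subgroup G) ⊓ centralizer (X : Set G) ≤ X →
      SylIn p ((P : Subgroup G) ⊓ normalizer (X : Set G)) (normalizer (X : Set G)) →
      (∃ g ∈ normalizer (X : Set G), Nat.Coprime (orderOf g) p ∧ g ∉ centralizer (X : Set G)) →
      ∀ g ∈ normalizer (X : Set G), ∀ a ∈ X, R a (g * a * g⁻¹))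
    {a : G} (ha : a ∈ P) {g : G} (hg : g * a * g⁻¹ ∈ P) : R a (g * a * g⁻¹) := by
  refine alperin P (fun A g => ∀ a ∈ A, R a (g * a * g⁻¹)) ?_ ?_ ?_ ?_ ?_ hX (zpowers a)
    (zpowers_le.2 ha) g (by rw [cj_zpowers]; exact zpowers_le.2 hg) a (mem_zpowers a)
  · intro A B g hAB h a ha; exact h a (hAB ha)
  · intro A g h h1 h2 a ha
    have := htrans _ _ _ (h1 a ha) (h2 _ (conj_mem_cj ha))
    convert this using 1; group
  · intro A g h1 b hb
    have := hsymm _ _ (h1 _ (mem_cj.1 hb))
    convert this using 1 <;> group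
  · intro A g c hc h a ha
    have h1 : a * c = c * a := mem_centralizer_iff.1 hc a ha
    have := h a ha
    convert this using 1
    calc g * c * a * (g * c)⁻¹ = g * (c * a) * c⁻¹ * g⁻¹ := by group
      _ = g * a * g⁻¹ := by rw [← h1]; group
  · intro s hs a ha; exact hP a ha s hs

/-- Alperin's fusion theorem for an equivalence relation on subgroups. -/
theorem alperin_subgroup_rel (P : Sylow p G) (R : Subgroup G → Subgroup G → Prop)
    (hsymm : ∀ a b, R a b → R b a) (htrans : ∀ a b c, R a b → R b c → R a c)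
    (hP : ∀ A : Subgroup G, A ≤ P → ∀ s ∈ P, R A (cj s A))
    (hX : ∀ X : Subgroup G, X ≤ P → (P : Subgroup G) ⊓ centralizer (X : Set G) ≤ X →
      SylIn p ((P : Subgroup G) ⊓ normalizer (X : Set G)) (normalizer (X : Set G)) →
      (∃ g ∈ normalizer (X : Set G), Nat.Coprime (orderOf g) p ∧ g ∉ centralizer (X : Set G)) →
      ∀ g ∈ normalizer (X : Set G), ∀ A : Subgroup G, A ≤ X → R A (cj g A))
    {A : Subgroup G} (hA : A ≤ P) {g : G} (hg : cj g A ≤ P) : R A (cj g A) := by
  refine alperin P (fun B g => ∀ A : Subgroup G, A ≤ B → R A (cj g A)) ?_ ?_ ?_ ?_ ?_ hX A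
    hA g hg A le_rfl
  · intro A B g hAB h a ha; exact h a (ha.trans hAB)
  · intro A g h h1 h2 a ha
    have := htrans _ _ _ (h1 a ha) (h2 _ (cj_mono ha))
    rwa [← cj_mul] at this
  · intro A g h1 B hB
    have := hsymm _ _ (h1 (cj g⁻¹ B) (by rw [← cj_inv_cj g A]; exact cj_mono hB))
    rwa [cj_cj_inv] at this
  · intro A g c hc h B hB
    have := h B hB
    rwa [cj_mul, cj_eq_iff.2 (centralizer_le_normalizer _ (centralizer_le hB hc))]
  · intro s hs A hA; exact hP A hA s hs

/-- The focal subgroup is contained in `F` as soon as the local data are. -/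
theorem commutator_inf_le_of_local (P : Sylow p G) (F : Subgroup G)
    (hP : ∀ a ∈ P, ∀ s ∈ P, a⁻¹ * (s * a * s⁻¹) ∈ F)
    (hX : ∀ X : Subgroup G, X ≤ P → (P : Subgroup G) ⊓ centralizer (X : Set G) ≤ X →
      SylIn p ((P : Subgroup G) ⊓ normalizer (X : Set G)) (normalizer (X : Set G)) →
      (∃ g ∈ normalizer (X : Set G), Nat.Coprime (orderOf g) p ∧ g ∉ centralizer (X : Set G)) →
      ∀ g ∈ normalizer (X : Set G), ∀ a ∈ X, a⁻¹ * (g * a * g⁻¹) ∈ F) :
    commutator G ⊓ P ≤ F := by
  rw [commutator_inf_eq_focalSubgroup, focalSubgroup_def, closure_le]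
  rintro _ ⟨hg, x, hx, u, rfl⟩
  have h1 : u * x⁻¹ * u⁻¹ ∈ P := by
    have : u * x⁻¹ * u⁻¹ = x⁻¹ * ⁅x, u⁆ := by rw [commutatorElement_def]; group
    rw [this]; exact mul_mem (inv_mem hx) hg
  have := alperin_rel P (fun a b => a⁻¹ * b ∈ F) ?_ ?_ hP hX (inv_mem hx) h1
  · rw [SetLike.mem_coe, commutatorElement_def]
    convert this using 1; group
  · intro a b h; simpa using inv_mem h
  · intro a b c h1 h2; simpa [mul_assoc] using mul_mem h1 h2

end H22
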