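import Mathlib
import Cfsg.Agent.H22.Ext2

/-!
# More on `Ext2`: commutator subgroup, centre
-/

set_option autoImplicit false

namespace H22

open Subgroup
open scoped commutatorElement

variable {G : Type*} [Group G]

theorem map_center_eq (Q : Subgroup G) :
    (center Q).map Q.subtype = Q ⊓ centralizer (Q : Set G) := by
  ext x
  constructor
  · rintro ⟨y, hy, rfl⟩
    refine ⟨y.2, mem_centralizer_iff.2 fun g hg => ?_⟩
    exact congrArg Subtype.val (mem_center_iff.1 hy ⟨g, hg⟩)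
  · rintro ⟨h1, h2⟩
    exact ⟨⟨x, h1⟩, mem_center_iff.2 fun g => Subtype.ext (mem_centralizer_iff.1 h2 g g.2), rfl⟩

theorem mem_map_center {Q : Subgroup G} {x : G} :
    x ∈ (center Q).map Q.subtype ↔ x ∈ Q ∧ ∀ g ∈ Q, g * x = x * g := by
  rw [map_center_eq, mem_inf, mem_centralizer_iff]; rfl

theorem center_eq_top_inf : center G = ⊤ ⊓ centralizer ((⊤ : Subgroup G) : Set G) := by
  rw [top_inf_eq, coe_top, centralizer_univ]

theorem index_eq_of_card {H : Subgroup G} [Finite G] {k : ℕ} (h : Nat.card G = k * Nat.card H) :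
    H.index = k := by
  have h1 := H.index_mul_card
  rw [h] at h1
  exact Nat.eq_of_mul_eq_mul_right Nat.card_pos h1

theorem relIndex_eq_of_card {H K : Subgroup G} [Finite G] {k : ℕ} (hle : H ≤ K)
    (h : Nat.card K = k * Nat.card H) : H.relIndex K = k := by
  have h1 := H2.card_mul_relIndex hle
  rw [h, mul_comm] at h1
  exact Nat.eq_of_mul_eq_mul_right Nat.card_pos h1

namespace Ext2
variable {S : Subgroup G} {A : Type} [AddCommGroup A] {σ : A →+ A} {c : A} (E : Ext2 S A σ c)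

theorem conj_r {g : G} (hg : g ∈ S) (a : A) :
    g * E.r a * g⁻¹ = E.r a ∨ g * E.r a * g⁻¹ = E.r (σ a) := by
  rcases E.cases hg with ⟨b, rfl⟩ | ⟨b, rfl⟩
  · exact Or.inl (E.r_conj_r b a)
  · exact Or.inr (E.s_conj_r b a)

theorem conj_r_ne_s {g : G} (hg : g ∈ S) (a b : A) : g * E.r a * g⁻¹ ≠ E.s b := by
  rcases E.conj_r hg a with h | h <;> rw [h] <;> exact E.r_ne_s _ _

theorem not_isConj_r_s (E : Ext2 (⊤ : Subgroup G) A σ c) (a b : A) : ¬ IsConj (E.r a) (E.s b) := by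
  rw [isConj_iff]
  rintro ⟨g, hg⟩
  exact E.conj_r_ne_s (mem_top g) a b hg

theorem commutator_r_s (a b : A) : ⁅E.r a, E.s b⁆ = E.r (a - σ a) := by
  rw [commutatorElement_def, E.r_conj_s, E.s_mul_s_inv]; congr 1; abel

theorem isR_commutator {B : AddSubgroup A} (hB : ∀ b, b ∈ B ↔ ∃ a, a - σ a = b) :
    E.IsR ⁅S, S⁆ B := by
  have h := E.isR_rsub B
  have hm : ∀ a, a - σ a ∈ B := fun a => (hB _).2 ⟨a, rfl⟩
  suffices ⁅S, S⁆ = E.rsub B from this ▸ h
  apply le_antisymm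
  · rw [commutator_le]
    intro g hg k hk
    rcases E.cases hg with ⟨a, rfl⟩ | ⟨a, rfl⟩ <;> rcases E.cases hk with ⟨b, rfl⟩ | ⟨b, rfl⟩
    · rw [commutatorElement_def, E.r_conj_r, mul_inv_cancel]; exact one_mem _
    · rw [E.commutator_r_s, h.r_mem]; exact hm a
    · rw [commutatorElement_def, E.s_conj_r, E.r_inv, E.r_mul_r, h.r_mem]
      convert neg_mem (hm b) using 1; abel
    · rw [commutatorElement_def, E.s_conj_s, E.s_mul_s_inv, h.r_mem]
      convert sub_mem (hm a) (hm b) using 1; abel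
  · refine h.le_of fun b hb => ?_
    obtain ⟨a, rfl⟩ := (hB b).1 hb
    rw [← E.commutator_r_s a 0]
    exact commutator_mem_commutator (E.r_mem a) (E.s_mem 0)

theorem isR_center {B : AddSubgroup A} (hB : ∀ b, b ∈ B ↔ σ b = b) (hne : ∃ a, σ a ≠ a) :
    E.IsR (S ⊓ centralizer (S : Set G)) B := by
  have h := E.isS_top 0
  refine ⟨inf_le_left, fun a => ?_, fun a => ?_⟩
  · simp only [mem_inf, E.r_mem, true_and, h.r_mem_centralizer, hB]
  · simp only [mem_inf, E.s_mem, true_and, h.s_mem_centralizer, not_and]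
    intro h
    obtain ⟨a, ha⟩ := hne
    exact absurd (h a trivial) ha

theorem inv_mul_conj_mem {B : AddSubgroup A} (hB : ∀ a, a - σ a ∈ B) {F : Subgroup G}
    (hF : ∀ b ∈ B, E.r b ∈ F) {a : G} (ha : a ∈ S) {s : G} (hs : s ∈ S) :
    a⁻¹ * (s * a * s⁻¹) ∈ F := by
  rcases E.cases ha with ⟨a, rfl⟩ | ⟨a, rfl⟩ <;> rcases E.cases hs with ⟨b, rfl⟩ | ⟨b, rfl⟩
  · rw [E.r_conj_r, inv_mul_cancel]; exact one_mem _
  · rw [E.s_conj_r, E.r_inv_mul_r]
    exact hF _ (by convert neg_mem (hB a) using 1; abel)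
  · rw [E.r_conj_s, E.s_inv_mul_s]
    exact hF _ (by
      convert neg_mem (hB b) using 1
      rw [add_sub_cancel_left, map_sub, E.σσ]; abel)
  · rw [E.s_conj_s, E.s_inv_mul_s]
    exact hF _ (by
      convert sub_mem (hB a) (hB b) using 1
      simp only [map_sub, map_add, E.σσ]; abel)

variable {E}

theorem IsS.ne_isR {X Y : Subgroup G} {B B' : AddSubgroup A} {d : A} (h : E.IsS X B d)
    (h' : E.IsR Y B') : X ≠ Y := fun e => h'.s_not_mem d (e ▸ h.self_mem)

theorem IsS.eq_top_of {X : Subgroup G} {B : AddSubgroup A} {d : A} (h : E.IsS X B d)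
    (hB : B = ⊤) : X = S := by
  subst hB
  exact h.unique (E.isS_top d) (by simp)

theorem IsS.sub_mem_of_eq {X Y : Subgroup G} {B B' : AddSubgroup A} {d d' : A} (h : E.IsS X B d)
    (h' : E.IsS Y B' d') (e : X ≤ Y) : d - d' ∈ B' := (h'.s_mem d).1 (e h.self_mem)

/-- the elements of `X` outside `r(B)` form a single coset -/
theorem IsS.index_two {X C : Subgroup G} {B : AddSubgroup A} {d : A} (h : E.IsS X B d)
    (hC : E.IsR C B) : ∀ u ∈ X, ∀ v ∈ X, u ∉ C → v ∉ C → u⁻¹ * v ∈ C := by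
  intro u hu v hv hu' hv'
  rcases h.cases hu with ⟨a, ha, rfl⟩ | ⟨a, ha, rfl⟩
  · exact absurd ((hC.r_mem a).2 ha) hu'
  rcases h.cases hv with ⟨b, hb, rfl⟩ | ⟨b, hb, rfl⟩
  · exact absurd ((hC.r_mem b).2 hb) hv'
  rw [E.s_inv_mul_s, hC.r_mem]
  refine h.σ_mem ?_
  convert sub_mem hb ha using 1; abel

theorem IsR.sup_isS [Finite G] {X Y Z : Subgroup G} {B B' B'' : AddSubgroup A} {d : A}
    (h : E.IsR X B) (h' : E.IsS Y B' d) (h'' : E.IsS Z B'' d) (hB : B'' = B ⊔ B') :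
    X ⊔ Y = Z := by
  subst hB
  refine le_antisymm (sup_le (h.le_isS h'' le_sup_left) (h'.le_isS h'' le_sup_right (by simp)))
    (h''.le_of (fun a ha => ?_) (mem_sup_right h'.self_mem))
  obtain ⟨b, hb, b', hb', rfl⟩ := AddSubgroup.mem_sup.1 ha
  rw [← E.r_mul_r]
  exact mul_mem (mem_sup_left ((h.r_mem b).2 hb)) (mem_sup_right ((h'.r_mem b').2 hb'))

theorem IsS.inf_isR {X Y : Subgroup G} {B B' : AddSubgroup A} {d : A} (h : E.IsS X B d)
    (h' : E.IsR Y B') : E.IsR (X ⊓ Y) (B ⊓ B') :=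
  ⟨inf_le_left.trans h.le, fun a => by simp [h.r_mem, h'.r_mem],
    fun a ha => h'.s_not_mem a ha.2⟩

end Ext2

end H22
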