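import Mathlib
import Cfsg.Prelude.Def_Transfer
import Cfsg.Agent.H2.Frattini
import Cfsg.Agent.H3.PNil
import Cfsg.Agent.H22.Alperin
import Cfsg.Agent.H22.Isolated

/-!
# Consequences of fusion control; `O^p(G)` versus the focal subgroup; counting classes
-/

set_option autoImplicit false

namespace H22

open Subgroup Cfsg
open scoped commutatorElement

section Residual
variable {G : Type*} [Group G] {p : ℕ} [Fact p.Prime] [Finite G]

theorem pResidual_inf_le_commutator (P : Sylow p G) :
    pResidual p G ⊓ P ≤ commutator G ⊓ P := by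
  rw [commutator_inf_eq_focalSubgroup, ← ker_transferFocal_inf_eq_focalSubgroup]
  exact inf_le_inf_right _ (H3.pResidual_le_ker (P.2.to_quotient _) _)

omit [Fact p.Prime] [Finite G] in
theorem eq_bot_of_le_commutator_of_nilpotent {Q P : Subgroup G} (hP : Group.IsNilpotent P)
    (hQP : Q ≤ P) (h : Q ≤ ⁅Q, P⁆) : Q = ⊥ := by
  obtain ⟨n, hn⟩ := Subgroup.nilpotent_iff_lowerCentralSeries.1 hP
  have key : ∀ k : ℕ, Q ≤ ((⊤ : Subgroup P).lowerCentralSeries k).map P.subtype := by
    intro k
    induction k with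
    | zero => intro x hx; exact ⟨⟨x, hQP hx⟩, trivial, rfl⟩
    | succ k ih =>
      rw [Subgroup.lowerCentralSeries_succ, map_commutator, ← MonoidHom.range_eq_map, range_subtype]
      exact h.trans (commutator_mono ih le_rfl)
  have := key n
  rwa [hn, Subgroup.map_bot, le_bot_iff] at this

/-- If `P` controls fusion of its elements, there is a normal `p`-complement. -/
theorem hasNPC_of_controls_fusion (P : Sylow p G)
    (h : ∀ a ∈ P, ∀ g : G, g * a * g⁻¹ ∈ P → ∃ s ∈ P, s * a * s⁻¹ = g * a * g⁻¹) :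
    HasNormalPComplement p G := by
  rw [H3.hasNPC_iff_inf_eq_bot P, inf_comm]
  set K := pResidual p G with hK
  have hs : SylIn p ((P : Subgroup G) ⊓ K) K :=
    (sylIn_top P).inf_normal le_top le_normalizer_of_normal
  have h1 : commutator K ⊓ hs.toSylow = (hs.toSylow : Subgroup K) := by
    refine le_antisymm inf_le_right ?_
    have := pResidual_inf_le_commutator hs.toSylow
    have h0 : pResidual p K = ⊤ := H3.pResidual_pResidual p G
    rwa [h0, top_inf_eq] at this
  rw [commutator_inf_eq_focalSubgroup] at h1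
  refine eq_bot_of_le_commutator_of_nilpotent P.isPGroup'.isNilpotent inf_le_left ?_
  have h2 : (hs.toSylow : Subgroup K).focalSubgroup ≤
      (⁅(P : Subgroup G) ⊓ K, (P : Subgroup G)⁆).subgroupOf K := by
    rw [focalSubgroup_def, closure_le]
    rintro _ ⟨hg, x, hx, u, rfl⟩
    have hxP : (x : G) ∈ (P : Subgroup G) ⊓ K := hx
    have hgP : ((⁅x, u⁆ : K) : G) ∈ (P : Subgroup G) ⊓ K := hg
    have h3 : (u : G) * (x : G)⁻¹ * (u : G)⁻¹ ∈ P := by
      have : (u : G) * (x : G)⁻¹ * (u : G)⁻¹ = (x : G)⁻¹ * ((⁅x, u⁆ : K) : G) := by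
        rw [commutatorElement_def]; push_cast; group
      rw [this]; exact mul_mem (inv_mem hxP.1) hgP.1
    obtain ⟨s, hsP, hs'⟩ := h _ (inv_mem hxP.1) _ h3
    have : ((⁅x, u⁆ : K) : G) = ⁅(x : G), s⁆ := by
      rw [commutatorElement_def, commutatorElement_def]; push_cast
      calc (x : G) * u * (x : G)⁻¹ * (u : G)⁻¹ = x * ((u : G) * (x : G)⁻¹ * (u : G)⁻¹) := by group
        _ = x * s * (x : G)⁻¹ * s⁻¹ := by rw [← hs']; group
    show ((⁅x, u⁆ : K) : G) ∈ ⁅(P : Subgroup G) ⊓ K, (P : Subgroup G)⁆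
    rw [this]
    exact commutator_mem_commutator hxP hsP
  rw [h1] at h2
  intro x hx
  exact h2 (x := ⟨x, hx.2⟩) hx

/-- `P` controls fusion as soon as it does so locally. -/
theorem controls_fusion_of_local (P : Sylow p G)
    (hX : ∀ X : Subgroup G, X ≤ P → (P : Subgroup G) ⊓ centralizer (X : Set G) ≤ X →
      SylIn p ((P : Subgroup G) ⊓ normalizer (X : Set G)) (normalizer (X : Set G)) →
      (∃ g ∈ normalizer (X : Set G), Nat.Coprime (orderOf g) p ∧ g ∉ centralizer (X : Set G)) →
      ∀ g ∈ normalizer (X : Set G), ∀ a ∈ X, ∃ s ∈ P, s * a * s⁻¹ = g * a * g⁻¹) :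
    ∀ a ∈ P, ∀ g : G, g * a * g⁻¹ ∈ P → ∃ s ∈ P, s * a * s⁻¹ = g * a * g⁻¹ := by
  intro a ha g hg
  refine alperin_rel P (fun a b => ∃ s ∈ P, s * a * s⁻¹ = b) ?_ ?_ ?_ hX ha hg
  · rintro a _ ⟨s, hs, rfl⟩
    exact ⟨s⁻¹, inv_mem hs, by group⟩
  · rintro a _ _ ⟨s, hs, rfl⟩ ⟨t, ht, rfl⟩
    exact ⟨t * s, mul_mem ht hs, by group⟩
  · intro a _ s hs; exact ⟨s, hs, rfl⟩

/-- Frobenius' normal `p`-complement criterion, for centric fully normalized subgroups only. -/
theorem hasNPC_of_local (P : Sylow p G)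
    (hX : ∀ X : Subgroup G, X ≤ P → (P : Subgroup G) ⊓ centralizer (X : Set G) ≤ X →
      SylIn p ((P : Subgroup G) ⊓ normalizer (X : Set G)) (normalizer (X : Set G)) →
      ∀ g ∈ normalizer (X : Set G), Nat.Coprime (orderOf g) p → g ∈ centralizer (X : Set G)) :
    HasNormalPComplement p G := by
  refine hasNPC_of_controls_fusion P (controls_fusion_of_local P ?_)
  rintro X h1 h2 h3 ⟨g, hg, hgo, hgc⟩
  exact absurd (hX X h1 h2 h3 g hg hgo) hgc

/-- If `P / (P ∩ G')` is cyclic then `G' ≤ O^p(G)`. -/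
theorem commutator_le_pResidual_of_cyclic (P : Sylow p G) {s : G}
    (h : (P : Subgroup G) ≤ commutator G ⊔ zpowers s) : commutator G ≤ pResidual p G := by
  rw [← Normal.quotient_commutative_iff_commutator_le]
  set K := pResidual p G
  have hq := H3.isPGroup_quotient_pResidual p G
  have h1 : zpowers (QuotientGroup.mk' K s) ⊔ commutator (G ⧸ K) = ⊤ := by
    have h2 : (K ⊔ (P : Subgroup G)).map (QuotientGroup.mk' K) = ⊤ := by
      rw [H3.pResidual_sup_sylow P]
      exact map_top_of_surjective _ (QuotientGroup.mk'_surjective K)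
    rw [eq_top_iff, ← h2, Subgroup.map_sup]
    refine sup_le ?_ ?_
    · rw [QuotientGroup.map_mk'_self]; exact bot_le
    · refine (map_mono h).trans ?_
      rw [Subgroup.map_sup, MonoidHom.map_zpowers, sup_comm]
      refine sup_le_sup_left ?_ _
      rw [commutator_def, map_commutator]
      exact commutator_mono le_top le_top
  have h3 := H2.eq_top_of_sup_le_frattini (H2.IsPGroup.commutator_le_frattini hq) h1
  have : IsCyclic (G ⧸ K) := isCyclic_iff_exists_zpowers_eq_top.2 ⟨_, h3⟩
  infer_instance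

theorem pResidual_inf_eq_of_cyclic (P : Sylow p G) {s : G}
    (h : (P : Subgroup G) ≤ commutator G ⊔ zpowers s) :
    pResidual p G ⊓ P = commutator G ⊓ P :=
  le_antisymm (pResidual_inf_le_commutator P)
    (inf_le_inf_right _ (commutator_le_pResidual_of_cyclic P h))

omit [Finite G] in
theorem index_eq_relIndex_of_sup_eq_top {K P : Subgroup G} [K.Normal] (h : K ⊔ P = ⊤) :
    K.index = (K ⊓ P).relIndex P := by
  rw [inf_relIndex_right, ← relIndex_sup_left, h, relIndex_top_right]

theorem index_pResidual_eq (P : Sylow p G) :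
    (pResidual p G).index = (pResidual p G ⊓ P).relIndex P :=
  index_eq_relIndex_of_sup_eq_top (H3.pResidual_sup_sylow P)

/-- Sylow subgroups of a normal subgroup are isomorphic to `K ⊓ P`. -/
theorem sylow_normal_equiv (P : Sylow p G) (K : Subgroup G) [K.Normal] (R : Sylow p K) :
    Nonempty ((R : Subgroup K) ≃* ↥(K ⊓ (P : Subgroup G))) := by
  have hs : SylIn p ((P : Subgroup G) ⊓ K) K :=
    (sylIn_top P).inf_normal le_top le_normalizer_of_normal
  refine ⟨(Sylow.equiv R hs.toSylow).trans ((subgroupOfEquivOfLe hs.le).trans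
    (MulEquiv.subgroupCongr (inf_comm _ _)))⟩

theorem pResidual_two_eq_top_iff {G : Type*} [Group G] [Finite G] :
    pResidual 2 G = ⊤ ↔ ∀ H : Subgroup G, H.index ≠ 2 := by
  constructor
  · intro h H hH
    have : H.Normal := normal_of_index_eq_two hH
    have h1 : pResidual 2 G ≤ H := H3.pResidual_le_of_index_dvd_pow (k := 1) H (by simp [hH])
    rw [h, top_le_iff] at h1
    rw [h1, index_top] at hH
    exact absurd hH (by decide)
  · intro h
    by_contra hne
    have hq := H3.isPGroup_quotient_pResidual 2 G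
    have : Nontrivial (G ⧸ pResidual 2 G) := by
      rw [QuotientGroup.nontrivial_iff]; exact hne
    obtain ⟨M, hM, -⟩ := (eq_top_or_exists_le_coatom (⊥ : Subgroup (G ⧸ pResidual 2 G))).resolve_left
      bot_ne_top
    have := H2.IsPGroup.index_eq_of_isCoatom hq hM
    exact h (M.comap (QuotientGroup.mk' _))
      (by rw [index_comap_of_surjective _ (QuotientGroup.mk'_surjective _), this])

theorem pResidual_two_no_index_two (G : Type*) [Group G] [Finite G] :
    ∀ H : Subgroup (pResidual 2 G), H.index ≠ 2 :=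
  pResidual_two_eq_top_iff.1 (H3.pResidual_pResidual 2 G)

theorem no_index_two_of_sylow_le_commutator {G : Type*} [Group G] [Finite G] (P : Sylow 2 G)
    (h : (P : Subgroup G) ≤ commutator G) : ∀ H : Subgroup G, H.index ≠ 2 := by
  intro H hH
  have : H.Normal := normal_of_index_eq_two hH
  have h1 : commutator G ≤ H := H2.commutator_le_of_prime_index (hH ▸ Nat.prime_two)
  have h2 := index_dvd_of_le (h.trans h1)
  rw [hH] at h2
  exact P.not_dvd_index h2

theorem sylow_le_commutator_of_no_index_two {G : Type*} [Group G] [Finite G] (P : Sylow 2 G)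
    (h : ∀ H : Subgroup G, H.index ≠ 2) : (P : Subgroup G) ≤ commutator G := by
  have := pResidual_inf_le_commutator P
  rw [pResidual_two_eq_top_iff.2 h, top_inf_eq] at this
  exact this.trans inf_le_left

end Residual

section Classes
variable {G : Type*} [Group G]

theorem card_classes_eq_ncard (k : ℕ) (s : Set (ConjClasses G))
    (h : ∀ C, C ∈ s ↔ ∃ t : G, orderOf t = k ∧ ConjClasses.mk t = C) :
    Nat.card {C : ConjClasses G // ∃ t : G, orderOf t = k ∧ ConjClasses.mk t = C} = s.ncard := by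
  rw [← Nat.card_coe_set_eq]
  exact Nat.card_congr (Equiv.subtypeEquivRight fun C => (h C).symm)

theorem card_classes_eq_one {k : ℕ} {a : G} (ha : orderOf a = k)
    (h : ∀ t : G, orderOf t = k → IsConj t a) :
    Nat.card {C : ConjClasses G // ∃ t : G, orderOf t = k ∧ ConjClasses.mk t = C} = 1 := by
  rw [card_classes_eq_ncard k {ConjClasses.mk a}, Set.ncard_singleton]
  intro C
  constructor
  · rintro rfl; exact ⟨a, ha, rfl⟩
  · rintro ⟨t, ht, rfl⟩; exact ConjClasses.mk_eq_mk_iff_isConj.2 (h t ht)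

theorem card_classes_eq_two {k : ℕ} {a b : G} (ha : orderOf a = k) (hb : orderOf b = k)
    (hab : ¬ IsConj a b) (h : ∀ t : G, orderOf t = k → IsConj t a ∨ IsConj t b) :
    Nat.card {C : ConjClasses G // ∃ t : G, orderOf t = k ∧ ConjClasses.mk t = C} = 2 := by
  rw [card_classes_eq_ncard k {ConjClasses.mk a, ConjClasses.mk b}, Set.ncard_pair]
  · rwa [Ne, ConjClasses.mk_eq_mk_iff_isConj]
  intro C
  constructor
  · rintro (rfl | rfl)
    · exact ⟨a, ha, rfl⟩
    · exact ⟨b, hb, rfl⟩
  · rintro ⟨t, ht, rfl⟩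
    simpa only [Set.mem_insert_iff, Set.mem_singleton_iff, ConjClasses.mk_eq_mk_iff_isConj]
      using h t ht

theorem card_classes_eq_three {k : ℕ} {a b c : G} (ha : orderOf a = k) (hb : orderOf b = k)
    (hc : orderOf c = k) (hab : ¬ IsConj a b) (hac : ¬ IsConj a c) (hbc : ¬ IsConj b c)
    (h : ∀ t : G, orderOf t = k → IsConj t a ∨ IsConj t b ∨ IsConj t c) :
    Nat.card {C : ConjClasses G // ∃ t : G, orderOf t = k ∧ ConjClasses.mk t = C} = 3 := by
  rw [card_classes_eq_ncard k {ConjClasses.mk a, ConjClasses.mk b, ConjClasses.mk c}]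
  · rw [Set.ncard_eq_three]
    refine ⟨_, _, _, ?_, ?_, ?_, rfl⟩ <;> rwa [Ne, ConjClasses.mk_eq_mk_iff_isConj]
  intro C
  constructor
  · rintro (rfl | rfl | rfl)
    · exact ⟨a, ha, rfl⟩
    · exact ⟨b, hb, rfl⟩
    · exact ⟨c, hc, rfl⟩
  · rintro ⟨t, ht, rfl⟩
    simpa only [Set.mem_insert_iff, Set.mem_singleton_iff, ConjClasses.mk_eq_mk_iff_isConj]
      using h t ht

theorem isConj_of_conj_eq {a b g : G} (h : g * a * g⁻¹ = b) : IsConj a b := isConj_iff.2 ⟨g, h⟩

theorem isConj_conj (g a : G) : IsConj a (g * a * g⁻¹) := isConj_iff.2 ⟨g, rfl⟩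

theorem orderOf_eq_of_isConj {a b : G} (h : IsConj a b) : orderOf a = orderOf b := by
  obtain ⟨g, rfl⟩ := isConj_iff.1 h
  rw [orderOf_conj']

theorem mem_of_isConj_of_normal {a b : G} (K : Subgroup G) [hK : K.Normal] (h : IsConj a b)
    (ha : a ∈ K) : b ∈ K := by
  obtain ⟨g, rfl⟩ := isConj_iff.1 h
  exact hK.conj_mem a ha g

/-- every element of order `2 ^ k` is conjugate into a Sylow `2`-subgroup -/
theorem exists_isConj_mem_sylow [Finite G] {p : ℕ} [Fact p.Prime] (P : Sylow p G) {t : G} {k : ℕ}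
    (ht : orderOf t = p ^ k) : ∃ a ∈ P, orderOf a = p ^ k ∧ IsConj t a := by
  obtain ⟨g, hg⟩ := sylow_exists_conj_mem P (a := t) (k := k) (by rw [← ht, pow_orderOf_eq_one])
  exact ⟨_, hg, by rw [orderOf_conj', ht], isConj_conj g t⟩

end Classes

end H22
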