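import Mathlib
import Cfsg.Agent.H22.OddAut
import Cfsg.Agent.H22.Ext2b
import Cfsg.Agent.H22.FusionTools

/-!
# Local indices `|N(X) : X C(X)|` and focal subgroups, general lemmas
-/

set_option autoImplicit false

namespace H22

open Subgroup
open scoped commutatorElement

variable {G : Type*} [Group G]

theorem fullyNormalized_of_card [Finite G] {p : ℕ} [Fact p.Prime] (P : Sylow p G) {X : Subgroup G}
    (hX : X ≤ P) (h : ∀ g : G, cj g X ≤ P →
      Nat.card ↥((P : Subgroup G) ⊓ normalizer (cj g X : Set G)) ≤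
        Nat.card ↥((P : Subgroup G) ⊓ normalizer (X : Set G))) :
    SylIn p ((P : Subgroup G) ⊓ normalizer (X : Set G)) (normalizer (X : Set G)) := by
  obtain ⟨g, h1, h2⟩ := exists_cj_fullyNormalized P X
  have h3 := h2.cj g⁻¹
  rw [cj_normalizer, cj_inv_cj] at h3
  refine h3.of_card_ge inf_le_right P.isPGroup'.to_inf_left ?_
  rw [card_cj]
  exact h g ((cj_mono (le_inf hX le_normalizer)).trans h1)

theorem sup_centralizer_inf {X S : Subgroup G} (hX : X ≤ S)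
    (hc : S ⊓ centralizer (X : Set G) ≤ X) : (X ⊔ centralizer (X : Set G)) ⊓ S = X := by
  refine le_antisymm ?_ (le_inf le_sup_left hX)
  rintro g ⟨hg, hgS⟩
  obtain ⟨x, hx, c, hc', rfl⟩ := (mem_sup_of_le_normalizer
    (le_normalizer.trans (normalizer_le_normalizer_centralizer X))).1 hg
  exact X.mul_mem hx (hc ⟨(S.mul_mem_cancel_left (hX hx)).1 hgS, hc'⟩)

theorem sup_centralizer_of_comm {X : Subgroup G} (h : ∀ x ∈ X, ∀ y ∈ X, x * y = y * x) :
    X ⊔ centralizer (X : Set G) = centralizer (X : Set G) :=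
  sup_of_le_right fun x hx => mem_centralizer_iff.2 fun y hy => h y hy x hx

theorem relIndex_sup_centralizer {X S : Subgroup G} (hX : X ≤ S)
    (hc : S ⊓ centralizer (X : Set G) ≤ X) :
    (X ⊔ centralizer (X : Set G)).relIndex (S ⊓ normalizer (X : Set G)) =
      X.relIndex (S ⊓ normalizer (X : Set G)) := by
  rw [← inf_relIndex_right, ← inf_assoc, sup_centralizer_inf hX hc, inf_of_le_left le_normalizer]

/-- version of `relIndex_two_or_six` for a section `X / ⟨z⟩` -/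
theorem relIndex_two_or_six' [Finite G] (P : Sylow 2 G) {X : Subgroup G} {z a b : G} (hX : X ≤ P)
    (hc : (P : Subgroup G) ⊓ centralizer (X : Set G) ≤ X)
    (hP : SylIn 2 ((P : Subgroup G) ⊓ normalizer (X : Set G)) (normalizer (X : Set G)))
    (hidx : X.relIndex ((P : Subgroup G) ⊓ normalizer (X : Set G)) = 2)
    (hz : z ∈ X) (h₀ : normalizer (X : Set G) ≤ normalizer (zpowers z : Set G))
    (ha : a ∈ X) (hb : b ∈ X) (ha₀ : a ∉ zpowers z) (hb₀ : b ∉ zpowers z)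
    (hcov : ∀ x ∈ X, x ∈ zpowers z ∨ a⁻¹ * x ∈ zpowers z ∨ b⁻¹ * x ∈ zpowers z ∨
      (a * b)⁻¹ * x ∈ zpowers z)
    (hinn : ∀ y ∈ X, ∀ x ∈ X, x⁻¹ * (y * x * y⁻¹) ∈ zpowers z)
    (hK2 : ∀ g ∈ P, (∀ x ∈ X, x⁻¹ * (g * x * g⁻¹) ∈ zpowers z) → g ∈ X) :
    ((X ⊔ centralizer (X : Set G)).relIndex (normalizer (X : Set G)) = 2 ∧ ¬ HasOdd X) ∨
    ((X ⊔ centralizer (X : Set G)).relIndex (normalizer (X : Set G)) = 6 ∧ HasOdd X) := by
  have hX2 : IsPGroup 2 X := P.isPGroup'.to_le hX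
  refine relIndex_two_or_six hX2 le_rfl le_rfl h₀ ha hb ha₀ hb₀ hcov hinn hP
    (by rw [relIndex_sup_centralizer hX hc, hidx]) (fun g hg h => mem_sup_left (hK2 g hg.1 h))
    fun φ hφ h x hx => ?_
  obtain ⟨k, hk⟩ := isPGroup_iff_forall_mem.1 hX2 z hz
  refine hφ.fix_of_stable hX2 (zpowers_le.2 hz) (hφ.fix_zpowers hz hk ?_) hx (h x hx)
  exact ((zpowers z).mul_mem_cancel_left (inv_mem (mem_zpowers z))).1 (h z hz)

theorem mem_of_odd_of_eq_mul [Finite G] {K : Subgroup G} {s c : G} {k : ℕ}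
    (hs : s ∈ normalizer (K : Set G)) (hc : c ∈ K) (hk : s ^ 2 ^ k = 1)
    (ho : Nat.Coprime (orderOf (s * c)) 2) : s * c ∈ K := by
  have key : ∀ m : ℕ, (s ^ m)⁻¹ * (s * c) ^ m ∈ K := by
    intro m
    induction m with
    | zero => simp
    | succ m ih =>
      have := K.mul_mem (conj_mem_of_mem_normalizer' hs ih) hc
      convert this using 1
      rw [pow_succ, pow_succ]; group
  refine H3.mem_of_pow_mem_of_coprime (m := 2 ^ k) ?_ (ho.pow_right k)
  simpa [hk] using key (2 ^ k)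

theorem not_hasOdd_of_le_sup [Finite G] {X P₀ : Subgroup G} (hP : IsPGroup 2 P₀)
    (hPN : P₀ ≤ normalizer (X : Set G))
    (h : normalizer (X : Set G) ≤ P₀ ⊔ centralizer (X : Set G)) : ¬ HasOdd X := by
  rintro ⟨g, hg, ho, hc⟩
  have h1 := hPN.trans (normalizer_le_normalizer_centralizer X)
  obtain ⟨s, hs, c, hc', rfl⟩ := (mem_sup_of_le_normalizer h1).1 (h hg)
  obtain ⟨k, hk⟩ := isPGroup_iff_forall_mem.1 hP s hs
  exact hc (mem_of_odd_of_eq_mul (h1 hs) hc' hk ho)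

theorem normalizer_eq_sup_of_not_hasOdd [Finite G] {X P₀ : Subgroup G} (h : ¬ HasOdd X)
    (hP : SylIn 2 P₀ (normalizer (X : Set G))) :
    normalizer (X : Set G) = centralizer (X : Set G) ⊔ P₀ := by
  refine le_antisymm (fun g hg => ?_) (sup_le (centralizer_le_normalizer _) hP.le)
  obtain ⟨s, hs, c, hc, rfl⟩ := exists_mul_of_not_hasOdd h hP hg
  exact mul_mem (mem_sup_right hs) (mem_sup_left hc)

theorem inv_mul_mem_commutator_of_isConj {a b : G} (h : IsConj a b) : a⁻¹ * b ∈ commutator G := by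
  obtain ⟨g, rfl⟩ := isConj_iff.1 h
  have : a⁻¹ * (g * a * g⁻¹) = ⁅a⁻¹, g⁆ := by rw [commutatorElement_def]; group
  rw [this]
  exact commutator_mem_commutator trivial trivial

theorem not_isConj_of_not_mem {a b : G} {S F : Subgroup G} (h : commutator G ⊓ S ≤ F)
    (ha : a ∈ S) (hb : b ∈ S) (hab : a⁻¹ * b ∉ F) : ¬ IsConj a b := fun hc =>
  hab (h ⟨inv_mul_mem_commutator_of_isConj hc, S.mul_mem (S.inv_mem ha) hb⟩)

/-- the focal subgroup lies in `F` if `F` contains `P'` and all subgroups of `P` with an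
automizer of non-`2`-power order -/
theorem commutator_inf_le_of_hasOdd [Finite G] (P : Sylow 2 G) (F : Subgroup G)
    (hP : ∀ a ∈ P, ∀ s ∈ P, a⁻¹ * (s * a * s⁻¹) ∈ F)
    (hX : ∀ X : Subgroup G, X ≤ P → (P : Subgroup G) ⊓ centralizer (X : Set G) ≤ X →
      HasOdd X → X ≤ F) : commutator G ⊓ P ≤ F :=
  commutator_inf_le_of_local P F hP fun X h1 h2 _ h4 _ hg _ ha =>
    hX X h1 h2 h4 (X.mul_mem (X.inv_mem ha) (conj_mem_of_mem_normalizer hg ha))

theorem hasNPC_of_not_hasOdd [Finite G] (P : Sylow 2 G)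
    (hX : ∀ X : Subgroup G, X ≤ P → (P : Subgroup G) ⊓ centralizer (X : Set G) ≤ X →
      ¬ HasOdd X) : Cfsg.HasNormalPComplement 2 G := by
  refine hasNPC_of_local P fun X h1 h2 _ g hg ho => ?_
  by_contra hc
  exact hX X h1 h2 ⟨g, hg, ho, hc⟩

theorem not_hasOdd_of_hasNPC [Finite G] (h : Cfsg.HasNormalPComplement 2 G) {X : Subgroup G}
    (hX : IsPGroup 2 X) : ¬ HasOdd X := by
  rintro ⟨g, hg, ho, hc⟩
  exact hc (H3.HasNPC.mem_centralizer h hX hg ho)

/-- Summary of the situation where the focal subgroup `F` has cyclic quotient. -/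
theorem pResidual_data [Finite G] (P : Sylow 2 G) {F : Subgroup G} (hF : commutator G ⊓ P = F)
    {s : G} (hs : (P : Subgroup G) ≤ F ⊔ zpowers s) :
    Cfsg.pResidual 2 G ⊓ P = F ∧ (Cfsg.pResidual 2 G).index = F.relIndex P ∧
      ∀ R : Sylow 2 (Cfsg.pResidual 2 G), Nonempty ((R : Subgroup (Cfsg.pResidual 2 G)) ≃* F) := by
  have h1 : Cfsg.pResidual 2 G ⊓ P = F := by
    rw [pResidual_inf_eq_of_cyclic P (s := s) (hs.trans (sup_le_sup_right (hF ▸ inf_le_left) _)), hF]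
  refine ⟨h1, by rw [index_pResidual_eq P, h1], fun R => ?_⟩
  rw [← h1]
  exact sylow_normal_equiv P _ R

namespace Ext2
variable {S : Subgroup G} {A : Type} [AddCommGroup A] {σ : A →+ A} {c : A} {E : Ext2 S A σ c}

theorem IsS.inv_mul_conj_mem {X F : Subgroup G} {B : AddSubgroup A} {d : A} (h : E.IsS X B d)
    (hF : ∀ b ∈ B, E.r (b - σ b) ∈ F) {y : G} (hy : y ∈ X) {x : G} (hx : x ∈ X) :
    x⁻¹ * (y * x * y⁻¹) ∈ F := by
  rcases h.cases hx with ⟨a, ha, rfl⟩ | ⟨a, ha, rfl⟩ <;>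
    rcases h.cases hy with ⟨b, hb, rfl⟩ | ⟨b, hb, rfl⟩
  · rw [E.r_conj_r, inv_mul_cancel]; exact one_mem _
  · rw [E.s_conj_r, E.r_inv_mul_r]
    convert hF _ (neg_mem ha) using 2
    rw [map_neg]; abel
  · rw [E.r_conj_s, E.s_inv_mul_s]
    convert hF _ (neg_mem hb) using 2
    rw [add_sub_cancel_left, map_sub, E.σσ, map_neg]; abel
  · rw [E.s_conj_s, E.s_inv_mul_s]
    convert hF _ (sub_mem ha hb) using 2
    simp only [map_sub, map_add, E.σσ]; abel

theorem IsS.mem_of_inv_mul_conj_mem {X F : Subgroup G} {B B₀ : AddSubgroup A} {d : A}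
    (h : E.IsS X B d) (hF : E.IsR F B₀) (hB : ∀ b, b - σ b ∈ B₀ → b ∈ B) {g : G} (hg : g ∈ S)
    (e : (E.s d)⁻¹ * (g * E.s d * g⁻¹) ∈ F) : g ∈ X := by
  rcases E.cases hg with ⟨b, rfl⟩ | ⟨b, rfl⟩
  · rw [E.r_conj_s, E.s_inv_mul_s, hF.r_mem] at e
    rw [h.r_mem]
    apply hB
    convert neg_mem e using 1
    rw [add_sub_cancel_left, map_sub, E.σσ]; abel
  · rw [E.s_conj_s, E.s_inv_mul_s, hF.r_mem] at e
    rw [h.s_mem]
    apply hB
    convert neg_mem e using 1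
    simp only [map_sub, map_add, E.σσ]; abel

/-- the covering of `X = r(B) ∪ s(d + B)` by four cosets of `r(B₀)`, when `|B : B₀| = 2` -/
theorem IsS.cover {X F : Subgroup G} {B B₀ : AddSubgroup A} {d a : A} (h : E.IsS X B d)
    (hF : E.IsR F B₀) (hσ : ∀ b ∈ B₀, σ b ∈ B₀) (hB : ∀ b ∈ B, b ∈ B₀ ∨ b - a ∈ B₀) :
    ∀ x ∈ X, x ∈ F ∨ (E.r a)⁻¹ * x ∈ F ∨ (E.s d)⁻¹ * x ∈ F ∨ (E.r a * E.s d)⁻¹ * x ∈ F := by
  intro x hx
  rcases h.cases hx with ⟨b, hb, rfl⟩ | ⟨b, hb, rfl⟩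
  · rcases hB b hb with h1 | h1
    · exact Or.inl ((hF.r_mem b).2 h1)
    · exact Or.inr (Or.inl (by rwa [E.r_inv_mul_r, hF.r_mem]))
  · rcases hB _ hb with h1 | h1
    · exact Or.inr (Or.inr (Or.inl (by rw [E.s_inv_mul_s, hF.r_mem]; exact hσ _ h1)))
    · refine Or.inr (Or.inr (Or.inr ?_))
      rw [E.r_mul_s, E.s_inv_mul_s, hF.r_mem]
      refine hσ _ ?_
      convert h1 using 1; abel

end Ext2

end H22
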