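import Mathlib
import Cfsg.Agent.H2.Frattini
import Cfsg.Agent.H22.MC
import Cfsg.Agent.H22.Ext2b
import Cfsg.Agent.H22.FusionTools

/-!
# Semidihedral 2-groups
-/

set_option autoImplicit false

namespace H22

open Subgroup

variable {G : Type*} [Group G] {n : ℕ}

namespace MC
variable {S : Subgroup G} {e c : ZMod (2 ^ n)} (E : MC S n e c)

theorem isR_commutator_K (he : Tw n e) (hn : 1 ≤ n) : E.IsR ⁅S, S⁆ (K n (n - 1)) := by
  refine E.isR_commutator fun b => ⟨he.exists_sub_sig hn, ?_⟩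
  rintro ⟨a, rfl⟩
  exact he.sub_sig_mem_K.2 (mem_K_of_le (by omega) a)

theorem isR_center_K (he : Tw n e) (hn : 2 ≤ n) : E.IsR (S ⊓ centralizer (S : Set G)) (K n 1) :=
  E.isR_center (fun _ => he.sig_eq_self.symm)
    ⟨1, fun h => one_not_mem_K (by omega) (he.sig_eq_self.1 h)⟩

theorem r_hh_central (he : Tw n e) {g : G} (hg : g ∈ S) : g * E.r (hh n) * g⁻¹ = E.r (hh n) := by
  rcases E.conj_r hg (hh n) with h | h
  · exact h
  · rw [h, he.sig_eq_self.2 (hh_mem_K le_rfl)]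

theorem inv_mul_conj_mem_K (he : Tw n e) {F : Subgroup G} (hF : ∀ b ∈ K n (n - 1), E.r b ∈ F)
    {a : G} (ha : a ∈ S) {s : G} (hs : s ∈ S) : a⁻¹ * (s * a * s⁻¹) ∈ F :=
  E.inv_mul_conj_mem (fun a => he.sub_sig_mem_K.2 (mem_K_of_le (by omega) a)) hF ha hs

end MC

theorem tw_hh (hn : 3 ≤ n) : Tw n (hh n) := Or.inr ⟨hn, rfl⟩
theorem tw_zero : Tw n 0 := Or.inl rfl

namespace SD
variable {S : Subgroup G} (E : MC S n (hh n) 0)

theorem sq_zero_iff {a : ZMod (2 ^ n)} : hh n * a + 0 = 0 ↔ a ∈ K n (n - 1) := by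
  rw [add_zero]; rfl

theorem sq_hh_iff (hn : 1 ≤ n) {a : ZMod (2 ^ n)} : hh n * a + 0 = hh n ↔ a ∉ K n (n - 1) := by
  rw [add_zero]
  refine ⟨fun h h' => hh_ne_zero hn (h.symm.trans h'), hh_mul_of_not_mem hn⟩

theorem sub_mem_of_odd {a b : ZMod (2 ^ n)} (ha : a ∉ K n (n - 1)) (hb : b ∉ K n (n - 1)) :
    a - b ∈ K n (n - 1) :=
  sub_mem_K_of_not_mem (mem_K_of_le (by omega) a) (mem_K_of_le (by omega) b) ha hb

theorem orderOf_s_zero : orderOf (E.s 0) = 2 := E.orderOf_s_two.2 (by simp)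

theorem orderOf_s_one (hn : 3 ≤ n) : orderOf (E.s 1) = 4 :=
  E.orderOf_s_of_eq_hh (by omega) (by simp)

theorem orderOf_r_hh (hn : 3 ≤ n) : orderOf (E.r (hh n)) = 2 := (E.orderOf_r_two (by omega)).2 rfl

theorem orderOf_r_qq (hn : 3 ≤ n) : orderOf (E.r (qq n)) = 4 :=
  (E.orderOf_r_four (by omega)).2 (Or.inl rfl)

theorem involution_cases (hn : 3 ≤ n) {t : G} (ht : t ∈ S) (ho : orderOf t = 2) :
    t = E.r (hh n) ∨ ∃ a ∈ K n (n - 1), t = E.s a := by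
  rcases E.cases ht with ⟨a, rfl⟩ | ⟨a, rfl⟩
  · exact Or.inl (by rw [(E.orderOf_r_two (by omega)).1 ho])
  · exact Or.inr ⟨a, sq_zero_iff.1 (E.orderOf_s_two.1 ho), rfl⟩

theorem four_cases (hn : 3 ≤ n) {t : G} (ht : t ∈ S) (ho : orderOf t = 4) :
    (t = E.r (qq n) ∨ t = E.r (-qq n)) ∨ ∃ a ∉ K n (n - 1), t = E.s a := by
  rcases E.cases ht with ⟨a, rfl⟩ | ⟨a, rfl⟩
  · rcases (E.orderOf_r_four (by omega)).1 ho with rfl | rfl
    · exact Or.inl (Or.inl rfl)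
    · exact Or.inl (Or.inr rfl)
  · exact Or.inr ⟨a, (sq_hh_iff (by omega)).1
      ((E.orderOf_s_four (by omega) (tw_hh hn) (zero_mem _)).1 ho), rfl⟩

theorem isConj_s_even (hn : 3 ≤ n) {a : ZMod (2 ^ n)} (ha : a ∈ K n (n - 1)) :
    IsConj (E.s a) (E.s 0) := by
  obtain ⟨b, hb⟩ := E.s_conj (tw_hh hn) (by omega) (d := a) (d' := 0) (by simpa using ha)
  exact isConj_of_conj_eq hb

theorem isConj_s_odd (hn : 3 ≤ n) {a : ZMod (2 ^ n)} (ha : a ∉ K n (n - 1)) :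
    IsConj (E.s a) (E.s 1) := by
  obtain ⟨b, hb⟩ := E.s_conj (tw_hh hn) (by omega) (d := a) (d' := 1)
    (sub_mem_of_odd (one_not_mem_K (by omega)) ha)
  exact isConj_of_conj_eq hb

theorem isConj_r_neg_qq (hn : 3 ≤ n) : IsConj (E.r (-qq n)) (E.r (qq n)) := by
  refine isConj_of_conj_eq (g := E.s 0) ?_
  rw [E.s_conj_r, (tw_hh hn).sig_eq_neg (neg_mem (qq_mem_K (by omega))), neg_neg]

theorem involution_isConj (hn : 3 ≤ n) {t : G} (ht : t ∈ S) (ho : orderOf t = 2) :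
    IsConj t (E.r (hh n)) ∨ IsConj t (E.s 0) := by
  rcases involution_cases E hn ht ho with rfl | ⟨a, ha, rfl⟩
  · exact Or.inl (IsConj.refl _)
  · exact Or.inr (isConj_s_even E hn ha)

theorem four_isConj (hn : 3 ≤ n) {t : G} (ht : t ∈ S) (ho : orderOf t = 4) :
    IsConj t (E.r (qq n)) ∨ IsConj t (E.s 1) := by
  rcases four_cases E hn ht ho with (rfl | rfl) | ⟨a, ha, rfl⟩
  · exact Or.inl (IsConj.refl _)
  · exact Or.inl (isConj_r_neg_qq E hn)
  · exact Or.inr (isConj_s_odd E hn ha)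

theorem exists_dih : ∃ D, E.IsS D (K n (n - 1)) 0 := E.exists_isS_K 0 (by simp)

theorem exists_quat (hn : 3 ≤ n) : ∃ Y, E.IsS Y (K n (n - 1)) 1 :=
  E.exists_isS_K 1 (by simpa using hh_mem_K (by omega))

variable {E}

theorem dih_equiv (hn : 3 ≤ n) {D : Subgroup G} (h : E.IsS D (K n (n - 1)) 0) :
    Nonempty (D ≃* DihedralGroup (2 ^ (n - 1))) :=
  MC.isS_equiv_dihedral h (by omega) (by simp) fun _ ha => ha

theorem quat_equiv (hn : 3 ≤ n) {Y : Subgroup G} (h : E.IsS Y (K n (n - 1)) 1) :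
    Nonempty (Y ≃* QuaternionGroup (2 ^ (n - 2))) := by
  have e : n - 1 = n - 2 + 1 := by omega
  refine MC.isS_equiv_quaternion (e ▸ h) (by omega) (by simp) fun a ha => ?_
  rwa [← e] at ha

theorem four_conj (hn : 3 ≤ n) {T₁ T₂ : Subgroup G} {d₁ d₂ : ZMod (2 ^ n)}
    (h₁ : E.IsS T₁ (K n 1) d₁) (h₂ : E.IsS T₂ (K n 1) d₂) (e₁ : hh n * d₁ + 0 = 0)
    (e₂ : hh n * d₂ + 0 = 0) : ∃ b, cj (E.r b) T₁ = T₂ :=
  MC.isS_conj (tw_hh hn) (by omega) h₁ h₂ (sub_mem (sq_zero_iff.1 e₂) (sq_zero_iff.1 e₁))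

theorem q8_conj (hn : 3 ≤ n) {T₁ T₂ : Subgroup G} {d₁ d₂ : ZMod (2 ^ n)}
    (h₁ : E.IsS T₁ (K n 2) d₁) (h₂ : E.IsS T₂ (K n 2) d₂) (e₁ : hh n * d₁ + 0 = hh n)
    (e₂ : hh n * d₂ + 0 = hh n) : ∃ b, cj (E.r b) T₁ = T₂ :=
  MC.isS_conj (tw_hh hn) (by omega) h₁ h₂
    (sub_mem_of_odd ((sq_hh_iff (by omega)).1 e₂) ((sq_hh_iff (by omega)).1 e₁))

end SD

section Statements
variable {S : Type*} [Group S] [Finite S]

theorem sd_classes (hS : Cfsg.IsQuasiDihedral S) :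
    Nat.card {C : ConjClasses S // ∃ t : S, orderOf t = 2 ∧ ConjClasses.mk t = C} = 2 ∧
    Nat.card {C : ConjClasses S // ∃ t : S, orderOf t = 4 ∧ ConjClasses.mk t = C} = 2 := by
  obtain ⟨n, hn, ⟨E⟩⟩ := exists_MC_top_of_isQuasiDihedral hS
  exact ⟨card_classes_eq_two (SD.orderOf_r_hh E hn) (SD.orderOf_s_zero E) (E.not_isConj_r_s _ _)
      fun t ht => SD.involution_isConj E hn (mem_top t) ht,
    card_classes_eq_two (SD.orderOf_r_qq E hn) (SD.orderOf_s_one E hn) (E.not_isConj_r_s _ _)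
      fun t ht => SD.four_isConj E hn (mem_top t) ht⟩

theorem sd_four (hS : Cfsg.IsQuasiDihedral S) :
    (∀ T₁ T₂ : Subgroup S, IsKleinFour T₁ → IsKleinFour T₂ → ∃ s : S, cj s T₁ = T₂) ∧
    (∀ T : Subgroup S, IsKleinFour T → centralizer (T : Set S) = T ∧
      T.relIndex (normalizer (T : Set S)) = 2) := by
  obtain ⟨n, hn, ⟨E⟩⟩ := exists_MC_top_of_isQuasiDihedral hS
  refine ⟨fun T₁ T₂ h₁ h₂ => ?_, fun T h => ?_⟩
  · obtain ⟨-, d₁, h₁, e₁⟩ := E.exists_isS_of_isKleinFour le_top h₁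
    obtain ⟨-, d₂, h₂, e₂⟩ := E.exists_isS_of_isKleinFour le_top h₂
    obtain ⟨b, hb⟩ := SD.four_conj hn h₁ h₂ e₁ e₂
    exact ⟨_, hb⟩
  · obtain ⟨-, d, h, -⟩ := E.exists_isS_of_isKleinFour le_top h
    have h1 := MC.inf_centralizer_four (tw_hh hn) h
    have h2 := MC.isS_relIndex_normalizer (tw_hh hn) h (by omega)
    rw [top_inf_eq] at h1 h2
    exact ⟨h1, h2⟩

theorem sd_q8 (hS : Cfsg.IsQuasiDihedral S) :
    (∀ Q₁ Q₂ : Subgroup S, Nonempty (Q₁ ≃* QuaternionGroup 2) → Nonempty (Q₂ ≃* QuaternionGroup 2) →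
      ∃ s : S, cj s Q₁ = Q₂) ∧
    (∀ Q : Subgroup S, Nonempty (Q ≃* QuaternionGroup 2) →
      centralizer (Q : Set S) = (center Q).map Q.subtype ∧
        Q.relIndex (normalizer (Q : Set S)) = 2) := by
  obtain ⟨n, hn, ⟨E⟩⟩ := exists_MC_top_of_isQuasiDihedral hS
  refine ⟨fun T₁ T₂ ⟨h₁⟩ ⟨h₂⟩ => ?_, fun T ⟨h⟩ => ?_⟩
  · obtain ⟨-, d₁, h₁, e₁⟩ := E.exists_isS_of_q8 (tw_hh hn) (zero_mem _) le_top h₁
    obtain ⟨-, d₂, h₂, e₂⟩ := E.exists_isS_of_q8 (tw_hh hn) (zero_mem _) le_top h₂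
    obtain ⟨b, hb⟩ := SD.q8_conj hn h₁ h₂ e₁ e₂
    exact ⟨_, hb⟩
  · obtain ⟨-, d, h, -⟩ := E.exists_isS_of_q8 (tw_hh hn) (zero_mem _) le_top h
    have h1 := MC.isR_inf_centralizer (tw_hh hn) h le_rfl (by omega)
    have h2 := MC.isS_relIndex_normalizer (tw_hh hn) h (by omega)
    rw [top_inf_eq] at h1 h2
    refine ⟨?_, h2⟩
    rw [map_center_eq, inf_of_le_right (h1.le_isS h (K_mono (by decide)))]

omit [Finite S] in
theorem sd_param {m n : ℕ} {e c : ZMod (2 ^ m)} (E : MC (⊤ : Subgroup S) m e c)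
    (hn : Nat.card S = 2 ^ (n + 1)) : m = n := by
  have := E.card
  rw [card_top, hn] at this
  have := Nat.pow_right_injective le_rfl this
  omega

theorem isCoatom_of_card {m : ℕ} (hn : Nat.card S = 2 ^ (m + 1)) {M : Subgroup S}
    (h : Nat.card M = 2 ^ m) : IsCoatom M :=
  H2.isCoatom_of_index_prime (by
    rw [index_eq_of_card (k := 2) (by rw [hn, h, pow_succ'])]; exact Nat.prime_two)

theorem card_of_isCoatom {m : ℕ} (hn : Nat.card S = 2 ^ (m + 1)) {M : Subgroup S}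
    (h : IsCoatom M) : Nat.card M = 2 ^ m := by
  have h1 := H2.IsPGroup.index_eq_of_isCoatom (IsPGroup.of_card hn) h
  have h2 := M.index_mul_card
  rw [h1, hn, pow_succ'] at h2
  omega

theorem sd_maximal (hS : Cfsg.IsQuasiDihedral S) (n : ℕ) (hn : Nat.card S = 2 ^ (n + 1)) :
    ∃ M₁ M₂ M₃ : Subgroup S, IsCoatom M₁ ∧ IsCoatom M₂ ∧ IsCoatom M₃ ∧ M₁ ≠ M₂ ∧ M₁ ≠ M₃ ∧
      M₂ ≠ M₃ ∧ (∀ M : Subgroup S, IsCoatom M → M = M₁ ∨ M = M₂ ∨ M = M₃) ∧ IsCyclic M₁ ∧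
      Nonempty (M₂ ≃* QuaternionGroup (2 ^ (n - 2))) ∧
      Nonempty (M₃ ≃* DihedralGroup (2 ^ (n - 1))) := by
  obtain ⟨m, hm, ⟨E⟩⟩ := exists_MC_top_of_isQuasiDihedral hS
  obtain rfl := sd_param E hn
  have h₁ := E.isR_zpowers_K (j := m) le_rfl
  obtain ⟨D, hD⟩ := SD.exists_dih E
  obtain ⟨Y, hY⟩ := SD.exists_quat E hm
  have e : m - 1 + 1 = m := by omega
  refine ⟨_, Y, D, isCoatom_of_card hn (MC.isR_card h₁ le_rfl),
    isCoatom_of_card hn (by rw [MC.isS_card hY (by omega), e]),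
    isCoatom_of_card hn (by rw [MC.isS_card hD (by omega), e]), (hY.ne_isR h₁).symm,
    (hD.ne_isR h₁).symm, fun h => ?_, fun M hM => ?_, inferInstance, SD.quat_equiv hm hY,
    SD.dih_equiv hm hD⟩
  · exact one_not_mem_K (n := m) (j := m - 1) (by omega) (by simpa using hY.sub_mem_of_eq hD h.le)
  · have hc := card_of_isCoatom hn hM
    rcases E.isR_or_isS_K (X := M) le_top with ⟨j, hj, h⟩ | ⟨j, hj, d, h⟩
    · rw [MC.isR_card h hj] at hc
      obtain rfl := Nat.pow_right_injective le_rfl hc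
      exact Or.inl (h.unique h₁)
    · rw [MC.isS_card h hj] at hc
      obtain rfl : j = m - 1 := by have := Nat.pow_right_injective le_rfl hc; omega
      by_cases hd : d ∈ K m (m - 1)
      · exact Or.inr (Or.inr (h.unique hD (by simpa using hd)))
      · exact Or.inr (Or.inl (h.unique hY (SD.sub_mem_of_odd hd (one_not_mem_K (by omega)))))

theorem sd_derived (hS : Cfsg.IsQuasiDihedral S) (n : ℕ) (hn : Nat.card S = 2 ^ (n + 1)) :
    commutator S = frattini S ∧ IsCyclic (commutator S) ∧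
      Nat.card (commutator S) = 2 ^ (n - 1) ∧ Nat.card (center S) = 2 ∧
      Nonempty (↥(closure {x : S | orderOf x = 2}) ≃* DihedralGroup (2 ^ (n - 1))) := by
  obtain ⟨m, hm, ⟨E⟩⟩ := exists_MC_top_of_isQuasiDihedral hS
  obtain rfl := sd_param E hn
  have h₁ : E.IsR (commutator S) (K m (m - 1)) := E.isR_commutator_K (tw_hh hm) (by omega)
  have h₂ := E.isR_center_K (tw_hh hm) (by omega)
  obtain ⟨D, hD⟩ := SD.exists_dih E
  refine ⟨?_, MC.isR_isCyclic h₁ (by omega), MC.isR_card h₁ (by omega), ?_, ?_⟩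
  · rw [H2.IsPGroup.frattini_eq (IsPGroup.of_card hn), left_eq_sup, closure_le]
    rintro _ ⟨x, rfl⟩
    show x ^ 2 ∈ commutator S
    rcases E.cases (mem_top x) with ⟨a, rfl⟩ | ⟨a, rfl⟩
    · rw [sq, E.r_mul_r, h₁.r_mem, ← two_mul]; exact two_mul_mem_K_pred a
    · rw [sq, E.s_mul_self, h₁.r_mem, add_zero]; exact mem_K_mul (hh_mem_K (by omega)) a
  · rw [center_eq_top_inf, MC.isR_card h₂ (by omega), pow_one]
  · suffices closure {x : S | orderOf x = 2} = D from this ▸ SD.dih_equiv hm hD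
    apply le_antisymm
    · rw [closure_le]
      intro t ht
      rcases SD.involution_cases E hm (mem_top t) ht with rfl | ⟨a, ha, rfl⟩
      · exact (hD.r_mem _).2 (hh_mem_K (by omega))
      · exact (hD.s_mem _).2 (by simpa using ha)
    · have hs : ∀ a ∈ K m (m - 1), E.s a ∈ closure {x : S | orderOf x = 2} := fun a ha =>
        subset_closure (E.orderOf_s_two.2 (SD.sq_zero_iff.2 ha))
      refine hD.le_of (fun a ha => ?_) (hs 0 (zero_mem _))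
      have := mul_mem (hs a ha) (inv_mem (hs 0 (zero_mem _)))
      rwa [E.s_mul_s_inv, sub_zero] at this

theorem sd_normal (hS : Cfsg.IsQuasiDihedral S) (N : Subgroup S) [N.Normal] (hN : N ≠ ⊤) :
    IsCoatom N ∨ (IsCyclic N ∧ N ≤ commutator S) := by
  obtain ⟨m, hm, ⟨E⟩⟩ := exists_MC_top_of_isQuasiDihedral hS
  have hn := E.card
  rw [card_top] at hn
  have h₁ : E.IsR (commutator S) (K m (m - 1)) := E.isR_commutator_K (tw_hh hm) (by omega)
  rcases E.isR_or_isS_K (X := N) le_top with ⟨j, hj, h⟩ | ⟨j, hj, d, h⟩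
  · rcases hj.eq_or_lt with rfl | hj'
    · exact Or.inl (isCoatom_of_card hn (MC.isR_card h le_rfl))
    · exact Or.inr ⟨MC.isR_isCyclic h hj, h.le_isR h₁ (K_mono (by omega))⟩
  · left
    have h2 : E.r 1 ∈ normalizer (N : Set S) := by rw [normalizer_eq_top]; trivial
    rw [h.r_mem_normalizer, (tw_hh hm).sub_sig_mem_K] at h2
    have h3 : m ≤ j + 1 := by
      by_contra h3
      exact one_not_mem_K (by omega) h2
    rcases hj.eq_or_lt with rfl | hj'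
    · exact absurd (h.eq_top_of K_self) hN
    · exact isCoatom_of_card hn (by rw [MC.isS_card h hj]; congr 1; omega)

end Statements

end H22
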