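import Mathlib
import Cfsg.Agent.H22.SD
import Cfsg.Agent.H22.LocalIdx

/-!
# Fusion in groups with dihedral, quaternion or semidihedral Sylow 2-subgroups
-/

set_option autoImplicit false
set_option linter.unusedSectionVars false

namespace H22

open Subgroup

variable {G : Type*} [Group G] {n : ℕ}

theorem odd_of_coprime_two {m : ℕ} (h : Nat.Coprime m 2) : Odd m := Nat.coprime_two_right.1 h

theorem kleinFour_eq_mul {X : Subgroup G} (hX : IsKleinFour X) {x y t : G} (hx : x ∈ X)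
    (hy : y ∈ X) (ht : t ∈ X) (hx1 : x ≠ 1) (hy1 : y ≠ 1) (hxy : x ≠ y) (ht1 : t ≠ 1)
    (htx : t ≠ x) (hty : t ≠ y) : t = x * y :=
  congrArg Subtype.val (IsKleinFour.eq_mul_of_ne_all (G := X) (x := ⟨x, hx⟩) (y := ⟨y, hy⟩)
    (z := ⟨t, ht⟩) (fun h => hx1 (congrArg Subtype.val h)) (fun h => hy1 (congrArg Subtype.val h))
    (fun h => hxy (congrArg Subtype.val h)) (fun h => ht1 (congrArg Subtype.val h))
    (fun h => htx (congrArg Subtype.val h)) (fun h => hty (congrArg Subtype.val h)))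

theorem OddAut.fix_kleinFour {X : Subgroup G} {φ : G → G} (hφ : OddAut X φ) (hX : IsKleinFour X)
    {t : G} (ht : t ∈ X) (ht1 : t ≠ 1) (e : φ t = t) : ∀ x ∈ X, φ x = x := by
  have hC : ∀ c ∈ zpowers t, φ c = c := by
    rintro _ ⟨k, rfl⟩
    rw [hφ.zpow ht, e]
  refine hφ.fix_of_index_two (isPGroup_of_kleinFour hX) (zpowers_le.2 ht) le_rfl hC hφ.mem ?_
  intro x hx y hy hx' hy'
  by_cases hxy : x = y
  · rw [hxy, inv_mul_cancel]; exact one_mem _
  have hx1 : x ≠ 1 := fun h => hx' (h ▸ one_mem _)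
  have hy1 : y ≠ 1 := fun h => hy' (h ▸ one_mem _)
  have := kleinFour_eq_mul hX hx hy ht hx1 hy1 hxy ht1 (fun h => hx' (h ▸ mem_zpowers t))
    (fun h => hy' (h ▸ mem_zpowers t))
  rw [inv_eq_of_mul_eq_one_right (kleinFour_mul_self hX hx), ← this]
  exact mem_zpowers t

theorem OddAut.kleinFour_trans {X : Subgroup G} {φ : G → G} (hφ : OddAut X φ) (hX : IsKleinFour X)
    (hne : ∃ x ∈ X, φ x ≠ x) {x y : G} (hx : x ∈ X) (hy : y ∈ X) (hx1 : x ≠ 1) (hy1 : y ≠ 1) :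
    y = x ∨ y = φ x ∨ y = φ (φ x) := by
  obtain ⟨u, hu, hne⟩ := hne
  have h1 : φ x ≠ x := fun e => hne (hφ.fix_kleinFour hX hx hx1 e u hu)
  have h2 : φ x ∈ X := hφ.mem x hx
  have h3 : φ x ≠ 1 := fun e => hx1 ((hφ.eq_one_iff hx).1 e)
  by_contra! h
  have e1 := kleinFour_eq_mul hX hx h2 hy hx1 h3 h1.symm hy1 h.1 h.2.1
  have e2 := kleinFour_eq_mul hX hx h2 (hφ.mem _ h2) hx1 h3 h1.symm
    (fun e => h3 ((hφ.eq_one_iff h2).1 e)) (fun e => h1 (hφ.fix_of_sq hx e))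
    (fun e => h1 (hφ.injOn h2 hx e))
  exact h.2.2 (e1.trans e2.symm)

theorem HasOdd.exists_conj {X : Subgroup G} (h : HasOdd X) :
    ∃ g ∈ normalizer (X : Set G), OddAut X (fun x => g * x * g⁻¹) ∧
      ∃ x ∈ X, g * x * g⁻¹ ≠ x := by
  obtain ⟨g, hg, ho, hc⟩ := h
  refine ⟨g, hg, oddAut_conj hg (odd_of_coprime_two ho), ?_⟩
  by_contra! h
  exact hc (mem_centralizer_of_forall_conj_eq h)

theorem HasOdd.kleinFour_conj {X : Subgroup G} (h : HasOdd X) (hX : IsKleinFour X) {x y : G}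
    (hx : x ∈ X) (hy : y ∈ X) (hx1 : x ≠ 1) (hy1 : y ≠ 1) :
    ∃ g ∈ normalizer (X : Set G), g * x * g⁻¹ = y := by
  obtain ⟨g, hg, hφ, hne⟩ := h.exists_conj
  rcases hφ.kleinFour_trans hX hne hx hy hx1 hy1 with rfl | rfl | rfl
  · exact ⟨1, one_mem _, by simp⟩
  · exact ⟨g, hg, rfl⟩
  · exact ⟨g * g, mul_mem hg hg, by group⟩

theorem HasOdd.kleinFour_isConj {X : Subgroup G} (h : HasOdd X) (hX : IsKleinFour X) {x y : G}
    (hx : x ∈ X) (hy : y ∈ X) (hx1 : x ≠ 1) (hy1 : y ≠ 1) : IsConj x y := by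
  obtain ⟨g, -, e⟩ := h.kleinFour_conj hX hx hy hx1 hy1
  exact isConj_of_conj_eq e

theorem HasOdd.map [Finite G] {G' : Type*} [Group G'] [Finite G'] {X : Subgroup G} (h : HasOdd X)
    (f : G →* G') (hf : Function.Injective f) : HasOdd (X.map f) := by
  obtain ⟨g, hg, ho, hc⟩ := h
  refine ⟨f g, le_normalizer_map f (mem_map_of_mem f hg), by rwa [orderOf_injective f hf], ?_⟩
  intro h
  refine hc (mem_centralizer_iff.2 fun x hx => hf ?_)
  rw [map_mul, map_mul]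
  exact mem_centralizer_iff.1 h _ (mem_map_of_mem f hx)

theorem eq_two_pow_of_dihedral {S : Type*} [Group S] [Finite S] (hS : IsPGroup 2 S) {m : ℕ}
    (hm : 2 ≤ m) (e : S ≃* DihedralGroup m) : ∃ n, 1 ≤ n ∧ m = 2 ^ n := by
  obtain ⟨k, hk⟩ := IsPGroup.iff_card.1 hS
  rw [Nat.card_congr e.toEquiv, DihedralGroup.nat_card] at hk
  obtain ⟨j, -, hj⟩ := (Nat.dvd_prime_pow Nat.prime_two).1 (Dvd.intro_left 2 hk)
  refine ⟨j, Nat.pos_of_ne_zero ?_, hj⟩
  rintro rfl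
  omega

theorem exists_MC_of_dihedral' [Finite G] (P : Sylow 2 G) {m : ℕ} (hm : 2 ≤ m)
    (e : (P : Subgroup G) ≃* DihedralGroup m) : ∃ n, 1 ≤ n ∧ Nonempty (MC (P : Subgroup G) n 0 0) := by
  obtain ⟨n, hn, rfl⟩ := eq_two_pow_of_dihedral P.isPGroup' hm e
  exact ⟨n, hn, exists_MC_of_dihedral n e⟩

namespace MC
section
variable {S : Subgroup G} {e c : ZMod (2 ^ n)} {E : MC S n e c}

theorem oddAut_moves {X : Subgroup G} {j : ℕ} {d : ZMod (2 ^ n)} (h : E.IsS X (K n j) d)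
    (hj : j ≤ n) {φ : G → G} (hφ : OddAut X φ) (hne : ∃ x ∈ X, φ x ≠ x) :
    ∃ a, a - d ∈ K n j ∧ φ (E.r (2 ^ (n - j))) = E.s a := by
  obtain ⟨x, hx, hne⟩ := hne
  have hg : (2 : ZMod (2 ^ n)) ^ (n - j) ∈ K n j := two_pow_mem_K.2 (by omega)
  have hgX := (h.r_mem _).2 hg
  have hC := E.isR_zpowers_K hj
  rcases h.cases (hφ.mem _ hgX) with ⟨a, ha, e1⟩ | ⟨a, ha, e1⟩
  · exact absurd (hφ.fix_of_index_two (E.isPGroup.to_le h.le) (hC.le_isS h le_rfl) le_rfl
      (hφ.fix_zpowers hgX (E.r_pow_two_pow _) (e1 ▸ (hC.r_mem a).2 ha)) hφ.mem (h.index_two hC)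
      x hx) hne
  · exact ⟨a, ha, e1⟩

theorem hasOdd_moves {X : Subgroup G} {j : ℕ} {d : ZMod (2 ^ n)} (h : E.IsS X (K n j) d)
    (hj : j ≤ n) (ho : HasOdd X) :
    ∃ a, a - d ∈ K n j ∧ IsConj (E.r (2 ^ (n - j))) (E.s a) := by
  obtain ⟨g, -, hφ, hne⟩ := ho.exists_conj
  obtain ⟨a, ha, e⟩ := oddAut_moves h hj hφ hne
  exact ⟨a, ha, isConj_of_conj_eq e⟩

theorem conj_mem_of_K (he : Tw n e) {F : Subgroup G} (hF : ∀ b ∈ K n (n - 1), E.r b ∈ F)
    {a : G} (haS : a ∈ S) (ha : a ∈ F) {s : G} (hs : s ∈ S) : s * a * s⁻¹ ∈ F :=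
  (F.mul_mem_cancel_left (F.inv_mem ha)).1 (E.inv_mul_conj_mem_K he hF haS hs)

theorem r_mem_commutator (E : MC S n e c) (he : Tw n e) (hn : 1 ≤ n) {b : ZMod (2 ^ n)}
    (hb : b ∈ K n (n - 1)) : E.r b ∈ commutator G :=
  commutator_mono le_top le_top (((E.isR_commutator_K he hn).r_mem b).2 hb)

theorem le_of_s_zero_one (E : MC S n e c) {F : Subgroup G} (h0 : E.s 0 ∈ F) (h1 : E.s 1 ∈ F) :
    S ≤ F := by
  have h2 : E.r 1 ∈ F := by simpa [E.s_mul_s_inv] using F.mul_mem h1 (F.inv_mem h0)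
  refine (E.isS_top 0).le_of (fun a _ => ?_) h0
  obtain ⟨a, rfl⟩ := ZMod.natCast_zmod_surjective a
  simpa [E.r_pow] using F.pow_mem h2 a

end

variable [Finite G] {P : Sylow 2 G} {e c : ZMod (2 ^ n)} {E : MC (P : Subgroup G) n e c}

theorem isS_fullyNormalized (he : Tw n e) {X : Subgroup G} {j : ℕ} {d : ZMod (2 ^ n)}
    (h : E.IsS X (K n j) d) (hj : j ≤ n) (hnc : ¬ IsCyclic X) :
    SylIn 2 ((P : Subgroup G) ⊓ normalizer (X : Set G)) (normalizer (X : Set G)) := by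
  refine fullyNormalized_of_card P h.le fun g hg => ?_
  rcases E.isR_or_isS_K hg with ⟨i, hi, h'⟩ | ⟨i, hi, d', h'⟩
  · have := isR_isCyclic h' hi
    exact absurd (isCyclic_of_surjective _ (cjEquiv g X).symm.surjective) hnc
  · have h1 := isS_card h' hi
    rw [card_cj, isS_card h hj] at h1
    obtain rfl : j = i := by have := Nat.pow_right_injective le_rfl h1; omega
    rw [(isS_normalizer he h').card, (isS_normalizer he h).card]

theorem isS_index (he : Tw n e) {X : Subgroup G} {j : ℕ} {d : ZMod (2 ^ n)}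
    (h : E.IsS X (K n (j + 1)) d) (hj : j + 2 ≤ n) (hnc : ¬ IsCyclic X)
    (hc : (P : Subgroup G) ⊓ centralizer (X : Set G) ≤ X)
    (h₀ : normalizer (X : Set G) ≤ normalizer (zpowers (E.r (2 ^ (n - j))) : Set G)) :
    ((X ⊔ centralizer (X : Set G)).relIndex (normalizer (X : Set G)) = 2 ∧ ¬ HasOdd X) ∨
    ((X ⊔ centralizer (X : Set G)).relIndex (normalizer (X : Set G)) = 6 ∧ HasOdd X) := by
  have hZ := E.isR_zpowers_K (j := j) (by omega)
  have ha : (2 : ZMod (2 ^ n)) ^ (n - (j + 1)) ∈ K n (j + 1) := two_pow_mem_K.2 (by omega)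
  have ha' : (2 : ZMod (2 ^ n)) ^ (n - (j + 1)) ∉ K n j := by rw [two_pow_mem_K]; omega
  refine relIndex_two_or_six' P (a := E.r (2 ^ (n - (j + 1)))) (b := E.s d) h.le hc
    (isS_fullyNormalized he h (by omega) hnc) (isS_relIndex_normalizer he h hj)
    ((h.r_mem _).2 (two_pow_mem_K.2 (by omega))) h₀ ((h.r_mem _).2 ha) h.self_mem
    (by rwa [hZ.r_mem]) (hZ.s_not_mem d) (h.cover hZ (sig_mem_K e) fun b hb => ?_)
    (fun y hy x hx => h.inv_mul_conj_mem (fun b hb => ?_) hy hx)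
    fun g hg H => h.mem_of_inv_mul_conj_mem hZ (fun b => he.sub_sig_mem_K.1) hg (H _ h.self_mem)
  · by_cases hb' : b ∈ K n j
    · exact Or.inl hb'
    · exact Or.inr (sub_mem_K_of_not_mem hb ha hb' ha')
  · rw [hZ.r_mem]; exact he.sub_sig_mem_K.2 hb

theorem four_index (he : Tw n e) (hn : 2 ≤ n) {X : Subgroup G} {d : ZMod (2 ^ n)}
    (h : E.IsS X (K n 1) d) (hX : IsKleinFour X) :
    ((centralizer (X : Set G)).relIndex (normalizer (X : Set G)) = 2 ∧ ¬ HasOdd X) ∨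
    ((centralizer (X : Set G)).relIndex (normalizer (X : Set G)) = 6 ∧ HasOdd X) := by
  have := isS_index (j := 0) he h hn IsKleinFour.not_isCyclic (inf_centralizer_four he h).le (by
    rw [Nat.sub_zero, two_pow_eq_zero, E.r_zero, zpowers_one_eq_bot]
    exact fun g _ => mem_normalizer_of_conj_mem fun a ha => by rw [mem_bot.1 ha]; simp)
  rwa [sup_centralizer_of_comm fun x hx y hy => kleinFour_comm hX hx hy] at this

theorem q8_index (he : Tw n e) (hn : 3 ≤ n) {X : Subgroup G} {d : ZMod (2 ^ n)}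
    (h : E.IsS X (K n 2) d) (f : X ≃* QuaternionGroup 2) :
    ((X ⊔ centralizer (X : Set G)).relIndex (normalizer (X : Set G)) = 2 ∧ ¬ HasOdd X) ∨
    ((X ⊔ centralizer (X : Set G)).relIndex (normalizer (X : Set G)) = 6 ∧ HasOdd X) := by
  have h1 := isR_inf_centralizer he h le_rfl (by omega)
  have h2 := h1.le_isS h (K_mono (by decide))
  refine isS_index (j := 1) he h hn (fun hc => q8_not_comm f inferInstance) h2 ?_
  have h3 : zpowers (E.r (2 ^ (n - 1))) = X ⊓ centralizer (X : Set G) := by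
    rw [(E.isR_zpowers_K (j := 1) (by omega)).unique h1]
    exact le_antisymm (le_inf h2 inf_le_right) (inf_le_inf_right _ h.le)
  rw [h3]
  exact fun g hg => mem_normalizer_inf hg (normalizer_le_normalizer_centralizer X hg)

end MC

namespace SD
variable [Finite G] {P : Sylow 2 G}

/-- the data of a semidihedral Sylow 2-subgroup with a four-subgroup and a quaternion subgroup -/
structure Data (P : Sylow 2 G) (T Q : Subgroup G) where
  n : ℕ
  hn : 3 ≤ n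
  E : MC (P : Subgroup G) n (hh n) 0
  dT : ZMod (2 ^ n)
  dQ : ZMod (2 ^ n)
  hT : E.IsS T (K n 1) dT
  hQ : E.IsS Q (K n 2) dQ
  eT : hh n * dT + 0 = 0
  eQ : hh n * dQ + 0 = hh n

theorem nonempty_data (hS : Cfsg.IsQuasiDihedral (P : Subgroup G)) {T Q : Subgroup G}
    (hT : IsKleinFour T) (hTS : T ≤ P) (hQS : Q ≤ P) (f : Q ≃* QuaternionGroup 2) :
    Nonempty (Data P T Q) := by
  obtain ⟨n, hn, ⟨E⟩⟩ := exists_MC_of_isQuasiDihedral hS
  obtain ⟨-, dT, h1, h2⟩ := E.exists_isS_of_isKleinFour hTS hT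
  obtain ⟨-, dQ, h3, h4⟩ := E.exists_isS_of_q8 (tw_hh hn) (zero_mem _) hQS f
  exact ⟨⟨n, hn, E, dT, dQ, h1, h3, h2, h4⟩⟩

namespace Data
variable {T Q : Subgroup G} (D : Data P T Q)

theorem one_le : 1 ≤ D.n := by have := D.hn; omega
theorem two_le : 2 ≤ D.n := by have := D.hn; omega

theorem hh_mem : hh D.n ∈ K D.n (D.n - 1) := hh_mem_K (by have := D.hn; omega)
theorem qq_mem : qq D.n ∈ K D.n (D.n - 1) := qq_mem_K (by have := D.hn; omega)
theorem one_not_mem : (1 : ZMod (2 ^ D.n)) ∉ K D.n (D.n - 1) :=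
  one_not_mem_K (by have := D.hn; omega)

include D in
theorem isKleinFour : IsKleinFour T := MC.isS_isKleinFour (tw_hh D.hn) D.one_le D.hT D.eT

include D in
theorem equivQ : Nonempty (Q ≃* QuaternionGroup 2) :=
  MC.isS_equiv_quaternion (j := 1) D.hQ D.two_le D.eQ fun _ ha =>
    (tw_hh D.hn).mul_eq_zero_of_le le_rfl ha

include D in
theorem index_T :
    ((centralizer (T : Set G)).relIndex (normalizer (T : Set G)) = 2 ∧ ¬ HasOdd T) ∨
    ((centralizer (T : Set G)).relIndex (normalizer (T : Set G)) = 6 ∧ HasOdd T) :=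
  MC.four_index (tw_hh D.hn) D.two_le D.hT D.isKleinFour

include D in
theorem index_Q :
    ((Q ⊔ centralizer (Q : Set G)).relIndex (normalizer (Q : Set G)) = 2 ∧ ¬ HasOdd Q) ∨
    ((Q ⊔ centralizer (Q : Set G)).relIndex (normalizer (Q : Set G)) = 6 ∧ HasOdd Q) :=
  D.equivQ.elim (MC.q8_index (tw_hh D.hn) D.hn D.hQ)

include D in
theorem hasOdd_T (h : (centralizer (T : Set G)).relIndex (normalizer (T : Set G)) = 6) :
    HasOdd T := by rcases D.index_T with h' | h' <;> [omega; exact h'.2]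

include D in
theorem not_hasOdd_T (h : (centralizer (T : Set G)).relIndex (normalizer (T : Set G)) = 2) :
    ¬ HasOdd T := by rcases D.index_T with h' | h' <;> [exact h'.2; omega]

include D in
theorem hasOdd_Q (h : (Q ⊔ centralizer (Q : Set G)).relIndex (normalizer (Q : Set G)) = 6) :
    HasOdd Q := by rcases D.index_Q with h' | h' <;> [omega; exact h'.2]

include D in
theorem not_hasOdd_Q (h : (Q ⊔ centralizer (Q : Set G)).relIndex (normalizer (Q : Set G)) = 2) :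
    ¬ HasOdd Q := by rcases D.index_Q with h' | h' <;> [exact h'.2; omega]

theorem isConj_two (h : HasOdd T) : IsConj (D.E.r (hh D.n)) (D.E.s 0) := by
  obtain ⟨a, ha, e⟩ := MC.hasOdd_moves D.hT D.one_le h
  refine e.trans (isConj_s_even D.E D.hn ?_)
  have := add_mem (K_mono (show 1 ≤ D.n - 1 by have := D.hn; omega) ha) (sq_zero_iff.1 D.eT)
  rwa [sub_add_cancel] at this

theorem isConj_four (h : HasOdd Q) : IsConj (D.E.r (qq D.n)) (D.E.s 1) := by
  obtain ⟨a, ha, e⟩ := MC.hasOdd_moves D.hQ D.two_le h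
  refine e.trans (isConj_s_odd D.E D.hn fun h' => (sq_hh_iff D.one_le).1 D.eQ ?_)
  have := sub_mem h' (K_mono (show 2 ≤ D.n - 1 by have := D.hn; omega) ha)
  rwa [sub_sub_cancel] at this

theorem hasOdd_cases {X : Subgroup G} (hX : X ≤ P) (h : HasOdd X) :
    (HasOdd T ∧ ∃ d ∈ K D.n (D.n - 1), D.E.IsS X (K D.n 1) d) ∨
    (HasOdd Q ∧ ∃ d ∉ K D.n (D.n - 1), D.E.IsS X (K D.n 2) d) := by
  rcases D.E.hasOdd_cases D.one_le (tw_hh D.hn) (zero_mem _) hX h with ⟨d, h1, h2⟩ | ⟨-, d, h1, h2⟩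
  · obtain ⟨b, hb⟩ := four_conj D.hn h1 D.hT h2 D.eT
    exact Or.inl ⟨hb ▸ h.cj _, d, sq_zero_iff.1 h2, h1⟩
  · obtain ⟨b, hb⟩ := q8_conj D.hn h1 D.hQ h2 D.eQ
    exact Or.inr ⟨hb ▸ h.cj _, d, (sq_hh_iff D.one_le).1 h2, h1⟩

theorem focal_le {F : Subgroup G} (hF : ∀ b ∈ K D.n (D.n - 1), D.E.r b ∈ F)
    (h0 : HasOdd T → D.E.s 0 ∈ F) (h1 : HasOdd Q → D.E.s 1 ∈ F) : commutator G ⊓ P ≤ F := by
  have := D.hn
  refine commutator_inf_le_of_hasOdd P F
    (fun a ha s hs => D.E.inv_mul_conj_mem_K (tw_hh D.hn) hF ha hs) fun X hX _ h => ?_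
  rcases D.hasOdd_cases hX h with ⟨h2, d, hd, h3⟩ | ⟨h2, d, hd, h3⟩
  · refine h3.le_of (fun a ha => hF a (K_mono (by omega) ha)) ?_
    simpa [D.E.r_mul_s] using F.mul_mem (hF d hd) (h0 h2)
  · refine h3.le_of (fun a ha => hF a (K_mono (by omega) ha)) ?_
    simpa [D.E.r_mul_s] using F.mul_mem (hF _ (sub_mem_of_odd hd D.one_not_mem)) (h1 h2)

theorem s_zero_mem (h : HasOdd T) : D.E.s 0 ∈ commutator G :=
  mem_of_isConj_of_normal _ (D.isConj_two h) (D.E.r_mem_commutator (tw_hh D.hn) D.one_le D.hh_mem)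

theorem s_one_mem (h : HasOdd Q) : D.E.s 1 ∈ commutator G :=
  mem_of_isConj_of_normal _ (D.isConj_four h) (D.E.r_mem_commutator (tw_hh D.hn) D.one_le D.qq_mem)

theorem not_isConj_two (h : ¬ HasOdd T) : ¬ IsConj (D.E.r (hh D.n)) (D.E.s 0) := by
  obtain ⟨Y, hY⟩ := exists_quat D.E D.hn
  refine not_isConj_of_not_mem (D.focal_le (fun b => (hY.r_mem b).2) (fun h' => absurd h' h)
    fun _ => hY.self_mem) (D.E.r_mem _) (D.E.s_mem _) ?_
  rw [D.E.r_inv_mul_s, hY.s_mem]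
  intro h'
  apply D.one_not_mem
  convert neg_mem (add_mem h' D.hh_mem) using 1; ring

theorem not_isConj_four (h : ¬ HasOdd Q) : ¬ IsConj (D.E.r (qq D.n)) (D.E.s 1) := by
  obtain ⟨Y, hY⟩ := exists_dih D.E
  refine not_isConj_of_not_mem (D.focal_le (fun b => (hY.r_mem b).2) (fun _ => hY.self_mem)
    fun h' => absurd h' h) (D.E.r_mem _) (D.E.s_mem _) ?_
  rw [D.E.r_inv_mul_s, hY.s_mem]
  intro h'
  apply D.one_not_mem
  convert add_mem h' D.qq_mem using 1; ring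

theorem involution_isConj {t : G} (ht : orderOf t = 2) :
    IsConj t (D.E.r (hh D.n)) ∨ IsConj t (D.E.s 0) := by
  obtain ⟨a, ha, ho, e⟩ := exists_isConj_mem_sylow P (k := 1) ht
  exact (SD.involution_isConj D.E D.hn ha ho).imp e.trans e.trans

theorem four_isConj {t : G} (ht : orderOf t = 4) :
    IsConj t (D.E.r (qq D.n)) ∨ IsConj t (D.E.s 1) := by
  obtain ⟨a, ha, ho, e⟩ := exists_isConj_mem_sylow P (k := 2) ht
  exact (SD.four_isConj D.E D.hn ha ho).imp e.trans e.trans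

include D

theorem classes_two_one (h : HasOdd T) :
    Nat.card {C : ConjClasses G // ∃ t : G, orderOf t = 2 ∧ ConjClasses.mk t = C} = 1 :=
  card_classes_eq_one (orderOf_s_zero D.E) fun _ ht =>
    (D.involution_isConj ht).elim (·.trans (D.isConj_two h)) id

theorem classes_two_two (h : ¬ HasOdd T) :
    Nat.card {C : ConjClasses G // ∃ t : G, orderOf t = 2 ∧ ConjClasses.mk t = C} = 2 :=
  card_classes_eq_two (orderOf_r_hh D.E D.hn) (orderOf_s_zero D.E) (D.not_isConj_two h)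
    fun _ => D.involution_isConj

theorem classes_four_one (h : HasOdd Q) :
    Nat.card {C : ConjClasses G // ∃ t : G, orderOf t = 4 ∧ ConjClasses.mk t = C} = 1 :=
  card_classes_eq_one (orderOf_s_one D.E D.hn) fun _ ht =>
    (D.four_isConj ht).elim (·.trans (D.isConj_four h)) id

theorem classes_four_two (h : ¬ HasOdd Q) :
    Nat.card {C : ConjClasses G // ∃ t : G, orderOf t = 4 ∧ ConjClasses.mk t = C} = 2 :=
  card_classes_eq_two (orderOf_r_qq D.E D.hn) (orderOf_s_one D.E D.hn) (D.not_isConj_four h)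
    fun _ => D.four_isConj

theorem le_commutator (hT : HasOdd T) (hQ : HasOdd Q) : (P : Subgroup G) ≤ commutator G :=
  D.E.le_of_s_zero_one (D.s_zero_mem hT) (D.s_one_mem hQ)

theorem hasNPC (hT : ¬ HasOdd T) (hQ : ¬ HasOdd Q) : Cfsg.HasNormalPComplement 2 G :=
  hasNPC_of_not_hasOdd P fun _ hX _ h => (D.hasOdd_cases hX h).elim (hT ·.1) (hQ ·.1)

omit D in
theorem residual_of_focal (D : Data P T Q) {F : Subgroup G} {d : ZMod (2 ^ D.n)}
    (hF : D.E.IsS F (K D.n (D.n - 1)) d) (h1 : commutator G ⊓ P ≤ F) (h2 : D.E.s d ∈ commutator G) :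
    commutator G ⊓ P = F ∧ Cfsg.pResidual 2 G ⊓ P = F ∧ (Cfsg.pResidual 2 G).index = 2 ∧
      ∀ R : Sylow 2 (Cfsg.pResidual 2 G), Nonempty ((R : Subgroup (Cfsg.pResidual 2 G)) ≃* F) := by
  have h3 : commutator G ⊓ P = F := le_antisymm h1 (le_inf (hF.le_of
    (fun a ha => D.E.r_mem_commutator (tw_hh D.hn) D.one_le ha) h2) hF.le)
  obtain ⟨h4, h5, h6⟩ := pResidual_data P h3 (s := D.E.r 1) ((D.E.isS_top d).le_of (fun a _ => by
    obtain ⟨a, rfl⟩ := ZMod.natCast_zmod_surjective a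
    simpa [D.E.r_pow] using mem_sup_right (S := F) (pow_mem (mem_zpowers (D.E.r 1)) a))
      (mem_sup_left hF.self_mem))
  refine ⟨h3, h4, ?_, h6⟩
  rw [h5]
  refine hF.relIndex_isS (D.E.isS_top d) hF.le ?_
  rw [AddSubgroup.card_top, Nat.card_zmod, card_K (by omega), ← pow_succ]
  congr 1
  have := D.hn; omega

theorem weaklyClosed (h : ¬ HasOdd T) :
    Cfsg.IsWeaklyClosed ((center (P : Subgroup G)).map (P : Subgroup G).subtype) P := by
  have h1 : (center (P : Subgroup G)).map (P : Subgroup G).subtype = zpowers (D.E.r (hh D.n)) := by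
    rw [map_center_eq]
    exact (D.E.isR_center_K (tw_hh D.hn) D.two_le).unique (D.E.isR_zpowers_K D.one_le)
  rw [h1]
  refine ⟨zpowers_le.2 (D.E.r_mem _), fun g hg => ?_⟩
  change cj g _ ≤ _ at hg
  change cj g _ = _
  rw [cj_zpowers] at hg ⊢
  rcases involution_cases D.E D.hn (zpowers_le.1 hg)
    (by rw [orderOf_conj', orderOf_r_hh D.E D.hn]) with e | ⟨a, ha, e⟩
  · rw [e]
  · exact absurd ((isConj_of_conj_eq e).trans (isConj_s_even D.E D.hn ha)) (D.not_isConj_two h)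

theorem quat_case (hT : ¬ HasOdd T) (hQ : HasOdd Q) :
    ∃ K : Subgroup G, K.Normal ∧ K.index = 2 ∧
      (∀ R : Sylow 2 K, ∃ m : ℕ, 1 ≤ m ∧ Nonempty ((R : Subgroup K) ≃* QuaternionGroup (2 ^ m))) ∧
      ∀ H : Subgroup K, H.index ≠ 2 := by
  obtain ⟨Y, hY⟩ := exists_quat D.E D.hn
  obtain ⟨-, -, h2, h3⟩ := D.residual_of_focal hY (D.focal_le (fun b => (hY.r_mem b).2)
    (fun h' => absurd h' hT) fun _ => hY.self_mem) (D.s_one_mem hQ)
  refine ⟨_, inferInstance, h2, fun R => ⟨D.n - 2, by have := D.hn; omega, ?_⟩,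
    pResidual_two_no_index_two G⟩
  obtain ⟨f⟩ := h3 R
  obtain ⟨f'⟩ := quat_equiv D.hn hY
  exact ⟨f.trans f'⟩

theorem dih_case (hT : HasOdd T) (hQ : ¬ HasOdd Q) :
    ∃ K : Subgroup G, K.Normal ∧ K.index = 2 ∧
      (∀ R : Sylow 2 K, ∃ m : ℕ, Nonempty ((R : Subgroup K) ≃* DihedralGroup m)) ∧
      ∀ H : Subgroup K, H.index ≠ 2 := by
  obtain ⟨Y, hY⟩ := exists_dih D.E
  obtain ⟨-, -, h2, h3⟩ := D.residual_of_focal hY (D.focal_le (fun b => (hY.r_mem b).2)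
    (fun _ => hY.self_mem) fun h' => absurd h' hQ) (D.s_zero_mem hT)
  refine ⟨_, inferInstance, h2, fun R => ⟨2 ^ (D.n - 1), ?_⟩, pResidual_two_no_index_two G⟩
  obtain ⟨f⟩ := h3 R
  obtain ⟨f'⟩ := dih_equiv D.hn hY
  exact ⟨f.trans f'⟩

end Data
end SD

end H22
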