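import Mathlib
import Cfsg.Agent.H22.MCFusion

/-!
# Wreathed 2-groups in coordinates
-/

set_option autoImplicit false
set_option linter.unusedSectionVars false

namespace H22

open Subgroup
open scoped commutatorElement

variable {G : Type*} [Group G] {n : ℕ}

namespace OddAut
variable {X : Subgroup G} {φ : G → G}

/-- the fixed points -/
def fixed (h : OddAut X φ) : Subgroup G where
  carrier := {x | x ∈ X ∧ φ x = x}
  one_mem' := ⟨X.one_mem, h.one⟩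
  mul_mem' := by
    rintro x y ⟨hx, ex⟩ ⟨hy, ey⟩
    exact ⟨X.mul_mem hx hy, by rw [h.mul x hx y hy, ex, ey]⟩
  inv_mem' := by
    rintro x ⟨hx, ex⟩
    exact ⟨X.inv_mem hx, by rw [h.inv hx, ex]⟩

theorem mem_fixed (h : OddAut X φ) {x : G} : x ∈ h.fixed ↔ x ∈ X ∧ φ x = x := Iff.rfl

theorem mem_fixed_of_inv_mul (h : OddAut X φ) (hX : IsPGroup 2 X) {x : G} (hx : x ∈ X)
    (e : x⁻¹ * φ x ∈ h.fixed) : x ∈ h.fixed :=
  ⟨hx, h.fix_of_stable hX (C := h.fixed) (fun _ hc => hc.1) (fun _ hc => hc.2) hx e⟩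

theorem mem_fixed_of_map (h : OddAut X φ) {x : G} (hx : x ∈ X) (e : φ x ∈ h.fixed) :
    x ∈ h.fixed := ⟨hx, h.injOn (h.mem x hx) hx e.2⟩

theorem mem_fixed_of_zpowers (h : OddAut X φ) (hX : IsPGroup 2 X) {x : G} (hx : x ∈ X)
    (e : φ x ∈ zpowers x) : x ∈ h.fixed := by
  obtain ⟨k, hk⟩ := isPGroup_iff_forall_mem.1 hX x hx
  exact ⟨hx, h.fix_of_mem_zpowers hx hk e⟩

/-- an odd automorphism of an abelian 2-group fixing the involutions is trivial -/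
theorem fix_of_omega (h : OddAut X φ) (hX : IsPGroup 2 X) (hc : ∀ x ∈ X, ∀ y ∈ X, x * y = y * x)
    (h2 : ∀ x ∈ X, x * x = 1 → φ x = x) : ∀ x ∈ X, φ x = x := by
  intro x hx
  obtain ⟨k, hk⟩ := isPGroup_iff_forall_mem.1 hX x hx
  induction k generalizing x with
  | zero => rw [pow_zero, pow_one] at hk; rw [hk, h.one]
  | succ k ih =>
    have h1 := ih (x * x) (X.mul_mem hx hx) (by rw [← sq, ← pow_mul, ← pow_succ', hk])
    have h3 : x⁻¹ * φ x ∈ X := X.mul_mem (X.inv_mem hx) (h.mem x hx)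
    refine (h.mem_fixed_of_inv_mul hX hx ⟨h3, h2 _ h3 ?_⟩).2
    rw [h.mul x hx x hx] at h1
    rw [mul_assoc, ← mul_assoc (φ x), ← hc _ (X.inv_mem hx) _ (h.mem x hx), mul_assoc, h1]
    group

end OddAut

theorem not_hasOdd_of_isCyclic [Finite G] {X : Subgroup G} (hX : IsPGroup 2 X) [IsCyclic X] :
    ¬ HasOdd X := by
  intro h
  obtain ⟨φ, hφ, x, hx, hne⟩ := h.exists_oddAut
  obtain ⟨u, hu⟩ := IsCyclic.exists_generator (α := X)
  have h1 : ∀ y ∈ X, y ∈ zpowers (u : G) := fun y hy => by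
    obtain ⟨k, hk⟩ := hu ⟨y, hy⟩
    exact ⟨k, congrArg Subtype.val hk⟩
  exact hne (zpowers_le.2 (hφ.mem_fixed_of_zpowers hX u.2 (h1 _ (hφ.mem _ u.2))) (h1 x hx)).2

theorem normalizer_le_centralizer_of_cyclic [Finite G] (P : Sylow 2 G) {Z : Subgroup G}
    (hZ : Z ≤ P) [IsCyclic Z] (hc : (P : Subgroup G) ≤ centralizer (Z : Set G)) :
    normalizer (Z : Set G) ≤ centralizer (Z : Set G) := by
  intro g hg
  obtain ⟨s, hs, c, hc', rfl⟩ := exists_mul_of_not_hasOdd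
    (not_hasOdd_of_isCyclic (P.isPGroup'.to_le hZ))
    (sylIn_of_sylow_le P (hc.trans (centralizer_le_normalizer _))) hg
  exact mul_mem (hc hs) hc'

theorem le_commutator_of_fixedPointFree [Finite G] {X : Subgroup G} {g : G}
    (hg : g ∈ normalizer (X : Set G)) (h : ∀ x ∈ X, g * x * g⁻¹ = x → x = 1) :
    X ≤ commutator G := by
  let F : X → X := fun x => ⟨x⁻¹ * (g * x * g⁻¹), X.mul_mem (X.inv_mem x.2)
    (conj_mem_of_mem_normalizer hg x.2)⟩
  have hF : Function.Injective F := by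
    intro x y e
    have e' : (x : G)⁻¹ * (g * x * g⁻¹) = (y : G)⁻¹ * (g * y * g⁻¹) := congrArg Subtype.val e
    have := h (x * y⁻¹) (X.mul_mem x.2 (X.inv_mem y.2)) (by
      calc g * (x * (y : G)⁻¹) * g⁻¹ = x * ((x : G)⁻¹ * (g * x * g⁻¹)) * (g * y * g⁻¹)⁻¹ := by group
        _ = x * (y : G)⁻¹ := by rw [e']; group)
    exact Subtype.ext (mul_inv_eq_one.1 this)
  intro u hu
  obtain ⟨x, hx⟩ := Finite.injective_iff_surjective.1 hF ⟨u, hu⟩
  rw [← show (x : G)⁻¹ * (g * x * g⁻¹) = u from congrArg Subtype.val hx]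
  exact inv_mul_mem_commutator_of_isConj (isConj_conj g x)

theorem quaternion_facts {Y : Subgroup G} {m : ℕ} (hm : 1 ≤ m) (f : Y ≃* QuaternionGroup (2 ^ m)) :
    (∀ x ∈ Y, (∀ y ∈ Y, y * x = x * y) → x * x = 1) ∧
    (∀ x ∈ Y, x * x = 1 → ∀ y ∈ Y, y * x = x * y) ∧ ¬ IsMulCommutative Y := by
  obtain ⟨E⟩ := exists_MC_of_quaternion m f
  have hZ := E.isR_center_K tw_zero (by omega)
  refine ⟨fun x hx h => ?_, fun x hx h => ?_, fun h => ?_⟩
  · obtain ⟨a, ha, rfl⟩ := hZ.cases ⟨hx, mem_centralizer_iff.2 h⟩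
    exact E.r_mul_self_eq_one.2 (mem_K_one'.1 ha)
  · rcases E.cases hx with ⟨a, rfl⟩ | ⟨a, rfl⟩
    · exact mem_centralizer_iff.1 ((hZ.r_mem a).2 (mem_K_one'.2 (E.r_mul_self_eq_one.1 h))).2
    · rw [E.s_mul_self, E.r_eq_one] at h
      exact absurd (by simpa using h) (hh_ne_zero (n := m + 1) (by omega))
  · exact hZ.s_not_mem 0 ⟨E.s_mem 0, mem_centralizer_iff.2 fun y hy =>
      setLike_mul_comm hy (E.s_mem 0)⟩

/-- the coordinate group of a wreathed group -/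
abbrev WA (n : ℕ) : Type := ZMod (2 ^ n) × ZMod (2 ^ n)

/-- exchange of coordinates -/
def sw (n : ℕ) : WA n →+ WA n := (AddEquiv.prodComm : WA n ≃+ WA n).toAddMonoidHom

@[simp] theorem sw_fst (a : WA n) : (sw n a).1 = a.2 := rfl
@[simp] theorem sw_snd (a : WA n) : (sw n a).2 = a.1 := rfl
@[simp] theorem sw_mk (a b : ZMod (2 ^ n)) : sw n (a, b) = (b, a) := rfl

/-- pairs with difference in `K n j` -/
def Bj (n j : ℕ) : AddSubgroup (WA n) :=
  (K n j).comap (AddMonoidHom.fst _ _ - AddMonoidHom.snd _ _)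

/-- pairs with sum in `K n j` -/
def Cj (n j : ℕ) : AddSubgroup (WA n) :=
  (K n j).comap (AddMonoidHom.fst _ _ + AddMonoidHom.snd _ _)

/-- pairs of order at most two -/
def Om (n : ℕ) : AddSubgroup (WA n) := (K n 1).prod (K n 1)

section
variable {j : ℕ} {a : WA n}

theorem mem_Bj : a ∈ Bj n j ↔ a.1 - a.2 ∈ K n j := Iff.rfl
theorem mem_Cj : a ∈ Cj n j ↔ a.1 + a.2 ∈ K n j := Iff.rfl
theorem mem_Om : a ∈ Om n ↔ a.1 ∈ K n 1 ∧ a.2 ∈ K n 1 := Iff.rfl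
theorem mem_Bj_zero : a ∈ Bj n 0 ↔ a.1 = a.2 := by rw [mem_Bj, mem_K_zero, sub_eq_zero]
theorem mem_Cj_zero : a ∈ Cj n 0 ↔ a.1 + a.2 = 0 := by rw [mem_Cj, mem_K_zero]
theorem mem_Om' : a ∈ Om n ↔ a + a = 0 := by
  rw [mem_Om, mem_K_one', mem_K_one', Prod.ext_iff]; rfl

theorem sw_eq_self : sw n a = a ↔ a ∈ Bj n 0 := by
  rw [mem_Bj_zero, Prod.ext_iff]
  exact ⟨fun h => h.2, fun h => ⟨h.symm, h⟩⟩

theorem sub_sw_mem_Bj : a - sw n a ∈ Bj n j ↔ a ∈ Bj n (j + 1) := by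
  rw [mem_Bj, mem_Bj, ← two_mul_mem_K]
  congr! 1; simp; ring

theorem sub_sw_mem_Cj : a - sw n a ∈ Cj n j := by
  rw [mem_Cj]; simp

theorem sw_mem_Bj (a : WA n) (h : a ∈ Bj n j) : sw n a ∈ Bj n j := by
  rw [mem_Bj] at *; convert neg_mem h using 1; simp

theorem sw_mem_Cj (a : WA n) (h : a ∈ Cj n j) : sw n a ∈ Cj n j := by
  rw [mem_Cj] at *; convert h using 1; simp [add_comm]

theorem sw_mem_Om (a : WA n) (h : a ∈ Om n) : sw n a ∈ Om n := ⟨h.2, h.1⟩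

theorem add_sw (a : WA n) : a + sw n a + 0 = (a.1 + a.2, a.1 + a.2) := by
  ext <;> simp [add_comm]

theorem diag_mem_Bj (e : ZMod (2 ^ n)) : ((e, e) : WA n) ∈ Bj n j := by
  rw [mem_Bj]; simp

theorem anti_mem_Cj (e : ZMod (2 ^ n)) : ((e, -e) : WA n) ∈ Cj n j := by
  rw [mem_Cj]; simp

theorem Bj_mono {i : ℕ} (h : i ≤ j) : Bj n i ≤ Bj n j := fun _ ha => K_mono h ha
theorem Cj_mono {i : ℕ} (h : i ≤ j) : Cj n i ≤ Cj n j := fun _ ha => K_mono h ha

theorem card_Bj (hj : j ≤ n) : Nat.card (Bj n j) = 2 ^ (n + j) := by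
  have e : Bj n j ≃ K n j × ZMod (2 ^ n) :=
    ⟨fun a => (⟨a.1.1 - a.1.2, a.2⟩, a.1.2), fun b => ⟨(b.1 + b.2, b.2), by simp [mem_Bj]⟩,
      fun a => by ext <;> simp, fun b => by ext <;> simp⟩
  rw [Nat.card_congr e, Nat.card_prod, card_K hj, Nat.card_zmod, pow_add, mul_comm]

theorem card_Cj (hj : j ≤ n) : Nat.card (Cj n j) = 2 ^ (n + j) := by
  have e : Cj n j ≃ K n j × ZMod (2 ^ n) :=
    ⟨fun a => (⟨a.1.1 + a.1.2, a.2⟩, a.1.2), fun b => ⟨(b.1 - b.2, b.2), by simp [mem_Cj]⟩,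
      fun a => by ext <;> simp, fun b => by ext <;> simp⟩
  rw [Nat.card_congr e, Nat.card_prod, card_K hj, Nat.card_zmod, pow_add, mul_comm]

theorem card_Om (hn : 1 ≤ n) : Nat.card (Om n) = 4 := by
  rw [Om, Nat.card_congr (AddSubgroup.prodEquiv _ _).toEquiv, Nat.card_prod, card_K hn]; rfl

theorem card_WA : Nat.card (WA n) = 2 ^ (2 * n) := by
  rw [Nat.card_prod, Nat.card_zmod, two_mul, pow_add]

theorem Bj_self : Bj n n = ⊤ := eq_top_iff.2 fun _ _ => mem_K_of_le le_rfl _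

theorem Bj_zero_eq : Bj n 0 = AddSubgroup.zmultiples ((1, 1) : WA n) := by
  refine le_antisymm (fun a ha => ?_) (AddSubgroup.zmultiples_le.2 (diag_mem_Bj 1))
  obtain ⟨k, hk⟩ := ZMod.intCast_surjective a.2
  exact ⟨k, Prod.ext (by simp [hk, mem_Bj_zero.1 ha]) (by simp [hk])⟩

theorem Cj_zero_eq : Cj n 0 = AddSubgroup.zmultiples ((1, -1) : WA n) := by
  refine le_antisymm (fun a ha => ?_) (AddSubgroup.zmultiples_le.2 (anti_mem_Cj 1))
  obtain ⟨k, hk⟩ := ZMod.intCast_surjective a.1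
  exact ⟨k, Prod.ext (by simp [hk])
    (by simpa [hk] using neg_eq_of_add_eq_zero_right (mem_Cj_zero.1 ha))⟩

theorem exists_eq_Bj {B : AddSubgroup (WA n)} (hB : Bj n 0 ≤ B) : ∃ j ≤ n, B = Bj n j := by
  obtain ⟨j, hj, e⟩ := exists_eq_K (B.comap (AddMonoidHom.inl _ _))
  refine ⟨j, hj, AddSubgroup.ext fun a => ?_⟩
  rw [mem_Bj, ← e, AddSubgroup.mem_comap, ← B.add_mem_cancel_right (hB (diag_mem_Bj (-a.2)))]
  congr! 1; ext <;> simp [sub_eq_add_neg]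

theorem mem_Bj_one (hn : 1 ≤ n) : a ∈ Bj n 1 ↔ a ∈ Bj n 0 ∨ a - (hh n, 0) ∈ Bj n 0 := by
  rw [mem_Bj, mem_K_one hn, mem_Bj_zero, mem_Bj_zero, sub_eq_zero]
  simp only [Prod.fst_sub, Prod.snd_sub, sub_zero]
  rw [sub_eq_iff_eq_add, sub_eq_iff_eq_add']

theorem Om_cases (hn : 1 ≤ n) (h : a ∈ Om n) :
    a = 0 ∨ a = (hh n, hh n) ∨ a = (hh n, 0) ∨ a = (0, hh n) := by
  obtain ⟨a, b⟩ := a
  rcases (mem_K_one hn).1 h.1 with rfl | rfl <;> rcases (mem_K_one hn).1 h.2 with rfl | rfl <;>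
    simp [Prod.ext_iff]

theorem addOrderOf_anti : addOrderOf ((1, -1) : WA n) = 2 ^ n := by
  rw [← Nat.card_zmultiples, ← Cj_zero_eq, card_Cj (Nat.zero_le _), add_zero]

end

/-- coordinates on a wreathed group -/
abbrev WR (S : Subgroup G) (n : ℕ) := Ext2 S (WA n) (sw n) 0

theorem exists_WR_top {S : Type*} [Group S] [Finite S] (hS : Cfsg.IsWreathed S) :
    ∃ n, 2 ≤ n ∧ Nonempty (WR (⊤ : Subgroup S) n) := by
  obtain ⟨n, hn, hcard, x, y, z, hx, hxy, hinf, hz, hzx⟩ := hS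
  have hy : orderOf y = 2 ^ n := by rw [← hzx, orderOf_conj', hx]
  have hx1 : x ^ 2 ^ n = 1 := hx ▸ pow_orderOf_eq_one x
  have hy1 : y ^ 2 ^ n = 1 := hy ▸ pow_orderOf_eq_one y
  have hzz := mul_self_of_orderOf_two hz
  have hzy : z * y * z⁻¹ = x := by rw [← hzx, ← mul_assoc, ← mul_assoc, hzz, one_mul, mul_assoc,
    ← mul_inv_rev, hzz, inv_one, mul_one]
  have hc : Commute x y := hxy
  refine ⟨n, hn, Exists.nonempty (nonempty_ext2 ⊤ (WA n) (sw n) 0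
    (fun a => H7.zmodPow x a.1 * H7.zmodPow y a.2) z ?_ ?_ ?_ ?_ ?_ (fun _ => trivial) trivial
    (by rw [card_top, hcard, card_WA, pow_succ']))⟩
  · rintro ⟨a, b⟩ ⟨c, d⟩
    obtain ⟨a, rfl⟩ := ZMod.intCast_surjective a
    obtain ⟨b, rfl⟩ := ZMod.intCast_surjective b
    obtain ⟨c, rfl⟩ := ZMod.intCast_surjective c
    obtain ⟨d, rfl⟩ := ZMod.intCast_surjective d
    simp only [Prod.mk_add_mk, ← Int.cast_add, H7.zmodPow_intCast hx1, H7.zmodPow_intCast hy1,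
      zpow_add]
    rw [mul_assoc, ← mul_assoc (y ^ b), ← (hc.zpow_zpow c b).eq]; group
  · rintro ⟨a, b⟩ ⟨c, d⟩ h
    obtain ⟨a, rfl⟩ := ZMod.intCast_surjective a
    obtain ⟨b, rfl⟩ := ZMod.intCast_surjective b
    obtain ⟨c, rfl⟩ := ZMod.intCast_surjective c
    obtain ⟨d, rfl⟩ := ZMod.intCast_surjective d
    simp only [H7.zmodPow_intCast hx1, H7.zmodPow_intCast hy1] at h
    have h1 : x ^ (a - c) = y ^ (d - b) := by
      rw [sub_eq_neg_add, zpow_add, zpow_sub, zpow_neg, inv_mul_eq_iff_eq_mul, ← mul_assoc, ← h]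
      group
    have h2 : x ^ (a - c) = 1 := mem_bot.1 (hinf ▸ ⟨⟨_, rfl⟩, ⟨_, h1.symm⟩⟩)
    rw [h2, eq_comm] at h1
    rw [zpow_sub, mul_inv_eq_one, zpow_eq_zpow_iff_modEq] at h1 h2
    rw [hx] at h2
    rw [hy] at h1
    rw [(ZMod.intCast_eq_intCast_iff a c _).2 h2, (ZMod.intCast_eq_intCast_iff d b _).2 h1]
  · rintro ⟨a, b⟩
    obtain ⟨a, rfl⟩ := ZMod.intCast_surjective a
    obtain ⟨b, rfl⟩ := ZMod.intCast_surjective b
    simp only [sw_mk, H7.zmodPow_intCast hx1, H7.zmodPow_intCast hy1]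
    rw [(hc.zpow_zpow b a).eq]
    conv_rhs => rw [← hzy, ← hzx, conj_zpow, conj_zpow, hzx]
    group
  · have h0 : ((0 : ℤ) : ZMod (2 ^ n)) = 0 := Int.cast_zero
    simp only [Prod.fst_zero, Prod.snd_zero]
    rw [← h0, H7.zmodPow_intCast hx1, H7.zmodPow_intCast hy1, hzz]; simp
  · rintro ⟨a, b⟩ e
    obtain ⟨a, rfl⟩ := ZMod.intCast_surjective a
    obtain ⟨b, rfl⟩ := ZMod.intCast_surjective b
    simp only [H7.zmodPow_intCast hx1, H7.zmodPow_intCast hy1] at e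
    have h1 : y = x := by
      rw [← hzx, ← e, mul_inv_eq_iff_eq_mul]
      exact (((Commute.refl x).zpow_left a).mul_left (hc.symm.zpow_left b)).eq
    rw [h1, inf_idem, zpowers_eq_bot] at hinf
    rw [hinf, orderOf_one] at hx
    exact absurd hx (Nat.one_lt_two_pow (by omega)).ne

theorem exists_WR [Finite G] {S : Subgroup G} (hS : Cfsg.IsWreathed S) :
    ∃ n, 2 ≤ n ∧ Nonempty (WR S n) := by
  obtain ⟨n, hn, ⟨E⟩⟩ := exists_WR_top hS
  exact ⟨n, hn, ⟨E.ofTop⟩⟩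

namespace WR
variable {S : Subgroup G} (E : WR S n)

include E in
theorem card : Nat.card S = 2 ^ (2 * n + 1) := by rw [E.card_eq, card_WA, pow_succ']

include E in
theorem isPGroup : IsPGroup 2 S := IsPGroup.of_card E.card

theorem s_mul_self (a : WA n) : E.s a * E.s a = E.r (a.1 + a.2, a.1 + a.2) := by
  rw [E.s_mul_s, add_sw]

theorem s_mul_self_eq_one' {a : WA n} : E.s a * E.s a = 1 ↔ a.1 + a.2 = 0 := by
  rw [E.s_mul_self, E.r_eq_one]; simp

theorem orderOf_s_two {a : WA n} : orderOf (E.s a) = 2 ↔ a.1 + a.2 = 0 := by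
  rw [E.orderOf_s_eq_two, add_sw]; simp

theorem isR_center' (hn : 1 ≤ n) : E.IsR (S ⊓ centralizer (S : Set G)) (Bj n 0) :=
  E.isR_center (fun _ => sw_eq_self.symm) ⟨(1, 0), fun h => one_not_mem_K (n := n) (j := 0) hn
    (by simpa [mem_Bj] using sw_eq_self.1 h)⟩

theorem isR_commutator' : E.IsR ⁅S, S⁆ (Cj n 0) := by
  refine E.isR_commutator fun b => ⟨fun h => ⟨(b.1, 0), ?_⟩, ?_⟩
  · ext
    · simp
    · simpa using neg_eq_of_add_eq_zero_right (mem_Cj_zero.1 h)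
  · rintro ⟨a, rfl⟩; exact sub_sw_mem_Cj

theorem isR_zpowers_diag : E.IsR (zpowers (E.r (1, 1))) (Bj n 0) := by
  rw [Bj_zero_eq]; exact E.isR_zpowers _

theorem isR_zpowers_anti : E.IsR (zpowers (E.r (1, -1))) (Cj n 0) := by
  rw [Cj_zero_eq]; exact E.isR_zpowers _

theorem r_diag_comm {a : WA n} (ha : a ∈ Bj n 0) {g : G} (hg : g ∈ S) :
    g * E.r a * g⁻¹ = E.r a := by
  rcases E.conj_r hg a with h | h
  · exact h
  · rw [h, sw_eq_self.2 ha]

theorem r_mem_commutator {a : WA n} (ha : a ∈ Cj n 0) : E.r a ∈ commutator G :=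
  commutator_mono le_top le_top ((E.isR_commutator'.r_mem a).2 ha)

theorem inv_mul_conj_mem' {F : Subgroup G} (hF : ∀ b ∈ Cj n 0, E.r b ∈ F)
    {a : G} (ha : a ∈ S) {s : G} (hs : s ∈ S) : a⁻¹ * (s * a * s⁻¹) ∈ F :=
  E.inv_mul_conj_mem (fun _ => sub_sw_mem_Cj) hF ha hs

theorem orderOf_z (hn : 1 ≤ n) : orderOf (E.r (hh n, hh n)) = 2 :=
  E.orderOf_r_eq_two.2 ⟨by simp [hh_add_hh hn], by simp [hh_ne_zero hn]⟩

theorem orderOf_u (hn : 1 ≤ n) : orderOf (E.r (hh n, 0)) = 2 :=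
  E.orderOf_r_eq_two.2 ⟨by simp [hh_add_hh hn], by simp [hh_ne_zero hn]⟩

theorem orderOf_s_zero : orderOf (E.s 0) = 2 := E.orderOf_s_two.2 (by simp)

theorem s_conj {a b : WA n} (h : a.1 + a.2 = b.1 + b.2) :
    ∃ c, E.r c * E.s a * (E.r c)⁻¹ = E.s b := by
  refine ⟨(b.1 - a.1, 0), ?_⟩
  rw [E.r_conj_s]; congr 1
  ext
  · simp
  · simp; linear_combination h

theorem isConj_s {a b : WA n} (h : a.1 + a.2 = b.1 + b.2) : IsConj (E.s a) (E.s b) :=
  (E.s_conj h).elim fun _ e => isConj_of_conj_eq e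

theorem involution_cases (hn : 1 ≤ n) {t : G} (ht : t ∈ S) (ho : orderOf t = 2) :
    t = E.r (hh n, hh n) ∨ (t = E.r (hh n, 0) ∨ t = E.r (0, hh n)) ∨
      ∃ a, a.1 + a.2 = 0 ∧ t = E.s a := by
  rcases E.cases ht with ⟨a, rfl⟩ | ⟨a, rfl⟩
  · obtain ⟨h1, h2⟩ := E.orderOf_r_eq_two.1 ho
    rcases Om_cases hn (mem_Om'.2 h1) with rfl | rfl | rfl | rfl
    · exact absurd rfl h2
    · exact Or.inl rfl
    · exact Or.inr (Or.inl (Or.inl rfl))
    · exact Or.inr (Or.inl (Or.inr rfl))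
  · exact Or.inr (Or.inr ⟨a, E.orderOf_s_two.1 ho, rfl⟩)

theorem involution_isConj (hn : 1 ≤ n) {t : G} (ht : t ∈ S) (ho : orderOf t = 2) :
    IsConj t (E.r (hh n, hh n)) ∨ IsConj t (E.r (hh n, 0)) ∨ IsConj t (E.s 0) := by
  rcases E.involution_cases hn ht ho with rfl | (rfl | rfl) | ⟨a, ha, rfl⟩
  · exact Or.inl (IsConj.refl _)
  · exact Or.inr (Or.inl (IsConj.refl _))
  · exact Or.inr (Or.inl (isConj_of_conj_eq (E.s_conj_r 0 _)))
  · exact Or.inr (Or.inr (E.isConj_s (by simpa using ha)))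

theorem exists_Y (hn : 1 ≤ n) : ∃ Y, E.IsS Y (Cj n 0) (hh n, 0) :=
  E.exists_isS _ _ sw_mem_Cj (by rw [add_sw, mem_Cj_zero]; simp [hh_add_hh hn])

theorem exists_V {j : ℕ} (a : WA n) : ∃ V, E.IsS V (Bj n j) a :=
  E.exists_isS _ _ sw_mem_Bj (by rw [add_sw]; exact diag_mem_Bj _)

variable {E}

theorem isS_conj {X Y : Subgroup G} {B : AddSubgroup (WA n)} {a b : WA n} (h : E.IsS X B a)
    (h' : E.IsS Y B b) (e : a.1 + a.2 = b.1 + b.2) : ∃ c, cj (E.r c) X = Y := by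
  obtain ⟨c, hc⟩ := E.s_conj e
  rw [E.r_conj_s, E.s_inj] at hc
  exact ⟨c, (h.cj_r c).unique h' (by rw [hc]; simp)⟩

theorem eq_U_of_card [Finite G] (hn : 2 ≤ n) {U : Subgroup G} (hU : U ≤ S)
    (hc : IsMulCommutative U) (hcard : Nat.card U = 2 ^ (2 * n)) : E.IsR U ⊤ := by
  rcases E.isR_or_isS hU with h | ⟨d, h⟩
  · rwa [AddSubgroup.eq_top_of_card_eq (E.rpart U) (by rw [← h.card, hcard, card_WA])] at h
  · have h1 : Nat.card (E.rpart U) ≤ Nat.card (Bj n 0) :=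
      AddSubgroup.card_le_of_le fun b hb => sw_eq_self.1 (h.isMulCommutative_iff.1 hc b hb)
    have h2 := h.card
    rw [hcard] at h2
    rw [card_Bj (Nat.zero_le _)] at h1
    have h3 : 2 ^ (n + 2) ≤ 2 ^ (2 * n) := Nat.pow_le_pow_right (by decide) (by omega)
    have h4 : 0 < 2 ^ n := by positivity
    rw [add_zero] at h1
    rw [pow_succ, pow_succ, h2] at h3
    omega

theorem Y_equiv (hn : 2 ≤ n) {Y : Subgroup G} (h : E.IsS Y (Cj n 0) (hh n, 0)) :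
    Nonempty (Y ≃* QuaternionGroup (2 ^ (n - 1))) := by
  have e : 2 * 2 ^ (n - 1) = 2 ^ n := by rw [← pow_succ']; congr 1; omega
  refine H7.nonempty_equiv_quaternion_of_card (2 ^ (n - 1)) (by positivity)
    (⟨E.r (1, -1), (h.r_mem _).2 (anti_mem_Cj 1)⟩ : Y) ⟨E.s _, h.self_mem⟩ ?_ ?_ ?_ ?_ ?_
  · rw [← orderOf_coe, e]; exact (E.orderOf_r _).trans addOrderOf_anti
  · refine Subtype.ext ?_
    simp only [coe_mul, E.s_mul_self, SubgroupClass.coe_pow, E.r_pow]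
    congr 1
    ext
    · simp [hh]
    · simpa [hh] using (neg_hh (n := n) (by omega)).symm
  · refine Subtype.ext ?_
    simp [E.s_conj_r, E.r_inv]
  · rintro ⟨i, hi⟩
    exact E.s_not_mem_zpowers_r _ _ ⟨i, congrArg Subtype.val hi⟩
  · rw [h.card, card_Cj (Nat.zero_le _), add_zero, ← e]; ring

theorem center_le [Finite G] (E : WR S n) (hn : 1 ≤ n) {X : Subgroup G} (hXS : X ≤ S)
    (hX : ¬ IsMulCommutative X) : X ⊓ centralizer (X : Set G) ≤ S ⊓ centralizer (S : Set G) := by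
  rcases E.isR_or_isS hXS with h | ⟨d, h⟩
  · exact absurd h.isMulCommutative hX
  · refine Ext2.le_of_forall (E := E) (inf_le_left.trans hXS) (fun a ha => ?_) fun a ha => ?_
    · exact ((E.isR_center' hn).r_mem a).2 (sw_eq_self.1 ((h.r_mem_centralizer a).1 ha.2))
    · exact absurd (h.isMulCommutative_iff.2 ((h.s_mem_centralizer a).1 ha.2).1) hX

theorem isS_of_quaternion (E : WR S n) (hn : 1 ≤ n) {Y : Subgroup G} (hY : Y ≤ S) {m : ℕ}
    (hm : 1 ≤ m) (f : Y ≃* QuaternionGroup (2 ^ m)) :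
    ∃ B d, E.IsS Y B d ∧ B ≤ Cj n 0 ∧ d.1 + d.2 = hh n ∧ ¬ B ≤ Bj n 0 := by
  obtain ⟨h1, h2, h3⟩ := quaternion_facts hm f
  rcases E.isR_or_isS hY with h | ⟨d, h⟩
  · exact absurd h.isMulCommutative h3
  have key : ∀ a, E.s a ∈ Y → a.1 + a.2 = hh n := by
    intro a ha
    have h4 := h1 _ (Y.mul_mem ha ha) fun y hy => by
      rw [E.s_mul_self, ← mul_inv_eq_iff_eq_mul]; exact E.r_diag_comm (diag_mem_Bj _) (hY hy)
    rw [E.s_mul_self, E.r_mul_self_eq_one, ← mem_Om'] at h4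
    refine ((mem_K_one hn).1 h4.1).resolve_left fun h5 => h3 (h.isMulCommutative_iff.2 ?_)
    exact ((h.s_mem_centralizer a).1
      (mem_centralizer_iff.2 (h2 _ ha (E.s_mul_self_eq_one'.2 h5)))).1
  refine ⟨_, d, h, fun b hb => ?_, key d h.self_mem,
    fun h4 => h3 (h.isMulCommutative_iff.2 fun b hb => sw_eq_self.2 (h4 hb))⟩
  have h5 := key (b + d) ((h.s_mem _).2 (by simpa using hb))
  have h6 := key d h.self_mem
  simp only [Prod.fst_add, Prod.snd_add] at h5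
  rw [mem_Cj_zero]
  linear_combination h5 - h6

theorem isS_sup_center [Finite G] (E : WR S n) (hn : 2 ≤ n) {Q : Subgroup G} (hQ : Q ≤ S)
    (f : Q ≃* QuaternionGroup 2) :
    ∃ d, d.1 + d.2 = 0 ∧ E.s (d + (hh n, 0)) ∈ Q ∧
      E.IsS (Q ⊔ (S ⊓ centralizer (S : Set G))) (Bj n 1) d := by
  have hn1 : 1 ≤ n := by omega
  obtain ⟨B, d, h, h1, h2, h3⟩ := E.isS_of_quaternion hn1 hQ (m := 1) le_rfl f
  obtain ⟨V, hV⟩ := E.exists_V (j := 1) d
  have hB : Nat.card B = 4 := by have := h.card; rw [q8_card f] at this; omega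
  have h4 : B ≤ Bj n 1 := by
    intro b hb
    have h5 := addOrderOf_dvd_iff_nsmul_eq_zero.1 (hB ▸ B.addOrderOf_dvd_natCard hb)
    have h6 : (4 : ZMod (2 ^ n)) * b.1 = 0 := by simpa using congrArg Prod.fst h5
    have h7 := mem_Cj_zero.1 (h1 hb)
    rw [mem_Bj, mem_K]
    linear_combination h6 - 2 * h7
  refine ⟨d - (hh n, 0), by simp; linear_combination h2, by simpa using h.self_mem, ?_⟩
  rw [sup_comm, (E.isR_center' hn1).sup_isS h hV]
  · exact hV.change (by simp [mem_Bj, hh_mem_K])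
  refine le_antisymm (fun a ha => ?_) (sup_le (Bj_mono (by decide)) h4)
  obtain ⟨b, hb, hb'⟩ := SetLike.not_le_iff_exists.1 h3
  rcases (mem_Bj_one hn1).1 ha with h5 | h5
  · exact AddSubgroup.mem_sup_left h5
  · have h6 := ((mem_Bj_one hn1).1 (h4 hb)).resolve_left hb'
    refine AddSubgroup.mem_sup.2 ⟨a - b, ?_, b, hb, by simp⟩
    convert sub_mem h5 h6 using 1; abel

theorem exists_q8 [Finite G] (hn : 2 ≤ n) {V : Subgroup G} {a : WA n} (h : E.IsS V (Bj n 1) a)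
    (ha : a.1 + a.2 = 0) : ∃ Q : Subgroup G, Q ≤ S ∧ Nonempty (Q ≃* QuaternionGroup 2) ∧
      V = Q ⊔ (S ⊓ centralizer (S : Set G)) := by
  have hn1 : 1 ≤ n := by omega
  obtain ⟨Q, -, hy, hQ, ⟨f⟩⟩ := H7.exists_subgroup_equiv_quaternion 2 (E.r (qq n, -qq n))
    (E.s (a + (hh n, 0))) (by
      rw [E.orderOf_r, Prod.addOrderOf, addOrderOf_neg, addOrderOf_qq hn]; rfl) (by
      rw [E.s_mul_self, sq, E.r_mul_r]
      congr 1
      ext
      · simp [qq_add_qq hn]; linear_combination ha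
      · simp [← neg_add, qq_add_qq hn, neg_hh hn1]; linear_combination ha)
    (by simp [E.s_conj_r, E.r_inv]) (E.s_not_mem_zpowers_r _ _)
  have hQS : Q ≤ S := fun g hg => by
    obtain ⟨k, rfl | rfl⟩ := hQ g hg
    · exact S.zpow_mem (E.r_mem _) k
    · exact S.mul_mem (E.s_mem _) (S.zpow_mem (E.r_mem _) k)
  obtain ⟨d, -, -, hd⟩ := E.isS_sup_center hn hQS f
  refine ⟨Q, hQS, ⟨f⟩, h.unique hd ?_⟩
  have := sub_mem ((hd.s_mem _).1 (mem_sup_left hy)) (show (hh n, 0) ∈ Bj n 1 by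
    simp [mem_Bj, hh_mem_K])
  convert this using 1; abel

theorem isS_normalizer {X : Subgroup G} {j : ℕ} {d : WA n} (h : E.IsS X (Bj n j) d) :
    E.IsS (S ⊓ normalizer (X : Set G)) (Bj n (j + 1)) d :=
  h.inf_normalizer fun _ => sub_sw_mem_Bj.symm

theorem isS_relIndex_normalizer [Finite G] {X : Subgroup G} {j : ℕ} {d : WA n}
    (h : E.IsS X (Bj n j) d) (hj : j + 1 ≤ n) : X.relIndex (S ⊓ normalizer (X : Set G)) = 2 :=
  h.relIndex_isS (isS_normalizer h) (le_inf h.le le_normalizer)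
    (by rw [card_Bj hj, card_Bj (by omega), ← add_assoc, pow_succ])

theorem isS_not_comm (hn : 1 ≤ n) {X : Subgroup G} {j : ℕ} {d : WA n} (h : E.IsS X (Bj n j) d)
    (hj : 1 ≤ j) : ¬ IsMulCommutative X := fun hc => hh_ne_zero hn (by
  simpa [mem_Bj_zero] using sw_eq_self.1 (h.isMulCommutative_iff.1 hc (hh n, 0)
    (by simp [mem_Bj, hh_mem_K hj])))

theorem isR_inf_centralizer (hn : 1 ≤ n) {X : Subgroup G} {j : ℕ} {d : WA n}
    (h : E.IsS X (Bj n j) d) (hj : 1 ≤ j) : E.IsR (S ⊓ centralizer (X : Set G)) (Bj n 0) := by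
  refine ⟨inf_le_left, fun a => ?_, fun a ha => ?_⟩
  · simp only [mem_inf, E.r_mem, true_and, h.r_mem_centralizer, sw_eq_self]
  · exact isS_not_comm hn h hj (h.isMulCommutative_iff.2 ((h.s_mem_centralizer a).1 ha.2).1)

theorem inf_centralizer_U (hn : 1 ≤ n) {U : Subgroup G} (h : E.IsR U ⊤) :
    S ⊓ centralizer (U : Set G) = U := by
  refine Ext2.IsR.unique ⟨inf_le_left, fun a => ?_, fun a ha => ?_⟩ h
  · simp [E.r_mem, h.r_mem_centralizer]
  · have := sw_eq_self.1 ((h.s_mem_centralizer a).1 ha.2 (1, 0) trivial)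
    exact one_not_mem_K (n := n) (j := 0) hn (by simpa [mem_Bj] using this)

theorem le_normalizer_U [Finite G] {U : Subgroup G} (h : E.IsR U ⊤) :
    S ≤ normalizer (U : Set G) := h.le_normalizer fun _ _ => trivial

theorem relIndex_U [Finite G] {U : Subgroup G} (h : E.IsR U ⊤) : U.relIndex S = 2 :=
  relIndex_eq_of_card h.le (by rw [E.card_eq, h.card, AddSubgroup.card_top])

theorem oddAut_Bj_zero (hn : 2 ≤ n) {X : Subgroup G} {d : WA n} (h : E.IsS X (Bj n 0) d)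
    {φ : G → G} (hφ : OddAut X φ) : X ≤ hφ.fixed := by
  have hX := E.isPGroup.to_le h.le
  have hz : E.r (1, 1) ∈ X := (h.r_mem _).2 (diag_mem_Bj 1)
  have hZ := E.isR_zpowers_diag
  suffices hz' : E.r (1, 1) ∈ hφ.fixed by
    have h1 : ∀ a ∈ Bj n 0, E.r a ∈ hφ.fixed := fun a ha => zpowers_le.2 hz' ((hZ.r_mem a).2 ha)
    refine h.le_of h1 ?_
    rcases h.cases (hφ.mem _ h.self_mem) with ⟨a, ha, e⟩ | ⟨a, ha, e⟩
    · exact hφ.mem_fixed_of_map h.self_mem (e ▸ h1 a ha)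
    · exact hφ.mem_fixed_of_inv_mul hX h.self_mem
        (by rw [e, E.s_inv_mul_s]; exact h1 _ (sw_mem_Bj _ ha))
  rcases h.cases (hφ.mem _ hz) with ⟨a, ha, e⟩ | ⟨a, ha, e⟩
  · exact hφ.mem_fixed_of_zpowers hX hz (e ▸ (hZ.r_mem a).2 ha)
  have hz2 : E.r (2, 2) ∈ X := (h.r_mem _).2 (diag_mem_Bj 2)
  have e2 : φ (E.r (2, 2)) = E.r (a.1 + a.2, a.1 + a.2) := by
    rw [← E.s_mul_self, ← e, ← hφ.mul _ hz _ hz, E.r_mul_r]; norm_num
  have hev : ∀ c ∈ K n (n - 1), E.r (c, c) ∈ zpowers (E.r (2, 2)) := by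
    intro c hc
    obtain ⟨c, rfl⟩ := (mem_K_pred (by omega)).1 hc
    obtain ⟨c, rfl⟩ := ZMod.intCast_surjective c
    exact E.mem_zpowers_r.2 ⟨c, by simp [mul_comm]⟩
  have h2 : E.r (2, 2) ∈ hφ.fixed := by
    refine hφ.mem_fixed_of_zpowers hX hz2 (e2 ▸ hev _ ?_)
    have h3 := (hφ.pow_eq_one_iff hz2 (2 ^ (n - 1))).2 (by
      rw [E.r_pow, E.r_eq_one]
      have : (2 : ZMod (2 ^ n)) ^ (n - 1) * 2 = 0 := by
        rw [← pow_succ, two_pow_eq_zero_iff]; omega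
      simp [this])
    rw [e2, E.r_pow, E.r_eq_one] at h3
    simpa [mem_K, mul_add] using congrArg Prod.fst h3
  have h3 : ∀ c ∈ K n 1, E.r (c, c) ∈ hφ.fixed := fun c hc =>
    zpowers_le.2 h2 (hev c (K_mono (by omega) hc))
  have h4 : a.1 + a.2 = 2 := by
    have := h2.2
    rw [e2, E.r_inj] at this
    exact congrArg Prod.fst this
  have hw : E.s (a - (1, 1)) ∈ X := (h.s_mem _).2 (by
    convert sub_mem ha (diag_mem_Bj 1) using 1; abel)
  have hw2 : φ (E.s (a - (1, 1))) * φ (E.s (a - (1, 1))) = 1 := by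
    rw [← hφ.mul _ hw _ hw, E.s_mul_self_eq_one'.2 (by simp; linear_combination h4), hφ.one]
  refine hφ.mem_fixed_of_inv_mul hX hz ?_
  rw [e, E.r_inv_mul_s]
  rcases h.cases (hφ.mem _ hw) with ⟨b, hb, e'⟩ | ⟨b, hb, e'⟩
  · refine hφ.mem_fixed_of_map hw ?_
    rw [e'] at hw2 ⊢
    have := h3 b.2 (mem_Om'.2 (E.r_mul_self_eq_one.1 hw2)).2
    rwa [show (b.2, b.2) = b from Prod.ext (mem_Bj_zero.1 hb).symm rfl] at this
  · refine hφ.mem_fixed_of_inv_mul hX hw ?_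
    rw [e'] at hw2 ⊢
    rw [E.s_inv_mul_s]
    have h5 := E.s_mul_self_eq_one'.1 hw2
    have h6 := mem_Bj_zero.1 (sub_mem hb ha)
    simp only [Prod.fst_sub, Prod.snd_sub] at h6
    have := h3 (b.2 - a.2 + 1) (by rw [mem_K_one']; linear_combination h5 - h4 - h6)
    convert this using 2
    ext
    · simp; ring
    · simp; linear_combination h6

theorem oddAut_fix_center (hn : 1 ≤ n) {X : Subgroup G} {j : ℕ} {d : WA n}
    (h : E.IsS X (Bj n j) d) (hj : 1 ≤ j) {φ : G → G} (hφ : OddAut X φ) :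
    ∀ a ∈ Bj n 0, E.r a ∈ hφ.fixed := by
  have hX := E.isPGroup.to_le h.le
  have hz : E.r (1, 1) ∈ X := (h.r_mem _).2 (diag_mem_Bj 1)
  have hZ := E.isR_zpowers_diag
  have h1 := isR_inf_centralizer hn h hj
  have h2 : φ (E.r (1, 1)) ∈ zpowers (E.r (1, 1)) := by
    rw [hZ.unique h1]
    refine ⟨h.le (hφ.mem _ hz), mem_centralizer_iff.2 fun y hy => (hφ.central hz ?_ y hy).symm⟩
    exact fun y hy => (mem_centralizer_iff.1 ((h1.r_mem _).2 (diag_mem_Bj 1)).2 y hy).symm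
  exact fun a ha => zpowers_le.2 (hφ.mem_fixed_of_zpowers hX hz h2) ((hZ.r_mem a).2 ha)

theorem oddAut_moves (hn : 1 ≤ n) {X : Subgroup G} {j : ℕ} {d : WA n}
    (h : E.IsS X (Bj n j) d) (hj : 1 ≤ j) (hjn : j ≤ n) {φ : G → G} (hφ : OddAut X φ)
    (hne : ∃ x ∈ X, φ x ≠ x) :
    j = 1 ∧ ∃ a, a - d ∈ Bj n 1 ∧ a.1 + a.2 = 0 ∧ φ (E.r (hh n, 0)) = E.s a := by
  have hX := E.isPGroup.to_le h.le
  have hZ := oddAut_fix_center hn h hj hφ
  set g : ZMod (2 ^ n) := 2 ^ (n - j) with hg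
  have hgK : g ∈ K n j := two_pow_mem_K.2 (by omega)
  have hu : E.r (g, 0) ∈ X := (h.r_mem _).2 (by simpa [mem_Bj] using hgK)
  rcases h.cases (hφ.mem _ hu) with ⟨a, ha, e⟩ | ⟨a, ha, e⟩
  · exfalso
    obtain ⟨x, hx, hne⟩ := hne
    suffices H : X ≤ hφ.fixed from hne (H hx).2
    have hd := h.self_mem
    have hmul : ∀ b ∈ Bj n j, ∃ m : ℤ, m • g = b.1 - b.2 := fun b hb => by
      rw [mem_Bj, K_eq_zmultiples hjn] at hb; exact hb
    rcases h.cases (hφ.mem _ hd) with ⟨b, hb, e'⟩ | ⟨b, hb, e'⟩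
    · exfalso
      have h1 : E.r (g, 0) * E.s d = E.s d * E.r (g, 0) := by
        refine hφ.injOn (X.mul_mem hu hd) (X.mul_mem hd hu) ?_
        rw [hφ.mul _ hu _ hd, hφ.mul _ hd _ hu, e, e', E.r_comm_r]
      have h2 := mem_Bj_zero.1 (sw_eq_self.1 (E.r_comm_s.1 h1))
      rw [hg, two_pow_eq_zero_iff] at h2
      omega
    have hv : E.r (g, -g) = ⁅E.r (g, 0), E.s d⁆ := by rw [E.commutator_r_s]; simp
    have hvX : E.r (g, -g) ∈ X := by
      rw [hv, commutatorElement_def]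
      exact X.mul_mem (X.mul_mem (X.mul_mem hu hd) (X.inv_mem hu)) (X.inv_mem hd)
    have h1 : φ (E.r (g, -g)) = E.r (a - sw n a) := by
      rw [hv, commutatorElement_def, hφ.mul _ (X.mul_mem (X.mul_mem hu hd) (X.inv_mem hu)) _
        (X.inv_mem hd), hφ.mul _ (X.mul_mem hu hd) _ (X.inv_mem hu), hφ.mul _ hu _ hd, hφ.inv hu,
        hφ.inv hd, e, e', ← commutatorElement_def, E.commutator_r_s]
    have h2 := (hφ.mem_fixed_of_zpowers hX hvX (by
      obtain ⟨m, hm⟩ := hmul a ha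
      rw [h1, E.mem_zpowers_r]
      refine ⟨m, congrArg _ (Prod.ext hm ?_)⟩
      simp only [Prod.smul_snd, smul_neg, hm]; simp)).2
    rw [h1, E.r_inj] at h2
    have h3 : a.1 - a.2 = g := congrArg Prod.fst h2
    have h4 : E.r (g, 0) ∈ hφ.fixed := hφ.mem_fixed_of_inv_mul hX hu (by
      rw [e, E.r_inv_mul_r]
      refine hZ _ (mem_Bj_zero.2 ?_)
      simp; linear_combination h3)
    have h5 : ∀ c ∈ Bj n j, E.r c ∈ hφ.fixed := by
      intro c hc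
      obtain ⟨m, hm⟩ := hmul c hc
      have := mul_mem (zpow_mem h4 m) (hZ _ (diag_mem_Bj c.2))
      rw [E.r_zpow, E.r_mul_r] at this
      convert this using 2
      ext
      · simp only [Prod.fst_add, Prod.smul_fst, hm]; ring
      · simp
    exact h.le_of h5 (hφ.mem_fixed_of_inv_mul hX hd
      (by rw [e', E.s_inv_mul_s]; exact h5 _ (sw_mem_Bj _ hb)))
  · have h1 : E.r (g + g, 0) ∈ X := by simpa [E.r_mul_r] using X.mul_mem hu hu
    have h2 : φ (E.r (g + g, 0)) = E.r (a.1 + a.2, a.1 + a.2) := by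
      rw [← E.s_mul_self, ← e, ← hφ.mul _ hu _ hu, E.r_mul_r]; simp
    have h3 := (hφ.mem_fixed_of_map h1 (h2 ▸ hZ _ (diag_mem_Bj _))).2
    rw [h2, E.r_inj, Prod.ext_iff] at h3
    have h4 : g ∈ K n 1 := mem_K_one'.2 (h3.1.symm.trans h3.2)
    rw [hg, two_pow_mem_K] at h4
    obtain rfl : j = 1 := by omega
    exact ⟨rfl, a, ha, h3.2, e⟩

theorem oddAut_cases (E : WR S n) (hn : 2 ≤ n) {X : Subgroup G} (hX : X ≤ S)
    (hc : S ⊓ centralizer (X : Set G) ≤ X) {φ : G → G} (hφ : OddAut X φ)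
    (hne : ∃ x ∈ X, φ x ≠ x) :
    E.IsR X ⊤ ∨ ∃ a, E.IsS X (Bj n 1) a ∧ a.1 + a.2 = 0 ∧ φ (E.r (hh n, 0)) = E.s a := by
  rcases E.isR_or_isS hX with h | ⟨d, h⟩
  · refine Or.inl ⟨hX, fun a => ?_, h.s_not_mem⟩
    simpa using hc ⟨E.r_mem a, h.r_mem_centralizer a⟩
  obtain ⟨j, hj, e⟩ := exists_eq_Bj (B := E.rpart X) fun a ha =>
    hc ⟨E.r_mem a, (h.r_mem_centralizer a).2 (sw_eq_self.2 ha)⟩
  rw [e] at h
  rcases Nat.eq_zero_or_pos j with rfl | hj'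
  · obtain ⟨x, hx, hne⟩ := hne
    exact absurd (oddAut_Bj_zero hn h hφ hx).2 hne
  · obtain ⟨rfl, a, ha, h1, h2⟩ := oddAut_moves (by omega) h hj' hj hφ hne
    exact Or.inr ⟨a, h.change ha, h1, h2⟩

end WR

section Statements
variable {S : Type*} [Group S] [Finite S]

theorem wr_param {m n : ℕ} (E : WR (⊤ : Subgroup S) m) (hn : Nat.card S = 2 ^ (2 * n + 1)) :
    m = n := by
  have := E.card
  rw [card_top, hn] at this
  have := Nat.pow_right_injective le_rfl this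
  omega

theorem wr_classes (hS : Cfsg.IsWreathed S) :
    Nat.card {C : ConjClasses S // ∃ t : S, orderOf t = 2 ∧ ConjClasses.mk t = C} = 3 := by
  obtain ⟨n, hn, ⟨E⟩⟩ := exists_WR_top hS
  have hn1 : 1 ≤ n := by omega
  refine card_classes_eq_three (E.orderOf_z hn1) (E.orderOf_u hn1) E.orderOf_s_zero ?_
    (E.not_isConj_r_s _ _) (E.not_isConj_r_s _ _) fun t ht => E.involution_isConj hn1 (mem_top t) ht
  rw [isConj_iff]
  rintro ⟨g, hg⟩
  rw [E.r_diag_comm (diag_mem_Bj _) (mem_top g), E.r_inj] at hg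
  exact hh_ne_zero hn1 (congrArg Prod.snd hg)

theorem wr_abelian (hS : Cfsg.IsWreathed S) (n : ℕ) (hn : Nat.card S = 2 ^ (2 * n + 1)) :
    (∃! U : Subgroup S, IsMulCommutative U ∧ Nat.card U = 2 ^ (2 * n)) ∧
    ∀ U : Subgroup S, IsMulCommutative U → Nat.card U = 2 ^ (2 * n) →
      Nonempty (U ≃* Multiplicative (ZMod (2 ^ n) × ZMod (2 ^ n))) := by
  obtain ⟨m, hm, ⟨E⟩⟩ := exists_WR_top hS
  obtain rfl := wr_param E hn
  have h := E.isR_rsub ⊤
  refine ⟨⟨_, ⟨h.isMulCommutative, by rw [h.card, AddSubgroup.card_top, card_WA]⟩,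
    fun U hU => (WR.eq_U_of_card hm le_top hU.1 hU.2).unique h⟩, fun U h1 h2 => ?_⟩
  exact ⟨(WR.eq_U_of_card (E := E) hm le_top h1 h2).equiv.symm.trans
    (AddEquiv.toMultiplicative AddSubgroup.topEquiv)⟩

theorem wr_center (hS : Cfsg.IsWreathed S) (n : ℕ) (hn : Nat.card S = 2 ^ (2 * n + 1)) :
    IsCyclic (center S) ∧ Nat.card (center S) = 2 ^ n ∧ IsCyclic (commutator S) ∧
      Nat.card (commutator S) = 2 ^ n ∧ Nonempty (S ⧸ center S ≃* DihedralGroup (2 ^ n)) := by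
  obtain ⟨m, hm, ⟨E⟩⟩ := exists_WR_top hS
  obtain rfl := wr_param E hn
  have h1 : E.IsR (center S) (Bj m 0) := center_eq_top_inf (G := S) ▸ E.isR_center' (by omega)
  have h2 : E.IsR (commutator S) (Cj m 0) := E.isR_commutator'
  have h3 : Nat.card (center S) = 2 ^ m := by rw [h1.card, card_Bj (Nat.zero_le _), add_zero]
  refine ⟨by rw [h1.unique E.isR_zpowers_diag]; infer_instance, h3,
    by rw [h2.unique E.isR_zpowers_anti]; infer_instance,
    by rw [h2.card, card_Cj (Nat.zero_le _), add_zero], ?_⟩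
  refine H7.nonempty_equiv_dihedral_of_card (2 ^ m) (by positivity)
    (E.r (1, 0) : S ⧸ center S) (E.s 0 : S ⧸ center S) ?_ ?_ ?_ ?_ ?_
  · have key : ∀ k : ℕ, (E.r (1, 0) : S ⧸ center S) ^ k = 1 ↔ 2 ^ m ∣ k := fun k => by
      rw [← QuotientGroup.mk_pow, QuotientGroup.eq_one_iff, E.r_pow, h1.r_mem, mem_Bj_zero,
        ← ZMod.natCast_eq_zero_iff]
      simp
    exact Nat.dvd_antisymm (orderOf_dvd_of_pow_eq_one ((key _).2 dvd_rfl))
      ((key _).1 (pow_orderOf_eq_one _))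
  · rw [← QuotientGroup.mk_mul, E.s_mul_self_eq_one'.2 (by simp), QuotientGroup.mk_one]
  · rw [← QuotientGroup.mk_inv, ← QuotientGroup.mk_mul, ← QuotientGroup.mk_mul,
      ← QuotientGroup.mk_inv, E.s_conj_r, E.r_inv, QuotientGroup.eq, E.r_inv_mul_r, h1.r_mem,
      mem_Bj_zero]
    simp
  · rintro ⟨k, hk⟩
    have hk : (E.r (1, 0) : S ⧸ center S) ^ k = E.s 0 := hk
    rw [← QuotientGroup.mk_zpow, QuotientGroup.eq, E.r_zpow, E.r_inv_mul_s] at hk
    exact h1.s_not_mem _ hk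
  · have := (center S).card_eq_card_quotient_mul_card_subgroup
    rw [hn, h3, pow_succ', two_mul m, pow_add, ← mul_assoc] at this
    exact (Nat.eq_of_mul_eq_mul_right (by positivity) this).symm

theorem wr_four (hS : Cfsg.IsWreathed S) : ∃ T : Subgroup S, IsKleinFour T ∧ T.Normal ∧
    (∃ T₀ : Subgroup S, IsKleinFour T₀ ∧ T₀ ≠ T) ∧ ∀ T₁ T₂ : Subgroup S, IsKleinFour T₁ →
      IsKleinFour T₂ → T₁ ≠ T → T₂ ≠ T → ∃ s : S, cj s T₁ = T₂ := by
  obtain ⟨n, hn, ⟨E⟩⟩ := exists_WR_top hS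
  have hn1 : 1 ≤ n := by omega
  have hT := E.isR_rsub (Om n)
  have hB : ∀ b, b ∈ AddSubgroup.zmultiples ((hh n, hh n) : WA n) ↔ b ∈ Om n ∧ b ∈ Bj n 0 := by
    refine fun b => ⟨fun hb => ?_, fun hb => ?_⟩
    · exact AddSubgroup.zmultiples_le.2 (show _ ∈ Om n ⊓ Bj n 0 from
        ⟨⟨hh_mem_K le_rfl, hh_mem_K le_rfl⟩, diag_mem_Bj _⟩) hb
    · have h1 := mem_Bj_zero.1 hb.2
      rcases Om_cases hn1 hb.1 with rfl | rfl | rfl | rfl
      · exact zero_mem _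
      · exact AddSubgroup.mem_zmultiples _
      · exact absurd h1 (hh_ne_zero hn1)
      · exact absurd h1.symm (hh_ne_zero hn1)
  have hB2 : Nat.card (AddSubgroup.zmultiples ((hh n, hh n) : WA n)) = 2 := by
    rw [Nat.card_zmultiples, ← E.orderOf_r, E.orderOf_z hn1]
  have key : ∀ X : Subgroup S, IsKleinFour X → X ≠ E.rsub (Om n) →
      ∃ d, E.IsS X (AddSubgroup.zmultiples (hh n, hh n)) d ∧ d.1 + d.2 = 0 := by
    intro X hX hne
    have h1 : E.rpart X ≤ Om n := fun b hb =>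
      mem_Om'.2 (E.r_mul_self_eq_one.1 (kleinFour_mul_self hX hb))
    rcases E.isR_or_isS (X := X) le_top with h | ⟨d, h⟩
    · exact absurd (eq_of_le_of_card_ge (h.le_isR hT h1)
        (by rw [hT.card, card_Om hn1, hX.card_four])) hne
    · refine ⟨d, ?_, E.s_mul_self_eq_one'.1 (kleinFour_mul_self hX h.self_mem)⟩
      rwa [AddSubgroup.eq_of_le_of_card_ge (fun b hb => (hB b).2 ⟨h1 hb, sw_eq_self.1
        (h.isMulCommutative_iff.1 IsKleinFour.isMulCommutative b hb)⟩)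
        (by rw [hB2]; exact Nat.le_of_mul_le_mul_left (h.card ▸ hX.card_four.ge) two_pos)] at h
  refine ⟨_, isKleinFour_of (by rw [hT.card, card_Om hn1]) fun x hx => ?_,
    normalizer_eq_top_iff.1 (top_le_iff.1 (hT.le_normalizer sw_mem_Om)), ?_,
    fun T₁ T₂ h1 h2 h1' h2' => ?_⟩
  · obtain ⟨a, ha, rfl⟩ := hT.cases hx
    exact E.r_mul_self_eq_one.2 (mem_Om'.1 ha)
  · obtain ⟨X, hX⟩ := E.exists_isS (AddSubgroup.zmultiples (hh n, hh n)) 0
      (fun b hb => by rwa [sw_eq_self.2 ((hB b).1 hb).2]) (by simp)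
    refine ⟨X, isKleinFour_of (by rw [hX.card, hB2]) fun x hx => ?_, hX.ne_isR hT⟩
    rcases hX.cases hx with ⟨a, ha, rfl⟩ | ⟨a, ha, rfl⟩
    · exact E.r_mul_self_eq_one.2 (mem_Om'.1 ((hB a).1 ha).1)
    · rw [sub_zero, hB] at ha
      rw [E.s_mul_self_eq_one', mem_Bj_zero.1 ha.2, ← mem_K_one']
      exact ha.1.2
  · obtain ⟨d₁, h3, e1⟩ := key T₁ h1 h1'
    obtain ⟨d₂, h4, e2⟩ := key T₂ h2 h2'
    obtain ⟨c, hc⟩ := WR.isS_conj h3 h4 (e1.trans e2.symm)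
    exact ⟨_, hc⟩

theorem wr_quaternion (hS : Cfsg.IsWreathed S) (n : ℕ) (hn : Nat.card S = 2 ^ (2 * n + 1)) :
    (∃! Y : Subgroup S, Nat.card Y = 2 ^ (n + 1) ∧ Nonempty (Y ≃* QuaternionGroup (2 ^ (n - 1)))) ∧
    ∀ Y : Subgroup S, Nat.card Y = 2 ^ (n + 1) → Nonempty (Y ≃* QuaternionGroup (2 ^ (n - 1))) →
      Y.Normal := by
  obtain ⟨m, hm, ⟨E⟩⟩ := exists_WR_top hS
  obtain rfl := wr_param E hn
  have hm1 : 1 ≤ m := by omega
  obtain ⟨Y, hY⟩ := E.exists_Y hm1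
  have hc : Nat.card Y = 2 ^ (m + 1) := by
    rw [hY.card, card_Cj (Nat.zero_le _), add_zero, pow_succ']
  have key : ∀ Y' : Subgroup S, Nat.card Y' = 2 ^ (m + 1) →
      Nonempty (Y' ≃* QuaternionGroup (2 ^ (m - 1))) → Y' = Y := by
    rintro Y' h1 ⟨f⟩
    obtain ⟨B, d, h, h2, h3, -⟩ := E.isS_of_quaternion hm1 le_top (by omega) f
    refine eq_of_le_of_card_ge (h.le_isS hY h2 ?_) (by rw [h1, hc])
    rw [mem_Cj_zero]; simp; linear_combination h3
  refine ⟨⟨Y, ⟨hc, WR.Y_equiv hm hY⟩, fun Y' h => key Y' h.1 h.2⟩, fun Y' h1 h2 => ?_⟩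
  rw [key Y' h1 h2]
  refine ⟨fun a ha g => (Y.mul_mem_cancel_left (Y.inv_mem ha)).1 ?_⟩
  exact E.inv_mul_conj_mem' (fun b => (hY.r_mem b).2) trivial trivial

theorem wr_omega (hS : Cfsg.IsWreathed S) (n : ℕ) (hn : Nat.card S = 2 ^ (2 * n + 1)) :
    Nat.card (closure {x : S | orderOf x = 2}) = 2 ^ (n + 2) ∧
      ∃ s : S, closure {x : S | orderOf x = 2} ⊔ zpowers s = ⊤ := by
  obtain ⟨m, hm, ⟨E⟩⟩ := exists_WR_top hS
  obtain rfl := wr_param E hn
  have hm1 : 1 ≤ m := by omega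
  obtain ⟨W, hW⟩ := E.exists_isS (Cj m 1) 0 sw_mem_Cj (by simp)
  have e : closure {x : S | orderOf x = 2} = W := by
    apply le_antisymm
    · rw [closure_le]
      intro t ht
      rcases E.involution_cases hm1 (mem_top t) ht with rfl | (rfl | rfl) | ⟨a, ha, rfl⟩
      · exact (hW.r_mem _).2 (by simp [mem_Cj, hh_add_hh hm1])
      · exact (hW.r_mem _).2 (by simp [mem_Cj, hh_mem_K])
      · exact (hW.r_mem _).2 (by simp [mem_Cj, hh_mem_K])
      · exact (hW.s_mem _).2 (by simp [mem_Cj, ha])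
    · have hs : ∀ a : WA m, a.1 + a.2 = 0 → E.s a ∈ closure {x : S | orderOf x = 2} :=
        fun a ha => subset_closure (E.orderOf_s_two.2 ha)
      have hr : ∀ a : WA m, a.1 + a.2 = 0 → E.r a ∈ closure {x : S | orderOf x = 2} := by
        intro a ha
        have := mul_mem (hs a ha) (inv_mem (hs 0 (by simp)))
        rwa [E.s_mul_s_inv, sub_zero] at this
      refine hW.le_of (fun a ha => ?_) (hs 0 (by simp))
      rcases (mem_K_one hm1).1 ha with h | h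
      · exact hr a h
      · have h' : a.1 + a.2 = hh m := h
        have := mul_mem (hr (a - (hh m, 0)) (by simp; linear_combination h'))
          (subset_closure (E.orderOf_u hm1))
        rwa [E.r_mul_r, sub_add_cancel] at this
  rw [e]
  refine ⟨by rw [hW.card, card_Cj hm1, ← pow_succ'], E.r (1, 0), top_le_iff.1
    ((E.isS_top 0).le_of (fun a _ => ?_) (mem_sup_left hW.self_mem))⟩
  obtain ⟨k, hk⟩ := ZMod.intCast_surjective (a.1 + a.2)
  have := mul_mem (mem_sup_left (T := zpowers (E.r (1, 0))) ((hW.r_mem (-a.2, a.2)).2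
    (by simp [mem_Cj]))) (mem_sup_right (zpow_mem (mem_zpowers _) k))
  rw [E.r_zpow, E.r_mul_r] at this
  convert this using 2
  ext <;> simp [hk]

theorem wr_center_le (hS : Cfsg.IsWreathed S) (X : Subgroup S) (hX : ¬ IsMulCommutative X) :
    (center X).map X.subtype ≤ center S := by
  obtain ⟨m, hm, ⟨E⟩⟩ := exists_WR_top hS
  rw [map_center_eq, center_eq_top_inf]
  exact E.center_le (by omega) le_top hX

theorem wr_odd (hS : Cfsg.IsWreathed S) (n : ℕ) (hn : Nat.card S = 2 ^ (2 * n + 1))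
    (X : Subgroup S) (hC : centralizer (X : Set S) ≤ X) (hA : ¬ IsPGroup 2 (MulAut X)) :
    X.relIndex (normalizer (X : Set S)) = 2 ∧
    ((IsMulCommutative X ∧ Nat.card X = 2 ^ (2 * n)) ∨
      ∃ Q : Subgroup S, Nonempty (Q ≃* QuaternionGroup 2) ∧ X = Q ⊔ center S) ∧
    ∀ X' : Subgroup S, centralizer (X' : Set S) ≤ X' → ¬ IsPGroup 2 (MulAut X') →
      ¬ IsMulCommutative X → ¬ IsMulCommutative X' → ∃ s : S, cj s X = X' := by
  obtain ⟨m, hm, ⟨E⟩⟩ := exists_WR_top hS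
  obtain rfl := wr_param E hn
  have key : ∀ X : Subgroup S, centralizer (X : Set S) ≤ X → ¬ IsPGroup 2 (MulAut X) →
      E.IsR X ⊤ ∨ ∃ a, E.IsS X (Bj m 1) a ∧ a.1 + a.2 = 0 := by
    intro X hC hA
    obtain ⟨φ, hφ, hne⟩ := exists_oddAut_of_not_isPGroup hA
    refine (E.oddAut_cases hm le_top (inf_le_right.trans hC) hφ hne).imp id ?_
    rintro ⟨a, h1, h2, -⟩
    exact ⟨a, h1, h2⟩
  rcases key X hC hA with h | ⟨a, h, ha⟩
  · refine ⟨?_, Or.inl ⟨h.isMulCommutative, by rw [h.card, AddSubgroup.card_top, card_WA]⟩,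
      fun _ _ _ h' => absurd h.isMulCommutative h'⟩
    rw [top_le_iff.1 (WR.le_normalizer_U h)]
    exact WR.relIndex_U h
  · refine ⟨by simpa using WR.isS_relIndex_normalizer h hm, Or.inr ?_, fun X' h1 h2 _ h3 => ?_⟩
    · obtain ⟨Q, -, hQ, e⟩ := WR.exists_q8 hm h ha
      exact ⟨Q, hQ, by rw [e, center_eq_top_inf]⟩
    · rcases key X' h1 h2 with h' | ⟨a', h', ha'⟩
      · exact absurd h'.isMulCommutative h3
      · obtain ⟨c, hc⟩ := WR.isS_conj h h' (ha.trans ha'.symm)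
        exact ⟨_, hc⟩

end Statements

end H22
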