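import Mathlib

/-! Generic lemmas for Chapter II of Peterfalvi's proof of Suzuki's theorem. -/

set_option autoImplicit false

namespace H22

open Subgroup

/-- a solvable normal subgroup not contained in `P` has a normal subgroup abelian modulo `P` -/
theorem exists_abelian_section {L : Type*} [Group L] (N P : Subgroup L) [N.Normal]
    [Group.IsSolvable N] (h : ¬ N ≤ P) :
    ∃ A : Subgroup L, A.Normal ∧ A ≤ N ∧ ¬ A ≤ P ∧ ∀ x ∈ A, ∀ y ∈ A, x * y * x⁻¹ * y⁻¹ ∈ P := by
  classical
  have hex : ∃ n, (derivedSeries N n).map N.subtype ≤ P := by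
    obtain ⟨n, hn⟩ := (Group.isSolvable_def N).mp inferInstance
    exact ⟨n, by rw [hn, Subgroup.map_bot]; exact bot_le⟩
  obtain ⟨n, hn, hmin⟩ : ∃ n, (derivedSeries N n).map N.subtype ≤ P ∧
      ∀ m < n, ¬ (derivedSeries N m).map N.subtype ≤ P :=
    ⟨Nat.find hex, Nat.find_spec hex, fun m hm => Nat.find_min hex hm⟩
  cases n with
  | zero =>
    exact absurd (by simpa [← MonoidHom.range_eq_map] using hn) h
  | succ n =>
    refine ⟨(derivedSeries N n).map N.subtype, inferInstance, map_subtype_le _,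
      hmin n (Nat.lt_succ_self n), ?_⟩
    rintro _ ⟨x, hx, rfl⟩ _ ⟨y, hy, rfl⟩
    exact hn ⟨x * y * x⁻¹ * y⁻¹, commutator_mem_commutator hx hy, by simp⟩

theorem card_ker_comp_le {A : Type*} [AddCommGroup A] [Finite A] (φ ψ : A →+ A) :
    Nat.card (ψ.comp φ).ker ≤ Nat.card ψ.ker * Nat.card φ.ker := by
  let f : (ψ.comp φ).ker →+ ψ.ker := (φ.comp (ψ.comp φ).ker.subtype).codRestrict ψ.ker fun x => x.2
  rw [← AddSubgroup.card_mul_index f.ker, AddSubgroup.index_ker, mul_comm]
  refine Nat.mul_le_mul (AddSubgroup.card_le_card_addGroup _) ?_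
  exact Nat.card_le_card_of_injective (fun x => (⟨x.1.1, congrArg Subtype.val x.2⟩ : φ.ker))
    fun x y e => Subtype.ext (Subtype.ext (congrArg (fun z : φ.ker => (z : A)) e))

theorem card_le_pow_fix_add {A : Type*} [AddCommGroup A] [Finite A] {p : ℕ} (hp : p.Prime)
    (hA : ∀ x : A, p • x = 0) (ω : AddMonoid.End A) (hω : ω ^ p = 1) :
    Nat.card A ≤ Nat.card (AddMonoidHom.ker (ω - 1 : AddMonoid.End A)) ^ p := by
  have h0 : (p : AddMonoid.End A) = 0 := by
    ext x
    simpa using hA x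
  obtain ⟨c, hc⟩ := Commute.exists_add_pow_prime_eq hp (Commute.one_right (ω - 1))
  rw [sub_add_cancel, hω, one_pow, h0] at hc
  have h1 : (ω - 1) ^ p = 0 := by simpa using hc
  have h2 : ∀ n : ℕ, Nat.card (AddMonoidHom.ker ((ω - 1) ^ n : AddMonoid.End A)) ≤
      Nat.card (AddMonoidHom.ker (ω - 1 : AddMonoid.End A)) ^ n := fun n => by
    induction n with
    | zero =>
      rw [pow_zero, pow_zero]
      have : AddMonoidHom.ker (1 : AddMonoid.End A) = ⊥ :=
        (AddMonoidHom.ker_eq_bot_iff _).mpr fun _ _ e => e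
      rw [this, AddSubgroup.card_bot]
    | succ n ih =>
      rw [pow_succ, pow_succ]
      exact (card_ker_comp_le _ _).trans (Nat.mul_le_mul_right _ ih)
  have h3 := h2 p
  rw [h1] at h3
  have : AddMonoidHom.ker (0 : AddMonoid.End A) = ⊤ := AddMonoidHom.ker_zero
  rwa [this, AddSubgroup.card_top] at h3

/-- an automorphism of order `p` of an elementary abelian `p`-group `A` has at least
`|A|^{1/p}` fixed points -/
theorem card_le_pow_fix {A : Type*} [CommGroup A] [Finite A] {p : ℕ} (hp : p.Prime)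
    (hA : ∀ x : A, x ^ p = 1) (ω : A →* A) (hω : ∀ x, ω^[p] x = x) :
    Nat.card A ≤ Nat.card (ω.eqLocus (MonoidHom.id A)) ^ p := by
  let ω' : AddMonoid.End (Additive A) := MonoidHom.toAdditive ω
  have h := card_le_pow_fix_add (A := Additive A) hp (fun x => hA x.toMul) ω' (by
      refine AddMonoidHom.ext fun x => ?_
      change (ω' ^ p) x = x
      rw [AddMonoid.End.coe_pow]
      exact hω x.toMul)
  refine h.trans (le_of_eq ?_)
  congr 1
  refine Nat.card_congr (Equiv.subtypeEquiv (Additive.toMul) fun x => ?_)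
  change ω' x - x = 0 ↔ ω x.toMul = x.toMul
  rw [sub_eq_zero]
  rfl

variable {G : Type*} [Group G]

/-- the number of conjugates of `x` under `N` -/
theorem relIndex_centralizer (N : Subgroup G) (x : G) :
    (centralizer {x}).relIndex N = Set.ncard {y | ∃ n ∈ N, n * x * n⁻¹ = y} := by
  let : MulAction N G := MulAction.compHom G ((ConjAct.toConjAct.toMonoidHom).comp N.subtype)
  have h1 : (centralizer {x}).subgroupOf N = MulAction.stabilizer N x := by
    ext n
    rw [mem_subgroupOf, mem_centralizer_singleton_iff, MulAction.mem_stabilizer_iff]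
    change _ ↔ (n : G) * x * (n : G)⁻¹ = x
    rw [mul_inv_eq_iff_eq_mul]
  rw [relIndex, h1, MulAction.index_stabilizer]
  congr 1
  ext y
  exact ⟨fun ⟨n, e⟩ => ⟨n, n.2, e⟩, fun ⟨n, hn, e⟩ => ⟨⟨n, hn⟩, e⟩⟩

theorem card_modEq_cent [Finite G] {p : ℕ} [Fact p.Prime] {P U : Subgroup G} (hP : IsPGroup p P)
    (h : ∀ g ∈ P, ∀ u ∈ U, g * u * g⁻¹ ∈ U) :
    Nat.card U ≡ Nat.card ↥(U ⊓ centralizer (P : Set G)) [MOD p] := by
  let : MulAction P U :=
    { smul := fun g u => ⟨g * u * (g : G)⁻¹, h g g.2 u u.2⟩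
      one_smul := fun u => Subtype.ext (by
        change (1 : G) * u * (1 : G)⁻¹ = u
        simp)
      mul_smul := fun g k u => Subtype.ext (by
        change (g : G) * k * u * ((g : G) * k)⁻¹ = g * (k * u * (k : G)⁻¹) * (g : G)⁻¹
        group) }
  have h1 := hP.card_modEq_card_fixedPoints U
  rwa [Nat.card_congr (α := MulAction.fixedPoints P U) (β := ↥(U ⊓ centralizer (P : Set G))) ?_]
    at h1
  exact
    { toFun := fun u => ⟨u.1.1, u.1.2, fun g hg =>
        mul_inv_eq_iff_eq_mul.mp (congrArg Subtype.val (u.2 ⟨g, hg⟩))⟩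
      invFun := fun u => ⟨⟨u.1, u.2.1⟩, fun g => Subtype.ext
        (mul_inv_eq_iff_eq_mul.mpr (u.2.2 g g.2))⟩
      left_inv := fun _ => rfl
      right_inv := fun _ => rfl }

/-- the elements of a group of prime order -/
theorem mem_zpowers_of_prime [Finite G] {P : Subgroup G} (hp : (Nat.card P).Prime) {x y : G}
    (hx : x ∈ P) (h1 : x ≠ 1) (hy : y ∈ P) : ∃ n : ℕ, x ^ n = y := by
  have : Fact (Nat.card P).Prime := ⟨hp⟩
  obtain ⟨n, hn⟩ := mem_powers_of_prime_card (G := P) rfl (g := ⟨x, hx⟩) (g' := ⟨y, hy⟩)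
    fun h => h1 (congrArg Subtype.val h)
  exact ⟨n, congrArg Subtype.val hn⟩

/-- a finite field of order `2 ^ p` has at most `p` automorphisms -/
theorem card_ringAut_le {F : Type*} [Field F] [Finite F] {p : ℕ} (h : Nat.card F = 2 ^ p) :
    Nat.card (F ≃+* F) ≤ p := by
  classical
  have := Fintype.ofFinite F
  have : Finite (F ≃+* F) := Finite.of_injective _ (DFunLike.coe_injective (F := F ≃+* F))
  have := Fintype.ofFinite (F ≃+* F)
  let F0 := FixedPoints.subfield (F ≃+* F) F
  have h1 : Module.finrank F0 F = Nat.card (F ≃+* F) := by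
    rw [FixedPoints.finrank_eq_card, Nat.card_eq_fintype_card]
  have h2 : Nat.card F = Nat.card F0 ^ Nat.card (F ≃+* F) := by
    rw [← h1, Module.natCard_eq_pow_finrank (K := F0)]
  have h3 : 2 ≤ Nat.card F0 := Finite.one_lt_card
  have h4 : 2 ^ Nat.card (F ≃+* F) ≤ 2 ^ p := by
    rw [← h, h2]
    exact Nat.pow_le_pow_left h3 _
  exact (Nat.pow_le_pow_iff_right (by norm_num)).mp h4

/-- a normal subgroup of a nilpotent group of given prime power order -/
theorem exists_sylow_char [Finite G] {Q : Subgroup G} (hQ : Group.IsNilpotent Q) (l : ℕ)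
    [Fact l.Prime] : ∃ S : Subgroup G, S ≤ Q ∧ Nat.card S = l ^ (Nat.card Q).factorization l ∧
      ∀ g : G, (∀ u ∈ Q, g * u * g⁻¹ ∈ Q) → ∀ u ∈ S, g * u * g⁻¹ ∈ S := by
  obtain ⟨S⟩ : Nonempty (Sylow l Q) := inferInstance
  have hn : (S : Subgroup Q).Normal := by
    have h : ∀ (p : ℕ) (_hp : Fact p.Prime) (P : Sylow p Q), (↑P : Subgroup Q).Normal :=
      ((Group.isNilpotent_of_finite_tfae (G := Q)).out 0 3).mp hQ
    exact h l inferInstance S
  refine ⟨(S : Subgroup Q).map Q.subtype, map_subtype_le _, ?_, ?_⟩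
  · rw [card_map_of_injective Q.subtype_injective, S.card_eq_multiplicity]
  · rintro g hg _ ⟨u, hu, rfl⟩
    have h1 : IsPGroup l (zpowers (⟨g * u * g⁻¹, hg u u.2⟩ : Q)) := by
      obtain ⟨k, hk⟩ := S.isPGroup' ⟨u, hu⟩
      have h2 : (u : G) ^ l ^ k = 1 := congrArg (fun z : S => ((z : Q) : G)) hk
      rintro ⟨_, n, rfl⟩
      refine ⟨k, Subtype.ext (Subtype.ext ?_)⟩
      simp only [SubgroupClass.coe_pow, SubgroupClass.coe_zpow,
        OneMemClass.coe_one]
      rw [← zpow_natCast, ← zpow_mul, mul_comm, zpow_mul, zpow_natCast, conj_pow, h2]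
      simp
    obtain ⟨S', hS'⟩ := h1.exists_le_sylow
    have := S.unique_of_normal hn
    rw [Subsingleton.elim S' S] at hS'
    exact ⟨_, hS' (mem_zpowers _), rfl⟩

end H22
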