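import Mathlib
import Cfsg.Agent.H8.SuzInd
import Cfsg.Agent.H6.Transfer2
import Cfsg.Agent.H22.SuzII1

/-! Chapter II of Peterfalvi's proof of Suzuki's theorem: first steps. -/

set_option autoImplicit false
set_option linter.unusedSectionVars false

namespace H22
namespace SuzII

open Cfsg MulAction H8.Suz H21.RankOne Subgroup

variable {G Ω : Type*} [Group G] [Finite G] [MulAction G Ω] {a : Ω} {t : G} {Q : Subgroup G}
  {s r : G} {P : Subgroup G}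

/-- the elements of `H` acting on `Q₀` like an element of `K` -/
def BB (hG : Hyp G Ω a t Q s r) : Subgroup G where
  carrier := {h | h • a = a ∧ ∃ k ∈ KK a t, ∀ z ∈ Q0 Q, h⁻¹ * z * h = k⁻¹ * z * k}
  one_mem' := ⟨one_smul _ _, 1, one_mem _, fun _ _ => rfl⟩
  mul_mem' := by
    rintro h h' ⟨h1, k, hk, e⟩ ⟨h1', k', hk', e'⟩
    refine ⟨by rw [mul_smul, h1', h1], k * k', mul_mem hk hk', fun z hz => ?_⟩
    calc (h * h')⁻¹ * z * (h * h') = h'⁻¹ * (h⁻¹ * z * h) * h' := by group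
      _ = _ := by rw [e z hz, e' _ (hG.conj_Q0 (KK_le hk).1 hz)]; group
  inv_mem' := by
    rintro h ⟨h1, k, hk, e⟩
    refine ⟨by rw [inv_smul_eq_iff, h1], k⁻¹, inv_mem hk, fun z hz => ?_⟩
    have := e _ (hG.conj_Q0 (KK_le (inv_mem hk)).1 hz)
    calc h⁻¹⁻¹ * z * h⁻¹ = h * (k⁻¹ * (k⁻¹⁻¹ * z * k⁻¹) * k) * h⁻¹ := by group
      _ = _ := by rw [← this]; group

theorem Q_le_BB (hG : Hyp G Ω a t Q s r) : Q ≤ BB hG := fun u hu =>
  ⟨Q_fix hG.setup hu, 1, one_mem _, fun z hz => by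
    rw [mul_assoc, hG.Q0_central hz hu]; group⟩

theorem K_le_BB (hG : Hyp G Ω a t Q s r) : KK a t ≤ BB hG := fun k hk =>
  ⟨(KK_le hk).1, k, hk, fun _ _ => rfl⟩

theorem W_le_BB (hG : Hyp G Ω a t Q s r) : WW a t Q ≤ BB hG := fun w hw =>
  ⟨hw.1.1, 1, one_mem _, fun z hz => by
    rw [mul_assoc, (mem_WW.mp hw).2 z hz]; group⟩

theorem conj_BB (hG : Hyp G Ω a t Q s r) {d h : G} (hd : d ∈ DD a t) (hh : h ∈ BB hG) :
    d * h * d⁻¹ ∈ BB hG := by
  obtain ⟨h1, k, hk, e⟩ := hh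
  have hd1 : d • a = a := hd.1
  refine ⟨by rw [mul_smul, mul_smul, inv_smul_eq_iff.mpr hd1.symm, h1, hd1], _,
    hG.conj_KK (inv_mem hd) hk, fun z hz => ?_⟩
  calc (d * h * d⁻¹)⁻¹ * z * (d * h * d⁻¹) = d * (h⁻¹ * (d⁻¹ * z * d) * h) * d⁻¹ := by group
    _ = _ := by rw [e _ (hG.conj_Q0 hd1 hz)]; group

/-- The hypotheses of Chapter II. -/
structure B1 (Ω : Type*) [MulAction G Ω] (a : Ω) (t : G) (Q : Subgroup G) (s r : G)
    (P : Subgroup G) : Prop where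
  hyp : Hyp G Ω a t Q s r
  le : P ≤ VV a t
  prime : (Nat.card P).Prime
  cent : ∀ z ∈ Q0 Q ⊓ centralizer (P : Set G), z = 1 ∨ z = s

/-- `c` is fixed by `P` -/
def Fx (P : Subgroup G) (c : Ω) : Prop := ∀ y ∈ P, y • c = c

namespace B1

variable (h : B1 Ω a t Q s r P)
include h

theorem odd : Odd (Nat.card P) :=
  h.hyp.odd_D.of_dvd_nat (card_dvd_of_le (h.le.trans inf_le_left))

theorem three_le : 3 ≤ Nat.card P := by
  have h1 := h.prime.two_le
  have h2 := h.odd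
  rcases h1.eq_or_lt with e | e
  · rw [← e] at h2; exact absurd h2 (by decide)
  · exact e

theorem fact : Fact (Nat.card P).Prime := ⟨h.prime⟩

theorem isPGroup : IsPGroup (Nat.card P) P := IsPGroup.of_card (n := 1) (pow_one _).symm

omit h in
theorem pow_card {y : G} (hy : y ∈ P) : y ^ Nat.card P = 1 := H21.pow_card_eq_one_of_mem hy

theorem exists_ne_one : ∃ x ∈ P, x ≠ 1 := by
  by_contra hc
  push Not at hc
  have : P = ⊥ := eq_bot_iff.mpr hc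
  have h1 := h.prime.one_lt
  rw [this, card_bot] at h1
  exact lt_irrefl _ h1

theorem mem_cent {x g : G} (hx : x ∈ P) (h1 : x ≠ 1) (hg : x * g = g * x) :
    g ∈ centralizer (P : Set G) := fun y hy => by
  obtain ⟨n, rfl⟩ := mem_zpowers_of_prime h.prime hx h1 hy
  exact ((show Commute x g from hg).pow_left n).eq

theorem cent_eq {x : G} (hx : x ∈ P) (h1 : x ≠ 1) : centralizer {x} = centralizer (P : Set G) :=
  le_antisymm (fun _ hg => h.mem_cent hx h1 (mem_centralizer_singleton_iff.mp hg).symm)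
    (centralizer_le (Set.singleton_subset_iff.mpr hx))

theorem le_L : P ≤ centralizer (P : Set G) := fun x hx => by
  by_cases h1 : x = 1
  · rw [h1]; exact one_mem _
  · exact h.mem_cent hx h1 rfl

theorem P_comm {x y : G} (hx : x ∈ P) (hy : y ∈ P) : x * y = y * x := h.le_L hy x hx

theorem not_le_W : ¬ P ≤ WW a t Q := fun hW => by
  obtain ⟨z, hz, h1, h2⟩ := h.hyp.exists_ne_s
  rcases h.cent z ⟨hz, fun y hy => ((mem_WW.mp (hW hy)).2 z hz).symm⟩ with e | e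
  · exact h1 e
  · exact h2 e

theorem eq_one_of_mem_W {y : G} (hy : y ∈ P) (hw : y ∈ WW a t Q) : y = 1 := by
  by_contra h1
  exact h.not_le_W fun z hz => by
    obtain ⟨n, rfl⟩ := mem_zpowers_of_prime h.prime hy h1 hz
    exact pow_mem hw n

theorem s_mem_L : s ∈ centralizer (P : Set G) := h.hyp.s_mem_cent h.le

theorem t_mem_L : t ∈ centralizer (P : Set G) := t_mem_cent h.le

theorem card_Q0_inf : Nat.card ↥(Q0 Q ⊓ centralizer (P : Set G)) = 2 := by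
  have : Q0 Q ⊓ centralizer (P : Set G) = zpowers s := by
    refine le_antisymm (fun z hz => ?_) (zpowers_le.mpr ⟨h.hyp.s_mem_Q0, h.s_mem_L⟩)
    rcases h.cent z hz with e | e
    · rw [e]; exact one_mem _
    · rw [e]; exact mem_zpowers _
  rw [this, Nat.card_zpowers]
  exact orderOf_eq_prime (by rw [pow_two, h.hyp.s_sq]) h.hyp.s_ne

theorem card_Q0 : Nat.card (Q0 Q) = 2 ^ Nat.card P := by
  rw [← h.card_Q0_inf]
  refine h.hyp.card_eq_pow_cent h.le h.prime h.not_le_W Q0_le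
    (fun k hk x hx => h.hyp.conj_Q0 (KK_le hk).1 hx)
    (fun k hk x hx => h.hyp.conj_Q0 (h.le hk).1.1 hx) fun hd => ?_
  obtain ⟨n, -, hn⟩ := h.hyp.card_Q0
  rw [hn] at hd
  have := (Nat.prime_dvd_prime_iff_eq h.prime Nat.prime_two).mp (h.prime.dvd_of_dvd_pow hd)
  have := h.three_le
  omega

theorem card_K : Nat.card (KK a t) + 1 = 2 ^ Nat.card P := by rw [h.hyp.card_KK, h.card_Q0]

theorem exists_WP {v : G} (hv : v ∈ VV a t) : ∃ w ∈ WW a t Q, ∃ y ∈ P, v = w * y := by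
  obtain ⟨F, _, _, e, κ, hF⟩ := h.hyp.exists_fld
  obtain ⟨x, hx, hx1⟩ := h.exists_ne_one
  have := h.fact
  obtain ⟨σ, hσ⟩ := hF.conjV x (h.le hx)
  have hpow : ∀ n : ℕ, ∀ z, (x ^ n)⁻¹ * e z * x ^ n = e ((σ ^ n) z) := fun n => by
    induction n with
    | zero => simp
    | succ n ih =>
      intro z
      rw [pow_succ' σ, RingAut.mul_apply, ← hσ, ← ih, pow_succ]
      group
  have ho : orderOf σ = Nat.card P := by
    refine orderOf_eq_prime (RingEquiv.ext fun z => hF.inj ?_) fun h1 => hx1 ?_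
    · rw [← hpow, pow_card hx]; simp
    · refine h.eq_one_of_mem_W hx (mem_WW.mpr ⟨(h.le hx).1, fun z hz => ?_⟩)
      obtain ⟨z, rfl⟩ := hF.surj z hz
      have := hσ z
      rw [h1, RingAut.one_apply] at this
      calc e z * x = x * (x⁻¹ * e z * x) := by group
        _ = _ := by rw [this]
  have : Finite (F ≃+* F) := Finite.of_injective _ (DFunLike.coe_injective (F := F ≃+* F))
  have h1 : zpowers σ = ⊤ := by
    apply eq_top_of_le_card
    rw [Nat.card_zpowers, ho]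
    exact card_ringAut_le (by rw [hF.card, h.card_Q0])
  obtain ⟨τ, hτ⟩ := hF.conjV v hv
  obtain ⟨n, hn⟩ := mem_powers_iff_mem_zpowers.mpr (h1 ▸ mem_top τ : τ ∈ zpowers σ)
  refine ⟨v * (x ^ n)⁻¹, mem_WW.mpr ⟨mul_mem hv.1 (inv_mem (h.le (pow_mem hx n)).1),
    fun z hz => ?_⟩, x ^ n, pow_mem hx n, by group⟩
  obtain ⟨z, rfl⟩ := hF.surj z hz
  have h2 := hpow n z
  rw [show σ ^ n = τ from hn, ← hτ] at h2
  calc e z * (v * (x ^ n)⁻¹) = v * (v⁻¹ * e z * v) * (x ^ n)⁻¹ := by group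
    _ = _ := by rw [← h2]; group

theorem eq_s {z : G} (hz : z ∈ Q) (hL : z ∈ centralizer (P : Set G)) (h1 : z ≠ 1)
    (h2 : z * z = 1) : z = s :=
  (h.cent z ⟨h.hyp.mem_Q0.mpr ⟨hz, h2⟩, hL⟩).resolve_left h1

theorem conj_s {d : G} (hd : d • a = a) (hL : d ∈ centralizer (P : Set G)) : d⁻¹ * s * d = s :=
  (h.cent _ ⟨h.hyp.conj_Q0 hd h.hyp.s_mem_Q0,
    Subgroup.mul_mem _ (Subgroup.mul_mem _ (Subgroup.inv_mem _ hL) h.s_mem_L) hL⟩).resolve_left fun e =>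
      h.hyp.s_ne (by simpa [mul_assoc] using congrArg (d * · * d⁻¹) e)

theorem mem_V {d : G} (hd : d ∈ DD a t) (hL : d ∈ centralizer (P : Set G)) : d ∈ VV a t :=
  h.hyp.mem_VV_iff.mpr ⟨hd, by
    calc s * d = d * (d⁻¹ * s * d) := by group
      _ = _ := by rw [h.conj_s hd.1 hL]⟩

theorem exists_WP' {d : G} (hd : d ∈ DD a t) (hL : d ∈ centralizer (P : Set G)) :
    ∃ w ∈ WW a t Q ⊓ centralizer (P : Set G), ∃ y ∈ P, d = w * y := by
  obtain ⟨w, hw, y, hy, rfl⟩ := h.exists_WP (h.mem_V hd hL)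
  exact ⟨w, ⟨hw, (mul_mem_cancel_right (h.le_L hy)).mp hL⟩, y, hy, rfl⟩

theorem exists_BP {g : G} (hg : g • a = a) : ∃ b ∈ BB h.hyp, ∃ y ∈ P, g = b * y := by
  obtain ⟨u, hu, d, hd, rfl⟩ := exists_QD h.hyp.setup hg
  obtain ⟨k, hk, v, hv, rfl⟩ := h.hyp.exists_KV hd
  obtain ⟨w, hw, y, hy, rfl⟩ := h.exists_WP hv
  exact ⟨u * k * w, mul_mem (mul_mem (Q_le_BB _ hu) (K_le_BB _ hk)) (W_le_BB _ hw), y, hy,
    by group⟩

theorem eq_one_of_mem_B {y : G} (hy : y ∈ P) (hb : y ∈ BB h.hyp) : y = 1 := by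
  obtain ⟨-, k, hk, e⟩ := hb
  have h1 : k = 1 := h.hyp.K_eq_of_conj_s hk (one_mem _) (by
    rw [← e s h.hyp.s_mem_Q0, h.conj_s (h.le hy).1.1 (h.le_L hy)]; group)
  refine h.eq_one_of_mem_W hy (mem_WW.mpr ⟨(h.le hy).1, fun z hz => ?_⟩)
  calc z * y = y * (y⁻¹ * z * y) := by group
    _ = _ := by rw [e z hz, h1]; group

theorem conj_B {g b : G} (hg : g • a = a) (hb : b ∈ BB h.hyp) : g * b * g⁻¹ ∈ BB h.hyp := by
  obtain ⟨b', hb', y, hy, rfl⟩ := h.exists_BP hg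
  have := mul_mem (mul_mem hb' (conj_BB _ (h.le hy).1 hb)) (inv_mem hb')
  convert this using 1
  group

theorem comm_mem_B {g g' : G} (hg : g • a = a) (hg' : g' • a = a) :
    g * g' * g⁻¹ * g'⁻¹ ∈ BB h.hyp := by
  obtain ⟨b, hb, y, hy, rfl⟩ := h.exists_BP hg
  obtain ⟨b', hb', y', hy', rfl⟩ := h.exists_BP hg'
  have := mul_mem (mul_mem (mul_mem hb (conj_BB _ (h.le hy).1 hb'))
    (conj_BB _ (h.le hy').1 (inv_mem hb))) (inv_mem hb')
  convert this using 1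
  calc b * y * (b' * y') * (b * y)⁻¹ * (b' * y')⁻¹
      = b * y * b' * (y' * y⁻¹) * b⁻¹ * (b' * y')⁻¹ := by group
    _ = _ := by rw [h.P_comm hy' (inv_mem hy)]; group

theorem fx_a : Fx P a := fun _ hy => (h.le hy).1.1

theorem fx_b : Fx P (t • a) := fun _ hy => (h.le hy).1.2

omit h [Finite G] in
theorem _root_.H22.SuzII.Fx.smul {c : Ω} (hc : Fx P c) {l : G}
    (hl : l ∈ centralizer (P : Set G)) : Fx P (l • c) := fix_smul_of_cent hl hc

theorem three : ∃ b c d : Ω, b ≠ c ∧ b ≠ d ∧ c ≠ d ∧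
    ∀ x ∈ (P : Set G), x • b = b ∧ x • c = c ∧ x • d = d :=
  ⟨a, t • a, s • t • a, (ta_ne h.hyp.setup).symm,
    (smul_ne_of_fix (Q_fix h.hyp.setup h.hyp.s_mem) (ta_ne h.hyp.setup)).symm,
    fun e => h.hyp.s_ne (eq_one_of_mem_Q_of_fix_b h.hyp.setup h.hyp.s_mem e.symm),
    fun x hx => ⟨h.fx_a x hx, h.fx_b x hx, h.fx_b.smul h.s_mem_L x hx⟩⟩

theorem exists_L_smul {c c' : Ω} (hc : Fx P c) (hc' : Fx P c') :
    ∃ l ∈ centralizer (P : Set G), l • c = c' :=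
  exists_cent_smul h.hyp.setup h.three hc hc'

theorem exists_C_smul {c c' : Ω} (h1 : c ≠ a) (h2 : c' ≠ a) (hc : Fx P c) (hc' : Fx P c') :
    ∃ u ∈ Q ⊓ centralizer (P : Set G), u • c = c' := by
  obtain ⟨u, h3, h4, e⟩ := exists_Q_cent_smul h.hyp.setup (Y := P) h.fx_a h1 h2 hc hc'
  exact ⟨u, ⟨h3, h4⟩, e⟩

theorem fx_of {y : G} (hy : y ∈ P) (h1 : y ≠ 1) {c : Ω} (hc : y • c = c) : Fx P c := fun z hz => by
  obtain ⟨n, rfl⟩ := mem_zpowers_of_prime h.prime hy h1 hz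
  exact pow_mem (show y ∈ stabilizer G c from hc) n

theorem conj_mul_inv_mem_B {g y : G} (hy : y ∈ P) (hg : (g * y * g⁻¹) • a = a) :
    g * y * g⁻¹ * y⁻¹ ∈ BB h.hyp := by
  by_cases h1 : y = 1
  · simp [h1, one_mem]
  obtain ⟨l, hl, e⟩ := h.exists_L_smul h.fx_a (h.fx_of hy h1 (c := g⁻¹ • a) (by
    rw [eq_inv_smul_iff, ← mul_smul, ← mul_smul, hg]))
  have := h.comm_mem_B (g := g * l) (by rw [mul_smul, e, smul_inv_smul]) (h.fx_a y hy)
  convert this using 2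
  calc g * y * g⁻¹ = g * (y * l) * l⁻¹ * g⁻¹ := by group
    _ = _ := by rw [hl y hy]; group

/-- `N_G(P) = C_G(P)` -/
theorem conj_eq {g y : G} (hy : y ∈ P) (hg : g * y * g⁻¹ ∈ P) : g * y * g⁻¹ = y :=
  mul_inv_eq_one.mp (h.eq_one_of_mem_B (mul_mem hg (inv_mem hy))
    (h.conj_mul_inv_mem_B hy (h.fx_a _ hg)))

theorem mem_L_of_conj {g y : G} (hy : y ∈ P) (h1 : y ≠ 1) (hg : g * y * g⁻¹ ∈ P) :
    g ∈ centralizer (P : Set G) :=
  h.mem_cent hy h1 (mul_inv_eq_iff_eq_mul.mp (h.conj_eq hy hg)).symm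

theorem commutator_eq_top [IsSimpleGroup G] : commutator G = ⊤ := by
  refine (IsSimpleGroup.eq_bot_or_eq_top_of_normal _ inferInstance).resolve_left fun e => ?_
  obtain ⟨x, hx, hx1⟩ := h.exists_ne_one
  refine hx1 (h.hyp.eq_one_of_cent_Q (h.le hx).1 fun u _ => ?_)
  have : u * x * u⁻¹ * x⁻¹ ∈ commutator G := commutator_mem_commutator (mem_top u) (mem_top x)
  rwa [e, mem_bot, mul_inv_eq_one, mul_inv_eq_iff_eq_mul] at this

theorem orderOf_eq {x : G} (hx : x ∈ P) (h1 : x ≠ 1) : orderOf x = Nat.card P := by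
  have := h.fact
  exact orderOf_eq_prime (pow_card hx) h1

theorem dvd_card_Q_succ [IsSimpleGroup G] : Nat.card P ∣ Nat.card Q + 1 := by
  by_contra hd
  obtain ⟨x, hx, hx1⟩ := h.exists_ne_one
  refine H6.not_mem_commutator_of_fusion (p := Nat.card P) (stabilizer G a) (BB h.hyp)
    ⟨fun b hb g => h.conj_B g.2 hb⟩ (fun g hg g' hg' => h.comm_mem_B hg hg') ?_ x (h.fx_a x hx)
    (fun hb => hx1 (h.eq_one_of_mem_B hx hb)) ⟨1, by rw [pow_one, h.orderOf_eq hx hx1]⟩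
    (fun m g hg => h.conj_mul_inv_mem_B (zpow_mem hx m) hg) (h.commutator_eq_top ▸ mem_top x)
  rw [index_H h.hyp.setup, card_Omega h.hyp.setup]
  exact (Nat.Prime.coprime_iff_not_dvd h.prime).mpr hd

theorem not_dvd_card_Q [IsSimpleGroup G] : ¬ Nat.card P ∣ Nat.card Q := fun hd =>
  h.prime.one_lt.ne' (Nat.dvd_one.mp ((Nat.dvd_add_right hd).mp h.dvd_card_Q_succ))

theorem card_Q [IsSimpleGroup G] :
    Nat.card Q = Nat.card ↥(Q ⊓ centralizer (P : Set G)) ^ Nat.card P :=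
  h.hyp.card_eq_pow_cent h.le h.prime h.not_le_W le_rfl
    (fun _ hk _ hx => h.hyp.conj_Q (KK_le hk) hx) (fun _ hk _ hx => h.hyp.conj_Q (h.le hk).1 hx)
    h.not_dvd_card_Q

theorem dvd_card_C_succ [IsSimpleGroup G] :
    Nat.card P ∣ Nat.card ↥(Q ⊓ centralizer (P : Set G)) + 1 := by
  have := h.fact
  have h1 := h.dvd_card_Q_succ
  rw [h.card_Q, ← ZMod.natCast_eq_zero_iff] at h1
  rw [← ZMod.natCast_eq_zero_iff]
  push_cast at h1 ⊢
  rwa [ZMod.pow_card] at h1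

theorem card_Q_inf [IsSimpleGroup G] {w : G} (hw : w ∈ WW a t Q ⊓ centralizer (P : Set G)) :
    Nat.card ↥(Q ⊓ centralizer {w}) =
      Nat.card ↥(Q ⊓ centralizer {w} ⊓ centralizer (P : Set G)) ^ Nat.card P := by
  have key : ∀ d ∈ DD a t, d * w = w * d → ∀ x ∈ Q ⊓ centralizer {w},
      d⁻¹ * x * d ∈ Q ⊓ centralizer {w} := fun d hd e x hx =>
    ⟨h.hyp.conj_Q hd hx.1, Subgroup.mul_mem _ (Subgroup.mul_mem _
      (Subgroup.inv_mem _ (mem_centralizer_singleton_iff.mpr e)) hx.2)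
      (mem_centralizer_singleton_iff.mpr e)⟩
  exact h.hyp.card_eq_pow_cent h.le h.prime h.not_le_W inf_le_left
    (fun k hk => key k (KK_le hk) (h.hyp.K_W_comm hk hw.1))
    (fun y hy => key y (h.le hy).1 (hw.2 y hy))
    fun hd => h.not_dvd_card_Q (hd.trans (card_dvd_of_le inf_le_left))

theorem eq_one_of_cent_C [IsSimpleGroup G] {w : G} (hw : w ∈ WW a t Q ⊓ centralizer (P : Set G))
    (hc : ∀ u ∈ Q ⊓ centralizer (P : Set G), u * w = w * u) : w = 1 := by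
  have h1 : Q ⊓ centralizer {w} ⊓ centralizer (P : Set G) = Q ⊓ centralizer (P : Set G) :=
    le_antisymm (inf_le_inf_right _ inf_le_left) fun u hu =>
      ⟨⟨hu.1, mem_centralizer_singleton_iff.mpr (hc u hu)⟩, hu.2⟩
  have h2 := h.card_Q_inf hw
  rw [h1, ← h.card_Q] at h2
  have h3 := eq_of_le_of_card_ge (inf_le_left : Q ⊓ centralizer {w} ≤ Q) h2.ge
  exact h.hyp.eq_one_of_cent_Q hw.1.1 fun u hu =>
    mem_centralizer_singleton_iff.mp (h3.ge hu).2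

/-- the kernel of the action of `C_G(P)` on the fixed points of `P` -/
theorem mem_P_of_fix [IsSimpleGroup G] {l : G} (hl : l ∈ centralizer (P : Set G))
    (hf : ∀ c : Ω, Fx P c → l • c = c) : l ∈ P := by
  obtain ⟨w, hw, y, hy, rfl⟩ := h.exists_WP' ⟨hf _ h.fx_a, hf _ h.fx_b⟩ hl
  rw [h.eq_one_of_cent_C hw fun u hu => ?_, one_mul]
  · exact hy
  have h1 := hf _ (h.fx_b.smul hu.2)
  rw [mul_smul, h.fx_b.smul hu.2 y hy] at h1
  have h2 : w • t • a = t • a := hw.1.1.2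
  have h3 := eq_of_mem_Q_of_smul_eq h.hyp.setup (conj_mem_Q h.hyp.setup hw.1.1.1 hu.1) hu.1
    (ta_ne h.hyp.setup) (by rw [mul_smul, mul_smul, inv_smul_eq_iff.mpr h2.symm, h1])
  exact (mul_inv_eq_iff_eq_mul.mp h3).symm

end B1

end SuzII
end H22
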