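import Mathlib
import Cfsg.Agent.H17.ZStar
import Cfsg.Agent.H22.SuzII2

/-! Chapter II of Peterfalvi's proof of Suzuki's theorem: the regular normal subgroup of
`C_G(P)/P`. -/

set_option autoImplicit false
set_option linter.unusedSectionVars false

namespace H22
namespace SuzII

open Cfsg MulAction H8.Suz H21.RankOne Subgroup

variable {G Ω : Type*} [Group G] [Finite G] [MulAction G Ω] {a : Ω} {t : G} {Q : Subgroup G}
  {s r : G} {P R : Subgroup G}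

/-- `R/P` is a non-trivial abelian normal subgroup of `C_G(P)/P`. -/
structure RR (P R : Subgroup G) : Prop where
  le : P ≤ R
  le_L : R ≤ centralizer (P : Set G)
  conj : ∀ l ∈ centralizer (P : Set G), ∀ ρ ∈ R, l * ρ * l⁻¹ ∈ R
  comm : ∀ x ∈ R, ∀ y ∈ R, x * y * x⁻¹ * y⁻¹ ∈ P
  not_le : ¬ R ≤ P

namespace B1

variable (h : B1 Ω a t Q s r P)
include h

theorem eq_one_of_sq {y : G} (hy : y ∈ P) (h2 : y * y = 1) : y = 1 :=
  H21.eq_one_of_sq_of_mem_odd h.odd hy h2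

theorem exists_RR : ∃ R : Subgroup G, RR P R := by
  let L := centralizer (P : Set G)
  have hiso : IsIsolatedInvolution (⟨s, h.s_mem_L⟩ : L) := by
    refine ⟨orderOf_eq_prime (Subtype.ext (by simpa [pow_two] using h.hyp.s_sq))
      fun e => h.hyp.s_ne (congrArg Subtype.val e), fun g hg => Subtype.ext ?_⟩
    have h1 : Commute s (g * s * (g : G)⁻¹) := congrArg Subtype.val hg
    obtain ⟨h2, h3⟩ := conj_invol (g := (g : G)) h.hyp.s_ne h.hyp.s_sq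
    exact h.eq_s (invol_mem_Q h.hyp.setup (fix_of_commute h.hyp.setup h.hyp.s_ne h.hyp.s_sq
      (Q_fix h.hyp.setup h.hyp.s_mem) h1) h3) (g * ⟨s, h.s_mem_L⟩ * g⁻¹ : L).2 h2 h3
  have hO := H17.zstar hiso ⟨t, h.t_mem_L⟩
  have := Cfsg.Agent.S0205.result (H17.odd_card_pPrimeCore (G := L))
  obtain ⟨A, hA, -, hAP, hc⟩ := exists_abelian_section (pPrimeCore 2 L) (P.subgroupOf L) fun hle => by
    have h1 : s * t * s⁻¹ * t⁻¹ ∈ P := hle hO
    have h2 := h.s_mem_L _ h1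
    have h3 := h.eq_one_of_sq h1 (by
      calc s * t * s⁻¹ * t⁻¹ * (s * t * s⁻¹ * t⁻¹) = s * t * s⁻¹ * t⁻¹ * s * (t * s⁻¹ * t⁻¹) := by
            group
        _ = _ := by
          rw [h2, h.hyp.s_inv, h.hyp.t_inv]
          simp only [mul_assoc, h.hyp.tt_mul]
          rw [← mul_assoc, h.hyp.s_sq, one_mul, ← mul_assoc s, h.hyp.s_sq, one_mul, h.hyp.tt])
    rw [mul_inv_eq_one, mul_inv_eq_iff_eq_mul] at h3
    exact ta_ne h.hyp.setup (fix_of_commute h.hyp.setup h.hyp.s_ne h.hyp.s_sq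
      (Q_fix h.hyp.setup h.hyp.s_mem) h3)
  refine ⟨{ carrier := {g | ∃ u ∈ A, ∃ y ∈ P, g = (u : G) * y}
            one_mem' := ⟨1, one_mem _, 1, one_mem _, by simp⟩
            mul_mem' := ?_
            inv_mem' := ?_ }, ?_, ?_, ?_, ?_, ?_⟩
  · rintro _ _ ⟨u, hu, y, hy, rfl⟩ ⟨u', hu', y', hy', rfl⟩
    refine ⟨u * u', mul_mem hu hu', y * y', mul_mem hy hy', ?_⟩
    rw [coe_mul, mul_assoc, mul_assoc, ← mul_assoc y, u'.2 y hy, mul_assoc]
  · rintro _ ⟨u, hu, y, hy, rfl⟩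
    exact ⟨u⁻¹, inv_mem hu, y⁻¹, inv_mem hy, by rw [mul_inv_rev]; exact (u⁻¹).2 _ (inv_mem hy)⟩
  · exact fun y hy => ⟨1, one_mem _, y, hy, by simp⟩
  · rintro _ ⟨u, -, y, hy, rfl⟩
    exact mul_mem u.2 (h.le_L hy)
  · rintro l hl _ ⟨u, hu, y, hy, rfl⟩
    refine ⟨_, hA.conj_mem u hu ⟨l, hl⟩, y, hy, ?_⟩
    change l * (u * y) * l⁻¹ = l * u * l⁻¹ * y
    rw [mul_assoc, mul_assoc, inv_mem hl y hy]
    group
  · rintro _ ⟨u, hu, y, hy, rfl⟩ _ ⟨u', hu', y', hy', rfl⟩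
    have h1 : (u : G) * u' * (u : G)⁻¹ * (u' : G)⁻¹ ∈ P := hc u hu u' hu'
    convert h1 using 1
    have e1 := mul_mem u'.2 (h.le_L hy') y hy
    have e2 := (u⁻¹).2 y' hy'
    calc (u : G) * y * (u' * y') * (u * y)⁻¹ * (u' * y')⁻¹
        = u * (y * (u' * y')) * y⁻¹ * (u : G)⁻¹ * (u' * y')⁻¹ := by group
      _ = u * u' * (y' * (u⁻¹ : L)) * y'⁻¹ * (u' : G)⁻¹ := by rw [e1, coe_inv]; group
      _ = _ := by rw [e2, coe_inv]; group
  · exact fun hle => hAP fun u hu => hle ⟨u, hu, 1, one_mem _, by simp⟩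

variable [IsSimpleGroup G] (hR : RR P R)
include hR

theorem exists_R_smul {c : Ω} (hc : Fx P c) : ∃ ρ ∈ R, ρ • a = c := by
  by_cases hca : c = a
  · exact ⟨1, one_mem _, by rw [one_smul, hca]⟩
  obtain ⟨ρ, hρ, hρP⟩ := SetLike.not_le_iff_exists.mp hR.not_le
  obtain ⟨d, hd, hne⟩ : ∃ d : Ω, Fx P d ∧ ρ • d ≠ d := by
    by_contra hcon
    push Not at hcon
    exact hρP (h.mem_P_of_fix (hR.le_L hρ) hcon)
  obtain ⟨l, hl, rfl⟩ := h.exists_L_smul h.fx_a hd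
  have h1 := hR.conj _ (inv_mem hl) ρ hρ
  obtain ⟨u, hu, e⟩ := h.exists_C_smul (c := (l⁻¹ * ρ * l⁻¹⁻¹) • a) (fun e => hne (by
    rwa [inv_inv, mul_smul, mul_smul, inv_smul_eq_iff] at e)) hca (h.fx_a.smul (hR.le_L h1)) hc
  refine ⟨_, hR.conj u hu.2 _ h1, ?_⟩
  rw [mul_smul, mul_smul, Q_fix h.hyp.setup (inv_mem hu.1), e]

theorem mem_P_of_mem_R {ρ : G} (hρ : ρ ∈ R) (ha : ρ • a = a) : ρ ∈ P := by
  refine h.mem_P_of_fix (hR.le_L hρ) fun c hc => ?_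
  obtain ⟨σ, hσ, rfl⟩ := h.exists_R_smul hR hc
  have h1 := h.fx_a _ (hR.comm _ (inv_mem hσ) _ hρ)
  rw [mul_smul _ ρ⁻¹, inv_smul_eq_iff.mpr ha.symm, inv_inv, mul_smul, mul_smul,
    inv_smul_eq_iff] at h1
  exact h1

theorem smul_ne {ρ : G} (hρ : ρ ∈ R) (hP : ρ ∉ P) : ρ • a ≠ a := fun e =>
  hP (h.mem_P_of_mem_R hR hρ e)

/-- `C` is transitive on `(R/P)^#` -/
theorem exists_C_conj {ρ σ : G} (hρ : ρ ∈ R) (hρP : ρ ∉ P) (hσ : σ ∈ R) (hσP : σ ∉ P) :
    ∃ u ∈ Q ⊓ centralizer (P : Set G), ∃ y ∈ P, σ = u * ρ * u⁻¹ * y := by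
  obtain ⟨u, hu, e⟩ := h.exists_C_smul (h.smul_ne hR hρ hρP) (h.smul_ne hR hσ hσP)
    (h.fx_a.smul (hR.le_L hρ)) (h.fx_a.smul (hR.le_L hσ))
  refine ⟨u, hu, (u * ρ * u⁻¹)⁻¹ * σ, h.mem_P_of_mem_R hR
    (mul_mem (inv_mem (hR.conj u hu.2 ρ hρ)) hσ) ?_, by group⟩
  rw [mul_smul, inv_smul_eq_iff, mul_smul, mul_smul, Q_fix h.hyp.setup (inv_mem hu.1), e]

/-- `C` is semiregular on `(R/P)^#` -/
theorem eq_one_of_conj {ρ u y : G} (hρ : ρ ∈ R) (hρP : ρ ∉ P) (hu : u ∈ Q) (hy : y ∈ P)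
    (e : u * ρ * u⁻¹ = ρ * y) : u = 1 := by
  refine eq_one_of_mem_Q_of_fix h.hyp.setup hu (h.smul_ne hR hρ hρP) ?_
  have := congrArg (· • a) e
  simpa only [mul_smul, Q_fix h.hyp.setup (inv_mem hu), h.fx_a y hy] using this

theorem card_fix {w : G} (hw : w ∈ DD a t) {S : Subgroup G}
    (hS : ∀ ρ, ρ ∈ S ↔ ρ ∈ R ∧ w • ρ • a = ρ • a) :
    Nat.card S = (Nat.card ↥(Q ⊓ centralizer {w} ⊓ centralizer (P : Set G)) + 1) * Nat.card P := by
  obtain ⟨ρ₁, h1, e1⟩ := h.exists_R_smul hR h.fx_b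
  have hw1 : w • a = a := hw.1
  have hw2 : w • t • a = t • a := hw.2
  have key : ∀ u ∈ Q, ∀ y ∈ P, (u * ρ₁ * u⁻¹ * y) • a = u • t • a := fun u hu y hy => by
    simp only [mul_smul, Q_fix h.hyp.setup (inv_mem hu), h.fx_a y hy, e1]
  let f : Option ↥(Q ⊓ centralizer {w} ⊓ centralizer (P : Set G)) × P → S := fun z =>
    match z with
    | (none, y) => ⟨y, (hS _).mpr ⟨hR.le y.2, by rw [h.fx_a _ y.2, hw1]⟩⟩
    | (some u, y) => ⟨u * ρ₁ * (u : G)⁻¹ * y, (hS _).mpr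
        ⟨mul_mem (hR.conj u u.2.2 _ h1) (hR.le y.2), by
          rw [key u u.2.1.1 y y.2, ← mul_smul, ← mem_centralizer_singleton_iff.mp u.2.1.2,
            mul_smul, hw2]⟩⟩
  rw [← Finite.card_option, ← Nat.card_prod]
  refine (Nat.card_eq_of_bijective f ⟨?_, ?_⟩).symm
  · rintro ⟨_ | u, y⟩ ⟨_ | u', y'⟩ e
    · rw [show y = y' from Subtype.ext (congrArg (fun z : S => (z : G)) e)]
    · have e' : (y : G) = u' * ρ₁ * (u' : G)⁻¹ * y' := congrArg Subtype.val e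
      have := key u' u'.2.1.1 y' y'.2
      rw [← e', h.fx_a _ y.2] at this
      exact absurd this.symm (smul_ne_of_fix (Q_fix h.hyp.setup u'.2.1.1) (ta_ne h.hyp.setup))
    · have e' : u * ρ₁ * (u : G)⁻¹ * y = (y' : G) := congrArg Subtype.val e
      have := key u u.2.1.1 y y.2
      rw [e', h.fx_a _ y'.2] at this
      exact absurd this.symm (smul_ne_of_fix (Q_fix h.hyp.setup u.2.1.1) (ta_ne h.hyp.setup))
    · have e' : u * ρ₁ * (u : G)⁻¹ * y = u' * ρ₁ * (u' : G)⁻¹ * y' := congrArg Subtype.val e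
      have h2 := key u u.2.1.1 y y.2
      rw [e', key u' u'.2.1.1 y' y'.2] at h2
      have h3 : u' = u := Subtype.ext
        (eq_of_mem_Q_of_smul_eq h.hyp.setup u'.2.1.1 u.2.1.1 (ta_ne h.hyp.setup) h2)
      subst h3
      rw [show y = y' from Subtype.ext (mul_left_cancel e')]
  · rintro ⟨ρ, hρ⟩
    obtain ⟨h2, h3⟩ := (hS ρ).mp hρ
    by_cases ha : ρ • a = a
    · exact ⟨(none, ⟨ρ, h.mem_P_of_mem_R hR h2 ha⟩), rfl⟩
    obtain ⟨u, hu, hu', e⟩ := exists_Q_cent_smul h.hyp.setup (Y := insert w P)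
      (by rintro y (rfl | hy); exacts [hw1, h.fx_a y hy]) (ta_ne h.hyp.setup) ha
      (by rintro y (rfl | hy); exacts [hw2, h.fx_b y hy])
      (by rintro y (rfl | hy); exacts [h3, h.fx_a.smul (hR.le_L h2) y hy])
    have h4 : u ∈ centralizer (P : Set G) := centralizer_le (Set.subset_insert _ _) hu'
    refine ⟨(some ⟨u, ⟨hu, mem_centralizer_singleton_iff.mpr (hu' w (Set.mem_insert _ _)).symm⟩,
      h4⟩, ⟨(u * ρ₁ * u⁻¹)⁻¹ * ρ, h.mem_P_of_mem_R hR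
        (mul_mem (inv_mem (hR.conj u h4 _ h1)) h2) ?_⟩), Subtype.ext ?_⟩
    · rw [mul_smul, inv_smul_eq_iff, ← e, ← key u hu 1 (one_mem _), mul_one]
    · exact mul_inv_cancel_left _ _

theorem card_R :
    Nat.card R = (Nat.card ↥(Q ⊓ centralizer (P : Set G)) + 1) * Nat.card P := by
  have := h.card_fix hR (w := 1) (one_mem _) (S := R) (by simp)
  rwa [show centralizer {(1 : G)} = ⊤ from eq_top_iff.mpr fun g _ =>
    mem_centralizer_singleton_iff.mpr (by simp), inf_top_eq] at this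

theorem normal_P : (P.subgroupOf R).Normal := ⟨fun y hy ρ => by
  have : (ρ : G) * y * (ρ : G)⁻¹ = y := by rw [← hR.le_L ρ.2 y hy]; group
  change (ρ : G) * y * (ρ : G)⁻¹ ∈ P
  rwa [this]⟩

theorem pow_mem_P {ρ : G} (hρ : ρ ∈ R) : ρ ^ Nat.card P ∈ P := by
  by_cases hP : ρ ∈ P
  · exact pow_mem hP _
  have := h.fact
  have := h.normal_P hR
  have h1 : Nat.card P ∣ Nat.card (R ⧸ P.subgroupOf R) := by
    have h2 := card_eq_card_quotient_mul_card_subgroup (P.subgroupOf R)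
    rw [Nat.card_congr (subgroupOfEquivOfLe hR.le).toEquiv, h.card_R hR] at h2
    rw [← Nat.eq_of_mul_eq_mul_right Nat.card_pos h2]
    exact h.dvd_card_C_succ
  obtain ⟨z, hz⟩ := exists_prime_orderOf_dvd_card' _ h1
  obtain ⟨σ, rfl⟩ := QuotientGroup.mk_surjective z
  have h2 : (σ : G) ∉ P := fun hσ => by
    rw [(QuotientGroup.eq_one_iff σ).mpr hσ, orderOf_one] at hz
    exact h.prime.one_lt.ne hz
  have h3 : (σ : G) ^ Nat.card P ∈ P := by
    have := pow_orderOf_eq_one (σ : R ⧸ P.subgroupOf R)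
    rw [hz, ← QuotientGroup.mk_pow, QuotientGroup.eq_one_iff] at this
    exact this
  obtain ⟨u, hu, y, hy, rfl⟩ := h.exists_C_conj hR σ.2 h2 hρ hP
  rw [(show Commute _ y from (hR.le_L (hR.conj u hu.2 _ σ.2) y hy).symm).mul_pow, conj_pow,
    ← hu.2 _ h3, mul_inv_cancel_right]
  exact mul_mem h3 (pow_mem hy _)

theorem isPGroup_R : IsPGroup (Nat.card P) R := fun ρ =>
  ⟨2, Subtype.ext (by
    rw [pow_two, pow_mul]
    exact pow_card (h.pow_mem_P hR ρ.2))⟩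

omit hR in
theorem exists_pow_of_le {S : Subgroup G} (hS : IsPGroup (Nat.card P) S) {n : ℕ}
    (e : Nat.card S = n * Nat.card P) : ∃ m, n = Nat.card P ^ m := by
  have := h.fact
  obtain ⟨k, hk⟩ := IsPGroup.iff_card.mp hS
  obtain ⟨m, -, hm⟩ := (Nat.dvd_prime_pow h.prime).mp (Dvd.intro _ (e.symm.trans hk))
  exact ⟨m, hm⟩

theorem exists_card_C : ∃ m, 1 ≤ m ∧
    Nat.card ↥(Q ⊓ centralizer (P : Set G)) + 1 = Nat.card P ^ m := by
  obtain ⟨m, hm⟩ := h.exists_pow_of_le (h.isPGroup_R hR) (h.card_R hR)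
  refine ⟨m, ?_, hm⟩
  by_contra h0
  rw [show m = 0 by omega, pow_zero] at hm
  have := Nat.card_pos (α := ↥(Q ⊓ centralizer (P : Set G)))
  omega

/-- bounds given by an element of order `p` of `C_D(P)` -/
theorem card_fix_bound {w : G} (hw : w ∈ DD a t) (hwL : w ∈ centralizer (P : Set G))
    (hwp : w ^ Nat.card P = 1) :
    (∃ j, Nat.card ↥(Q ⊓ centralizer {w} ⊓ centralizer (P : Set G)) + 1 = Nat.card P ^ j) ∧
    Nat.card ↥(Q ⊓ centralizer (P : Set G)) + 1 ≤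
      (Nat.card ↥(Q ⊓ centralizer {w} ⊓ centralizer (P : Set G)) + 1) ^ Nat.card P := by
  have := h.normal_P hR
  let _ : CommGroup (R ⧸ P.subgroupOf R) :=
    { (inferInstance : Group (R ⧸ P.subgroupOf R)) with
      mul_comm := fun x y => by
        obtain ⟨x, rfl⟩ := QuotientGroup.mk_surjective x
        obtain ⟨y, rfl⟩ := QuotientGroup.mk_surjective y
        rw [← QuotientGroup.mk_mul, ← QuotientGroup.mk_mul, QuotientGroup.eq]
        have := hR.comm _ (inv_mem y.2) _ (inv_mem x.2)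
        rw [mem_subgroupOf]
        simpa [mul_assoc] using this }
  let φ : R →* R :=
    { toFun := fun ρ => ⟨w * ρ * w⁻¹, hR.conj w hwL ρ ρ.2⟩
      map_one' := Subtype.ext (by simp)
      map_mul' := fun x y => Subtype.ext (by
        change w * ((x : G) * y) * w⁻¹ = w * x * w⁻¹ * (w * y * w⁻¹)
        group) }
  let ω : R ⧸ P.subgroupOf R →* R ⧸ P.subgroupOf R := QuotientGroup.map _ _ φ fun y hy => by
    have : w * (y : G) * w⁻¹ = y := by rw [← hwL y hy]; group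
    change w * (y : G) * w⁻¹ ∈ P
    rwa [this]
  have hφ : ∀ (n : ℕ) (ρ : R), ω^[n] ρ = (φ^[n] ρ : R) ∧
      ((φ^[n] ρ : R) : G) = w ^ n * ρ * (w ^ n)⁻¹ := fun n ρ => by
    induction n with
    | zero => simp
    | succ n ih =>
      rw [Function.iterate_succ_apply', Function.iterate_succ_apply', ih.1]
      refine ⟨rfl, ?_⟩
      change w * ((φ^[n] ρ : R) : G) * w⁻¹ = _
      rw [ih.2]; group
  have h1 := card_le_pow_fix h.prime (fun x => by
    obtain ⟨x, rfl⟩ := QuotientGroup.mk_surjective x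
    rw [← QuotientGroup.mk_pow, QuotientGroup.eq_one_iff]
    exact h.pow_mem_P hR x.2) ω fun x => by
      obtain ⟨x, rfl⟩ := QuotientGroup.mk_surjective x
      rw [(hφ _ x).1]
      congr 1
      exact Subtype.ext (by rw [(hφ _ x).2, hwp]; simp)
  let S := (ω.eqLocus (MonoidHom.id _)).comap (QuotientGroup.mk' (P.subgroupOf R))
  have hw1 : w • a = a := hw.1
  have h2 := h.card_fix hR hw (S := S.map R.subtype) fun ρ => by
    have key : ∀ ρ : R, ρ ∈ S ↔ w • (ρ : G) • a = (ρ : G) • a := fun ρ => by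
      change ((φ ρ : R) : R ⧸ P.subgroupOf R) = ρ ↔ _
      rw [eq_comm, QuotientGroup.eq, mem_subgroupOf]
      change (ρ : G)⁻¹ * (w * ρ * w⁻¹) ∈ P ↔ _
      have e : ((ρ : G)⁻¹ * (w * ρ * w⁻¹)) • a = a ↔ w • (ρ : G) • a = (ρ : G) • a := by
        rw [mul_smul, mul_smul, mul_smul, inv_smul_eq_iff.mpr hw1.symm, inv_smul_eq_iff]
      exact ⟨fun hP => e.mp (h.fx_a _ hP), fun hf => h.mem_P_of_mem_R hR
        (mul_mem (inv_mem ρ.2) (hR.conj w hwL ρ ρ.2)) (e.mpr hf)⟩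
    exact ⟨by rintro ⟨ρ, hρ, rfl⟩; exact ⟨ρ.2, (key ρ).mp hρ⟩,
      fun hρ => ⟨⟨ρ, hρ.1⟩, (key _).mpr hρ.2, rfl⟩⟩
  refine ⟨h.exists_pow_of_le ((h.isPGroup_R hR).to_le (map_subtype_le S)) h2, ?_⟩
  have h3 := card_eq_card_quotient_mul_card_subgroup (P.subgroupOf R)
  rw [Nat.card_congr (subgroupOfEquivOfLe hR.le).toEquiv] at h3
  have h4 : S.index = (ω.eqLocus (MonoidHom.id _)).index :=
    index_comap_of_surjective _ (QuotientGroup.mk'_surjective _)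
  have h5 := card_mul_index S
  have h6 := card_mul_index (ω.eqLocus (MonoidHom.id _))
  rw [card_map_of_injective R.subtype_injective] at h2
  have h7 : Nat.card ↥(Q ⊓ centralizer {w} ⊓ centralizer (P : Set G)) + 1 =
      Nat.card (ω.eqLocus (MonoidHom.id _)) := by
    rw [h3, ← h6, h4, h2, mul_right_comm] at h5
    exact Nat.eq_of_mul_eq_mul_right (Nat.pos_of_ne_zero index_ne_zero_of_finite)
      (Nat.eq_of_mul_eq_mul_right Nat.card_pos h5)
  rw [h.card_R hR] at h3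
  rw [h7, Nat.eq_of_mul_eq_mul_right Nat.card_pos h3]
  exact h1

end B1

end SuzII
end H22
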