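import Mathlib
import Cfsg.Agent.H22.SuzII3

/-! Chapter II of Peterfalvi's proof of Suzuki's theorem: the case `p ∣ |C_W(P)|`. -/

set_option autoImplicit false
set_option linter.unusedSectionVars false

namespace H22
namespace SuzII

open Cfsg MulAction H8.Suz H21.RankOne Subgroup

variable {G Ω : Type*} [Group G] [Finite G] [MulAction G Ω] {a : Ω} {t : G} {Q : Subgroup G}
  {s r : G} {P R : Subgroup G}

theorem card_modEq_one (hG : Hyp G Ω a t Q s r) {l : ℕ} (hl : l.Prime)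
    (hK : Nat.card (KK a t) = l) {S : Subgroup G} (hS : S ≤ Q)
    (hc : ∀ k ∈ KK a t, ∀ u ∈ S, k * u * k⁻¹ ∈ S) : Nat.card S ≡ 1 [MOD l] := by
  have : Fact l.Prime := ⟨hl⟩
  have h1 := card_modEq_cent (IsPGroup.of_card (n := 1) (hK.trans (pow_one l).symm)) hc
  obtain ⟨k, hk, hk1⟩ := hG.exists_KK_ne_one
  rwa [show S ⊓ centralizer (KK a t : Set G) = ⊥ from eq_bot_iff.mpr fun u hu =>
    hG.K_fpf hk hk1 (hS hu.1) (hu.2 k hk), card_bot] at h1

theorem numeric {p c cw m j : ℕ} (hp : p.Prime) (hcw : cw = 2 ∨ cw = 4 ∨ cw = 8)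
    (hj : cw + 1 = p ^ j) (hm : c + 1 = p ^ m) (hle : c + 1 ≤ (cw + 1) ^ p) (hne : c ≠ cw)
    (hd : cw ∣ c) (h3 : p = 3 → c ^ 3 ≡ 1 [MOD 7]) (h5 : p = 5 → c ^ 5 ≡ 1 [MOD 31] ∧ c ≠ 624) :
    p = 3 ∧ c = 8 ∧ cw = 2 := by
  have key : ∀ l : ℕ, l.Prime → l ∣ cw + 1 → p = l := fun l hl hd =>
    ((Nat.prime_dvd_prime_iff_eq hl hp).mp (hl.dvd_of_dvd_pow (hj ▸ hd))).symm
  rcases hcw with rfl | rfl | rfl
  · obtain rfl := key 3 Nat.prime_three (by norm_num)
    rw [hm] at hle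
    have h1 : m ≤ 3 := (Nat.pow_le_pow_iff_right (by norm_num)).mp hle
    have h2 := h3 rfl
    interval_cases m <;> simp only [Nat.reducePow] at hm <;>
      obtain rfl : c = _ := Nat.eq_sub_of_add_eq hm <;> revert hne h2 <;> decide
  · obtain rfl := key 5 Nat.prime_five (by norm_num)
    rw [hm] at hle
    have h1 : m ≤ 5 := (Nat.pow_le_pow_iff_right (by norm_num)).mp hle
    have h2 := h5 rfl
    interval_cases m <;> simp only [Nat.reducePow] at hm <;>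
      obtain rfl : c = _ := Nat.eq_sub_of_add_eq hm <;> revert hne h2 <;> decide
  · obtain rfl := key 3 Nat.prime_three (by norm_num)
    rw [hm, show (8 + 1) ^ 3 = 3 ^ 6 by norm_num] at hle
    have h1 : m ≤ 6 := (Nat.pow_le_pow_iff_right (by norm_num)).mp hle
    have h2 := h3 rfl
    interval_cases m <;> simp only [Nat.reducePow] at hm <;>
      obtain rfl : c = _ := Nat.eq_sub_of_add_eq hm <;> revert hne h2 hd <;> decide

namespace B1

variable (h : B1 Ω a t Q s r P) [IsSimpleGroup G]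
include h

theorem card_eq_eight (hL : Loc a t Q s r) {w : G} (hw : w ∈ WW a t Q ⊓ centralizer (P : Set G))
    (hw1 : w ≠ 1) (hwp : w ^ Nat.card P = 1) :
    Nat.card P = 3 ∧ Nat.card ↥(Q ⊓ centralizer (P : Set G)) = 8 ∧
      Nat.card ↥(Q ⊓ centralizer {w} ⊓ centralizer (P : Set G)) = 2 := by
  obtain ⟨R, hR⟩ := h.exists_RR
  obtain ⟨m, -, hm⟩ := h.exists_card_C hR
  obtain ⟨⟨j, hj⟩, hle⟩ := h.card_fix_bound hR hw.1.1 hw.2 hwp
  have e1 : centralizer (zpowers w : Set G) = centralizer {w} := by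
    rw [zpowers_eq_closure, centralizer_closure]
  have e2 : Q0 Q ⊓ centralizer {w} = Q0 Q := inf_eq_left.mpr fun z hz =>
    mem_centralizer_singleton_iff.mpr ((mem_WW.mp hw.1).2 z hz)
  have h1 := (hL (zpowers w) (zpowers_le.mpr (h.hyp.WW_le_VV hw.1)) (zpowers_ne_bot.mpr hw1) (by
    rw [e1, e2]; exact h.hyp.exists_ne_s)).card
  rw [e1, e2, h.card_Q0, h.card_Q_inf hw] at h1
  have hp0 := h.prime.ne_zero
  have hQ : ∀ k ∈ KK a t, ∀ u ∈ Q, k * u * k⁻¹ ∈ Q := fun k hk u hu =>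
    conj_mem_Q h.hyp.setup (KK_le hk).1 hu
  refine numeric h.prime ?_ hj hm hle (fun e => hw1 (h.eq_one_of_cent_C hw fun u hu => ?_))
    (card_dvd_of_le (inf_le_inf_right _ inf_le_left)) (fun e => ?_) fun e => ⟨?_, fun e' => ?_⟩
  · rcases h1 with h1 | ⟨h1, -⟩ | ⟨h1, -⟩
    · exact Or.inl (Nat.pow_left_injective hp0 h1)
    · rw [← pow_mul, mul_comm, pow_mul] at h1
      exact Or.inr (Or.inl (Nat.pow_left_injective hp0 h1))
    · rw [← pow_mul, mul_comm, pow_mul] at h1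
      exact Or.inr (Or.inr (Nat.pow_left_injective hp0 h1))
  · have := eq_of_le_of_card_ge (inf_le_inf_right (centralizer (P : Set G))
      (inf_le_left : Q ⊓ centralizer {w} ≤ Q)) e.le
    exact mem_centralizer_singleton_iff.mp (this.ge hu).1.2
  · have h2 := h.card_K
    have h3 := h.card_Q
    rw [e] at h2 h3
    rw [← h3]
    exact card_modEq_one h.hyp (by norm_num) (by omega) le_rfl hQ
  · have h2 := h.card_K
    have h3 := h.card_Q
    rw [e] at h2 h3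
    rw [← h3]
    exact card_modEq_one h.hyp (by norm_num) (by omega) le_rfl hQ
  · have h2 := h.card_K
    have h3 := h.card_Q
    rw [e] at h2 h3
    rw [e'] at h3
    have : Fact (Nat.Prime 3) := ⟨Nat.prime_three⟩
    obtain ⟨S, hS, hc, hn⟩ := exists_sylow_char h.hyp.nilpotent_Q 3
    have h4 := card_modEq_one h.hyp (l := 31) (by norm_num) (by omega) hS
      fun k hk => hn k (hQ k hk)
    have h5 : (624 ^ 5).factorization 3 = 5 := by
      rw [Nat.factorization_pow, Finsupp.smul_apply,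
        Nat.factorization_eq_of_coprime_left (b := 208) (a := 3) (by norm_num) (by simp),
        Nat.Prime.factorization_self Nat.prime_three]
      rfl
    rw [hc, h3, h5] at h4
    revert h4
    decide

theorem struct_of_dvd (hL : Loc a t Q s r)
    (hd : Nat.card P ∣ Nat.card ↥(WW a t Q ⊓ centralizer (P : Set G))) : Struct a t Q := by
  classical
  have := h.fact
  obtain ⟨⟨w, hw⟩, ho⟩ := exists_prime_orderOf_dvd_card' _ hd
  rw [← orderOf_coe] at ho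
  change orderOf w = _ at ho
  have hw1 : w ≠ 1 := fun e => h.prime.one_lt.ne (by rw [← ho, e, orderOf_one])
  have hwp : w ^ Nat.card P = 1 := ho ▸ pow_orderOf_eq_one w
  obtain ⟨hp, hC, hCw⟩ := h.card_eq_eight hL hw hw1 hwp
  rw [hp] at hwp
  have hwD : w ∈ DD a t := hw.1.1
  have hQ : Nat.card Q = 2 ^ 9 := by rw [h.card_Q, hC, hp]; norm_num
  have hsC : s ∈ Q ⊓ centralizer (P : Set G) := ⟨h.hyp.s_mem, h.s_mem_L⟩
  -- the fixed points of `w` on `C`
  have hfix : ∀ u ∈ Q ⊓ centralizer (P : Set G), w⁻¹ * u * w = u → u = 1 ∨ u = s := by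
    intro u hu e
    have h1 : zpowers s = Q ⊓ centralizer {w} ⊓ centralizer (P : Set G) := by
      refine eq_of_le_of_card_ge (zpowers_le.mpr ⟨⟨h.hyp.s_mem, mem_centralizer_singleton_iff.mpr
        ((mem_WW.mp hw.1).2 s h.hyp.s_mem_Q0)⟩, h.s_mem_L⟩) ?_
      rw [hCw, Nat.card_zpowers, orderOf_eq_prime (by rw [pow_two, h.hyp.s_sq]) h.hyp.s_ne]
    have h2 : u ∈ zpowers s := h1.ge ⟨⟨hu.1, mem_centralizer_singleton_iff.mpr (by
      calc u * w = w * (w⁻¹ * u * w) := by group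
        _ = _ := by rw [e])⟩, hu.2⟩
    exact h.cent u ⟨zpowers_le.mpr h.hyp.s_mem_Q0 h2, hu.2⟩
  have hconj : ∀ u ∈ Q ⊓ centralizer (P : Set G), w⁻¹ * u * w ∈ Q ⊓ centralizer (P : Set G) :=
    fun u hu => ⟨h.hyp.conj_Q hwD hu.1,
      Subgroup.mul_mem _ (Subgroup.mul_mem _ (Subgroup.inv_mem _ hw.2) hu.2) hw.2⟩
  have hw3 : ∀ u : G, w⁻¹ * (w⁻¹ * (w⁻¹ * u * w) * w) * w = u := fun u => by
    calc _ = (w ^ 3)⁻¹ * u * w ^ 3 := by
          simp only [pow_succ, pow_zero, one_mul, mul_inv_rev, mul_assoc]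
      _ = _ := by rw [hwp]; group
  -- the structure of `C`
  obtain ⟨ω, hω, hω1, hωs⟩ : ∃ ω ∈ Q ⊓ centralizer (P : Set G), ω ≠ 1 ∧ ω ≠ s := by
    by_contra hcon
    push Not at hcon
    have h1 : Q ⊓ centralizer (P : Set G) ≤ zpowers s := fun u hu => by
      by_cases e : u = 1
      · rw [e]; exact one_mem _
      · rw [hcon u hu e]; exact mem_zpowers s
    have h2 := card_le_of_le h1
    rw [hC, Nat.card_zpowers, orderOf_eq_prime (by rw [pow_two, h.hyp.s_sq]) h.hyp.s_ne] at h2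
    omega
  have hsq : ∀ u ∈ Q ⊓ centralizer (P : Set G), u ≠ 1 → u ≠ s → u * u ≠ 1 := fun u hu h1 h2 e =>
    h2 (h.eq_s hu.1 hu.2 h1 e)
  have hnext : ∀ u ∈ Q ⊓ centralizer (P : Set G), u ≠ 1 → u ≠ s →
      w⁻¹ * u * w ≠ 1 ∧ w⁻¹ * u * w ≠ s ∧ u ≠ w⁻¹ * u * w ∧ u⁻¹ ≠ w⁻¹ * u * w := by
    intro u hu h1 h2
    refine ⟨fun e => h1 (by simpa [mul_assoc] using congrArg (w * · * w⁻¹) e), fun e => h2 ?_,
      fun e => ?_, fun e => ?_⟩
    · have := h.conj_s hwD.1 hw.2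
      rw [← this] at e
      simpa using e
    · exact (hfix u hu e.symm).elim h1 h2
    · have h3 := hw3 u
      have h4 : w⁻¹ * u⁻¹ * w = u := by
        calc _ = (w⁻¹ * u * w)⁻¹ := by group
          _ = _ := by rw [← e, inv_inv]
      rw [← e, h4] at h3
      exact (hfix u hu h3).elim h1 h2
  obtain ⟨ω', hω'⟩ : ∃ ω', ω' = w⁻¹ * ω * w := ⟨_, rfl⟩
  obtain ⟨ω'', hω''⟩ : ∃ ω'', ω'' = w⁻¹ * ω' * w := ⟨_, rfl⟩
  have e0 : ω = w⁻¹ * ω'' * w := by rw [hω'', hω', hw3]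
  have m1 : ω' ∈ _ := hω' ▸ hconj ω hω
  have m2 : ω'' ∈ _ := hω'' ▸ hconj ω' m1
  obtain ⟨a1, a2, a3, a4⟩ := hnext ω hω hω1 hωs
  rw [← hω'] at a1 a2 a3 a4
  obtain ⟨b1, b2, b3, b4⟩ := hnext ω' m1 a1 a2
  rw [← hω''] at b1 b2 b3 b4
  obtain ⟨-, -, c3, c4⟩ := hnext ω'' m2 b1 b2
  rw [← e0] at c3 c4
  have hinv : ∀ u ∈ Q ⊓ centralizer (P : Set G), u ≠ 1 → u ≠ s → u⁻¹ ≠ 1 ∧ u⁻¹ ≠ s ∧ u ≠ u⁻¹ :=
    fun u hu h1 h2 => ⟨inv_ne_one.mpr h1, fun e => h2 (by rw [← h.hyp.s_inv, ← e, inv_inv]),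
      fun e => hsq u hu h1 h2 (mul_eq_one_iff_eq_inv.mpr e)⟩
  obtain ⟨i1, i2, i3⟩ := hinv ω hω hω1 hωs
  obtain ⟨j1, j2, j3⟩ := hinv ω' m1 a1 a2
  obtain ⟨k1, k2, k3⟩ := hinv ω'' m2 b1 b2
  have hall : ∀ u ∈ Q ⊓ centralizer (P : Set G), u = 1 ∨ u = s ∨ u = ω ∨ u = ω' ∨ u = ω'' ∨
      u = ω⁻¹ ∨ u = ω'⁻¹ ∨ u = ω''⁻¹ := by
    have h1 : (({1, s, ω, ω', ω'', ω⁻¹, ω'⁻¹, ω''⁻¹} : Finset G) : Set G) =
        (Q ⊓ centralizer (P : Set G) : Subgroup G) := by
      refine Set.eq_of_subset_of_ncard_le ?_ ?_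
      · intro u hu
        simp only [Finset.coe_insert, Finset.coe_singleton, Set.mem_insert_iff,
          Set.mem_singleton_iff] at hu
        rcases hu with rfl | rfl | rfl | rfl | rfl | rfl | rfl | rfl
        exacts [one_mem _, hsC, hω, m1, m2, inv_mem hω, inv_mem m1, inv_mem m2]
      · change Nat.card ↥(Q ⊓ centralizer (P : Set G)) ≤ _
        have := h.hyp.s_ne
        rw [hC, Set.ncard_coe_finset, Finset.card_insert_of_notMem, Finset.card_insert_of_notMem,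
          Finset.card_insert_of_notMem, Finset.card_insert_of_notMem,
          Finset.card_insert_of_notMem, Finset.card_insert_of_notMem,
          Finset.card_insert_of_notMem, Finset.card_singleton]
        all_goals simp only [Finset.mem_insert, Finset.mem_singleton, not_or, inv_inj]
        · exact b3
        · exact ⟨a3, c3.symm⟩
        · exact ⟨fun e => c4 (by rw [e, inv_inv]), b4.symm, k3⟩
        · exact ⟨b3, a4.symm, j3, fun e => b4 (by rw [e, inv_inv])⟩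
        · exact ⟨a3, c3.symm, i3, fun e => a4 (by rw [e, inv_inv]), c4.symm⟩
        · exact ⟨hωs.symm, a2.symm, b2.symm, i2.symm, j2.symm, k2.symm⟩
        · exact ⟨this.symm, hω1.symm, a1.symm, b1.symm, i1.symm, j1.symm, k1.symm⟩
    intro u hu
    have h2 : u ∈ (({1, s, ω, ω', ω'', ω⁻¹, ω'⁻¹, ω''⁻¹} : Finset G) : Set G) := h1 ▸ hu
    simpa only [Finset.coe_insert, Finset.coe_singleton, Set.mem_insert_iff,
      Set.mem_singleton_iff] using h2
  have o1 : orderOf ω' = orderOf ω := by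
    rw [hω']; simpa using (MulAut.conj w⁻¹).orderOf_eq ω
  have o2 : orderOf ω'' = orderOf ω := by
    rw [hω'', ← o1]; simpa using (MulAut.conj w⁻¹).orderOf_eq ω'
  have hωω : ω * ω = s := by
    have h1 : orderOf (ω * ω) ≠ orderOf ω := fun e => by
      have h2 : (orderOf ω).Coprime 2 := by
        rw [← pow_two, orderOf_pow' _ two_ne_zero] at e
        exact (Nat.div_eq_self.mp e).resolve_left (orderOf_pos ω).ne'
      have h3 : orderOf ω ∣ 2 ^ 3 := by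
        rw [show 2 ^ 3 = 8 from rfl, ← hC]
        exact Subgroup.orderOf_dvd_natCard _ hω
      exact hω1 (orderOf_eq_one_iff.mp ((h2.pow_right 3).eq_one_of_dvd h3))
    rcases hall _ (mul_mem hω hω) with e | e | e | e | e | e | e | e
    · exact absurd e (hsq ω hω hω1 hωs)
    · exact e
    all_goals exact absurd (by simp only [e, o1, o2, orderOf_inv]) h1
  have hω'2 : ω' * ω' = s := by
    rw [← h.conj_s hwD.1 hw.2, ← hωω, hω']; group
  refine ⟨IsPGroup.of_card hQ, fun hc => ?_, fun _ => ?_⟩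
  · exfalso
    have h1 : ω * ω' * (ω * ω') = 1 := by
      rw [mul_assoc, ← mul_assoc ω', ← hc ω hω.1 ω' m1.1, mul_assoc, hω'2, ← mul_assoc, hωω,
        h.hyp.s_sq]
    rcases h.cent _ ⟨h.hyp.mem_Q0.mpr ⟨mul_mem hω.1 m1.1, h1⟩, (mul_mem hω m1).2⟩ with e | e
    · exact a4 (eq_inv_of_mul_eq_one_right e).symm
    · exact a3 (mul_left_cancel (hωω.trans e.symm))
  have hr : r * r = 1 := by
    rcases hfix r ⟨h.hyp.r_mem, h.hyp.r_mem_cent h.le⟩ (by
      rw [mul_assoc, h.hyp.r_comm_V (h.hyp.WW_le_VV hw.1), inv_mul_cancel_left]) with e | e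
    · rw [e, one_mul]
    · rw [e, h.hyp.s_sq]
  have h0 : ω ∉ Q0 Q := fun e => hsq ω hω hω1 hωs (h.hyp.mem_Q0.mp e).2
  have hf : ff a t Q ω ∈ Q ⊓ centralizer (P : Set G) := by
    refine ⟨h.hyp.ff_mem hω.1 hω1, fun y hy => ?_⟩
    have h1 := (h.hyp.ghf_conj hω.1 hω1 (h.le hy).1).2.2
    rw [h.hyp.tVt (h.le hy), mul_assoc y⁻¹ ω, ← hω.2 y hy, inv_mul_cancel_left] at h1
    calc y * ff a t Q ω = y * (y⁻¹ * ff a t Q ω * y) := by rw [← h1]
      _ = _ := by group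
  have hf0 := h.hyp.ff_notMem_Q0 hr hω.1 h0
  refine ⟨ω, hω.1, hsq ω hω hω1 hωs, ?_⟩
  rcases hall _ hf with e | e | e | e | e | e | e | e
  · exact absurd (e ▸ one_mem _) hf0
  · exact absurd (e ▸ h.hyp.s_mem_Q0) hf0
  · exact absurd (by rw [e]; group) (h.hyp.ff_ne_conj hr hω.1 h0 (one_mem _))
  · exact absurd (by rw [e, hω']) (h.hyp.ff_ne_conj hr hω.1 h0 hwD)
  · exact absurd (by rw [e, hω'', hω']; group) (h.hyp.ff_ne_conj hr hω.1 h0 (mul_mem hwD hwD))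
  · exfalso
    have h1 : ω * s = ω⁻¹ := by
      rw [eq_inv_iff_mul_eq_one, mul_assoc, h.hyp.central h.hyp.s_mem h.hyp.s_sq hω.1,
        ← mul_assoc, hωω, h.hyp.s_sq]
    refine h.hyp.s_ne (h.hyp.eq_one_of_ff_mul hr hω.1 h0 h.hyp.s_mem_Q0 h.hyp.s_mem_Q0 ?_)
    rw [h1, ← e, h.hyp.ff_ff hω.1 hω1, e, ← h1, mul_assoc, h.hyp.s_sq, mul_one]
  · exact ⟨w, hw.1, hw1, by rw [e, hω']; group⟩
  · refine ⟨w * w, mul_mem hw.1 hw.1, fun e' => hw1 ?_, by
      rw [e, hω'', hω']; simp only [mul_inv_rev, inv_inv, mul_assoc]⟩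
    rwa [pow_succ, pow_two, e', one_mul] at hwp

end B1

end SuzII
end H22
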