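import Mathlib
import Cfsg.Agent.H22.SuzII3

/-! Chapter II of Peterfalvi's proof of Suzuki's theorem: the case `p ∤ |C_W(P)|`, Sylow
`p`-subgroups. -/

set_option autoImplicit false
set_option linter.unusedSectionVars false

namespace H22
namespace SuzII

open Cfsg MulAction H8.Suz H21.RankOne Subgroup

variable {G Ω : Type*} [Group G] [Finite G] [MulAction G Ω] {a : Ω} {t : G} {Q : Subgroup G}
  {s r : G} {P R : Subgroup G}

theorem card_eq_mul_of_decomp {A B C : Subgroup G} (hA : A ≤ C) (hB : B ≤ C)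
    (h1 : ∀ x ∈ A, x ∈ B → x = 1) (h2 : ∀ c ∈ C, ∃ x ∈ A, ∃ y ∈ B, c = x * y) :
    Nat.card C = Nat.card A * Nat.card B := by
  rw [← Nat.card_prod]
  refine (Nat.card_eq_of_bijective (fun z : A × B => (⟨z.1 * z.2, mul_mem (hA z.1.2) (hB z.2.2)⟩ : C))
    ⟨?_, ?_⟩).symm
  · rintro ⟨x, y⟩ ⟨x', y'⟩ e
    have e' : (x : G) * y = x' * y' := congrArg Subtype.val e
    have h3 : (x' : G)⁻¹ * x = 1 := h1 _ (mul_mem (inv_mem x'.2) x.2) (by
      rw [show (x' : G)⁻¹ * x = y' * (y : G)⁻¹ by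
        rw [inv_mul_eq_iff_eq_mul, ← mul_assoc, ← e', mul_inv_cancel_right]]
      exact mul_mem y'.2 (inv_mem y.2))
    obtain rfl : x' = x := Subtype.ext (inv_mul_eq_one.mp h3)
    rw [show y = y' from Subtype.ext (mul_left_cancel e')]
  · rintro ⟨c, hc⟩
    obtain ⟨x, hx, y, hy, rfl⟩ := h2 c hc
    exact ⟨(⟨x, hx⟩, ⟨y, hy⟩), rfl⟩

theorem card_mul_relIndex {A B : Subgroup G} (h : A ≤ B) :
    Nat.card A * A.relIndex B = Nat.card B := by
  rw [← Nat.card_congr (subgroupOfEquivOfLe h).toEquiv, relIndex, card_mul_index]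

/-- `y` has a centraliser of odd order -/
def OddC (y : G) : Prop := Odd (Nat.card (centralizer {y}))

theorem OddC.conj {y : G} (hy : OddC y) (g : G) : OddC (g * y * g⁻¹) := by
  refine hy.of_dvd_nat (card_dvd_of_injective
    (((MulAut.conj g⁻¹).toMonoidHom.comp (centralizer {g * y * g⁻¹}).subtype).codRestrict _
      fun z => mem_centralizer_singleton_iff.mpr ?_) fun z z' e => ?_)
  · have := mem_centralizer_singleton_iff.mp z.2
    change g⁻¹ * z * g⁻¹⁻¹ * y = y * (g⁻¹ * z * g⁻¹⁻¹)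
    calc g⁻¹ * z * g⁻¹⁻¹ * y = g⁻¹ * (z * (g * y * g⁻¹)) * g := by group
      _ = _ := by rw [this]; group
  · exact Subtype.ext ((MulAut.conj g⁻¹).injective (congrArg Subtype.val e))

namespace B1

variable (h : B1 Ω a t Q s r P)
include h

theorem not_oddC {y : G} (hy : y ∈ P) (g : G) : ¬ OddC (g * y * g⁻¹) := fun ho => by
  have := ho.conj g⁻¹
  rw [show g⁻¹ * (g * y * g⁻¹) * g⁻¹⁻¹ = y by group] at this
  exact h.hyp.s_ne (H21.eq_one_of_sq_of_mem_odd this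
    (mem_centralizer_singleton_iff.mpr (h.s_mem_L y hy).symm) h.hyp.s_sq)

theorem card_V : Nat.card (VV a t) = Nat.card (WW a t Q) * Nat.card P :=
  card_eq_mul_of_decomp h.hyp.WW_le_VV h.le (fun _ hw hy => h.eq_one_of_mem_W hy hw)
    fun _ => h.exists_WP

variable [IsSimpleGroup G] (hW : ¬ Nat.card P ∣ Nat.card ↥(WW a t Q ⊓ centralizer (P : Set G)))
include hW

theorem exists_card_H : ∃ n, ¬ Nat.card P ∣ n ∧ Nat.card (stabilizer G a) = n * Nat.card P := by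
  have := h.fact
  refine ⟨Nat.card Q * (Nat.card (KK a t) * Nat.card (WW a t Q)), fun hd => ?_, ?_⟩
  · rcases (Nat.Prime.dvd_mul h.prime).mp hd with hd | hd
    · exact h.not_dvd_card_Q hd
    rcases (Nat.Prime.dvd_mul h.prime).mp hd with hd | hd
    · have h1 := congrArg (Nat.cast : ℕ → ZMod (Nat.card P)) h.card_K
      push_cast at h1
      rw [(ZMod.natCast_eq_zero_iff _ _).mpr hd, ZMod.pow_card] at h1
      exact one_ne_zero (α := ZMod (Nat.card P)) (by linear_combination -h1)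
    · exact hW (((card_modEq_cent h.isPGroup fun y hy w hw => by
        simpa using h.hyp.conj_WW (inv_mem (h.le hy).1) hw).dvd_iff dvd_rfl).mp hd)
  · rw [card_H h.hyp.setup, h.hyp.card_DD, h.card_V]; ring

theorem pow_dvd_card_iff {m : ℕ} (hm1 : 1 ≤ m)
    (hm : Nat.card ↥(Q ⊓ centralizer (P : Set G)) + 1 = Nat.card P ^ m) (k : ℕ) :
    Nat.card P ^ k ∣ Nat.card G ↔ k ≤ m + 2 := by
  have := h.fact
  obtain ⟨n, hn, e⟩ := h.exists_card_H hW
  have h1 := padicValNat.pow_add_pow h.odd (x := Nat.card ↥(Q ⊓ centralizer (P : Set G))) (y := 1)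
    h.dvd_card_C_succ (fun hd => h.not_dvd_card_Q (hd.trans (card_dvd_of_le inf_le_left))) h.odd
  rw [one_pow, ← h.card_Q, hm, padicValNat.prime_pow, padicValNat_self] at h1
  have hn0 : n ≠ 0 := fun e => hn (by rw [e]; exact dvd_zero _)
  rw [padicValNat_dvd_iff_le Nat.card_pos.ne', card_G h.hyp.setup, ← card_H h.hyp.setup, e,
    padicValNat.mul (mul_ne_zero hn0 h.prime.ne_zero) (by omega),
    padicValNat.mul hn0 h.prime.ne_zero, h1, padicValNat_self,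
    padicValNat.eq_zero_of_not_dvd hn]
  omega

variable (hR : RR P R)
include hR

/-- the `p`-elements of `C_G(P)` lie in `R` -/
theorem mem_R {S : Subgroup G} (hS : IsPGroup (Nat.card P) S) {l : G} (hlS : l ∈ S)
    (hl : l ∈ centralizer (P : Set G)) : l ∈ R := by
  have := h.fact
  have h1 : IsPGroup (Nat.card P) ↥(zpowers l ⊔ R) :=
    (hS.to_le (zpowers_le.mpr hlS)).to_sup_of_normal_right' (h.isPGroup_R hR)
      (zpowers_le.mpr (mem_normalizer_fintype (hR.conj l hl)))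
  obtain ⟨k, hk⟩ := IsPGroup.iff_card.mp
    (h1.to_le (inf_le_left : (zpowers l ⊔ R) ⊓ stabilizer G a ≤ _))
  obtain ⟨n, hn, e⟩ := h.exists_card_H hW
  have h2 : k ≤ 1 := by
    by_contra hk1
    have h3 := card_dvd_of_le (inf_le_right : (zpowers l ⊔ R) ⊓ stabilizer G a ≤ _)
    rw [hk, e] at h3
    have h4 := (pow_dvd_pow _ (show 2 ≤ k by omega)).trans h3
    rw [pow_two] at h4
    exact hn (Nat.dvd_of_mul_dvd_mul_right h.prime.pos h4)
  have h3 : P = (zpowers l ⊔ R) ⊓ stabilizer G a :=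
    eq_of_le_of_card_ge (le_inf (hR.le.trans le_sup_right) h.fx_a) (by
      rw [hk]
      exact (Nat.pow_le_pow_right h.prime.pos h2).trans (pow_one _).le)
  obtain ⟨ρ, hρ, e⟩ := h.exists_R_smul hR (h.fx_a.smul hl)
  rw [← mul_inv_cancel_left ρ l]
  exact mul_mem hρ (hR.le (h3.ge (mem_inf.mpr ⟨mul_mem (inv_mem (mem_sup_right hρ))
    (mem_sup_left (mem_zpowers l)), by rw [mem_stabilizer_iff, mul_smul, ← e, inv_smul_smul]⟩)))

theorem exists_R1 {m : ℕ} (hm1 : 1 ≤ m)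
    (hm : Nat.card ↥(Q ⊓ centralizer (P : Set G)) + 1 = Nat.card P ^ m) :
    ∃ R₁ : Subgroup G, Nat.card R₁ = Nat.card P ^ (m + 2) ∧ R ≤ R₁ ∧ ¬ R₁ ≤ R ∧
      ∀ n ∈ R₁, ∀ ρ ∈ R, n * ρ * n⁻¹ ∈ R := by
  have := h.fact
  have h1 : Nat.card R = Nat.card P ^ (m + 1) := by rw [h.card_R hR, hm, pow_succ]
  obtain ⟨R₁, h2, h3⟩ := Sylow.exists_subgroup_card_pow_succ
    ((h.pow_dvd_card_iff hW hm1 hm _).mpr le_rfl) h1
  refine ⟨R₁, h2, h3, fun hle => ?_, fun n hn ρ hρ => ?_⟩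
  · have := card_le_of_le hle
    rw [h1, h2, Nat.pow_le_pow_iff_right h.prime.one_lt] at this
    omega
  · have h4 := card_mul_relIndex h3
    rw [h1, h2, pow_succ _ (m + 1)] at h4
    have h5 : (R.subgroupOf R₁).Normal := normal_of_index_eq_minFac_card (by
      rw [h2, h.prime.pow_minFac (by omega)]
      exact Nat.eq_of_mul_eq_mul_left (pow_pos h.prime.pos _) h4)
    exact h5.conj_mem ⟨ρ, h3 hρ⟩ hρ ⟨n, hn⟩

theorem R_comm {R₁ : Subgroup G} (h1 : IsPGroup (Nat.card P) R₁) (h2 : ¬ R₁ ≤ R)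
    (h3 : ∀ n ∈ R₁, ∀ ρ ∈ R, n * ρ * n⁻¹ ∈ R) : ∀ ρ ∈ R, ∀ σ ∈ R, ρ * σ = σ * ρ := by
  obtain ⟨n, hn, hnR⟩ := SetLike.not_le_iff_exists.mp h2
  obtain ⟨x, hx, hx1⟩ := h.exists_ne_one
  have h4 : n * x * n⁻¹ ∉ P := fun hP => hnR (h.mem_R hW hR h1 hn (h.mem_L_of_conj hx hx1 hP))
  have h5 : ∀ σ ∈ R, n * x * n⁻¹ * σ = σ * (n * x * n⁻¹) := fun σ hσ => by
    have := hR.le_L (h3 _ (inv_mem hn) σ hσ) x hx
    calc n * x * n⁻¹ * σ = n * (x * (n⁻¹ * σ * n⁻¹⁻¹)) * n⁻¹ := by group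
      _ = _ := by rw [this]; group
  intro ρ hρ σ hσ
  by_cases hP : ρ ∈ P
  · exact hR.le_L hσ ρ hP
  obtain ⟨u, hu, y, hy, rfl⟩ := h.exists_C_conj hR (h3 n hn x (hR.le hx)) h4 hρ hP
  have := h5 _ (hR.conj _ (inv_mem hu.2) σ hσ)
  calc u * (n * x * n⁻¹) * u⁻¹ * y * σ = u * (n * x * n⁻¹ * (u⁻¹ * σ * u⁻¹⁻¹)) * u⁻¹ * y := by
        rw [mul_assoc _ y, hR.le_L hσ y hy]; group
    _ = _ := by rw [this]; group

end B1

end SuzII
end H22
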