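import Mathlib
import Cfsg.Agent.H22.SuzII5

/-! Chapter II of Peterfalvi's proof of Suzuki's theorem: the case `p ∤ |C_W(P)|` is
impossible. -/

set_option autoImplicit false
set_option linter.unusedSectionVars false

namespace H22
namespace SuzII

open Cfsg MulAction H8.Suz H21.RankOne Subgroup

variable {G Ω : Type*} [Group G] [Finite G] [MulAction G Ω] {a : Ω} {t : G} {Q : Subgroup G}
  {s r : G} {P R R₁ T : Subgroup G} {x : G} {m : ℕ}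

/-- The situation of case (10.1). -/
structure Ctx (Ω : Type*) [MulAction G Ω] (a : Ω) (t : G) (Q : Subgroup G) (s r : G)
    (P R R₁ T : Subgroup G) (x : G) (m : ℕ) : Prop where
  b1 : B1 Ω a t Q s r P
  hW : ¬ Nat.card P ∣ Nat.card ↥(WW a t Q ⊓ centralizer (P : Set G))
  rr : RR P R
  hx : x ∈ P
  hx1 : x ≠ 1
  hm1 : 1 ≤ m
  hm : Nat.card ↥(Q ⊓ centralizer (P : Set G)) + 1 = Nat.card P ^ m
  card1 : Nat.card R₁ = Nat.card P ^ (m + 2)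
  le1 : R ≤ R₁
  nle : ¬ R₁ ≤ R
  conj1 : ∀ n ∈ R₁, ∀ ρ ∈ R, n * ρ * n⁻¹ ∈ R
  memT : ∀ y, y ∈ T ↔ y ∈ R ∧ s * y * s = y⁻¹

namespace Ctx

variable [IsSimpleGroup G] (h : Ctx Ω a t Q s r P R R₁ T x m)
include h

theorem pg : IsPGroup (Nat.card P) R₁ := IsPGroup.of_card h.card1

theorem odd1 : Odd (Nat.card R₁) := h.card1 ▸ h.b1.odd.pow

theorem comm {ρ σ : G} (hρ : ρ ∈ R) (hσ : σ ∈ R) : ρ * σ = σ * ρ :=
  h.b1.R_comm h.hW h.rr h.pg h.nle h.conj1 ρ hρ σ hσ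

theorem mem_R {l : G} (h1 : l ∈ R₁) (hl : l ∈ centralizer (P : Set G)) : l ∈ R :=
  h.b1.mem_R h.hW h.rr h.pg h1 hl

theorem T_le : T ≤ R := fun y hy => ((h.memT y).mp hy).1

theorem xR : x ∈ R := h.rr.le h.hx

theorem card_R : Nat.card R = Nat.card P ^ (m + 1) := by rw [h.b1.card_R h.rr, h.hm, pow_succ]

theorem eq_one {y : G} (hT : y ∈ T) (hP : y ∈ P) : y = 1 := by
  have h1 := ((h.memT y).mp hT).2
  rw [← h.b1.s_mem_L y hP, mul_assoc, h.b1.hyp.s_sq, mul_one] at h1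
  exact h.b1.eq_one_of_sq hP (mul_eq_one_iff_eq_inv.mpr h1)

theorem s_conj {ρ : G} (hρ : ρ ∈ R) : s * ρ * s ∈ R := by
  have := h.rr.conj s h.b1.s_mem_L ρ hρ
  rwa [h.b1.hyp.s_inv] at this

theorem decomp {ρ : G} (hρ : ρ ∈ R) : ∃ τ ∈ T, ∃ y ∈ P, ρ = τ * y := by
  have ss : ∀ g : G, s * (s * g) = g := fun g => by rw [← mul_assoc, h.b1.hyp.s_sq, one_mul]
  have h1 : ρ * (s * ρ⁻¹ * s) ∈ T := (h.memT _).mpr ⟨mul_mem hρ (h.s_conj (inv_mem hρ)), by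
    simp only [mul_inv_rev, inv_inv, h.b1.hyp.s_inv, mul_assoc, h.b1.hyp.s_sq, mul_one]⟩
  have h2 : s * ρ * s * ρ ∈ P := h.b1.mem_P_of_mem_R h.rr (mul_mem (h.s_conj hρ) hρ)
    (fix_of_commute h.b1.hyp.setup h.b1.hyp.s_ne h.b1.hyp.s_sq
      (Q_fix h.b1.hyp.setup h.b1.hyp.s_mem) (by
        change s * (s * ρ * s * ρ) = s * ρ * s * ρ * s
        conv_rhs => rw [h.comm (h.s_conj hρ) hρ]
        simp only [mul_assoc, ss, h.b1.hyp.s_sq, mul_one]))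
  obtain ⟨k, hk⟩ := h.odd1
  refine ⟨_, pow_mem h1 (k + 1), _, pow_mem h2 (k + 1), ?_⟩
  rw [← (show Commute _ _ from h.comm (h.T_le h1) (h.rr.le h2)).mul_pow]
  simp only [mul_assoc, ss, inv_mul_cancel_left]
  exact (H21.eq_pow_sq_of_odd (hk ▸ H21.pow_card_eq_one_of_mem (h.le1 hρ))).symm

theorem card_T : Nat.card T = Nat.card P ^ m := by
  have := card_eq_mul_of_decomp h.T_le h.rr.le (fun _ => h.eq_one) fun _ => h.decomp
  rw [h.card_R, pow_succ] at this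
  exact (Nat.eq_of_mul_eq_mul_right Nat.card_pos this).symm

theorem oddC_of_inv {y : G} (hy : y ∈ R₁) (h1 : y ≠ 1) (e : s * y * s = y⁻¹) : OddC y :=
  h.b1.hyp.odd_centralizer h.b1.hyp.s_ne h.b1.hyp.s_sq
    (fun e => h1 (H21.eq_one_of_sq_of_mem_odd h.odd1 hy e)) e

theorem oddC {y : G} (hy : y ∈ T) (h1 : y ≠ 1) : OddC y :=
  h.oddC_of_inv (h.le1 (h.T_le hy)) h1 ((h.memT y).mp hy).2

theorem conj_notMem_T {y : G} (hy : y ∈ P) (h1 : y ≠ 1) (g : G) : g * y * g⁻¹ ∉ T := fun hT =>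
  h.b1.not_oddC hy g (h.oddC hT fun e => h1 (by simpa using e))

theorem C_conj_T {u τ : G} (hu : u ∈ Q ⊓ centralizer (P : Set G)) (hτ : τ ∈ T) :
    u * τ * u⁻¹ ∈ T := by
  refine (h.memT _).mpr ⟨h.rr.conj u hu.2 τ (h.T_le hτ), ?_⟩
  have e := h.b1.hyp.central h.b1.hyp.s_mem h.b1.hyp.s_sq hu.1
  have e' := h.b1.hyp.central h.b1.hyp.s_mem h.b1.hyp.s_sq (inv_mem hu.1)
  calc s * (u * τ * u⁻¹) * s = (s * u) * τ * (u⁻¹ * s) := by group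
    _ = u * (s * τ * s) * u⁻¹ := by rw [e, ← e']; group
    _ = _ := by rw [((h.memT τ).mp hτ).2]; group

theorem C_trans {τ τ' : G} (hτ : τ ∈ T) (h1 : τ ≠ 1) (hτ' : τ' ∈ T) (h1' : τ' ≠ 1) :
    ∃ u ∈ Q ⊓ centralizer (P : Set G), τ' = u * τ * u⁻¹ := by
  obtain ⟨u, hu, y, hy, e⟩ := h.b1.exists_C_conj h.rr (h.T_le hτ) (fun hP => h1 (h.eq_one hτ hP))
    (h.T_le hτ') fun hP => h1' (h.eq_one hτ' hP)
  refine ⟨u, hu, ?_⟩
  rw [h.eq_one ((mul_mem_cancel_left (h.C_conj_T hu hτ)).mp (e ▸ hτ')) hy, mul_one] at e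
  exact e

theorem exists_n0 : ∃ n ∈ R₁, ∃ τ ∈ T, ∃ y ∈ P, τ ≠ 1 ∧ y ≠ 1 ∧ n * x * n⁻¹ = τ * y ∧
    ∀ k : ℕ, x ^ k ≠ 1 → ∀ τ' ∈ T, τ' ≠ 1 →
      ∃ n' ∈ normalizer (R : Set G), n' * x ^ k * n'⁻¹ = τ' * y ^ k := by
  obtain ⟨n, hn, hnR⟩ := SetLike.not_le_iff_exists.mp h.nle
  obtain ⟨τ, hτ, y, hy, e⟩ := h.decomp (h.conj1 n hn x h.xR)
  have h1 : ∀ k : ℕ, n * x ^ k * n⁻¹ = τ ^ k * y ^ k := fun k => by
    rw [← conj_pow, e, (show Commute τ y from h.comm (h.T_le hτ) (h.rr.le hy)).mul_pow]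
  have h2 : ∀ k : ℕ, x ^ k ≠ 1 → τ ^ k ≠ 1 := fun k hk e' => hnR (h.mem_R hn
    (h.b1.mem_L_of_conj (pow_mem h.hx k) hk (by rw [h1, e', one_mul]; exact pow_mem hy k)))
  refine ⟨n, hn, τ, hτ, y, hy, by simpa using h2 1 (by simpa using h.hx1),
    fun e' => h.conj_notMem_T h.hx h.hx1 n (by rwa [e, e', mul_one]), e, fun k hk τ' hτ' h3 => ?_⟩
  obtain ⟨u, hu, rfl⟩ := h.C_trans (pow_mem hτ k) (h2 k hk) hτ' h3
  refine ⟨u * n, mul_mem (mem_normalizer_fintype (h.rr.conj u hu.2))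
    (mem_normalizer_fintype (h.conj1 n hn)), ?_⟩
  calc u * n * x ^ k * (u * n)⁻¹ = u * (n * x ^ k * n⁻¹) * u⁻¹ := by group
    _ = u * τ ^ k * (y ^ k * u⁻¹) := by rw [h1]; group
    _ = _ := by rw [Subgroup.inv_mem _ hu.2 _ (pow_mem hy k)]; group

theorem mem_T_of_oddC {ρ : G} (hρ : ρ ∈ R) (ho : OddC ρ) : ρ ∈ T := by
  obtain ⟨τ, hτ, z, hz, rfl⟩ := h.decomp hρ
  by_cases hz1 : z = 1
  · rwa [hz1, mul_one]
  exfalso
  by_cases hτ1 : τ = 1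
  · exact h.b1.not_oddC hz 1 (by simpa [hτ1] using ho)
  obtain ⟨-, -, -, -, y, hy, -, hy1, -, h1⟩ := h.exists_n0
  obtain ⟨k, rfl⟩ := mem_zpowers_of_prime h.b1.prime hy hy1 hz
  obtain ⟨i, rfl⟩ := mem_zpowers_of_prime h.b1.prime h.hx h.hx1 hy
  obtain ⟨n, -, e⟩ := h1 k (fun e => hz1 (by rw [← pow_mul, mul_comm, pow_mul, e, one_pow])) τ hτ hτ1
  exact h.b1.not_oddC (pow_mem h.hx k) n (e ▸ ho)

theorem conj_mem_T {g τ : G} (hτ : τ ∈ T) (hR : g * τ * g⁻¹ ∈ R) : g * τ * g⁻¹ ∈ T := by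
  by_cases h1 : τ = 1
  · simp [h1, one_mem]
  · exact h.mem_T_of_oddC hR ((h.oddC hτ h1).conj g)

theorem normal_T : (T.subgroupOf R₁).Normal :=
  ⟨fun τ hτ n => h.conj_mem_T hτ (h.conj1 n n.2 τ (h.T_le hτ))⟩

theorem comm_mem_T {n n' : G} (hn : n ∈ R₁) (hn' : n' ∈ R₁) : n * n' * n⁻¹ * n'⁻¹ ∈ T := by
  have := h.normal_T
  have := h.b1.fact
  have h1 : Nat.card (R₁ ⧸ T.subgroupOf R₁) = Nat.card P ^ 2 := by
    have h2 := card_mul_relIndex (h.T_le.trans h.le1)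
    rw [h.card_T, h.card1, pow_add] at h2
    exact Nat.eq_of_mul_eq_mul_left (pow_pos h.b1.prime.pos _) h2
  have h2 := (IsPGroup.isMulCommutative_of_card_eq_prime_sq h1).is_comm.comm
    ((⟨n', hn'⟩⁻¹ : R₁) : R₁ ⧸ T.subgroupOf R₁) ((⟨n, hn⟩⁻¹ : R₁) : R₁ ⧸ T.subgroupOf R₁)
  rw [← QuotientGroup.mk_mul, ← QuotientGroup.mk_mul, QuotientGroup.eq, mem_subgroupOf] at h2
  simpa [mul_assoc] using h2

theorem exists_n1 : ∃ n ∈ R₁, ∃ τ ∈ T, τ ≠ 1 ∧ n * x * n⁻¹ = τ * x ∧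
    ∀ k : ℕ, x ^ k ≠ 1 → ∀ τ' ∈ T, ∃ n' ∈ normalizer (R : Set G), n' * x ^ k * n'⁻¹ = τ' * x ^ k := by
  obtain ⟨n, hn, τ, hτ, y, hy, hτ1, -, e, h1⟩ := h.exists_n0
  have h2 := h.comm_mem_T hn (h.le1 h.xR)
  rw [e, mul_assoc, mul_mem_cancel_left hτ] at h2
  obtain rfl := mul_inv_eq_one.mp (h.eq_one h2 (mul_mem hy (inv_mem h.hx)))
  refine ⟨n, hn, τ, hτ, hτ1, e, fun k hk τ' hτ' => ?_⟩
  by_cases h3 : τ' = 1
  · exact ⟨1, one_mem _, by simp [h3]⟩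
  · exact h1 k hk τ' hτ' h3

theorem exists_conj {τ : G} (hτ : τ ∈ T) : ∃ n ∈ normalizer (R : Set G), n * x * n⁻¹ = τ * x := by
  obtain ⟨-, -, -, -, -, -, h1⟩ := h.exists_n1
  simpa using h1 1 (by simpa using h.hx1) τ hτ

theorem conj_mul_inv_mem_T {g : G} (hg : g * x * g⁻¹ ∈ R) : g * x * g⁻¹ * x⁻¹ ∈ T := by
  obtain ⟨τ, hτ, z, hz, e⟩ := h.decomp hg
  obtain ⟨k, rfl⟩ := mem_zpowers_of_prime h.b1.prime h.hx h.hx1 hz
  obtain ⟨-, -, -, -, -, -, h1⟩ := h.exists_n1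
  obtain ⟨n, -, e'⟩ := h1 k (fun e' => h.conj_notMem_T h.hx h.hx1 g (by rwa [e, e', mul_one])) τ hτ
  have h2 : g⁻¹ * n * x ^ k * (g⁻¹ * n)⁻¹ = x := by
    calc _ = g⁻¹ * (n * x ^ k * n⁻¹) * g := by group
      _ = _ := by rw [e', ← e]; group
  have h3 := h.b1.conj_eq hz (h2.symm ▸ h.hx)
  rw [e, ← h3, h2, mul_inv_cancel_right]
  exact hτ

theorem L_le_N : centralizer (P : Set G) ≤ normalizer (R : Set G) := fun l hl =>
  mem_normalizer_fintype (h.rr.conj l hl)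

theorem relIndex_N : (centralizer (P : Set G)).relIndex (normalizer (R : Set G)) =
    Nat.card P ^ m := by
  rw [← h.b1.cent_eq h.hx h.hx1, relIndex_centralizer, ← h.card_T,
    show Nat.card T = (T : Set G).ncard from rfl,
    ← Set.ncard_image_of_injective (T : Set G) (mul_left_injective x)]
  congr 1
  ext y
  constructor
  · rintro ⟨n, hn, rfl⟩
    exact ⟨_, h.conj_mul_inv_mem_T ((mem_normalizer_iff.mp hn x).mp h.xR), inv_mul_cancel_right _ _⟩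
  · rintro ⟨τ, hτ, rfl⟩
    exact h.exists_conj hτ

theorem le_of_dvd {N : Subgroup G} (hN : centralizer (P : Set G) ≤ N) {k : ℕ}
    (hk : Nat.card P ^ k ∣ (centralizer (P : Set G)).relIndex N) : k ≤ 1 := by
  have h1 := mul_dvd_mul (card_dvd_of_le h.rr.le_L) hk
  rw [card_mul_relIndex hN, h.card_R, ← pow_add] at h1
  have := (h.b1.pow_dvd_card_iff h.hW h.hm1 h.hm _).mp (h1.trans (card_subgroup_dvd_card N))
  omega

theorem m_eq : m = 1 := le_antisymm (h.le_of_dvd h.L_le_N (h.relIndex_N ▸ dvd_rfl)) h.hm1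

theorem card_T' : Nat.card T = Nat.card P := by rw [h.card_T, h.m_eq, pow_one]

theorem T_central {τ n : G} (hτ : τ ∈ T) (hn : n ∈ R₁) : n * τ = τ * n := by
  have := h.b1.fact
  have h1 := card_modEq_cent h.pg (U := T) fun n hn τ hτ =>
    h.conj_mem_T hτ (h.conj1 n hn τ (h.T_le hτ))
  have h2 := Nat.le_of_dvd Nat.card_pos ((h1.dvd_iff dvd_rfl).mp (h.card_T' ▸ dvd_rfl))
  exact ((eq_of_le_of_card_ge (inf_le_left : T ⊓ centralizer (R₁ : Set G) ≤ T)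
    (h.card_T'.le.trans h2)).ge hτ).2 n hn

theorem mem_R1 {n : G} (hn : n * x * n⁻¹ ∈ R) (hc : ∀ τ ∈ T, n * τ = τ * n) : n ∈ R₁ := by
  obtain ⟨n₀, hn₀, τ₀, hτ₀, hτ1, e, -⟩ := h.exists_n1
  obtain ⟨k, hk⟩ := mem_zpowers_of_prime (h.card_T' ▸ h.b1.prime) hτ₀ hτ1 (h.conj_mul_inv_mem_T hn)
  have h1 : ∀ k : ℕ, n₀ ^ k * x * (n₀ ^ k)⁻¹ = τ₀ ^ k * x := fun k => by
    induction k with
    | zero => simp
    | succ k ih =>
      calc n₀ ^ (k + 1) * x * (n₀ ^ (k + 1))⁻¹ = n₀ * (n₀ ^ k * x * (n₀ ^ k)⁻¹) * n₀⁻¹ := by group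
        _ = (n₀ * τ₀ ^ k) * x * n₀⁻¹ := by rw [ih]; group
        _ = τ₀ ^ k * (n₀ * x * n₀⁻¹) := by rw [h.T_central (pow_mem hτ₀ k) hn₀]; group
        _ = _ := by rw [e]; group
  have h2 : (n₀ ^ k)⁻¹ * n ∈ centralizer (P : Set G) := h.b1.mem_cent h.hx h.hx1 (by
    calc x * ((n₀ ^ k)⁻¹ * n) = (n₀ ^ k)⁻¹ * (n₀ ^ k * x * (n₀ ^ k)⁻¹) * n := by group
      _ = _ := by rw [h1, hk]; group)
  obtain ⟨ρ, hρ, e'⟩ := h.b1.exists_R_smul h.rr (h.b1.fx_a.smul h2)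
  have h3 : ρ⁻¹ * ((n₀ ^ k)⁻¹ * n) ∈ P := by
    refine h.b1.mem_P_of_fix (mul_mem (inv_mem (h.rr.le_L hρ)) h2) fun c hc' => ?_
    obtain ⟨σ, hσ, rfl⟩ := h.b1.exists_R_smul h.rr hc'
    obtain ⟨τ, hτ, y, hy, rfl⟩ := h.decomp hσ
    have h4 : ρ⁻¹ * ((n₀ ^ k)⁻¹ * n) * τ = τ * (ρ⁻¹ * ((n₀ ^ k)⁻¹ * n)) := by
      rw [mul_assoc, mul_assoc, hc τ hτ, ← mul_assoc, ← mul_assoc,
        mul_assoc ρ⁻¹, h.T_central hτ (inv_mem (pow_mem hn₀ k)), ← mul_assoc,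
        h.T_central hτ (inv_mem (h.le1 hρ))]
      group
    rw [mul_smul τ, h.b1.fx_a y hy, ← mul_smul, h4, mul_smul, mul_smul, ← e', inv_smul_smul]
  have h4 := mul_mem (pow_mem hn₀ k) (mul_mem (h.le1 hρ) (h.le1 (h.rr.le h3)))
  rwa [mul_inv_cancel_left, mul_inv_cancel_left] at h4

theorem conj_T {g : G} (hg : g * x * g⁻¹ ∈ R₁) : g ∈ normalizer (T : Set G) := by
  have := h.b1.fact
  rw [← inv_mem_iff]
  refine mem_normalizer_fintype fun τ hτ => h.conj_mem_T hτ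
    (h.b1.mem_R h.hW h.rr (S := T.map (MulAut.conj g⁻¹).toMonoidHom)
      ((h.pg.to_le (h.T_le.trans h.le1)).map _) ⟨τ, hτ, rfl⟩ (h.b1.mem_cent h.hx h.hx1 ?_))
  calc x * (g⁻¹ * τ * g⁻¹⁻¹) = g⁻¹ * (g * x * g⁻¹ * τ) * g := by group
    _ = _ := by rw [h.T_central hτ hg]; group

theorem mem_N1 {g : G} (hg : g * x * g⁻¹ ∈ R₁) : g ∈ normalizer (R₁ : Set G) := by
  have h1 := h.conj_T hg
  rw [← inv_mem_iff]
  refine mem_normalizer_fintype fun n hn => h.mem_R1 ?_ fun τ hτ => ?_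
  · have h2 := (mem_normalizer_iff.mp (inv_mem h1) _).mp (h.comm_mem_T hn hg)
    convert mul_mem (h.T_le h2) h.xR using 1
    group
  · have h2 := h.T_central ((mem_normalizer_iff.mp h1 _).mp hτ) hn
    calc g⁻¹ * n * g⁻¹⁻¹ * τ = g⁻¹ * (n * (g * τ * g⁻¹)) * g := by group
      _ = _ := by rw [h2]; group

theorem semi {y d τ : G} (hy : y ∈ R₁) (hyR : y ∉ R) (hd : d ∈ Q ⊓ centralizer (P : Set G))
    (hτ : τ ∈ T) (e : d * y * d⁻¹ = τ * y) : d = 1 := by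
  have h1 := h.comm_mem_T (h.le1 h.xR) hy
  refine h.b1.eq_one_of_conj h.rr (h.T_le h1) (fun hP => hyR (h.mem_R hy
    (h.b1.mem_cent h.hx h.hx1 ?_))) hd.1 (one_mem _) ?_
  · have := h.eq_one h1 hP
    rwa [mul_inv_eq_one, mul_inv_eq_iff_eq_mul] at this
  · have e1 : d * x * d⁻¹ = x := by rw [← hd.2 x h.hx]; group
    calc d * (x * y * x⁻¹ * y⁻¹) * d⁻¹
        = (d * x * d⁻¹) * (d * y * d⁻¹) * (d * x * d⁻¹)⁻¹ * (d * y * d⁻¹)⁻¹ := by group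
      _ = x * τ * y * x⁻¹ * y⁻¹ * τ⁻¹ := by rw [e1, e]; group
      _ = τ * (x * y * x⁻¹ * y⁻¹) * τ⁻¹ := by rw [h.comm h.xR (h.T_le hτ)]; group
      _ = _ := by rw [h.comm (h.T_le hτ) (h.T_le h1)]; group

theorem conj_mem_R {g : G} (hg : g * x * g⁻¹ ∈ R₁) : g * x * g⁻¹ ∈ R := by
  by_contra hyR
  have hp := h.b1.prime
  have hL : centralizer (P : Set G) ≤ normalizer (R₁ : Set G) := fun l hl =>
    h.mem_N1 (by rw [← hl x h.hx, mul_inv_cancel_right]; exact h.le1 h.xR)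
  have hN : normalizer (R : Set G) ≤ normalizer (R₁ : Set G) := fun n hn =>
    h.mem_N1 (h.le1 ((mem_normalizer_iff.mp hn x).mp h.xR))
  obtain ⟨O, hO⟩ : ∃ O : Set G, O = {y | ∃ n ∈ normalizer (R₁ : Set G), n * x * n⁻¹ = y} := ⟨_, rfl⟩
  have hj : (centralizer (P : Set G)).relIndex (normalizer (R₁ : Set G)) = O.ncard := by
    rw [← h.b1.cent_eq h.hx h.hx1, relIndex_centralizer, hO]
  have h1 : Nat.card P ∣ O.ncard := by
    rw [← hj, ← relIndex_mul_relIndex _ _ _ h.L_le_N hN, h.relIndex_N, h.m_eq, pow_one]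
    exact dvd_mul_right _ _
  have h2 : ¬ Nat.card P ^ 2 ∣ O.ncard := fun hd => by
    have := h.le_of_dvd hL (hj ▸ hd)
    omega
  have hTO : ∀ n ∈ normalizer (R₁ : Set G), ∀ τ ∈ T, τ * (n * x * n⁻¹) ∈ O := fun n hn τ hτ => by
    obtain ⟨n', hn', e⟩ := h.exists_conj ((mem_normalizer_iff.mp (inv_mem (h.conj_T
      ((mem_normalizer_iff.mp hn x).mp (h.le1 h.xR)))) τ).mp hτ)
    refine hO ▸ ⟨n * n', mul_mem hn (hN hn'), ?_⟩
    calc n * n' * x * (n * n')⁻¹ = n * (n' * x * n'⁻¹) * n⁻¹ := by group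
      _ = _ := by rw [e]; group
  have h3 : Nat.card P * Nat.card P ≤ O.ncard := by
    let f : Option ↥(Q ⊓ centralizer (P : Set G)) × T → O := fun z =>
      match z with
      | (none, τ) => ⟨τ * (1 * x * 1⁻¹), hTO 1 (one_mem _) τ τ.2⟩
      | (some c, τ) => ⟨τ * (c * g * x * (c * g)⁻¹), hTO _ (mul_mem (hL c.2.2) (h.mem_N1 hg)) τ τ.2⟩
    have hne : ∀ (c : ↥(Q ⊓ centralizer (P : Set G))) (τ τ' : T),
        (τ : G) * (1 * x * 1⁻¹) ≠ τ' * (c * g * x * (c * g)⁻¹) := fun c τ τ' e => by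
      have h4 := h.rr.conj _ (inv_mem c.2.2) _ (mul_mem (inv_mem (h.T_le τ'.2))
        (mul_mem (h.T_le τ.2) (show 1 * x * 1⁻¹ ∈ R by simpa using h.xR)))
      rw [e] at h4
      exact hyR (by convert h4 using 1; group)
    have hf : Function.Injective f := by
      rintro ⟨_ | c, τ⟩ ⟨_ | c', τ'⟩ e
      · have e' : (τ : G) * (1 * x * 1⁻¹) = τ' * (1 * x * 1⁻¹) := congrArg Subtype.val e
        rw [show τ = τ' from Subtype.ext (mul_right_cancel e')]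
      · exact absurd (congrArg Subtype.val e) (hne c' τ τ')
      · exact absurd (congrArg Subtype.val e).symm (hne c τ' τ)
      · have e' : (τ : G) * (c * g * x * (c * g)⁻¹) = τ' * (c' * g * x * (c' * g)⁻¹) :=
          congrArg Subtype.val e
        have h4 := h.semi hg hyR (mul_mem (inv_mem c'.2) c.2)
          (h.C_conj_T (inv_mem c'.2) (mul_mem (inv_mem τ.2) τ'.2)) (by
            calc (c' : G)⁻¹ * c * (g * x * g⁻¹) * ((c' : G)⁻¹ * c)⁻¹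
                = (c' : G)⁻¹ * (τ : G)⁻¹ * (τ * (c * g * x * (c * g)⁻¹)) * c' := by group
              _ = _ := by rw [e']; group)
        obtain rfl : c' = c := Subtype.ext (inv_mul_eq_one.mp h4)
        rw [show τ = τ' from Subtype.ext (mul_right_cancel e')]
    have := Nat.card_le_card_of_injective f hf
    rwa [Nat.card_prod, Finite.card_option, h.hm, h.m_eq, pow_one, h.card_T'] at this
  obtain ⟨n₀, hn₀, hn₀R⟩ := SetLike.not_le_iff_exists.mp h.nle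
  have hsC : s ∈ Q ⊓ centralizer (P : Set G) := ⟨h.b1.hyp.s_mem, h.b1.s_mem_L⟩
  obtain ⟨u, hu⟩ : ∃ u, u = s * n₀ * s⁻¹ * n₀⁻¹ := ⟨_, rfl⟩
  have hu1 : u ∈ R₁ := hu ▸ mul_mem ((mem_normalizer_iff.mp (hL hsC.2) n₀).mp hn₀) (inv_mem hn₀)
  have huT : u ∉ T := fun hT => h.b1.hyp.s_ne (h.semi hn₀ hn₀R hsC hT (by rw [hu]; group))
  have huo : OddC u := h.oddC_of_inv hu1 (fun e => huT (e ▸ one_mem _)) (by
    rw [hu, h.b1.hyp.s_inv]
    simp only [mul_inv_rev, inv_inv, h.b1.hyp.s_inv, ← mul_assoc, h.b1.hyp.s_sq, one_mul])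
  have h4 : O.ncard * (Nat.card P - 1) ≤ ((R₁ : Set G) \ insert u T).ncard := by
    have hne : ∀ i ∈ Set.Ioo 0 (Nat.card P), x ^ i ≠ 1 := fun i hi =>
      pow_ne_one_of_lt_orderOf hi.1.ne' (h.b1.orderOf_eq h.hx h.hx1 ▸ hi.2)
    have := Set.ncard_le_ncard_of_injOn (s := O ×ˢ Set.Ioo 0 (Nat.card P))
      (t := (R₁ : Set G) \ insert u T) (fun z : G × ℕ => z.1 ^ z.2) ?_ ?_
    · rwa [Set.ncard_prod, Set.ncard_Ioo_nat, Nat.sub_zero] at this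
    · rintro ⟨y, i⟩ ⟨hy, hi⟩
      obtain ⟨n, hn, rfl⟩ : ∃ n ∈ normalizer (R₁ : Set G), n * x * n⁻¹ = y := by rwa [hO] at hy
      refine ⟨pow_mem ((mem_normalizer_iff.mp hn x).mp (h.le1 h.xR)) i, ?_⟩
      simp only [conj_pow]
      rintro (e | e)
      · exact h.b1.not_oddC (pow_mem h.hx i) n (e ▸ huo)
      · exact h.conj_notMem_T (pow_mem h.hx i) (hne i hi) n e
    · rintro ⟨y, i⟩ ⟨hy, hi⟩ ⟨y', i'⟩ ⟨hy', hi'⟩ e
      obtain ⟨n, hn, rfl⟩ : ∃ n ∈ normalizer (R₁ : Set G), n * x * n⁻¹ = y := by rwa [hO] at hy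
      obtain ⟨n', hn', rfl⟩ : ∃ n ∈ normalizer (R₁ : Set G), n * x * n⁻¹ = y' := by rwa [hO] at hy'
      simp only [conj_pow] at e
      have h5 : n'⁻¹ * n * x ^ i * (n'⁻¹ * n)⁻¹ = x ^ i' := by
        calc _ = n'⁻¹ * (n * x ^ i * n⁻¹) * n' := by group
          _ = _ := by rw [e]; group
      have h6 := h.b1.mem_L_of_conj (pow_mem h.hx i) (hne i hi) (h5 ▸ pow_mem h.hx i')
      rw [h.b1.conj_eq (pow_mem h.hx i) (h5 ▸ pow_mem h.hx i')] at h5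
      have ho := h.b1.orderOf_eq h.hx h.hx1
      refine Prod.ext ?_ (pow_injOn_Iio_orderOf (ho ▸ hi.2) (ho ▸ hi'.2) h5)
      calc n * x * n⁻¹ = n' * ((n'⁻¹ * n) * x) * n⁻¹ := by group
        _ = n' * x * n'⁻¹ := by rw [← h6 x h.hx]; group
  have h5 := Set.ncard_sdiff_add_ncard_of_subset (s := insert u (T : Set G)) (t := R₁)
    (Set.insert_subset hu1 (h.T_le.trans h.le1))
  rw [Set.ncard_insert_of_notMem huT, show (T : Set G).ncard = Nat.card P from h.card_T',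
    show (R₁ : Set G).ncard = _ from h.card1, h.m_eq] at h5
  obtain ⟨j, hj'⟩ := h1
  rw [hj'] at h2 h3 h4
  obtain ⟨p, hp'⟩ : ∃ p, Nat.card P = p + 1 := ⟨Nat.card P - 1, by have := hp.pos; omega⟩
  rw [hp'] at h2 h3 h4 h5
  have h6 : p + 1 ≤ j := Nat.le_of_mul_le_mul_left h3 (by omega)
  have h7 : p + 1 + 1 ≤ j := lt_of_le_of_ne h6 fun e => h2 (by rw [← e, pow_two])
  rw [Nat.add_sub_cancel] at h4
  have h8 : (p + 1) * (p + 1 + 1) * p ≤ (p + 1) * j * p := by gcongr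
  have h9 : (p + 1) ^ (1 + 2) = (p + 1) * (p + 1 + 1) * p + (p + 1) := by ring
  omega

theorem false : False := by
  have := h.b1.fact
  refine H6.not_mem_commutator_of_fusion (p := Nat.card P) R₁ T h.normal_T
    (fun n hn n' hn' => h.comm_mem_T hn hn') ?_ x (h.le1 h.xR)
    (fun hT => h.hx1 (h.eq_one hT h.hx)) ⟨1, by rw [pow_one, h.b1.orderOf_eq h.hx h.hx1]⟩
    (fun k g hg => ?_) (h.b1.commutator_eq_top ▸ mem_top x)
  · refine (Nat.Prime.coprime_iff_not_dvd h.b1.prime).mpr fun hd => ?_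
    have h1 := mul_dvd_mul_left (Nat.card R₁) hd
    rw [card_mul_index, h.card1, ← pow_succ, h.b1.pow_dvd_card_iff h.hW h.hm1 h.hm] at h1
    omega
  · by_cases h1 : x ^ k = 1
    · simp [h1, one_mem]
    obtain ⟨i, hi⟩ := mem_zpowers_of_prime h.b1.prime (zpow_mem h.hx k) h1 h.hx
    have h2 : g * x * g⁻¹ ∈ R₁ := by
      have := pow_mem hg i
      rwa [conj_pow, hi] at this
    have h3 := h.conj_mul_inv_mem_T (h.conj_mem_R h2)
    have h4 := (show Commute _ x from h.comm (h.T_le h3) h.xR).mul_zpow k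
    rw [inv_mul_cancel_right, conj_zpow] at h4
    rw [h4, mul_inv_cancel_right]
    exact zpow_mem h3 k

end Ctx

theorem B1.dvd_card_W [IsSimpleGroup G] (h : B1 Ω a t Q s r P) :
    Nat.card P ∣ Nat.card ↥(WW a t Q ⊓ centralizer (P : Set G)) := by
  by_contra hW
  obtain ⟨R, hR⟩ := h.exists_RR
  obtain ⟨m, hm1, hm⟩ := h.exists_card_C hR
  obtain ⟨R₁, h1, h2, h3, h4⟩ := h.exists_R1 hW hR hm1 hm
  obtain ⟨x, hx, hx1⟩ := h.exists_ne_one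
  have hc := h.R_comm hW hR (IsPGroup.of_card h1) h3 h4
  let T : Subgroup G :=
    { carrier := {y | y ∈ R ∧ s * y * s = y⁻¹}
      one_mem' := ⟨one_mem _, by simpa using h.hyp.s_sq⟩
      mul_mem' := by
        rintro y z ⟨hy, e⟩ ⟨hz, e'⟩
        refine ⟨mul_mem hy hz, ?_⟩
        rw [hc y hy z hz, mul_inv_rev, ← e, ← e', hc z hz y hy]
        simp only [mul_assoc]
        rw [← mul_assoc s s, h.hyp.s_sq, one_mul]
      inv_mem' := by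
        rintro y ⟨hy, e⟩
        refine ⟨inv_mem hy, ?_⟩
        conv_rhs => rw [← e]
        simp only [mul_inv_rev, h.hyp.s_inv, mul_assoc] }
  exact Ctx.false (T := T) ⟨h, hW, hR, hx, hx1, hm1, hm, h1, h2, h3, h4, fun _ => Iff.rfl⟩

end SuzII
end H22
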