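import Mathlib
import Cfsg.Agent.H3.MaxClass
import Cfsg.Agent.H3.PGroup
import Cfsg.Agent.H13.CyclicMax

/-! The number of involutions modulo four (Alperin-Feit-Thompson, Herzog). -/

set_option autoImplicit false

namespace H22.Hz

open Subgroup

theorem dvd_of_blocks {X : Type*} {d : ℕ} (B : X → Set X) (A : Set X) (hA : A.Finite)
    (h1 : ∀ x ∈ A, x ∈ B x) (h2 : ∀ x ∈ A, B x ⊆ A) (h3 : ∀ x ∈ A, ∀ y ∈ B x, B y = B x)
    (h4 : ∀ x ∈ A, d ∣ (B x).ncard) : d ∣ A.ncard := by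
  induction hn : A.ncard using Nat.strong_induction_on generalizing A with
  | _ n ih =>
    subst hn
    rcases A.eq_empty_or_nonempty with rfl | ⟨x, hx⟩
    · simp
    have h5 := Set.ncard_sdiff_add_ncard_of_subset (h2 x hx) hA
    have h6 := (Set.ncard_pos (hA.subset (h2 x hx))).2 ⟨x, h1 x hx⟩
    rw [← h5]
    refine dvd_add (ih _ (by omega) _ hA.sdiff (fun y hy => h1 y hy.1)
      (fun y hy z hz => ⟨h2 y hy.1 hz, fun h => hy.2 ?_⟩) (fun y hy => h3 y hy.1)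
      (fun y hy => h4 y hy.1) rfl) (h4 x hx)
    rw [← h3 x hx z h, h3 y hy.1 z hz]
    exact h1 y hy.1

variable {G : Type*} [Group G] [Finite G]

theorem four_dvd_of_normal_four (hG : IsPGroup 2 G) {V : Subgroup G} [hV : V.Normal]
    (h4 : Nat.card V = 4) (hsq : ∀ v ∈ V, v * v = 1) (hC : ¬ centralizer (V : Set G) ≤ V) :
    4 ∣ {x : G | x * x = 1}.ncard := by
  have hVc : IsMulCommutative V := ⟨⟨fun a b => Subtype.ext (by
    have h := hsq _ (mul_mem a.2 b.2)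
    rw [coe_mul, coe_mul, eq_inv_of_mul_eq_one_left h, mul_inv_rev,
      inv_eq_of_mul_eq_one_left (hsq a a.2), inv_eq_of_mul_eq_one_left (hsq b b.2)])⟩⟩
  obtain ⟨E, hE, h1, h2, h3⟩ := H3.exists_normal_step hG (le_centralizer V) hC
  have hEc : IsMulCommutative E := by
    obtain ⟨x, hx, hxV⟩ := SetLike.not_le_iff_exists.1 fun h : E ≤ V => by
      have := card_le_of_le h
      omega
    rw [show E = zpowers x ⊔ V from (eq_of_le_of_card_ge (sup_le (zpowers_le.2 hx) h1) (by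
      have e1 := h4 ▸ card_dvd_of_le (le_sup_right : V ≤ zpowers x ⊔ V)
      have e2 : Nat.card V < Nat.card ↥(zpowers x ⊔ V) := lt_of_le_of_ne (card_le_of_le le_sup_right)
        fun h => hxV (eq_of_le_of_card_ge le_sup_right h.ge ▸ mem_sup_left (mem_zpowers x))
      omega)).symm]
    exact H3.isMulCommutative_zpowers_sup hVc (h2 hx)
  have hcm : ∀ a ∈ E, ∀ b ∈ E, a * b = b * a := fun a ha b hb =>
    congrArg Subtype.val (hEc.is_comm.comm ⟨a, ha⟩ ⟨b, hb⟩)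
  have hi : (V.subgroupOf E).index = 2 := by
    have := (V.subgroupOf E).card_mul_index
    rw [Nat.card_congr (subgroupOfEquivOfLe h1).toEquiv, h4] at this
    omega
  refine dvd_of_blocks (fun x => {y | y * y = 1 ∧ x⁻¹ * y ∈ E}) _ (Set.toFinite _)
    (fun x hx => ⟨hx, by simp⟩) (fun x _ y hy => hy.1) (fun x _ y hy => Set.ext fun w =>
      and_congr_right fun _ => ⟨fun h => by simpa using mul_mem hy.2 h,
        fun h => by simpa [mul_assoc] using mul_mem (inv_mem hy.2) h⟩) fun x (hx : x * x = 1) => ?_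
  have hx' : x⁻¹ = x := inv_eq_of_mul_eq_one_left hx
  let φ : E →* G := MonoidHom.mk' (fun e => x * e * x⁻¹ * e) fun a b => by
    have := hcm _ (hE.conj_mem _ b.2 x) _ a.2
    calc _ = x * a * x⁻¹ * (x * b * x⁻¹ * a) * b := by simp [mul_assoc]
      _ = _ := by rw [this]; simp [mul_assoc]
  have e1 : {y | y * y = 1 ∧ x⁻¹ * y ∈ E}.ncard = Nat.card φ.ker := by
    refine (Nat.card_congr (Equiv.ofBijective (fun e : φ.ker => (⟨x * e.1.1, ?_, by simp⟩ :
      {y | y * y = 1 ∧ x⁻¹ * y ∈ E})) ⟨fun a b h => Subtype.ext (Subtype.ext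
        (mul_left_cancel (congrArg Subtype.val h))), fun ⟨y, hy, hy'⟩ =>
        ⟨⟨⟨_, hy'⟩, ?_⟩, Subtype.ext (mul_inv_cancel_left _ _)⟩⟩)).symm
    · have : x * e.1.1 * x⁻¹ * e.1.1 = 1 := e.2
      rwa [hx', mul_assoc] at this
    · change x * (x⁻¹ * y) * x⁻¹ * (x⁻¹ * y) = 1
      simp [hx', ← mul_assoc, hx, hy, mul_assoc y x x]
  rw [e1]
  by_cases hxC : x ∈ centralizer (V : Set G)
  · rw [← h4, ← Nat.card_congr (subgroupOfEquivOfLe h1).toEquiv]
    refine card_dvd_of_le fun v hv => ?_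
    change x * v * x⁻¹ * v = 1
    rw [← hxC v.1 hv, mul_inv_cancel_right, hsq v.1 hv]
  · have e2 : φ.range ≤ V ⊓ centralizer {x} := by
      rintro _ ⟨e, rfl⟩
      refine ⟨(mul_mem_iff_of_index_two hi (a := ⟨_, hE.conj_mem _ e.2 x⟩) (b := e)).2
        ⟨fun h => by simpa [mul_assoc, mem_subgroupOf] using hV.conj_mem _ h x⁻¹, fun h => hV.conj_mem _ h x⟩,
        mem_centralizer_singleton_iff.2 ?_⟩
      change x * e * x⁻¹ * e * x = x * (x * e * x⁻¹ * e)
      have := hcm _ (hE.conj_mem _ e.2 x) _ e.2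
      rw [hx'] at this ⊢
      calc _ = x * (e * (x * e * x)) := by simp only [mul_assoc]
        _ = _ := by rw [← this]
    have e3 : Nat.card ↥(V ⊓ centralizer {x}) ≠ 4 := fun h => hxC fun v hv =>
      mem_centralizer_singleton_iff.1 ((eq_of_le_of_card_ge inf_le_left (h4.trans h.symm).le).ge hv).2
    have e4 := (card_dvd_of_le e2).trans (card_dvd_of_le (inf_le_left : V ⊓ centralizer {x} ≤ V))
    have e5 := (card_le_of_le e2).trans_lt (lt_of_le_of_ne (h4 ▸ card_le_of_le inf_le_left) e3)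
    have e6 := φ.ker.card_mul_index
    rw [index_ker, h3, h4] at e6
    rw [h4] at e4
    generalize Nat.card φ.range = r at *
    interval_cases r <;> omega

theorem exists_normal_four (hG : IsPGroup 2 G) {A : Subgroup G} [hA : A.Normal]
    (hc : IsMulCommutative A) (h : ¬ IsCyclic A) :
    ∃ V : Subgroup G, V.Normal ∧ Nat.card V = 4 ∧ ∀ v ∈ V, v * v = 1 := by
  let W : Subgroup G :=
    { carrier := {a | a ∈ A ∧ a * a = 1}
      one_mem' := ⟨one_mem _, mul_one _⟩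
      mul_mem' := fun {a b} ha hb => ⟨mul_mem ha.1 hb.1, by
        have : a * b = b * a := congrArg Subtype.val (hc.is_comm.comm ⟨a, ha.1⟩ ⟨b, hb.1⟩)
        rw [mul_assoc, ← mul_assoc b, ← this, mul_assoc, hb.2, mul_one, ha.2]⟩
      inv_mem' := fun {a} ha => ⟨inv_mem ha.1, by rw [← mul_inv_rev, ha.2, inv_one]⟩ }
  have : W.Normal := ⟨fun a ha g => ⟨hA.conj_mem a ha.1 g, by simp [mul_assoc, ← mul_assoc a, ha.2]⟩⟩
  obtain ⟨V, h1, h2, h3⟩ := H3.exists_normal_card_eq' hG W 2 (by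
    by_contra! h4
    obtain ⟨k, hk⟩ := IsPGroup.iff_card.1 (hG.to_subgroup W)
    have h5 : k < 2 := (Nat.pow_lt_pow_iff_right one_lt_two).1 (hk ▸ h4)
    refine h (H2.UniqueOrderP.isCyclic_of_comm (hG.to_subgroup A) 
      (H2.uniqueOrderP_of_card_le (hG.to_subgroup A) fun D _ hD => ?_))
    refine (Nat.card_le_card_of_injective (β := W) (fun x => ⟨x.1, x.1.2, ?_⟩) ?_).trans ?_
    · simpa [sq, Subtype.ext_iff] using hD _ x.2
    · exact fun a b e => Subtype.ext (Subtype.ext (congrArg (fun w : W => w.1) e))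
    · interval_cases k <;> omega)
  exact ⟨V, h1, h3, fun v hv => (h2 hv).2⟩

/-- Alperin-Feit-Thompson -/
theorem aft (hG : IsPGroup 2 G) (h : ¬ 4 ∣ {x : G | x * x = 1}.ncard) (hc : ¬ IsCyclic G) :
    (∃ n, 4 ≤ n ∧ Nonempty (G ≃* DihedralGroup n)) ∨ (∃ n, Nonempty (G ≃* QuaternionGroup n)) ∨
      Cfsg.IsQuasiDihedral G := by
  by_cases h1 : ∀ A : Subgroup G, A.Normal → IsMulCommutative A → IsCyclic A
  · rcases (H13.cyclic_normal_abelian 2 hG h1 hc).2 with h | ⟨n, hn, h⟩ | h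
    exacts [Or.inr (Or.inl h), Or.inl ⟨n, by omega, h⟩, Or.inr (Or.inr h)]
  push Not at h1
  obtain ⟨A, _, h2, h3⟩ := h1
  obtain ⟨V, _, h4, h5⟩ := exists_normal_four hG h2 h3
  have h6 : centralizer (V : Set G) ≤ V := by_contra fun h6 =>
    h (four_dvd_of_normal_four hG h4 h5 h6)
  obtain ⟨n, hn⟩ := IsPGroup.iff_card.1 hG
  have h7 : 3 ≤ n := by
    by_contra! h7
    have h8 : V = ⊤ := eq_top_of_card_eq _ (le_antisymm V.card_le_card_group (by
      rw [hn, h4]; interval_cases n <;> omega))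
    refine h ?_
    rw [show {x : G | x * x = 1} = V from Set.ext fun x => ⟨fun _ => h8 ▸ mem_top x, h5 x⟩, ← h4]
    rfl
  have hVc : IsMulCommutative V := ⟨⟨fun a b => Subtype.ext (by
    have h := h5 _ (mul_mem a.2 b.2)
    rw [coe_mul, coe_mul, eq_inv_of_mul_eq_one_left h, mul_inv_rev,
      inv_eq_of_mul_eq_one_left (h5 a a.2), inv_eq_of_mul_eq_one_left (h5 b b.2)])⟩⟩
  rcases H3.dihedral_or_quaternion_or_quasiDihedral_of_selfCentralizing h7 hn V h4
    (le_antisymm h6 (le_centralizer V)) with h | h | h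
  exacts [Or.inl ⟨_, Nat.pow_le_pow_right (n := 2) two_pos (show 2 ≤ _ by omega), h⟩,
    Or.inr (Or.inl ⟨_, h⟩), Or.inr (Or.inr h)]

/-- central involutions of `S` commuting with `t` -/
def Zt (S : Subgroup G) (t : G) : Subgroup G where
  carrier := {z | z ∈ S ∧ (∀ s ∈ S, s * z = z * s) ∧ z * z = 1 ∧ t * z = z * t}
  one_mem' := by simp
  mul_mem' := fun {a b} ha hb => ⟨mul_mem ha.1 hb.1,
    fun s hs => by rw [← mul_assoc, ha.2.1 s hs, mul_assoc, hb.2.1 s hs, mul_assoc],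
    by rw [mul_assoc, ← mul_assoc b, ha.2.1 b hb.1, mul_assoc, hb.2.2.1, mul_one, ha.2.2.1],
    by rw [← mul_assoc, ha.2.2.2, mul_assoc, hb.2.2.2, mul_assoc]⟩
  inv_mem' := fun {a} ha => by rwa [inv_eq_of_mul_eq_one_left ha.2.2.1]

omit [Finite G] in
theorem Zt_le {S : Subgroup G} {t s z : G} (hs : s ∈ S) (hz : z ∈ Zt S t) :
    Zt S t ≤ Zt S (s * t * s⁻¹ * z) := fun w hw => ⟨hw.1, hw.2.1, hw.2.2.1, by
  have h1 : Commute s w := hw.2.1 s hs
  have h2 : Commute t w := hw.2.2.2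
  exact ((h1.mul_left h2).mul_left h1.inv_left).mul_left (hw.2.1 z hz.1)⟩

/-- conjugation by `S` and multiplication by `Zt S t` -/
def act (S : Subgroup G) (t : G) : S × Zt S t →* Equiv.Perm G := MonoidHom.mk'
  (fun p => (MulAut.conj p.1.1).toEquiv.trans (Equiv.mulRight p.2.1)) fun p q => Equiv.ext fun g => by
    have h1 := q.2.2.2.1 _ (inv_mem p.1.2)
    have h2 := q.2.2.2.1 _ p.2.2.1
    simp only [Equiv.trans_apply, Prod.fst_mul, Prod.snd_mul, coe_mul, MulEquiv.toEquiv_eq_coe,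
      EquivLike.coe_coe, MulAut.conj_apply, Equiv.coe_mulRight, Equiv.Perm.mul_apply, mul_inv_rev,
      mul_assoc]
    rw [h2, ← mul_assoc p.1.1⁻¹, h1, mul_assoc]

/-- Herzog -/
theorem four_dvd_outside (S : Sylow 2 G) (h4 : 4 ≤ Nat.card S) :
    4 ∣ {x : G | x * x = 1 ∧ x ∉ S}.ncard := by
  let B : G → Set G := fun t => {y | ∃ s ∈ S, ∃ z ∈ Zt S t, s * t * s⁻¹ * z = y}
  have hB : ∀ t, B t = MulAction.orbit (act S t).range t := fun t => Set.ext fun y =>
    ⟨fun ⟨s, hs, z, hz, e⟩ => ⟨⟨_, (⟨s, hs⟩, ⟨z, hz⟩), rfl⟩, e⟩,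
      fun ⟨⟨_, p, rfl⟩, e⟩ => ⟨p.1, p.1.2, p.2, p.2.2, e⟩⟩
  have h1 : ∀ t, t ∈ B t := fun t => ⟨1, one_mem _, 1, one_mem _, by simp⟩
  have h2 : ∀ t, ∀ y ∈ B t, B y ⊆ B t ∧ t ∈ B y := by
    rintro t _ ⟨s, hs, z, hz, rfl⟩
    have e1 : s⁻¹ * (s * t * s⁻¹ * z) * s⁻¹⁻¹ * z = t := by
      rw [inv_inv, mul_assoc s⁻¹, mul_assoc _ z, ← hz.2.1 s hs]
      simp [mul_assoc, hz.2.2.1]
    refine ⟨?_, _, inv_mem hs, z, Zt_le hs hz hz, e1⟩
    rintro _ ⟨s', hs', z', hz', rfl⟩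
    refine ⟨_, mul_mem hs' hs, _, mul_mem hz (e1 ▸ Zt_le (inv_mem hs) (Zt_le hs hz hz) hz'), ?_⟩
    simp only [mul_inv_rev, mul_assoc]
    rw [← mul_assoc z, ← hz.2.1 _ (inv_mem hs'), mul_assoc]
  refine dvd_of_blocks B _ (Set.toFinite _) (fun t _ => h1 t) ?_
    (fun t _ y hy => (h2 t y hy).1.antisymm (h2 y t (h2 t y hy).2).1) fun t ht => ?_
  · rintro t ht _ ⟨s, hs, z, hz, rfl⟩
    refine ⟨?_, fun h => ht.2 ?_⟩
    · have h3 := (Zt_le hs (one_mem _) hz).2.2.2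
      rw [mul_one] at h3
      rw [mul_assoc, ← mul_assoc z, ← h3, mul_assoc _ z, hz.2.2.1]
      simp [mul_assoc, ← mul_assoc t, ht.1]
    · simpa [mul_assoc] using mul_mem (mul_mem (inv_mem hs) (mul_mem h (inv_mem hz.1))) hs
  have hP : IsPGroup 2 (S × Zt (S : Subgroup G) t) := fun p => by
    obtain ⟨k, hk⟩ := S.isPGroup' p.1
    exact ⟨k + 1, Prod.ext (by simp [pow_succ, pow_mul, hk]) (Subtype.ext (by
      simp [pow_succ', pow_mul, p.2.2.2.2.1]))⟩
  obtain ⟨k, hk⟩ := (hP.of_surjective _ (act S t).rangeRestrict_surjective).card_orbit t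
  rw [← hB] at hk
  change (B t).ncard = _ at hk
  rw [hk]
  refine pow_dvd_pow 2 (show 2 ≤ k from by_contra fun h5 => ?_)
  have h6 : (B t).ncard ≤ 2 := by rw [hk]; interval_cases k <;> omega
  have h7 : ∀ s ∈ S, s * t * s⁻¹ ∈ B t := fun s hs => ⟨s, hs, 1, one_mem _, mul_one _⟩
  have h8 : ∀ y ∈ B t, y ≠ t → ∀ w ∈ B t, w = t ∨ w = y := fun y hy hyt w hw => by
    rw [← Set.eq_of_subset_of_ncard_le (Set.pair_subset (h1 t) hy)
      (by rw [Set.ncard_pair hyt.symm]; exact h6)] at hw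
    exact hw
  let M := (centralizer {t}).subgroupOf (S : Subgroup G)
  have hM : ∀ s : (S : Subgroup G), s ∈ M ↔ s.1 * t * s.1⁻¹ = t := fun s => by
    rw [mem_subgroupOf, mem_centralizer_singleton_iff, mul_inv_eq_iff_eq_mul]
  have : M.Normal := ⟨fun m hm s => by
    rw [hM] at hm ⊢
    have e : m.1 * (s.1⁻¹ * t * s.1⁻¹⁻¹) * m.1⁻¹ = s.1⁻¹ * t * s.1⁻¹⁻¹ := by
      by_cases h9 : s.1⁻¹ * t * s.1⁻¹⁻¹ = t
      · rw [h9, hm]
      refine (h8 _ (h7 _ (inv_mem s.2)) h9 _ ?_).resolve_left fun h => h9 ?_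
      · simpa [mul_assoc] using h7 _ (mul_mem m.2 (inv_mem s.2))
      · exact (MulAut.conj m.1).injective (h.trans hm.symm)
    simpa [mul_assoc, inv_mul_eq_iff_eq_mul] using congrArg (fun g => s.1 * g * s.1⁻¹) e⟩
  have hM1 : M ≠ ⊥ := fun h => by
    have := Nat.card_le_card_of_injective (fun s : (S : Subgroup G) => (⟨_, h7 s s.2⟩ : B t)) fun a b e => by
      refine (inv_mul_eq_one.1 (h.le ((hM (b⁻¹ * a)).2 ?_))).symm
      have e' : a.1 * t * a.1⁻¹ = b.1 * t * b.1⁻¹ := congrArg Subtype.val e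
      simpa [mul_assoc] using congrArg (fun g => b.1⁻¹ * g * b.1) e'
    change _ ≤ (B t).ncard at this
    omega
  obtain ⟨z, hz, hz1, hz2, hz3⟩ := H3.exists_central_mod S.isPGroup' (N := ⊥) (C := M)
    fun h => hM1 (le_bot_iff.1 h)
  have hz4 : z.1 ∈ Zt S t := ⟨z.2, fun s hs => congrArg Subtype.val
      (commutatorElement_eq_one_iff_mul_comm.1 (hz3 ⟨s, hs⟩)).symm,
    by simpa [sq, Subtype.ext_iff] using hz2, (mem_centralizer_singleton_iff.1 hz).symm⟩
  have h9 : ∀ s ∈ S, t⁻¹ * s * t ∈ S := fun s hs => by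
    rcases h8 (t * z) ⟨1, one_mem _, z, hz4, by simp⟩ (by simpa using hz1) _ (h7 s hs) with e | e <;>
      rw [mul_inv_eq_iff_eq_mul] at e <;> rw [mul_assoc, e]
    · simpa using hs
    · simpa [mul_assoc] using mul_mem (show z.1 ∈ S from z.2) hs
  have h10 : IsPGroup 2 (zpowers t) := fun x => ⟨1, Subtype.ext (by
    obtain ⟨_, j, rfl⟩ := x
    change (t ^ j) ^ 2 ^ 1 = 1
    rw [← zpow_natCast, ← zpow_mul, mul_comm, zpow_mul, zpow_natCast, pow_one, sq, ht.1, one_zpow])⟩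
  refine ht.2 ((h10.inf_normalizer_sylow S).le ⟨mem_zpowers t, ?_⟩).2
  exact mem_normalizer_fintype fun s hs => by
    simpa [inv_eq_of_mul_eq_one_left ht.1] using h9 s hs

theorem herzog (S : Sylow 2 G) (h : Nat.card {t : G // orderOf t = 2} % 4 = 1) (hc : ¬ IsCyclic S) :
    (∃ n, 4 ≤ n ∧ Nonempty (S ≃* DihedralGroup n)) ∨ (∃ n, Nonempty (S ≃* QuaternionGroup n)) ∨
      Cfsg.IsQuasiDihedral S := by
  refine aft S.isPGroup' (fun h1 => ?_) hc
  have h2 := four_dvd_outside S (by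
    obtain ⟨k, hk⟩ := IsPGroup.iff_card.1 S.isPGroup'
    by_contra! h3
    have : k < 2 := (Nat.pow_lt_pow_iff_right one_lt_two).1 (hk ▸ h3)
    exact hc (isCyclic_of_card_dvd_prime (p := 2) (by rw [hk]; interval_cases k <;> simp)))
  rw [← Set.ncard_image_of_injective _ Subtype.val_injective] at h1
  have h3 := dvd_add h1 h2
  rw [← Set.ncard_union_eq (by rw [Set.disjoint_left]; rintro _ ⟨x, -, rfl⟩ h; exact h.2 x.2),
    show _ ∪ _ = insert 1 {t : G | orderOf t = 2} from Set.ext fun x => ?_,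
    Set.ncard_insert_of_notMem (by simp)] at h3
  · change (Set.ncard {t : G | orderOf t = 2}) % 4 = 1 at h
    omega
  · rw [Set.mem_insert_iff, Set.mem_ofPred, orderOf_eq_prime_iff, sq]
    refine ⟨fun h4 => ?_, fun h4 => ?_⟩
    · have : x * x = 1 := by
        rcases h4 with ⟨y, hy, rfl⟩ | h4
        exacts [congrArg Subtype.val hy, h4.1]
      tauto
    · have : x * x = 1 := by
        rcases h4 with rfl | h4
        exacts [mul_one _, h4.1]
      by_cases h5 : x ∈ S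
      exacts [Or.inl ⟨⟨x, h5⟩, Subtype.ext this, rfl⟩, Or.inr ⟨this, h5⟩]

end H22.Hz
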