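import Mathlib
import Cfsg.Agent.H22.MCFusion

/-!
# Groups with dihedral or quaternion Sylow 2-subgroups: fusion
-/

set_option autoImplicit false
set_option linter.unusedSectionVars false

namespace H22

open Subgroup

variable {G : Type*} [Group G] {n : ℕ}

theorem isKleinFour_of_cj {X : Subgroup G} {g : G} (h : IsKleinFour (cj g X)) : IsKleinFour X := by
  have := isKleinFour_cj h g⁻¹
  rwa [cj_inv_cj] at this

section SL23
open scoped MatrixGroups

/-- a matrix of order four -/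
def slI : SL(2, ZMod 3) := ⟨!![0, -1; 1, 0], by decide⟩
/-- a matrix of order four -/
def slJ : SL(2, ZMod 3) := ⟨!![1, 1; 1, -1], by decide⟩

/-- words in two generators indexed by the quaternion group -/
def q8word {M : Type*} [Monoid M] (x y : M) : QuaternionGroup 2 → M
  | .a k => x ^ k.val
  | .xa k => y * x ^ k.val

/-- the embedding of `Q₈` in `SL(2, 3)` -/
def q8sl : QuaternionGroup 2 →* SL(2, ZMod 3) := MonoidHom.mk' (q8word slI slJ) (by decide +kernel)

theorem q8word_self : ∀ q : QuaternionGroup 2, q8word (.a 1) (.xa 0) q = q := by decide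

theorem map_q8word {M N : Type*} [Monoid M] [Monoid N] (f : M →* N) (x y : M)
    (q : QuaternionGroup 2) : f (q8word x y q) = q8word (f x) (f y) q := by
  cases q <;> simp [q8word]

set_option synthInstance.maxSize 2000 in
theorem q8sl_key : ∀ x y : QuaternionGroup 2, x * x = .a 2 → y * y = .a 2 →
    x * y * (x * y) = .a 2 → (∃ q, (q8word x y)^[4] q ≠ q) →
    (∀ q, (q8word x y)^[3] q = q) ∧ ∃ W : SL(2, ZMod 3), W ^ 3 = 1 ∧
      (∀ q, q8word slI slJ (q8word x y q) * W = W * q8word slI slJ q) ∧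
      ∀ M : SL(2, ZMod 3), ∃ q, M = q8word slI slJ q ∨ M = q8word slI slJ q * W ∨
        M = q8word slI slJ q * (W * W) := by
  decide +kernel

theorem map_zpow_aut {N H : Type*} [Group N] [Group H] (f : N →* H) (α : MulAut N) (w : H)
    (h : ∀ q, f (α q) = w * f q * w⁻¹) (k : ℤ) :
    ∀ q, f ((α ^ k) q) = w ^ k * f q * (w ^ k)⁻¹ := by
  induction k using Int.induction_on with
  | zero => simp
  | succ k ih => intro q; rw [zpow_add_one, MulAut.mul_apply, ih, h, zpow_add_one]; group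
  | pred k ih =>
    intro q
    have := h (α⁻¹ q)
    rw [MulAut.apply_inv_self] at this
    rw [zpow_sub_one, MulAut.mul_apply, ih, this, zpow_sub_one]; group

theorem exists_sl23_section [Finite G] {Q : Subgroup G} (f : Q ≃* QuaternionGroup 2)
    (h : HasOdd Q) : ∃ (H K : Subgroup G) (_ : (K.subgroupOf H).Normal),
      Nonempty ((H ⧸ K.subgroupOf H) ≃* SL(2, ZMod 3)) := by
  obtain ⟨g, hg, ho, hc⟩ := h
  let α : MulAut (QuaternionGroup 2) := (f.symm.trans (Q.normalizerMonoidHom ⟨g, hg⟩)).trans f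
  let ι : QuaternionGroup 2 →* G := Q.subtype.comp f.symm.toMonoidHom
  have hι : Function.Injective ι := Q.subtype_injective.comp f.symm.injective
  have hα : ∀ q, ι (α q) = g * ι q * g⁻¹ := fun q => by simp [ι, α]
  have hcent : ∀ m : ℕ, (∀ q, α^[m] q = q) → g ^ m ∈ centralizer (Q : Set G) := by
    intro m hm
    refine mem_centralizer_of_forall_conj_eq fun x hx => ?_
    have := map_zpow_aut ι α g hα m (f ⟨x, hx⟩)
    rw [zpow_natCast, zpow_natCast, show (α ^ m) (f ⟨x, hx⟩) = α^[m] (f ⟨x, hx⟩) from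
      congrFun (hom_coe_pow (fun β : MulAut (QuaternionGroup 2) => ⇑β) rfl (fun _ _ => rfl) α m) _,
      hm] at this
    simpa [ι] using this.symm
  have hw : (α : QuaternionGroup 2 → QuaternionGroup 2) = q8word (α (.a 1)) (α (.xa 0)) := by
    funext q
    conv_lhs => rw [← q8word_self q]
    exact map_q8word α.toMonoidHom _ _ q
  have hz : α (.a 2) = .a 2 := by
    have key : ∀ u : QuaternionGroup 2, u * u = 1 → u ≠ 1 → u = .a 2 := by decide
    refine key _ (by rw [← map_mul]; exact map_eq_one_iff _ α.injective |>.2 (by decide)) ?_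
    rw [Ne, map_eq_one_iff _ α.injective]; decide
  obtain ⟨h3, W, hW3, hW, hsurj⟩ := q8sl_key (α (.a 1)) (α (.xa 0))
    (by rw [← map_mul, ← hz]; rfl) (by rw [← map_mul, ← hz]; rfl)
    (by rw [← map_mul, ← map_mul, ← hz]; rfl) (by
      rw [← hw]
      by_contra! H
      exact hc (H3.mem_of_pow_mem_of_coprime (hcent 4 H) (ho.pow_right 2)))
  rw [← hw] at h3 hW
  have h3g : 3 ∣ orderOf g := by
    by_contra h'
    exact hc (H3.mem_of_pow_mem_of_coprime (hcent 3 h3)
      ((Nat.Prime.coprime_iff_not_dvd Nat.prime_three).2 h').symm)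
  have hW' : ∀ q, q8sl (α q) = W * q8sl q * W⁻¹ := fun q => eq_mul_inv_of_mul_eq (hW q)
  let l₁ : QuaternionGroup 2 ⋊[zpowersHom _ α] Multiplicative ℤ →* G :=
    SemidirectProduct.lift ι (zpowersHom G g) fun k => MonoidHom.ext fun q =>
      map_zpow_aut ι α g hα k.toAdd q
  let l₂ : QuaternionGroup 2 ⋊[zpowersHom _ α] Multiplicative ℤ →* SL(2, ZMod 3) :=
    SemidirectProduct.lift q8sl (zpowersHom _ W) fun k => MonoidHom.ext fun q =>
      map_zpow_aut q8sl α W hW' k.toAdd q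
  have hker : l₁.rangeRestrict.ker ≤ l₂.ker := by
    rintro ⟨q, k⟩ hq
    rw [MonoidHom.ker_rangeRestrict] at hq
    have e : ι q * g ^ k.toAdd = 1 := hq
    have hQ2 : IsPGroup 2 Q := IsPGroup.of_card (n := 3) (q8_card f)
    have h1 : g ^ k.toAdd = 1 := by
      refine H3.eq_one_of_mem_of_coprime hQ2 ?_ ?_
      · rw [eq_inv_of_mul_eq_one_right e]; exact Q.inv_mem (f.symm q).2
      · exact ho.coprime_dvd_left (orderOf_dvd_of_mem_zpowers (zpow_mem (mem_zpowers g) _))
    rw [h1, mul_one, map_eq_one_iff _ hι] at e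
    show q8sl q * W ^ k.toAdd = 1
    obtain ⟨m, hm⟩ := (Int.natCast_dvd_natCast.2 h3g).trans (orderOf_dvd_iff_zpow_eq_one.2 h1)
    rw [e, map_one, one_mul, hm, zpow_mul, zpow_natCast, hW3, one_zpow]
  let F : l₁.range →* SL(2, ZMod 3) :=
    l₁.rangeRestrict.liftOfSurjective l₁.rangeRestrict_surjective ⟨l₂, hker⟩
  have hF : ∀ x, F (l₁.rangeRestrict x) = l₂ x := fun x =>
    MonoidHom.liftOfRightInverse_comp_apply _ _ _ _ x
  have hFs : Function.Surjective F := by
    intro M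
    obtain ⟨q, e | e | e⟩ := hsurj M
    · exact ⟨_, (hF ⟨q, 1⟩).trans (by rw [e]; exact mul_one _)⟩
    · exact ⟨_, (hF ⟨q, .ofAdd 1⟩).trans (by rw [e]; exact congrArg (q8sl q * ·) (zpow_one W))⟩
    · exact ⟨_, (hF ⟨q, .ofAdd 2⟩).trans (by rw [e]; exact congrArg (q8sl q * ·) (zpow_two W))⟩
  have hK : (F.ker.map l₁.range.subtype).subgroupOf l₁.range = F.ker :=
    comap_map_eq_self_of_injective l₁.range.subtype_injective _
  have hN : ((F.ker.map l₁.range.subtype).subgroupOf l₁.range).Normal := by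
    rw [hK]; infer_instance
  exact ⟨l₁.range, _, hN, ⟨(QuotientGroup.quotientMulEquivOfEq hK).trans
    (QuotientGroup.quotientKerEquivOfSurjective F hFs)⟩⟩

theorem quaternion_sylow [Finite G] (P : Sylow 2 G) {m : ℕ}
    (e : (P : Subgroup G) ≃* QuaternionGroup (2 ^ m)) : Cfsg.HasNormalPComplement 2 G ∨
      ∃ Q : Subgroup G, Q ≤ P ∧ Nonempty (Q ≃* QuaternionGroup 2) ∧ HasOdd Q := by
  obtain ⟨E⟩ := exists_MC_of_quaternion m e
  rw [or_iff_not_imp_right]
  intro H
  refine hasNPC_of_not_hasOdd P fun X hX _ h => H ⟨X, hX, ?_, h⟩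
  rcases E.hasOdd_cases (by omega) tw_zero (hh_mem_K le_rfl) hX h with ⟨d, -, h2⟩ | ⟨hn, d, h1, h2⟩
  · exact absurd (by simpa using h2) (hh_ne_zero (n := m + 1) (by omega))
  · exact MC.isS_equiv_quaternion (j := 1) h1 hn h2 fun a _ => zero_mul a

end SL23

namespace Dih

section
variable {S : Subgroup G} (E : MC S n 0 0)

theorem exists_four (hn : 1 ≤ n) (d : ZMod (2 ^ n)) : ∃ X, E.IsS X (K n 1) d ∧ IsKleinFour X := by
  obtain ⟨X, h⟩ := E.exists_isS_K (j := 1) d (by simp)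
  exact ⟨X, h, MC.isS_isKleinFour tw_zero hn h (by simp)⟩

theorem exists_max (d : ZMod (2 ^ n)) : ∃ X, E.IsS X (K n (n - 1)) d :=
  E.exists_isS_K d (by simp)

theorem four_of_hasOdd (hn : 1 ≤ n) {X : Subgroup G} (hX : X ≤ S) (h : HasOdd X) :
    ∃ d, E.IsS X (K n 1) d ∧ IsKleinFour X := by
  rcases E.hasOdd_cases hn tw_zero (zero_mem _) hX h with ⟨d, h1, h2⟩ | ⟨-, d, -, h2⟩
  · exact ⟨d, h1, MC.isS_isKleinFour tw_zero hn h1 h2⟩
  · exact absurd (by simpa using h2.symm) (hh_ne_zero hn)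

theorem orderOf_s (a : ZMod (2 ^ n)) : orderOf (E.s a) = 2 := E.orderOf_s_two.2 (by simp)

theorem r_hh_ne_one (hn : 1 ≤ n) : E.r (hh n) ≠ 1 := by
  rw [Ne, E.r_eq_one]; exact hh_ne_zero hn

variable {E} in
theorem isConj_of_hasOdd (hn : 1 ≤ n) {X : Subgroup G} {d : ZMod (2 ^ n)} (h : E.IsS X (K n 1) d)
    (ho : HasOdd X) : IsConj (E.s d) (E.r (hh n)) :=
  ho.kleinFour_isConj (MC.isS_isKleinFour tw_zero hn h (by simp)) h.self_mem
    ((h.r_mem _).2 (hh_mem_K le_rfl)) (E.s_ne_one d) (r_hh_ne_one E hn)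

end

variable [Finite G] {P : Sylow 2 G} (E : MC (P : Subgroup G) n 0 0)

include E in
theorem kleinFour_of_hasOdd (hn : 1 ≤ n) {X : Subgroup G} (hX : IsPGroup 2 X) (h : HasOdd X) :
    IsKleinFour X := by
  obtain ⟨g, hg⟩ := sylow_exists_cj_le P hX
  obtain ⟨d, -, h1⟩ := four_of_hasOdd E hn hg (h.cj g)
  exact isKleinFour_of_cj h1

include E in
theorem hasNPC_iff (hn : 1 ≤ n) : Cfsg.HasNormalPComplement 2 G ↔
    ∀ U : Subgroup G, U ≤ P → IsKleinFour U → normalizer (U : Set G) =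
      centralizer (U : Set G) ⊔ ((P : Subgroup G) ⊓ normalizer (U : Set G)) := by
  constructor
  · intro h U hU h4
    obtain ⟨-, d, h1, -⟩ := E.exists_isS_of_isKleinFour hU h4
    exact normalizer_eq_sup_of_not_hasOdd (not_hasOdd_of_hasNPC h (isPGroup_of_kleinFour h4))
      (MC.isS_fullyNormalized tw_zero h1 hn IsKleinFour.not_isCyclic)
  · intro h
    refine hasNPC_of_not_hasOdd P fun X hX _ ho => ?_
    obtain ⟨d, -, h4⟩ := four_of_hasOdd E hn hX ho
    exact not_hasOdd_of_le_sup (P.isPGroup'.to_inf_left (K := normalizer (X : Set G))) inf_le_right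
      ((h X hX h4).trans (sup_comm _ _)).le ho

theorem isConj_of_forall (hn : 1 ≤ n) (h : ∀ d, IsConj (E.s d) (E.r (hh n))) {a b : G}
    (ha : orderOf a = 2) (hb : orderOf b = 2) : IsConj a b := by
  have key : ∀ t : G, orderOf t = 2 → IsConj t (E.r (hh n)) := by
    intro t ht
    obtain ⟨u, hu, ho, e⟩ := exists_isConj_mem_sylow P (k := 1) ht
    rcases E.cases hu with ⟨d, rfl⟩ | ⟨d, rfl⟩
    · rwa [(E.orderOf_r_two hn).1 ho] at e
    · exact e.trans (h d)
  exact (key a ha).trans (key b hb).symm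

theorem hasOdd_of_le_commutator (hn : 1 ≤ n) (h : (P : Subgroup G) ≤ commutator G)
    {X : Subgroup G} {d : ZMod (2 ^ n)} (hX : E.IsS X (K n 1) d) : HasOdd X := by
  by_contra ho
  obtain ⟨F, hF⟩ := exists_max E (d + 1)
  have h1 : commutator G ⊓ P ≤ F := by
    refine commutator_inf_le_of_hasOdd P F (fun a ha s hs =>
      E.inv_mul_conj_mem_K tw_zero (fun b => (hF.r_mem b).2) ha hs) fun Y hY _ hoY => ?_
    obtain ⟨d', h2, -⟩ := four_of_hasOdd E hn hY hoY
    have h3 : d' - d ∉ K n (n - 1) := fun h3 => by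
      obtain ⟨b, hb⟩ := MC.isS_conj tw_zero hn hX h2 h3
      exact ho ((hasOdd_cj_iff _).1 (hb ▸ hoY))
    rcases hn.eq_or_lt with rfl | hn'
    · exact absurd (h2.unique hX (mem_K_of_le le_rfl _) ▸ hoY) ho
    · refine h2.le_isS hF (K_mono (by omega)) ?_
      rw [← sub_sub]
      exact SD.sub_mem_of_odd h3 (one_not_mem_K (by omega))
  have := (hF.s_mem d).1 (h1 ⟨h (E.s_mem d), E.s_mem d⟩)
  exact one_not_mem_K (n := n) (j := n - 1) (by omega) (by simpa using this)

include E in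
theorem isConj_of_no_index_two (hn : 1 ≤ n) (h : ∀ H : Subgroup G, H.index ≠ 2) {a b : G}
    (ha : orderOf a = 2) (hb : orderOf b = 2) : IsConj a b := by
  refine isConj_of_forall E hn (fun d => ?_) ha hb
  obtain ⟨X, hX, -⟩ := exists_four E hn d
  exact isConj_of_hasOdd hn hX
    (hasOdd_of_le_commutator E hn (sylow_le_commutator_of_no_index_two P h) hX)

include E in
theorem fusion_simple_of_isConj (hn : 1 ≤ n)
    (h : ∀ a b : G, orderOf a = 2 → orderOf b = 2 → IsConj a b) :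
    (∀ H : Subgroup G, H.index ≠ 2) ∧ ∀ z : G, ¬ Cfsg.IsIsolatedInvolution z := by
  have hz : orderOf (E.r (hh n)) = 2 := (E.orderOf_r_two hn).2 rfl
  constructor
  · refine no_index_two_of_sylow_le_commutator P ?_
    have h1 := inv_mul_mem_commutator_of_isConj (h _ _ (orderOf_s E 0) hz)
    rw [E.s_inv, E.s_mul_r] at h1
    have h2 := fun d => mem_of_isConj_of_normal _ (h _ _ (orderOf_s E _) (orderOf_s E d)) h1
    exact E.le_of_s_zero_one (h2 0) (h2 1)
  · intro z hiso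
    obtain ⟨g, hg⟩ := isConj_iff.1 (h _ _ hiso.1 hz)
    have h1 := isolated_conj hiso g
    rw [hg] at h1
    obtain ⟨k, hk⟩ := isConj_iff.1 (h _ _ hz (orderOf_s E 0))
    have := h1.2 k (by rw [hk]; exact E.r_comm_s.2 (tw_zero.sig_eq_self.2 (hh_mem_K le_rfl)))
    exact E.s_ne_r _ _ (hk.symm.trans this)

include E in
theorem isConj_of_index (hn : 1 ≤ n) (h : ∀ U : Subgroup G, U ≤ P → IsKleinFour U →
      (centralizer (U : Set G)).relIndex (normalizer (U : Set G)) =
        if Nat.card P = 4 then 3 else 6) {a b : G}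
    (ha : orderOf a = 2) (hb : orderOf b = 2) : IsConj a b := by
  refine isConj_of_forall E hn (fun d => ?_) ha hb
  obtain ⟨X, hX, h4⟩ := exists_four E hn d
  refine isConj_of_hasOdd hn hX ?_
  have h1 := h X hX.le h4
  rcases hn.eq_or_lt with rfl | hn'
  · by_contra ho
    have h2 := normalizer_eq_sup_of_not_hasOdd ho
      (MC.isS_fullyNormalized tw_zero hX le_rfl IsKleinFour.not_isCyclic)
    have h3 : X = P := hX.eq_top_of K_self
    rw [sup_of_le_left (inf_le_left.trans (by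
      rw [← h3]; exact fun x hx => mem_centralizer_iff.2 fun y hy => kleinFour_comm h4 hy hx))] at h2
    rw [h2, relIndex_self] at h1
    split_ifs at h1 <;> omega
  · rcases MC.four_index tw_zero hn' hX h4 with h2 | h2
    · rw [h2.1] at h1
      split_ifs at h1 <;> omega
    · exact h2.2

theorem not_conj_four (hn : 2 ≤ n) {U V : Subgroup G} (hU : E.IsS U (K n 1) 0)
    (hV : E.IsS V (K n 1) 1) (g : G) : cj g U ≠ V := by
  intro e
  have hn1 : 1 ≤ n := by omega
  have key := alperin_subgroup_rel P (fun A B => (IsKleinFour A ↔ IsKleinFour B) ∧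
    (IsKleinFour A → ∃ s ∈ P, cj s A = B)) ?_ ?_ ?_ ?_ hU.le (g := g) (e ▸ hV.le)
  · obtain ⟨s, hs, e'⟩ := key.2 (MC.isS_isKleinFour tw_zero hn1 hU (by simp))
    obtain ⟨F, hF⟩ := exists_max E 0
    have h1 : cj s U ≤ F := cj_le_iff.2 fun a ha => MC.conj_mem_of_K tw_zero
      (fun b => (hF.r_mem b).2) (hU.le ha) (hU.le_isS hF (K_mono (by omega)) (by simp) ha) hs
    rw [e', e] at h1
    exact one_not_mem_K (n := n) (j := n - 1) (by omega) (by simpa using hV.sub_mem_of_eq hF h1)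
  · rintro A B ⟨h1, h2⟩
    refine ⟨h1.symm, fun h => ?_⟩
    obtain ⟨s, hs, rfl⟩ := h2 (h1.2 h)
    exact ⟨s⁻¹, inv_mem hs, cj_inv_cj _ _⟩
  · rintro A B C ⟨h1, h2⟩ ⟨h3, h4⟩
    refine ⟨h1.trans h3, fun h => ?_⟩
    obtain ⟨s, hs, rfl⟩ := h2 h
    obtain ⟨t, ht, rfl⟩ := h4 (h1.1 h)
    exact ⟨t * s, mul_mem ht hs, cj_mul _ _ _⟩
  · intro A _ s hs
    exact ⟨⟨fun h => isKleinFour_cj h s, isKleinFour_of_cj⟩, fun _ => ⟨s, hs, rfl⟩⟩
  · intro X hX _ _ ho k hk A hA
    refine ⟨⟨fun h => isKleinFour_cj h k, isKleinFour_of_cj⟩, fun h => ⟨1, one_mem _, ?_⟩⟩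
    obtain ⟨d, -, h4⟩ := four_of_hasOdd E hn1 hX ho
    obtain rfl : A = X := eq_of_le_of_card_ge hA (by rw [h.card_four, h4.card_four])
    rw [cj_one, cj_eq_iff.2 hk]

include E in
theorem four_classes (hn : 1 ≤ n) :
    (Nat.card P = 4 → ∀ U V : Subgroup G, IsKleinFour U → IsKleinFour V → ∃ x : G, cj x U = V) ∧
    (4 < Nat.card P → ∃ U₁ U₂ : Subgroup G, IsKleinFour U₁ ∧ IsKleinFour U₂ ∧
      ¬ (∃ x : G, cj x U₁ = U₂) ∧
      ∀ V : Subgroup G, IsKleinFour V → (∃ x : G, cj x V = U₁) ∨ ∃ x : G, cj x V = U₂) := by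
  constructor
  · intro h U V hU hV
    obtain ⟨g, hg⟩ := sylow_exists_cj_le P (isPGroup_of_kleinFour hU)
    obtain ⟨k, hk⟩ := sylow_exists_cj_le P (isPGroup_of_kleinFour hV)
    have h1 := eq_of_le_of_card_ge hg (by rw [h, card_cj, hU.card_four])
    have h2 := eq_of_le_of_card_ge hk (by rw [h, card_cj, hV.card_four])
    exact ⟨k⁻¹ * g, by rw [cj_mul, h1, ← h2, cj_inv_cj]⟩
  · intro h
    have hn2 : 2 ≤ n := by
      rcases hn.eq_or_lt with rfl | hn'
      · rw [E.card] at h; omega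
      · exact hn'
    obtain ⟨U₁, h1, h1'⟩ := exists_four E hn 0
    obtain ⟨U₂, h2, h2'⟩ := exists_four E hn 1
    refine ⟨U₁, U₂, h1', h2', fun ⟨g, hg⟩ => not_conj_four E hn2 h1 h2 g hg, fun V hV => ?_⟩
    obtain ⟨g, hg⟩ := sylow_exists_cj_le P (isPGroup_of_kleinFour hV)
    obtain ⟨-, d, h3, -⟩ := E.exists_isS_of_isKleinFour hg (isKleinFour_cj hV g)
    by_cases hd : d ∈ K n (n - 1)
    · obtain ⟨b, hb⟩ := MC.isS_conj tw_zero hn h3 h1 (by simpa using hd)
      exact Or.inl ⟨E.r b * g, by rw [cj_mul, hb]⟩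
    · obtain ⟨b, hb⟩ := MC.isS_conj tw_zero hn h3 h2
        (SD.sub_mem_of_odd (one_not_mem_K (by omega)) hd)
      exact Or.inr ⟨E.r b * g, by rw [cj_mul, hb]⟩

include E in
theorem centralizer_hasNPC (hn : 1 ≤ n) {t : G} (ht : orderOf t = 2) :
    Cfsg.HasNormalPComplement 2 (centralizer ({t} : Set G)) := by
  obtain ⟨R⟩ : Nonempty (Sylow 2 (centralizer ({t} : Set G))) := inferInstance
  refine hasNPC_of_not_hasOdd R fun Y hY hc ho => ?_
  let t' : centralizer ({t} : Set G) := ⟨t, mem_centralizer_singleton_iff.2 rfl⟩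
  have hcomm : ∀ g : centralizer ({t} : Set G), g * t' = t' * g := fun g =>
    Subtype.ext (mem_centralizer_singleton_iff.1 g.2)
  have hY2 : IsPGroup 2 Y := R.isPGroup'.to_le hY
  have h4 := kleinFour_of_hasOdd E hn (hY2.map _) (ho.map _ (subtype_injective _))
  have h4' : IsKleinFour Y := isKleinFour_of
    (by rw [← h4.card_four, card_map_of_injective (subtype_injective _)])
    fun x hx => Subtype.ext (kleinFour_mul_self h4 (mem_map_of_mem _ hx))
  have htR : t' ∈ R := by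
    obtain ⟨g, hg⟩ := sylow_exists_conj_mem R (a := t') (k := 1)
      (Subtype.ext (by simpa [sq] using mul_self_of_orderOf_two ht))
    rwa [hcomm, mul_inv_cancel_right] at hg
  have htY : t' ∈ Y := hc ⟨htR, mem_centralizer_iff.2 fun g _ => hcomm g⟩
  obtain ⟨g, -, hφ, x, hx, hne⟩ := ho.exists_conj
  exact hne (hφ.fix_kleinFour h4' htY (fun h => ne_one_of_orderOf_two ht (congrArg Subtype.val h))
    (by simp only [hcomm g, mul_inv_cancel_right]) x hx)

end Dih

theorem exists_normal_odd_of_hasNPC [Finite G] (h : Cfsg.HasNormalPComplement 2 G) :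
    ∃ N : Subgroup G, N.Normal ∧ Odd (Nat.card N) ∧ ∃ k : ℕ, N.index = 2 ^ k := by
  refine ⟨Cfsg.pResidual 2 G, inferInstance, odd_of_coprime_two (H3.hasNPC_iff_coprime.1 h), ?_⟩
  obtain ⟨k, hk⟩ := H3.index_pResidual_dvd_pow 2 G
  obtain ⟨j, -, hj⟩ := (Nat.dvd_prime_pow Nat.prime_two).1 hk
  exact ⟨j, hj⟩

end H22
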