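import Mathlib

/-! The distinguished four-groups of `A₇`. -/

set_option autoImplicit false

namespace H22
namespace A7F

open Equiv Equiv.Perm

/-- the permutation `(0 1)(2 3)` -/
def t0 : Perm (Fin 7) := ⟨![1, 0, 3, 2, 4, 5, 6], ![1, 0, 3, 2, 4, 5, 6], by decide, by decide⟩
/-- the permutation `(0 2)(1 3)` -/
def v0 : Perm (Fin 7) := ⟨![2, 3, 0, 1, 4, 5, 6], ![2, 3, 0, 1, 4, 5, 6], by decide, by decide⟩
/-- the permutation `(4 5 6)` -/
def c0 : Perm (Fin 7) := ⟨![0, 1, 2, 3, 5, 6, 4], ![0, 1, 2, 3, 6, 4, 5], by decide, by decide⟩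

set_option synthInstance.maxSize 2000 in
theorem key1 (w : Perm (Fin 7)) (hw : w = t0 ∨ w = v0 ∨ w = t0 * v0) :
    ∀ x, t0 x ≠ x → ∀ a, w a ≠ a → ∀ b, w b ≠ b → (a = x ↔ b = a) → (a = w x ↔ b = w a) →
      ∀ c, w c ≠ c → (b = x ↔ c = a) → (b = w x ↔ c = w a) → (b = a ↔ c = b) →
      (b = w a ↔ c = w b) → ∀ d, w d ≠ d → (c = x ↔ d = a) → (c = w x ↔ d = w a) →
      (c = a ↔ d = b) → (c = w a ↔ d = w b) → (c = b ↔ d = c) → (c = w b ↔ d = w c) → d = x := by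
  rcases hw with rfl | rfl | rfl <;> decide +kernel

set_option synthInstance.maxSize 2000 in
theorem key4 : ∀ i0 i2 i4 : Fin 7, ∀ f : Fin 7 → Fin 7,
    f = ![i0, t0 i0, i2, t0 i2, i4, c0 i4, c0 (c0 i4)] → (∀ y, f (f y) = y) →
      (∀ y, f (t0 y) = t0 (f y)) → (∀ y, f (c0 y) = c0 (f y)) →
      (∀ y, f y = y) ∨ (∀ y, f y = t0 y) ∨ (∀ y, f y = v0 y) ∨ (∀ y, f y = t0 (v0 y)) ∨
        (∀ y, f y = swap 0 1 y) ∨ ∀ y, f y = swap 2 3 y := by
  simp only [forall_eq]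
  decide +kernel

theorem pow_four_comm (y : Perm (Fin 7))
    (h : y * t0 = t0 * y ∨ y * v0 = v0 * y ∨ y * (t0 * v0) = t0 * v0 * y) :
    y ^ 4 * t0 = t0 * y ^ 4 ∧ y ^ 4 * v0 = v0 * y ^ 4 := by
  obtain ⟨w, hw, h⟩ : ∃ w, (w = t0 ∨ w = v0 ∨ w = t0 * v0) ∧ y * w = w * y := by
    rcases h with h | h | h
    exacts [⟨_, Or.inl rfl, h⟩, ⟨_, Or.inr (Or.inl rfl), h⟩, ⟨_, Or.inr (Or.inr rfl), h⟩]
  have h1 : ∀ p, y (w p) = w (y p) := Equiv.congr_fun h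
  have h2 : ∀ p, w p ≠ p → w (y p) ≠ y p := fun p hp e => hp (y.injective ((h1 p).trans e))
  have h3 : ∀ p q, p = q ↔ y p = y q := fun p q => y.injective.eq_iff.symm
  have h4 : ∀ p q, p = w q ↔ y p = w (y q) := fun p q => by rw [← h1, h3]
  have h5 : ∀ x, t0 x ≠ x → (y ^ 4) x = x := fun x hx => by
    have h6 : w x ≠ x := by
      revert x
      rcases hw with rfl | rfl | rfl <;> decide
    exact key1 w hw x hx _ (h2 _ h6) _ (h2 _ (h2 _ h6)) (h3 _ _) (h4 _ _) _ (h2 _ (h2 _ (h2 _ h6)))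
      (h3 _ _) (h4 _ _) (h3 _ _) (h4 _ _) _ (h2 _ (h2 _ (h2 _ (h2 _ h6)))) (h3 _ _) (h4 _ _)
      (h3 _ _) (h4 _ _) (h3 _ _) (h4 _ _)
  have h6 : ∀ x, t0 x = x → v0 x = x := by decide
  exact ⟨Disjoint.commute fun x => (em (t0 x = x)).symm.imp_left (h5 x),
    Disjoint.commute fun x => (em (t0 x = x)).symm.imp (h5 x) (h6 x)⟩

theorem four_cases (u : Perm (Fin 7)) (hs : sign u = 1) (h1 : u * u = 1) (h2 : u * t0 = t0 * u)
    (h3 : u * c0 = c0 * u) : u = 1 ∨ u = t0 ∨ u = v0 ∨ u = t0 * v0 := by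
  have h2' := Equiv.congr_fun h2
  have h3' := Equiv.congr_fun h3
  rcases key4 (u 0) (u 2) (u 4) u (funext fun i => by
    fin_cases i
    exacts [rfl, h2' 0, rfl, h2' 2, rfl, h3' 4, (h3' 5).trans (congrArg c0 (h3' 4))])
    (Equiv.congr_fun h1) h2' h3' with h | h | h | h | h | h
  · exact Or.inl (Equiv.ext h)
  · exact Or.inr (Or.inl (Equiv.ext h))
  · exact Or.inr (Or.inr (Or.inl (Equiv.ext h)))
  · exact Or.inr (Or.inr (Or.inr (Equiv.ext h)))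
  · rw [show u = swap 0 1 from Equiv.ext h, sign_swap (by decide)] at hs
    exact absurd hs (by decide)
  · rw [show u = swap 2 3 from Equiv.ext h, sign_swap (by decide)] at hs
    exact absurd hs (by decide)

theorem exists_four : ∃ t v : alternatingGroup (Fin 7), t * t = 1 ∧ v * v = 1 ∧ t ≠ 1 ∧ v ≠ 1 ∧
    v ≠ t ∧ v * t = t * v ∧
    (∀ y, y * t = t * y ∨ y * v = v * y ∨ y * (t * v) = t * v * y →
      y ^ 4 * t = t * y ^ 4 ∧ y ^ 4 * v = v * y ^ 4) ∧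
    ∀ u, u * u = 1 → u * t = t * u → (∀ y, y * t = t * y → y ^ 4 * u = u * y ^ 4) →
      u = 1 ∨ u = t ∨ u = v ∨ u = t * v := by
  have hc : c0 ∈ alternatingGroup (Fin 7) := mem_alternatingGroup.mpr (by decide)
  refine ⟨⟨t0, mem_alternatingGroup.mpr (by decide)⟩, ⟨v0, mem_alternatingGroup.mpr (by decide)⟩,
    by decide, by decide, by decide, by decide, by decide,
    by decide, fun y hy => ?_, fun u h1 h2 h3 => ?_⟩
  · simp only [Subtype.ext_iff] at hy ⊢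
    exact pow_four_comm y hy
  · have h4 := h3 ⟨c0, hc⟩ (Subtype.ext (show c0 * t0 = t0 * c0 by decide))
    rw [show (⟨c0, hc⟩ : alternatingGroup (Fin 7)) ^ 4 = ⟨c0, hc⟩ from
      Subtype.ext (show c0 ^ 4 = c0 by decide)] at h4
    simp only [Subtype.ext_iff] at h1 h2 h4 ⊢
    exact four_cases u u.2 h1 h2 h4.symm

end A7F
end H22
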