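import Mathlib

/-! Arithmetic of the order formulas for groups with dihedral Sylow `2`-subgroups. -/

set_option autoImplicit false

namespace H22.DN

theorem bounds_four {i K a : ℤ} (hK : K ≠ 0) (ha : a % 8 = 1)
    (h : i * (a - 1) ^ 2 = 2 * K ^ 2 * (a * (a + 1))) :
    a ≠ 1 ∧ 21 * K ^ 2 ≤ 16 * i ∧ 16 * i ≤ 45 * K ^ 2 := by
  have hK2 : 0 < K ^ 2 := by positivity
  have h1 : a ≠ 1 := by
    rintro rfl
    omega
  have h2 : 0 < (a - 1) ^ 2 := by
    have : a - 1 ≠ 0 := sub_ne_zero.mpr h1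
    positivity
  have h3 : a ≤ -7 ∨ 9 ≤ a := by omega
  refine ⟨h1, le_of_mul_le_mul_right ?_ h2, le_of_mul_le_mul_right ?_ h2⟩
  · have : 21 * (a - 1) ^ 2 ≤ 32 * (a * (a + 1)) := by rcases h3 with h | h <;> nlinarith
    calc 21 * K ^ 2 * (a - 1) ^ 2 = K ^ 2 * (21 * (a - 1) ^ 2) := by ring
      _ ≤ K ^ 2 * (32 * (a * (a + 1))) := by gcongr
      _ = _ := by linear_combination -16 * h
  · have : 32 * (a * (a + 1)) ≤ 45 * (a - 1) ^ 2 := by rcases h3 with h | h <;> nlinarith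
    calc 16 * i * (a - 1) ^ 2 = K ^ 2 * (32 * (a * (a + 1))) := by linear_combination 16 * h
      _ ≤ K ^ 2 * (45 * (a - 1) ^ 2) := by gcongr
      _ = _ := by ring

/-- sorted form of the bounds for a four-group -/
theorem bounds_two_aux {a b c : ℤ} (ha : a % 4 = 1) (hb : b % 4 = 1) (hc : c % 4 = 1)
    (hs : 1 + a + b + c = 0) (hab : a ≤ b) (hbc : b ≤ c) :
    let P := (1 + a) * (1 + b) * (1 + c)
    3 * P ^ 2 ≤ 8 * (a * b * c) * P ∧
      (a ≠ 1 → b ≠ 1 → c ≠ 1 → 8 * (a * b * c) * P ≤ 15 * P ^ 2) := by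
  intro P
  have ha3 : a ≤ -3 := by omega
  have hc1 : 1 ≤ c := by omega
  obtain rfl : a = -1 - b - c := by omega
  rcases (show b ≤ -3 ∨ 1 ≤ b by omega) with h | h
  · have hP : 0 < P := by
      have : 0 < (1 + (-1 - b - c)) * (1 + b) := mul_pos_of_neg_of_neg (by omega) (by omega)
      positivity
    obtain ⟨x, rfl⟩ : ∃ x, b = -3 - x := ⟨-3 - b, by ring⟩
    obtain ⟨y, rfl⟩ : ∃ y, c = 5 + x + y := ⟨c - 5 - x, by ring⟩
    have hx : 0 ≤ x := by omega
    have hy : 0 ≤ y := by omega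
    refine ⟨?_, fun _ _ _ => ?_⟩
    · rw [sq, ← mul_assoc]
      refine mul_le_mul_of_nonneg_right ?_ hP.le
      simp only [P]
      nlinarith [mul_nonneg hx hy, mul_nonneg (mul_nonneg hx hy) hx,
        mul_nonneg (mul_nonneg hx hy) hy, sq_nonneg x, sq_nonneg y]
    · rw [sq, ← mul_assoc 15]
      refine mul_le_mul_of_nonneg_right ?_ hP.le
      simp only [P]
      nlinarith [mul_nonneg hx hy, mul_nonneg (mul_nonneg hx hy) hx,
        mul_nonneg (mul_nonneg hx hy) hy, sq_nonneg x, sq_nonneg y]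
  · have hP : P < 0 := by
      have : (1 + (-1 - b - c)) * (1 + b) < 0 := mul_neg_of_neg_of_pos (by omega) (by omega)
      exact mul_neg_of_neg_of_pos this (by omega)
    obtain ⟨x, rfl⟩ : ∃ x, b = 1 + x := ⟨b - 1, by ring⟩
    obtain ⟨y, rfl⟩ : ∃ y, c = 1 + y := ⟨c - 1, by ring⟩
    have hx : 0 ≤ x := by omega
    have hy : 0 ≤ y := by omega
    refine ⟨?_, fun _ h1 h2 => ?_⟩
    · rw [sq, ← mul_assoc]
      refine mul_le_mul_of_nonpos_right ?_ hP.le
      simp only [P]
      nlinarith [mul_nonneg hx hy, mul_nonneg (mul_nonneg hx hy) hx,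
        mul_nonneg (mul_nonneg hx hy) hy, sq_nonneg x, sq_nonneg y]
    · obtain ⟨x, rfl⟩ : ∃ x', x = 4 + x' := ⟨x - 4, by ring⟩
      obtain ⟨y, rfl⟩ : ∃ y', y = 4 + y' := ⟨y - 4, by ring⟩
      replace hx : 0 ≤ x := by omega
      replace hy : 0 ≤ y := by omega
      rw [sq, ← mul_assoc 15]
      refine mul_le_mul_of_nonpos_right ?_ hP.le
      simp only [P]
      nlinarith [mul_nonneg hx hy, mul_nonneg (mul_nonneg hx hy) hx,
        mul_nonneg (mul_nonneg hx hy) hy, sq_nonneg x, sq_nonneg y]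

theorem bounds_two {i k a b c : ℤ} (ha : a % 4 = 1) (hb : b % 4 = 1) (hc : c % 4 = 1)
    (hs : 1 + a + b + c = 0)
    (h : i * ((1 + a) * (1 + b) * (1 + c)) = 8 * k * k * (a * b * c)) :
    3 * k ^ 2 ≤ i ∧ (a ≠ 1 → b ≠ 1 → c ≠ 1 → i ≤ 15 * k ^ 2) := by
  wlog hab : a ≤ b ∧ b ≤ c generalizing a b c with H
  · rcases le_total a b with h1 | h1 <;> rcases le_total b c with h2 | h2 <;>
      rcases le_total a c with h3 | h3
    · exact H ha hb hc hs h ⟨h1, h2⟩
    · exact H ha hb hc hs h ⟨h1, h2⟩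
    · have := H ha hc hb (by omega) (by linear_combination h) ⟨h3, h2⟩; tauto
    · have := H hc ha hb (by omega) (by linear_combination h) ⟨h3, h1⟩; tauto
    · have := H hb ha hc (by omega) (by linear_combination h) ⟨h1, h3⟩; tauto
    · have := H hb hc ha (by omega) (by linear_combination h) ⟨h2, h3⟩; tauto
    · have := H hc hb ha (by omega) (by linear_combination h) ⟨h2, h1⟩; tauto
    · have := H hc hb ha (by omega) (by linear_combination h) ⟨h2, h1⟩; tauto
  obtain ⟨h1, h2⟩ := bounds_two_aux ha hb hc hs hab.1 hab.2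
  have hP : 0 < ((1 + a) * (1 + b) * (1 + c)) ^ 2 := by
    have : 1 + a ≠ 0 := by omega
    have : 1 + b ≠ 0 := by omega
    have : 1 + c ≠ 0 := by omega
    positivity
  generalize (1 + a) * (1 + b) * (1 + c) = P at *
  have h3 : i * P ^ 2 = k ^ 2 * (8 * (a * b * c) * P) := by linear_combination P * h
  refine ⟨le_of_mul_le_mul_right ?_ hP, fun e1 e2 e3 => le_of_mul_le_mul_right ?_ hP⟩
  · rw [h3, mul_comm 3, mul_assoc]
    gcongr
  · rw [h3, mul_comm 15, mul_assoc (k ^ 2)]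
    exact mul_le_mul_of_nonneg_left (h2 e1 e2 e3) (sq_nonneg k)

theorem ratio_cases {u a p q : ℤ} (hu : 3 ≤ u) (hodd : u % 2 = 1) (ha : a % 8 = 1) (ha1 : a ≠ 1)
    (hp : p ≤ -5 ∨ 3 ≤ p) (hq : q ≤ -5 ∨ 3 ≤ q) (hs : 1 + a + p + q = 0)
    (E : (1 + u) ^ 2 * (a + 1) ^ 2 * (p * q - a) = 4 * u * (a - 1) ^ 2 * (p * q)) :
    (u = 3 ∧ a = -15) ∨ (u = 5 ∧ a = -7) := by
  have E' : a * ((p - q) ^ 2 * (u + 1) ^ 2) = (u - 1) ^ 2 * (a - 1) ^ 2 * (p * q) := by
    obtain rfl : a = -1 - p - q := by omega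
    linear_combination -E
  have h1 : 0 < (u - 1) ^ 2 * (a - 1) ^ 2 := by
    have : a - 1 ≠ 0 := sub_ne_zero.mpr ha1
    have : u - 1 ≠ 0 := by omega
    positivity
  have h2 : 0 ≤ (p - q) ^ 2 * (u + 1) ^ 2 := by positivity
  have hw : 16 * u ≤ 3 * (1 + u) ^ 2 := by nlinarith
  wlog hpq : q ≤ p generalizing p q with H
  · exact H hq hp (by omega) (by linear_combination E) (by linear_combination E')
      (by positivity) (by omega)
  rcases (show 9 ≤ a ∨ a ≤ -7 by omega) with h3 | h3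
  · exfalso
    have hm : 0 ≤ p * q := by
      by_contra! hm
      nlinarith [mul_neg_of_pos_of_neg h1 hm, mul_nonneg (show 0 ≤ a by omega) h2]
    have hq5 : q ≤ -5 := by omega
    have hp5 : p ≤ -5 := hp.resolve_right fun h => by nlinarith
    have h4 : 5 * (a - 4) ≤ p * q := by nlinarith
    have h5 : p * q < 4 * a := by
      by_contra! h5
      have h6 : 0 < (1 + u) ^ 2 := by positivity
      have h7 : (a - 1) ^ 2 < (a + 1) ^ 2 := by nlinarith
      generalize p * q = m at *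
      have h8 : 4 * u * (a - 1) ^ 2 * m * 4 ≤ 3 * (1 + u) ^ 2 * (a - 1) ^ 2 * m := by
        have : 0 ≤ (a - 1) ^ 2 * m := by positivity
        nlinarith
      have h9 : (1 + u) ^ 2 * ((a - 1) ^ 2 * (3 * m)) <
          (1 + u) ^ 2 * ((a + 1) ^ 2 * (4 * (m - a))) :=
        mul_lt_mul_of_pos_left (mul_lt_mul h7 (by omega) (by omega) (by positivity)) h6
      nlinarith
    rcases (show a = 9 ∨ a = 17 by omega) with rfl | rfl
    · obtain rfl : p = -5 := by omega
      obtain rfl : q = -5 := by omega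
      nlinarith
    · obtain rfl : p = -5 := by
        by_contra h
        nlinarith [show p ≤ -6 by omega, show q ≤ -6 by omega]
      obtain rfl : q = -13 := by omega
      nlinarith
  · have hm : p * q ≤ 0 := by
      by_contra! hm
      nlinarith [mul_pos h1 hm, mul_nonneg (show 0 ≤ -a by omega) h2]
    have hp3 : 3 ≤ p := by omega
    have hq5 : q ≤ -5 := hq.resolve_right fun h => by nlinarith
    have h4 : p * q ≤ 5 * (a - 4) := by nlinarith
    obtain ⟨M, hM⟩ : ∃ M, p * q = -M := ⟨_, (neg_neg _).symm⟩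
    rw [hM] at E h4
    clear E' h1 h2 hm hM hp hq hs hpq hp3 hq5
    rcases (show a = -7 ∨ a ≤ -15 by omega) with rfl | h5
    · refine Or.inr ⟨?_, rfl⟩
      by_contra h
      rcases (show u = 3 ∨ 7 ≤ u by omega) with rfl | h6
      · omega
      · have h7 : 64 * u ≤ 7 * (1 + u) ^ 2 := by nlinarith
        nlinarith [mul_le_mul_of_nonneg_right h7 (show 0 ≤ M - 7 by omega),
          mul_pos (show 0 < u by omega) (show 0 < M - 32 by omega)]
    · have h6 : u = 3 := by
        by_contra h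
        have h7 : 36 * u ≤ 5 * (1 + u) ^ 2 := by nlinarith [show 5 ≤ u by omega]
        have h8 : 49 * (a - 1) ^ 2 ≤ 64 * (a + 1) ^ 2 := by nlinarith
        have h9 : 4 * M ≤ 5 * (M + a) := by omega
        have h10 : 36 * u * (49 * (a - 1) ^ 2) * (4 * M) ≤
            5 * (1 + u) ^ 2 * (64 * (a + 1) ^ 2) * (5 * (M + a)) := by
          have : 0 ≤ M := by omega
          gcongr
        have h11 : 0 < u * (a - 1) ^ 2 * M := by
          have : 0 < M := by omega
          have : a - 1 ≠ 0 := by omega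
          positivity
        nlinarith
      subst h6
      refine Or.inl ⟨rfl, ?_⟩
      have h7 : -48 ≤ a := by
        by_contra! h7
        nlinarith [mul_nonneg (show 0 ≤ M + 5 * (a - 4) by omega)
          (show 0 ≤ a ^ 2 + 14 * a + 1 by nlinarith)]
      interval_cases a <;> omega

end H22.DN
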