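import Mathlib
import Cfsg.Agent.H13.DihBasic
import Cfsg.Agent.H5.DCH
import Cfsg.Agent.H6.BrauerFowler
import Cfsg.Agent.H22.DihAr

/-! The order formulas `H5.dch` in a minimal counterexample to the Gorenstein–Walter theorem. -/

set_option autoImplicit false

namespace H22.DN

open H24 Cfsg Subgroup H13.Dih H5

universe u

variable {G : Type u} [Group G] [Finite G]

omit [Finite G] in
theorem ddata_equiv {S : Subgroup G} {n : ℕ} {a x : G} (h : DData S n a x) :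
    Nonempty (S ≃* DihedralGroup n) := by
  have key : ∀ g : S, g ∈ zpowers (⟨a, h.a_mem⟩ : S) ↔ (g : G) ∈ zpowers a := fun g =>
    ⟨fun ⟨k, hk⟩ => ⟨k, congrArg Subtype.val hk⟩, fun ⟨k, hk⟩ => ⟨k, Subtype.ext hk⟩⟩
  refine H7.nonempty_equiv_dihedral n (⟨a, h.a_mem⟩ : S) ⟨x, h.x_mem⟩
    (by rw [orderOf_mk, h.ord]) (Subtype.ext h.sq) (Subtype.ext h.inv)
    (fun e => h.nmem ((key _).1 e)) fun g => ?_
  rw [key, key]
  exact (h.mem g).1 g.2

theorem exists_ddata_of_cd (h : CD G) {t s : G} (hf : Four t s) (S : Sylow 2 G) :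
    ∃ n a x, 2 ≤ n ∧ DData (S : Subgroup G) n a x := by
  obtain ⟨a, ha, H⟩ := h S S.isPGroup'
  obtain ⟨g, hg⟩ := H6.exists_conj_le_sylow S (hf.V_pi.isPGroup Nat.prime_two)
  have hf' := hf.conj g
  have h1 := hg t Four.t_mem
  have h2 := hg s Four.s_mem
  generalize g * t * g⁻¹ = t' at *
  generalize g * s * g⁻¹ = s' at *
  obtain ⟨x, hx, hxa⟩ : ∃ x ∈ (S : Subgroup G), x ∉ zpowers a := by
    by_contra! hc
    exact hf'.ne (eq_of_mem_cyc (H := zpowers a) inferInstance hf'.ht hf'.hs (hc _ h1) (hc _ h2))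
  refine ⟨orderOf a, a, x, ?_, rfl, (H x hx hxa).2.1, (H x hx hxa).1, hxa, fun g => ⟨fun hg => ?_,
    fun hg => ?_⟩⟩
  · by_contra hc
    obtain rfl : a = 1 := orderOf_eq_one_iff.mp (by have := orderOf_pos a; omega)
    simp only [zpowers_one_eq_bot, mem_bot] at H
    exact hf'.mul_ne_one ((H _ h1 (ne_one_of hf'.ht)).2.2 _ h2 (ne_one_of hf'.hs))
  · exact or_iff_not_imp_left.mpr fun h3 =>
      (H _ (inv_mem hx) (by rwa [inv_mem_iff])).2.2 g hg h3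
  · rcases hg with hg | hg
    · exact zpowers_le.mpr ha hg
    · exact (mul_mem_cancel_left (inv_mem hx)).mp (zpowers_le.mpr ha hg)

theorem two_or_four {S : Sylow 2 G} {n : ℕ} {a x : G} (hn : 2 ≤ n)
    (h : DData (S : Subgroup G) n a x) : n = 2 ∨ (2 < n ∧ 4 ∣ n) := by
  obtain ⟨k, hk⟩ := IsPGroup.iff_card.mp S.isPGroup'
  rw [h.card] at hk
  obtain ⟨j, -, rfl⟩ := (Nat.dvd_prime_pow Nat.prime_two).mp (Dvd.intro_left _ hk)
  rcases j with _ | _ | j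
  · omega
  · exact Or.inl rfl
  · exact Or.inr ⟨by omega, ⟨2 ^ j, by ring⟩⟩

omit [Finite G] in
theorem mc_four (h : H13.Dih.MC G) : ∃ t s : G, Four t s := by
  obtain ⟨t, s, h1, h2, h3, h4⟩ := h.four
  exact ⟨t, s, h1, h2, h3, h4⟩

theorem mc_no_index_two (h : H13.Dih.MC G) (H : Subgroup G) : H.index ≠ 2 := fun hH => by
  have := h.simple
  obtain ⟨t, s, hf⟩ := mc_four h
  have h1 := card_dvd_of_le (le_top (a := V4 t s))
  rw [hf.V_card, card_top] at h1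
  rcases (normal_of_index_eq_two hH).eq_bot_or_eq_top with rfl | rfl
  · rw [index_bot] at hH
    omega
  · simp at hH

theorem mc_isConj (h : H13.Dih.MC G) {a b : G} (ha : orderOf a = 2) (hb : orderOf b = 2) :
    IsConj a b := by
  obtain ⟨t, s, hf⟩ := mc_four h
  obtain ⟨S⟩ : Nonempty (Sylow 2 G) := inferInstance
  obtain ⟨n, _, _, hn, hD⟩ := exists_ddata_of_cd h.cd hf S
  obtain ⟨e⟩ := ddata_equiv hD
  exact isConj_of_dihedral S hn e (mc_no_index_two h) ha hb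

theorem mc_setup (h : H13.Dih.MC G) {t : G} (ht : orderOf t = 2) :
    ∃ (S : Sylow 2 G) (n : ℕ) (a x : G), 2 ≤ n ∧ DData (S : Subgroup G) n a x ∧ t ∈ zpowers a := by
  obtain ⟨t', s, hf⟩ := mc_four h
  obtain ⟨S⟩ : Nonempty (Sylow 2 G) := inferInstance
  obtain ⟨n, a, x, hn, hD⟩ := exists_ddata_of_cd h.cd hf S
  have h2 : 2 ∣ orderOf a := by
    rw [hD.ord]
    rcases two_or_four hn hD with rfl | h
    · rfl
    · omega
  obtain ⟨g, rfl⟩ := isConj_iff.mp (mc_isConj h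
    (orderOf_pow_orderOf_div (orderOf_pos a).ne' h2) ht)
  have key : ∀ y, y ∈ zpowers (g * a * g⁻¹) ↔ g⁻¹ * y * g ∈ zpowers a := fun y => by
    rw [← cj_zpowers, mem_cj]
  refine ⟨g • S, n, g * a * g⁻¹, g * x * g⁻¹, hn, ⟨by rw [H24.orderOf_conj, hD.ord], ?_, ?_, ?_,
    fun y => ?_⟩, ?_⟩
  · calc _ = g * (x * a * x⁻¹) * g⁻¹ := by group
      _ = _ := by rw [hD.inv]; group
  · rw [conj_mul, hD.sq, mul_one, mul_inv_cancel]
  · rw [key]
    simpa [mul_assoc] using hD.nmem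
  · rw [key, key, show y ∈ ((g • S : Sylow 2 G) : Subgroup G) ↔ g⁻¹ * y * g ∈ (S : Subgroup G)
      from mem_cj, hD.mem]
    simp [mul_assoc]
  · rw [key]
    simp [mul_assoc]

/-- the numerical content of `H5.dch` -/
structure Num (n : ℕ) (i k₁ k₂ a₁ a₂ a₃ : ℤ) : Prop where
  sum : 1 + a₁ + a₂ + a₃ = 0
  f2 : i * ((1 + a₁) * (1 + a₂) * (1 + a₃)) = 8 * k₁ * k₂ * (a₁ * a₂ * a₃)
  c1 : a₁ ≡ 1 [ZMOD 2 * n]
  two : n = 2 → a₂ ≡ 1 [ZMOD 4] ∧ a₃ ≡ 1 [ZMOD 4]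
  big : 2 < n → a₂ ≡ n - 1 [ZMOD 2 * n] ∧ a₃ ≡ n - 1 [ZMOD 2 * n] ∧
    i * (a₁ - 1) ^ 2 = 2 * (k₁ + k₂) ^ 2 * (a₁ * (a₁ + 1))

theorem exists_num {S : Sylow 2 G} {n : ℕ} {a x t : G} (hn : 2 ≤ n)
    (hD : DData (S : Subgroup G) n a x) (ht : orderOf t = 2) (hta : t ∈ zpowers a)
    (hc : ∀ u, orderOf u = 2 → IsConj t u) :
    ∃ a₁ a₂ a₃ : ℤ, Num n (C{t}).index ((C{x}).relIndex C{t}) ((C{x * a}).relIndex C{t}) a₁ a₂ a₃ ∧
      ((∀ lam : G →* ℂˣ, lam = 1) → a₁ ≠ 1 ∧ a₂ ≠ 1 ∧ a₃ ≠ 1) := by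
  have := Fintype.ofFinite G
  obtain ⟨e⟩ := ddata_equiv hD
  obtain ⟨X₁, X₂, X₃, a₁, a₂, a₃, s1, s2, s3, o1, o2, o3, -, -, -, e1, e2, e3, -, -, -, h1, h2, h3,
    h4, h5⟩ := dch S hn e hD ht hta hc rfl rfl rfl
  refine ⟨a₁, a₂, a₃, ⟨h1, h2, h3, h4, h5⟩, fun hl => ⟨?_, ?_, ?_⟩⟩ <;> rintro rfl
  · obtain ⟨lam, h, -⟩ := s1.exists_linear o1 (by simpa using e1)
    exact h (hl lam)
  · obtain ⟨lam, h, -⟩ := s2.exists_linear o2 (by simpa using e2)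
    exact h (hl lam)
  · obtain ⟨lam, h, -⟩ := s3.exists_linear o3 (by simpa using e3)
    exact h (hl lam)

theorem exists_num_sub {S : Sylow 2 G} {n : ℕ} {a x t : G} (hn : 2 ≤ n)
    (hD : DData (S : Subgroup G) n a x) (ht : orderOf t = 2) (hta : t ∈ zpowers a)
    {M : Subgroup G} (hM : C{t} ≤ M)
    (hc : ∀ v ∈ M, orderOf v = 2 → ∃ g ∈ M, g * t * g⁻¹ = v) :
    ∃ a₁ a₂ a₃ : ℤ,
      Num n ((C{t}).relIndex M) ((C{x}).relIndex C{t}) ((C{x * a}).relIndex C{t}) a₁ a₂ a₃ := by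
  have hS : (S : Subgroup G) ≤ M := (hD.le_centralizer ht hta).trans hM
  have ha := hS hD.a_mem
  have hx := hS hD.x_mem
  have htM : t ∈ M := hM (self_mem_C1 t)
  have key : ∀ g : M, g ∈ zpowers (⟨a, ha⟩ : M) ↔ (g : G) ∈ zpowers a := fun g =>
    ⟨fun ⟨k, hk⟩ => ⟨k, congrArg Subtype.val hk⟩, fun ⟨k, hk⟩ => ⟨k, Subtype.ext hk⟩⟩
  have hD' : DData (S.subtype hS : Subgroup M) n ⟨a, ha⟩ ⟨x, hx⟩ :=
    ⟨by rw [orderOf_mk, hD.ord], Subtype.ext hD.inv, Subtype.ext hD.sq,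
      fun e => hD.nmem ((key _).1 e), fun g => by rw [key, key]; exact hD.mem g⟩
  obtain ⟨a₁, a₂, a₃, h, -⟩ := exists_num (t := ⟨t, htM⟩) hn hD' (by rwa [orderOf_mk])
    ((key _).2 hta) fun v hv => by
      obtain ⟨g, hg, e⟩ := hc v v.2 (by rwa [orderOf_coe])
      exact isConj_iff.mpr ⟨⟨g, hg⟩, Subtype.ext e⟩
  have hC : ∀ y : M, C{y} = (C{(y : G)}).subgroupOf M := fun y => by
    ext c
    simp only [mem_subgroupOf, mem_centralizer_singleton_iff, Subtype.ext_iff, coe_mul]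
  simp only [hC, relIndex_subgroupOf hM] at h
  exact ⟨a₁, a₂, a₃, h⟩

theorem mc_linear (h : H13.Dih.MC G) (lam : G →* ℂˣ) : lam = 1 := by
  have := h.simple
  rcases (MonoidHom.normal_ker lam).eq_bot_or_eq_top with e | e
  · obtain ⟨t, s, hf⟩ := mc_four h
    have key : ∀ y : G, orderOf y = 2 → lam y = -1 := fun y hy => by
      have h1 : (lam y : ℂ) * lam y = 1 := by
        rw [← Units.val_mul, ← map_mul, sq_of hy, map_one, Units.val_one]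
      rcases mul_self_eq_one_iff.mp h1 with h2 | h2
      · exact absurd (e.le (show y ∈ lam.ker from Units.ext h2)) (ne_one_of hy)
      · exact Units.ext h2
    exact absurd ((MonoidHom.ker_eq_bot_iff _).mp e ((key s hf.hs).trans (key t hf.ht).symm)) hf.ne
  · exact MonoidHom.ext fun g => e.ge (mem_top g)

theorem k_eq_of_two {S : Subgroup G} {a x t : G} (hD : DData S 2 a x) (ht : orderOf t = 2)
    (hta : t ∈ zpowers a) : (C{x * a}).relIndex C{t} = (C{x}).relIndex C{t} := by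
  obtain rfl : t = a := eq_of_mem_cyc (H := zpowers a) inferInstance hD.ord ht (mem_zpowers a) hta
  rw [← inf_relIndex_right, ← inf_relIndex_right C{x}]
  congr 1
  ext y
  simp only [mem_inf, mem_C1, and_congr_left_iff]
  intro h
  rw [mul_assoc, ← h, ← mul_assoc, ← mul_assoc, mul_left_inj]

theorem k_cases {S : Sylow 2 G} {n : ℕ} {a x t s : G} (hD : DData (S : Subgroup G) n a x)
    (ht : orderOf t = 2) (hta : t ∈ zpowers a) (hs : s ∈ J C{t}) (hst : s ≠ t) :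
    (C{s}).relIndex C{t} = (C{x}).relIndex C{t} ∨
      (C{s}).relIndex C{t} = (C{x * a}).relIndex C{t} := by
  have hS := hD.le_centralizer ht hta
  have key : ∀ c ∈ C{t}, ∀ y, (C{c * y * c⁻¹}).relIndex C{t} = (C{y}).relIndex C{t} :=
    fun c hc y => by
      rw [← cj_C1]
      nth_rw 1 [← cj_of_mem hc]
      exact relIndex_map_map_of_injective _ _ (conj_injective' c)
  obtain ⟨c, hc, h1⟩ := exists_conj_le_sylow_in S hS
    ((isPi_zp hs.2).isPGroup Nat.prime_two) (zpowers_le.mpr hs.1)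
  obtain ⟨k, hk⟩ := ((hD.mem _).1 (h1 s (mem_zpowers s))).resolve_left fun h2 => hst (by
    have h3 := eq_of_mem_cyc (H := zpowers a) inferInstance ht (two_conj hs.2 c) hta h2
    rw [← mem_C1_iff_conj.mp hc] at h3
    simpa using h3)
  simp only [eq_inv_mul_iff_mul_eq] at hk
  rw [← key c hc, ← hk]
  have h2 : ∀ j : ℤ, a ^ (-j) ∈ C{t} ∧ a ^ (-j) * x = x * a ^ j := fun j =>
    ⟨zpow_mem (hS hD.a_mem) _, by
      rw [zpow_neg, ← hD.conj_zp (zpow_mem (mem_zpowers a) j), inv_mul_cancel_right]⟩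
  rcases Int.even_or_odd' k with ⟨j, rfl | rfl⟩
  · left
    rw [← key _ (h2 j).1 x, (h2 j).2]
    congr 3
    group
  · right
    rw [← key _ (h2 j).1 (x * a), ← mul_assoc, (h2 j).2]
    congr 3
    group

theorem ncard_J {S : Sylow 2 G} {n : ℕ} {a x t : G} (hn : 2 ≤ n)
    (hD : DData (S : Subgroup G) n a x) (ht : orderOf t = 2) (hta : t ∈ zpowers a) :
    (J C{t} \ {t}).ncard = (C{x}).relIndex C{t} + (C{x * a}).relIndex C{t} := by
  have := Fintype.ofFinite G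
  have := Fintype.ofFinite (zpowers a)
  obtain ⟨e⟩ := ddata_equiv hD
  obtain ⟨π, h⟩ := exists_dHyp S hD ht hta (odd_oddPart_centralizer S hn e ht)
  obtain ⟨σ, h1, h2⟩ := h.exists_sigma
  rw [← (h.card_invs h1 h2).1, ← Set.ncard_coe_finset]
  congr 1
  ext u
  rw [Finset.mem_coe, h.mem_invs]
  exact ⟨fun hu => ⟨hu.1.2, hu.1.1, fun h3 => hu.2 (h.uniq h3 hu.1.2)⟩,
    fun hu => ⟨⟨hu.2.1, hu.1⟩, fun h3 => hu.2.2 (h3 ▸ h.zp_le_H0 hta)⟩⟩

theorem mod_eight {n : ℕ} {a : ℤ} (h4 : 4 ∣ n) (h : a ≡ 1 [ZMOD 2 * n]) : a % 8 = 1 := by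
  obtain ⟨m, rfl⟩ := h4
  exact h.of_dvd ⟨m, by push_cast; ring⟩

theorem le_or_le {n : ℕ} {a : ℤ} (hn : 2 < n) (h4 : 4 ∣ n) (h : a ≡ n - 1 [ZMOD 2 * n]) :
    a ≤ -5 ∨ 3 ≤ a := by
  obtain ⟨c, hc⟩ := h.dvd
  have : 4 ≤ n := Nat.le_of_dvd (by omega) h4
  rcases le_or_gt c 0 with h1 | h1
  · right; nlinarith
  · left; nlinarith

end H22.DN
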