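import Mathlib
import Cfsg.Agent.H3.Critical
import Cfsg.Agent.H3.PGroup
import Cfsg.Agent.H13.Basic
import Cfsg.Agent.H22.Wr

/-!
# 2-groups with exactly three involutions, all central, permuted by an automorphism
-/

set_option autoImplicit false
set_option linter.unusedSectionVars false

namespace H22

open Subgroup
open scoped commutatorElement

section General
variable {G : Type*} [Group G]

theorem comm_mul_left_of_central {a b c : G} (h : ∀ g, g * ⁅b, c⁆ = ⁅b, c⁆ * g) :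
    ⁅a * b, c⁆ = ⁅a, c⁆ * ⁅b, c⁆ := by
  calc ⁅a * b, c⁆ = a * ⁅b, c⁆ * (c * a⁻¹ * c⁻¹) := by simp only [commutatorElement_def]; group
    _ = a * (c * a⁻¹ * c⁻¹) * ⁅b, c⁆ := by rw [mul_assoc, ← h, ← mul_assoc]
    _ = _ := by simp only [commutatorElement_def]; group

theorem comm_mul_right_of_central {a b c : G} (h : ∀ g, g * ⁅a, c⁆ = ⁅a, c⁆ * g) :
    ⁅a, b * c⁆ = ⁅a, b⁆ * ⁅a, c⁆ := by
  calc ⁅a, b * c⁆ = ⁅a, b⁆ * (b * ⁅a, c⁆) * b⁻¹ := by simp only [commutatorElement_def]; group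
    _ = _ := by rw [h]; group

theorem mul_mul_self_of_central {a b : G} (h : ∀ g, g * ⁅a, b⁆ = ⁅a, b⁆ * g)
    (h2 : ⁅a, b⁆ * ⁅a, b⁆ = 1) : a * b * (a * b) = a * a * (b * b) * ⁅a, b⁆ := by
  have h3 : b * a = a * b * ⁅a, b⁆ := by
    rw [h, ← inv_eq_of_mul_eq_one_right h2]
    simp only [commutatorElement_def]; group
  calc a * b * (a * b) = a * (b * a) * b := by group
    _ = a * a * b * (⁅a, b⁆ * b) := by rw [h3]; group
    _ = _ := by rw [← h]; group

theorem card_zpowers_sup_le [Finite G] {H : Subgroup G} {g : G}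
    (hn : g ∈ normalizer (H : Set G)) (h2 : g * g ∈ H) :
    Nat.card ↥(zpowers g ⊔ H) ≤ 2 * Nat.card H := by
  by_cases hg : g ∈ H
  · rw [sup_of_le_right (zpowers_le.2 hg)]; omega
  · exact (H2.card_sup_zpowers_of_pow_prime_mem Nat.prime_two hn hg (by rwa [sq])).le

theorem mem_zpowers_sup_two {H : Subgroup G} {g x : G}
    (hn : g ∈ normalizer (H : Set G)) (h2 : g * g ∈ H) (hx : x ∈ zpowers g ⊔ H) :
    x ∈ H ∨ g⁻¹ * x ∈ H := by
  obtain ⟨k, a, ha, rfl⟩ := (H3.mem_zpowers_sup_iff hn).1 hx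
  have h3 : ∀ m : ℤ, g ^ (2 * m) ∈ H := fun m => by
    rw [zpow_mul, zpow_two]; exact H.zpow_mem h2 m
  rcases Int.even_or_odd' k with ⟨m, rfl | rfl⟩
  · exact Or.inl (H.mul_mem (h3 m) ha)
  · refine Or.inr ?_
    rw [add_comm, zpow_add, zpow_one, mul_assoc, inv_mul_cancel_left]
    exact H.mul_mem (h3 m) ha

/-- the homomorphism from a homocyclic group given by two commuting elements -/
theorem exists_pairHom {n : ℕ} {x y : G} (hx : x ^ 2 ^ n = 1) (hy : y ^ 2 ^ n = 1)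
    (hc : Commute x y) : ∃ f : Multiplicative (WA n) →* G, ∀ a b : ℤ,
      f (Multiplicative.ofAdd ((a : ZMod (2 ^ n)), (b : ZMod (2 ^ n)))) = x ^ a * y ^ b := by
  refine ⟨MonoidHom.mk' (fun a => H7.zmodPow x a.toAdd.1 * H7.zmodPow y a.toAdd.2) ?_,
    fun a b => ?_⟩
  · rintro ⟨a, b⟩ ⟨c, d⟩
    obtain ⟨a, rfl⟩ := ZMod.intCast_surjective a
    obtain ⟨b, rfl⟩ := ZMod.intCast_surjective b
    obtain ⟨c, rfl⟩ := ZMod.intCast_surjective c
    obtain ⟨d, rfl⟩ := ZMod.intCast_surjective d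
    show H7.zmodPow x ((a : ZMod (2 ^ n)) + (c : ZMod (2 ^ n))) *
      H7.zmodPow y ((b : ZMod (2 ^ n)) + (d : ZMod (2 ^ n))) =
      H7.zmodPow x (a : ZMod (2 ^ n)) * H7.zmodPow y (b : ZMod (2 ^ n)) *
        (H7.zmodPow x (c : ZMod (2 ^ n)) * H7.zmodPow y (d : ZMod (2 ^ n)))
    simp only [← Int.cast_add, H7.zmodPow_intCast hx, H7.zmodPow_intCast hy, zpow_add]
    rw [mul_assoc (x ^ a) (y ^ b), ← mul_assoc (y ^ b), ← (hc.zpow_zpow c b).eq]; group
  · show H7.zmodPow x (a : ZMod (2 ^ n)) * H7.zmodPow y (b : ZMod (2 ^ n)) = _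
    rw [H7.zmodPow_intCast hx, H7.zmodPow_intCast hy]

theorem eq_pow_of_mem_zpowers {k : ℕ} {x w : G} (hx : x ^ 2 ^ (k + 1) = 1)
    (hx1 : x ^ 2 ^ k ≠ 1) (hw : w ∈ zpowers x) (h1 : w * w = 1) (h2 : w ≠ 1) : w = x ^ 2 ^ k := by
  have ho : orderOf x = 2 ^ (k + 1) := orderOf_eq_prime_pow hx1 hx
  obtain ⟨i, rfl⟩ := hw
  have h3 : ((orderOf x : ℕ) : ℤ) ∣ i + i :=
    orderOf_dvd_iff_zpow_eq_one.2 (by rw [zpow_add]; exact h1)
  rw [ho] at h3
  obtain ⟨c, hc⟩ := h3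
  push_cast at hc
  obtain rfl : i = 2 ^ k * c := by rw [pow_succ] at hc; linarith
  have h4 : (x ^ 2 ^ k) ^ (2 : ℤ) = 1 := by rw [zpow_two, ← pow_add, ← two_mul, ← pow_succ', hx]
  have h5 : x ^ ((2 : ℤ) ^ k * c) = (x ^ 2 ^ k) ^ c := by
    rw [zpow_mul]; congr 1; exact_mod_cast zpow_natCast x (2 ^ k)
  simp only [h5] at h2 ⊢
  rcases Int.even_or_odd' c with ⟨m, rfl | rfl⟩
  · exact absurd (by rw [zpow_mul, h4, one_zpow]) h2
  · rw [zpow_add, zpow_mul, h4, one_zpow, one_mul, zpow_one]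

theorem exists_invol_mem {H : Subgroup G} (hH : IsPGroup 2 H) (hb : H ≠ ⊥) :
    ∃ w ∈ H, w * w = 1 ∧ w ≠ 1 := by
  obtain ⟨x, hx1⟩ := ne_bot_iff_exists_ne_one.1 hb
  obtain ⟨k, h1, h2⟩ := H3.exists_pow_not_mem_pow_mem hH (N := ⊥) (x := x) hx1
  refine ⟨(x ^ 2 ^ k : H), (x ^ 2 ^ k).2, ?_, fun h => h1 (mem_bot.2 (Subtype.ext h))⟩
  rw [sq] at h2
  exact congrArg Subtype.val (mem_bot.1 h2)

theorem zpowers_inf_eq_bot_of_two_pow {k : ℕ} {x y : G} (hx : x ^ 2 ^ (k + 1) = 1)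
    (hy : y ^ 2 ^ (k + 1) = 1) (hx1 : x ^ 2 ^ k ≠ 1) (hy1 : y ^ 2 ^ k ≠ 1)
    (hne : x ^ 2 ^ k ≠ y ^ 2 ^ k) : zpowers x ⊓ zpowers y = ⊥ := by
  by_contra h
  obtain ⟨w, hw, h1, h2⟩ := exists_invol_mem ((H13.isPGroup_zpowers hx).to_le inf_le_left) h
  exact hne ((eq_pow_of_mem_zpowers hx hx1 hw.1 h1 h2).symm.trans
    (eq_pow_of_mem_zpowers hy hy1 hw.2 h1 h2))

/-- a cyclic `p`-group of automorphisms whose subgroup of order `p` fixes no point of an invariant
finite set acts freely on it -/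
theorem pow_dvd_card_of_free {X : Type*} [Finite X] {p m : ℕ} (hp : p.Prime) (σ : Equiv.Perm X)
    (h1 : σ ^ p ^ (m + 1) = 1) (h2 : ∀ x, (σ ^ p ^ m) x ≠ x) : p ^ (m + 1) ∣ Nat.card X := by
  rcases isEmpty_or_nonempty X with h | ⟨⟨x0⟩⟩
  · simp
  have := Fact.mk hp
  have ho : orderOf σ = p ^ (m + 1) :=
    orderOf_eq_prime_pow (fun h => h2 x0 (by rw [h]; rfl)) h1
  have hfree : ∀ b : X, MulAction.stabilizer (zpowers σ) b = ⊥ := by
    intro b
    rw [eq_bot_iff]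
    rintro ⟨g, hg⟩ hb
    obtain ⟨i, rfl⟩ := mem_powers_iff_mem_zpowers.2 hg
    have hb' : MulAction.period σ b ∣ i := MulAction.pow_smul_eq_iff_period_dvd.1 hb
    obtain ⟨j, hj, e⟩ := (Nat.dvd_prime_pow hp).1 (ho ▸ MulAction.period_dvd_orderOf σ b)
    rcases hj.eq_or_lt with rfl | hj
    · rw [e, ← ho] at hb'
      exact mem_bot.2 (Subtype.ext (orderOf_dvd_iff_pow_eq_one.1 hb'))
    · exact absurd (MulAction.pow_smul_eq_iff_period_dvd.2
        (e ▸ pow_dvd_pow p (Nat.lt_succ_iff.1 hj))) (h2 b)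
  rw [Nat.card_congr (MulAction.selfEquivOrbitsQuotientProd hfree), Nat.card_prod,
    Nat.card_zpowers, ho]
  exact Dvd.intro_left _ rfl

end General

/-- a 2-group whose involutions are central and generate a four-group -/
structure Rk2 (T : Type*) [Group T] : Prop where
  two : IsPGroup 2 T
  cent : ∀ x : T, x * x = 1 → ∀ g, g * x = x * g
  card : Nat.card {x : T // x * x = 1} = 4

namespace Rk2
variable {T : Type*} [Group T] [Finite T] (h : Rk2 T)

/-- the four-group -/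
def V : Subgroup T where
  carrier := {x | x * x = 1}
  one_mem' := mul_one 1
  inv_mem' := fun {x} hx => by
    have hx' : x * x = 1 := hx
    show x⁻¹ * x⁻¹ = 1
    rw [← mul_inv_rev, hx', inv_one]
  mul_mem' := fun {x y} hx hy => by
    have hx' : x * x = 1 := hx
    have hy' : y * y = 1 := hy
    show x * y * (x * y) = 1
    rw [mul_assoc, ← mul_assoc y, h.cent x hx' y, mul_assoc, hy', mul_one, hx']

theorem mem_V {x : T} : x ∈ h.V ↔ x * x = 1 := Iff.rfl

theorem card_V : Nat.card h.V = 4 := h.card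

theorem V_cent {x : T} (hx : x ∈ h.V) (g : T) : g * x = x * g := h.cent x hx g

instance V_normal : h.V.Normal := ⟨fun x hx g => by rw [h.V_cent hx, mul_inv_cancel_right]; exact hx⟩

theorem map_mem_V (α : MulAut T) {x : T} (hx : x ∈ h.V) : α x ∈ h.V := by
  rw [mem_V] at hx ⊢; rw [← map_mul, hx, map_one]

include h in
theorem cases {a b c : T} (ha : a * a = 1) (hb : b * b = 1) (hc : c * c = 1) (ha1 : a ≠ 1)
    (hb1 : b ≠ 1) (hab : a ≠ b) : c = 1 ∨ c = a ∨ c = b ∨ c = a * b := by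
  classical
  by_contra hcon
  push Not at hcon
  obtain ⟨h1, h2, h3, h4⟩ := hcon
  have hab1 : a * b ≠ 1 := fun e => hab (mul_left_cancel (ha.trans e.symm))
  have hab2 : a * b ≠ a := fun e => hb1 (by simpa using e)
  have hab3 : a * b ≠ b := fun e => ha1 (by simpa using e)
  have hsub : (({c, 1, a, b, a * b} : Finset T) : Set T) ⊆ (h.V : Set T) := by
    intro x hx
    simp only [Finset.coe_insert, Finset.coe_singleton, Set.mem_insert_iff,
      Set.mem_singleton_iff] at hx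
    rcases hx with rfl | rfl | rfl | rfl | rfl
    exacts [hc, h.V.one_mem, ha, hb, h.V.mul_mem (x := a) (y := b) ha hb]
  have hle := Set.ncard_le_ncard hsub
  rw [Set.ncard_coe_finset, ← Nat.card_coe_set_eq, SetLike.coe_sort_coe, h.card_V,
    Finset.card_insert_of_notMem (by simp [h1, h2, h3, h4]),
    Finset.card_insert_of_notMem (by simp [ha1.symm, hb1.symm, hab1.symm]),
    Finset.card_insert_of_notMem (by simp [hab, hab2.symm]),
    Finset.card_insert_of_notMem (by simp [hab3.symm]), Finset.card_singleton] at hle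
  omega

include h in
/-- commuting with two independent elements of order `2 ^ (k + 1)` -/
theorem eq_mul_of_commute {k : ℕ} {x y : T} (hx : x ^ 2 ^ (k + 1) = 1)
    (hy : y ^ 2 ^ (k + 1) = 1) (hx1 : x ^ 2 ^ k ≠ 1) (hy1 : y ^ 2 ^ k ≠ 1)
    (hne : x ^ 2 ^ k ≠ y ^ 2 ^ k) (hc : Commute x y) (j : ℕ) : ∀ (i : ℕ) (w : T), i + j = k + 1 →
    Commute w x → Commute w y → w ^ 2 ^ j = 1 →
    ∃ a b : ℕ, w = (x ^ a * y ^ b) ^ 2 ^ i := by
  induction j with
  | zero => exact fun i w _ _ _ hw => ⟨0, 0, by simpa using hw⟩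
  | succ j ih =>
    intro i w hij hwx hwy hw
    obtain rfl : k = i + j := by omega
    have sq : ∀ {g : T} {n : ℕ}, g ^ 2 ^ (n + 1) = 1 → g ^ 2 ^ n * g ^ 2 ^ n = 1 := fun hg => by
      rw [← pow_add, ← two_mul, ← pow_succ', hg]
    obtain ⟨a, b, e⟩ : ∃ a b : ℕ, w ^ 2 ^ j = (x ^ a * y ^ b) ^ 2 ^ (i + j) := by
      rcases h.cases (sq hx) (sq hy) (sq hw) hx1 hy1 hne with e | e | e | e
      · exact ⟨0, 0, by simpa using e⟩
      · exact ⟨1, 0, by simpa using e⟩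
      · exact ⟨0, 1, by simpa using e⟩
      · exact ⟨1, 1, by rw [e, pow_one, pow_one, hc.mul_pow]⟩
    have hd : Commute w (x ^ a * y ^ b) := (hwx.pow_right a).mul_right (hwy.pow_right b)
    have hdx : Commute (x ^ a * y ^ b) x :=
      ((Commute.refl x).pow_left a).mul_left (hc.symm.pow_left b)
    have hdy : Commute (x ^ a * y ^ b) y :=
      (hc.pow_left a).mul_left ((Commute.refl y).pow_left b)
    obtain ⟨a', b', e'⟩ := ih (i + 1) (w * ((x ^ a * y ^ b) ^ 2 ^ i)⁻¹) (by omega)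
      (hwx.mul_left (hdx.pow_left _).inv_left) (hwy.mul_left (hdy.pow_left _).inv_left)
      (by rw [(hd.pow_right _).inv_right.mul_pow, e, inv_pow, ← pow_mul, ← pow_add,
        mul_inv_cancel])
    refine ⟨2 * a' + a, 2 * b' + b, ?_⟩
    rw [mul_inv_eq_iff_eq_mul.1 e', pow_succ', pow_mul, ← Commute.mul_pow]
    · congr 1
      rw [(hc.pow_pow a' b').mul_pow, ← pow_mul, ← pow_mul, pow_add, pow_add, mul_assoc,
        mul_assoc, ← mul_assoc (y ^ _), ← (hc.pow_pow a _).eq, mul_assoc, mul_comm a', mul_comm b']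
    · exact (((hdx.symm.pow_left a').mul_left (hdy.symm.pow_left b')).pow_left 2)

include h in
theorem nonempty_equiv_of_pair {k : ℕ} {x y : T} (hx : x ^ 2 ^ (k + 1) = 1)
    (hy : y ^ 2 ^ (k + 1) = 1) (hx1 : x ^ 2 ^ k ≠ 1) (hy1 : y ^ 2 ^ k ≠ 1)
    (hne : x ^ 2 ^ k ≠ y ^ 2 ^ k) (hc : Commute x y)
    (htop : ∀ w : T, ∃ a b : ℕ, w = x ^ a * y ^ b) :
    Nonempty (T ≃* Multiplicative (ZMod (2 ^ (k + 1)) × ZMod (2 ^ (k + 1)))) := by
  obtain ⟨f, hf⟩ := exists_pairHom hx hy hc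
  refine ⟨(MulEquiv.ofBijective f ⟨?_, fun w => ?_⟩).symm⟩
  · rw [injective_iff_map_eq_one]
    rintro ⟨a, b⟩ e
    obtain ⟨a, rfl⟩ := ZMod.intCast_surjective a
    obtain ⟨b, rfl⟩ := ZMod.intCast_surjective b
    have e1 : x ^ a * y ^ b = 1 := (hf a b).symm.trans e
    have e2 : x ^ a ∈ zpowers x ⊓ zpowers y :=
      ⟨zpow_mem_zpowers x a, by
        rw [eq_inv_of_mul_eq_one_left e1]; exact (zpowers y).inv_mem (zpow_mem_zpowers y b)⟩
    rw [zpowers_inf_eq_bot_of_two_pow hx hy hx1 hy1 hne, mem_bot] at e2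
    rw [e2, one_mul] at e1
    have o1 := orderOf_dvd_iff_zpow_eq_one.2 e2
    have o2 := orderOf_dvd_iff_zpow_eq_one.2 e1
    rw [orderOf_eq_prime_pow hx1 hx] at o1
    rw [orderOf_eq_prime_pow hy1 hy] at o2
    have z1 := (ZMod.intCast_zmod_eq_zero_iff_dvd a _).2 o1
    have z2 := (ZMod.intCast_zmod_eq_zero_iff_dvd b _).2 o2
    rw [z1, z2]; rfl
  · obtain ⟨a, b, rfl⟩ := htop w
    exact ⟨_, (hf a b).trans (by simp)⟩

include h in
theorem sq_mul {a b : T} (hab : ⁅a, b⁆ ∈ h.V) : a * b * (a * b) = a * a * (b * b) * ⁅a, b⁆ :=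
  mul_mul_self_of_central (h.V_cent hab) hab

theorem card_sup_le {H : Subgroup T} (hV : h.V ≤ H) {g : T} (hg : ∀ y ∈ H, ⁅g, y⁆ ∈ h.V)
    (h2 : g * g ∈ H) : Nat.card ↥(zpowers g ⊔ H) ≤ 2 * Nat.card H := by
  refine card_zpowers_sup_le (H13.mem_normalizer_of_finite fun y hy => ?_) h2
  have := H.mul_mem (hV (hg y hy)) hy
  simpa [commutatorElement_def] using this

/-- a subgroup of exponent 4 with central commutators has order at most 128 -/
theorem card_le_of_exp_four {D : Subgroup T} (hV : h.V ≤ D) (hsq : ∀ x ∈ D, x * x ∈ h.V)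
    (hc : ∀ x ∈ D, ∀ y ∈ D, ⁅x, y⁆ ∈ h.V) : Nat.card D ≤ 128 := by
  classical
  by_cases hD : D ≤ h.V
  · have := card_le_of_le hD
    rw [h.card_V] at this; omega
  obtain ⟨x, hxD, hxV⟩ := SetLike.not_le_iff_exists.1 hD
  have h1 : (centralizer {x}).relIndex D ≤ 4 :=
    h.card_V ▸ H3.relIndex_centralizer_le_card D h.V x fun g hg => hc g hg x hxD
  set C := centralizer {x} ⊓ D with hC
  have hCD : Nat.card D ≤ 4 * Nat.card C := by
    rw [← H2.card_mul_relIndex (inf_le_right : C ≤ D), hC, inf_relIndex_right, mul_comm]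
    exact Nat.mul_le_mul_right _ h1
  set E := zpowers x ⊔ h.V with hE
  have hE8 : Nat.card E ≤ 8 := by
    have := h.card_sup_le le_rfl (g := x) (fun y hy => hc x hxD y (hV hy)) (hsq x hxD)
    rwa [h.card_V] at this
  have hxE : x ∈ E := mem_sup_left (mem_zpowers x)
  have hVE : h.V ≤ E := le_sup_right
  have hED : E ≤ D := sup_le (zpowers_le.2 hxD) hV
  -- elements of `C` whose square lies in `⟨x²⟩` are in `E`
  have key : ∀ y ∈ C, (y * y = 1 ∨ y * y = x * x) → y ∈ E := by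
    rintro y hy (e | e)
    · exact hVE e
    · have hyx : y * x = x * y := mem_centralizer_singleton_iff.1 hy.1
      have : x * y ∈ h.V := by
        rw [mem_V, mul_assoc, ← mul_assoc y, hyx, mul_assoc, e, ← mul_assoc]
        exact hsq x hxD
      exact (E.mul_mem_cancel_left hxE).1 (hVE this)
  suffices Nat.card C ≤ 32 by omega
  by_cases hCE : C ≤ E
  · have := card_le_of_le hCE; omega
  obtain ⟨y, hyC, hyE⟩ := SetLike.not_le_iff_exists.1 hCE
  have hy1 : y * y ≠ 1 := fun e => hyE (key y hyC (Or.inl e))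
  have hy2 : y * y ≠ x * x := fun e => hyE (key y hyC (Or.inr e))
  have hx1 : x * x ≠ 1 := hxV
  set K := zpowers y ⊔ E with hK
  have hK16 : Nat.card K ≤ 16 := by
    have := h.card_sup_le hVE (g := y) (fun z hz => hc y hyC.2 z (hED hz)) (hVE (hsq y hyC.2))
    rw [← hK] at this
    omega
  have hyK : y ∈ K := mem_sup_left (mem_zpowers y)
  have hEK : E ≤ K := le_sup_right
  have key2 : ∀ z ∈ C, (⁅y, z⁆ = 1 ∨ ⁅y, z⁆ = x * x) → z ∈ K := by
    intro z hz hyz
    have hs := h.sq_mul (hc y hyC.2 z hz.2)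
    have hxx : x * x * (x * x) = 1 := hsq x hxD
    have hyy : y * y * (y * y) = 1 := hsq y hyC.2
    have hyz' : y * z ∈ E → z ∈ K := fun e => (K.mul_mem_cancel_left hyK).1 (hEK e)
    rcases h.cases hxx hyy (hsq z hz.2) hx1 hy1 hy2.symm with e | e | e | e
    · exact hEK (key z hz (Or.inl e))
    · exact hEK (key z hz (Or.inr e))
    · refine hyz' (key _ (C.mul_mem hyC hz) ?_)
      rw [hs, e, hyy, one_mul]; exact hyz
    · refine hyz' (key _ (C.mul_mem hyC hz) ?_)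
      rw [hs, e, h.cent _ hyy (x * x), ← mul_assoc (y * y), hyy, one_mul]
      rcases hyz with e' | e'
      · rw [e', mul_one]; exact Or.inr rfl
      · rw [e', hxx]; exact Or.inl rfl
  have h2 : K.relIndex C ≤ 2 := by
    refine (relIndex_le_of_map (fun g => decide (⁅y, g⁆ = 1 ∨ ⁅y, g⁆ = x * x)) Finset.univ
      (fun _ _ => Finset.mem_univ _) fun g hg k hk e => key2 _ (C.mul_mem (C.inv_mem hg) hk) ?_).trans
      (by simp)
    have hg' := hc y hyC.2 g hg.2
    have hk' := hc y hyC.2 k hk.2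
    have e1 : ⁅y, g⁻¹ * k⁆ = ⁅y, g⁆ * ⁅y, k⁆ := by
      have e2 := comm_mul_right_of_central (a := y) (b := g) (c := g⁻¹ * k)
        (h.V_cent (hc y hyC.2 _ (C.mul_mem (C.inv_mem hg) hk).2))
      rw [mul_inv_cancel_left] at e2
      rw [e2, ← mul_assoc, show ⁅y, g⁆ * ⁅y, g⁆ = 1 from hg', one_mul]
    have hxx : x * x * (x * x) = 1 := hsq x hxD
    have hyy : y * y * (y * y) = 1 := hsq y hyC.2
    have hne1 : y * y * (x * x) ≠ 1 := fun e => hy2 (by
      rw [eq_inv_of_mul_eq_one_left e, inv_eq_of_mul_eq_one_right hxx])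
    have hne2 : x * x * (y * y) ≠ 1 := by rw [h.cent _ hyy]; exact hne1
    have hne3 : x * x * (y * y) ≠ x * x := by simpa using hy1
    rw [decide_eq_decide] at e
    rw [e1]
    rcases h.cases hxx hyy hg' hx1 hy1 hy2.symm with a | a | a | a <;>
    rcases h.cases hxx hyy hk' hx1 hy1 hy2.symm with b | b | b | b <;>
    simp only [a, b, hy1, hy2, hne2, hne3, hx1, true_or, or_true, or_self, iff_false, false_iff,
      not_true_eq_false, one_mul, mul_one, hxx, hyy] at e ⊢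
    · right; rw [h.cent _ hyy (x * x), ← mul_assoc (y * y), hyy, one_mul]
    · right; rw [mul_assoc (x * x), hyy, mul_one]
    · left; exact h.V.mul_mem (x := x * x) (y := y * y) hxx hyy
  have h3 : Nat.card C ≤ K.relIndex C * Nat.card K := by
    rw [← H2.card_mul_relIndex (inf_le_right : K ⊓ C ≤ C), inf_relIndex_right, mul_comm]
    exact Nat.mul_le_mul_left _ (card_le_of_le inf_le_left)
  nlinarith

include h in
theorem fix_eq_one {α : MulAut T} (hα : ∀ v, v * v = 1 → α v = v → v = 1) (x : T) (hx : α x = x) :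
    x = 1 := by
  by_contra hx1
  obtain ⟨k, h1, h2⟩ := H3.exists_pow_not_mem_pow_mem h.two (N := ⊥) (x := x) hx1
  rw [sq] at h2
  exact h1 (hα _ h2 (by rw [map_pow, hx]))

include h in
theorem cube_fix {α : MulAut T} (hα : ∀ v, v * v = 1 → α v = v → v = 1) {v : T}
    (hv : v * v = 1) : α (α (α v)) = v ∧ (v ≠ 1 → α (α v) = v * α v) := by
  by_cases h1 : v = 1
  · simp [h1]
  have m : ∀ {w : T}, w * w = 1 → α w * α w = 1 := fun hw => by rw [← map_mul, hw, map_one]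
  have h2 : α v ≠ 1 := by simpa using h1
  have h3 : v ≠ α v := fun e => h1 (hα v hv e.symm)
  have h4 : α (α v) = v * α v := by
    rcases h.cases hv (m hv) (m (m hv)) h1 h2 h3 with e | e | e | e
    · exact absurd (by simpa using e) h1
    · exfalso
      have := hα (v * α v) (h.V.mul_mem (x := v) (y := α v) hv (m hv))
        (by rw [map_mul, e, h.cent v hv])
      exact h3 (mul_left_cancel (hv.trans this.symm))
    · exact absurd (α.injective e).symm h3
    · exact e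
  refine ⟨?_, fun _ => h4⟩
  rw [h4, map_mul, h4, h.cent v hv (α v) |>.symm, ← mul_assoc, m hv, one_mul]

include h in
/-- an automorphism of order a power of three without fixed involutions has order three -/
theorem pow_three_eq_one {α : MulAut T} (hα : ∀ v, v * v = 1 → α v = v → v = 1) (m : ℕ)
    (hm : α ^ 3 ^ m = 1) : α ^ 3 = 1 := by
  classical
  induction m with
  | zero => rw [pow_zero, pow_one] at hm; rw [hm, one_pow]
  | succ m ih =>
  rcases Nat.eq_zero_or_pos m with rfl | hm0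
  · simpa using hm
  refine ih ?_
  by_contra hβ1
  set β := α ^ 3 ^ m with hβ
  have hβ3 : β ^ 3 = 1 := by rw [hβ, ← pow_mul, ← pow_succ, hm]
  have hβo : (orderOf β).Coprime 2 :=
    Nat.Coprime.coprime_dvd_left (orderOf_dvd_of_pow_eq_one hβ3) (by norm_num)
  have hβV : ∀ v, v * v = 1 → β v = v := by
    intro v hv
    obtain ⟨m, rfl⟩ : ∃ k, m = k + 1 := ⟨m - 1, by omega⟩
    have h3 : (α ^ 3) • v = v := (h.cube_fix hα hv).1
    show (α ^ 3 ^ (m + 1)) • v = v
    rw [pow_succ', pow_mul]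
    exact MulAction.mem_stabilizer_iff.1 (pow_mem (MulAction.mem_stabilizer_iff.2 h3) _)
  obtain ⟨A, H, hAc, hHc, hAH, hHA, hsq, hcomm, hC⟩ := H3.exists_critical' h.two
  have hAc' : ∀ a ∈ A, ∀ x ∈ H, a * x = x * a := fun a ha x hx => hHA hx a ha
  have hcV : ∀ x ∈ H, ∀ y ∈ H, ⁅x, y⁆ ∈ h.V := by
    intro x hx y hy
    have h1 : Commute ⁅x, y⁆ x := hAc' _ (hcomm x hx y) x hx
    rw [mem_V, ← sq, ← H13.commutator_pow_left h1, commutatorElement_eq_one_iff_mul_comm]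
    exact hAc' _ (hsq x hx) y hy
  have hVH : h.V ≤ H := fun v hv => hAH (hC ▸ fun g _ => h.V_cent hv g)
  let D : Subgroup T :=
    { carrier := {x | x ∈ H ∧ x * x ∈ h.V}
      one_mem' := ⟨H.one_mem, by simp⟩
      inv_mem' := fun {x} hx => ⟨H.inv_mem hx.1, by rw [← mul_inv_rev]; exact h.V.inv_mem hx.2⟩
      mul_mem' := fun {x y} hx hy => ⟨H.mul_mem hx.1 hy.1, by
        rw [h.sq_mul (hcV x hx.1 y hy.1)]
        exact h.V.mul_mem (h.V.mul_mem hx.2 hy.2) (hcV x hx.1 y hy.1)⟩ }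
  have hVD : h.V ≤ D := fun v hv => ⟨hVH hv, h.V.mul_mem hv hv⟩
  have hD128 : Nat.card D ≤ 128 :=
    h.card_le_of_exp_four hVD (fun x hx => hx.2) fun x hx y hy => hcV x hx.1 y hy.1
  have hαD : ∀ (γ : MulAut T), ∀ x ∈ D, γ x ∈ D := fun γ x hx =>
    ⟨H3.char_mem hHc γ hx.1, by rw [← map_mul]; exact h.map_mem_V γ hx.2⟩
  -- `β` is nontrivial on `D`
  have hβD : ∃ x ∈ D, β x ≠ x := by
    by_contra hcon
    push Not at hcon
    have := hHc
    refine hβ1 (H3.eq_one_of_fixes_selfCentralizing h.two H (hC ▸ hAH) hβo fun x hx => ?_)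
    obtain ⟨k, hk⟩ := h.two x
    induction k generalizing x with
    | zero => rw [pow_zero, pow_one] at hk; rw [hk, map_one]
    | succ k ihk =>
      have h1 : β (x * x) = x * x :=
        ihk _ (H.mul_mem hx hx) (by rw [← sq, ← pow_mul, ← pow_succ', hk])
      have hy : x⁻¹ * β x ∈ H := H.mul_mem (H.inv_mem hx) (H3.char_mem hHc β hx)
      refine H3.eq_of_fixed_of_coprime h.two hβo (hcon _ ⟨hy, ?_⟩)
      have h2 := h.sq_mul (hcV x hx _ hy)
      rw [mul_inv_cancel_left, ← map_mul, h1, mul_assoc (x * x), left_eq_mul] at h2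
      rw [eq_inv_of_mul_eq_one_left h2]
      exact h.V.inv_mem (hcV x hx _ hy)
  let E : Subgroup T := D ⊓ MonoidHom.eqLocus (β : T →* T) (MonoidHom.id T)
  have hβα : ∀ x, β (α x) = α (β x) := fun x => by
    rw [← MulAut.mul_apply, ← MulAut.mul_apply, hβ, ← pow_succ, ← pow_succ']
  let σ : Equiv.Perm {x : T // x ∈ D ∧ β x ≠ x} :=
    Equiv.Perm.subtypePerm (MulAut.toPerm T α) fun x => by
      show (α x ∈ D ∧ β (α x) ≠ α x) ↔ _
      rw [hβα, α.injective.ne_iff]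
      exact and_congr_left fun _ => ⟨fun hx => by simpa using hαD α⁻¹ _ hx, hαD α x⟩
  have hσ : ∀ (n : ℕ) (x : {x : T // x ∈ D ∧ β x ≠ x}), ((σ ^ n) x : T) = (α ^ n) x := by
    intro n x
    induction n with
    | zero => rfl
    | succ n ih => rw [pow_succ', pow_succ', MulAut.mul_apply, ← ih]; rfl
  have hdvd := pow_dvd_card_of_free Nat.prime_three σ (m := m)
    (by ext x; rw [hσ, hm]; rfl) (fun x e => x.2.2 ((hσ _ x).symm.trans (congrArg Subtype.val e)))
  have hsum : Nat.card {x : T // x ∈ D ∧ β x ≠ x} + Nat.card E = Nat.card D := by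
    rw [← Nat.card_sum]
    refine Nat.card_congr (Equiv.ofBijective (Sum.elim (fun x => ⟨x.1, x.2.1⟩)
      (fun x => ⟨x.1, x.2.1⟩)) ⟨?_, fun x => ?_⟩)
    · rintro (⟨x, hx⟩ | ⟨x, hx⟩) (⟨y, hy⟩ | ⟨y, hy⟩) e <;>
        obtain rfl : x = y := congrArg Subtype.val e
      · rfl
      · exact absurd hy.2 hx.2
      · exact absurd hx.2 hy.2
      · rfl
    · by_cases e : β x = x
      · exact ⟨Sum.inr ⟨x, x.2, e⟩, rfl⟩
      · exact ⟨Sum.inl ⟨x, x.2, e⟩, rfl⟩
  obtain ⟨r, hr⟩ := IsPGroup.iff_card.1 (h.two.to_subgroup D)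
  obtain ⟨s, hs⟩ := IsPGroup.iff_card.1 (h.two.to_subgroup E)
  have hE4 : 4 ≤ Nat.card E := h.card_V ▸ card_le_of_le fun v hv => ⟨hVD hv, hβV v hv⟩
  have hpos : 0 < Nat.card {x : T // x ∈ D ∧ β x ≠ x} := by
    obtain ⟨x, hx⟩ := hβD
    have : Nonempty {x : T // x ∈ D ∧ β x ≠ x} := ⟨⟨x, hx⟩⟩
    exact Nat.card_pos
  have h9 : 9 ∣ Nat.card {x : T // x ∈ D ∧ β x ≠ x} :=
    (pow_dvd_pow 3 (show 2 ≤ m + 1 by omega)).trans hdvd
  rw [hr] at hD128 hsum
  rw [hs] at hE4 hsum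
  have hr7 : r ≤ 7 := (Nat.pow_le_pow_iff_right one_lt_two).1 hD128
  have hs2 : 2 ≤ s := (Nat.pow_le_pow_iff_right one_lt_two).1 hE4
  have hsr : s < r := (Nat.pow_lt_pow_iff_right one_lt_two).1 (by omega)
  generalize Nat.card {x : T // x ∈ D ∧ β x ≠ x} = c at h9 hsum
  interval_cases r <;> interval_cases s <;> omega

include h in
/-- from a transitive automorphism to one of order three -/
theorem exists_order_three (φ : MulAut T)
    (hφ : ∀ s t : T, s * s = 1 → s ≠ 1 → t * t = 1 → t ≠ 1 → ∃ k : ℕ, (φ ^ k) s = t) :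
    ∃ α : MulAut T, α ^ 3 = 1 ∧ ∀ v, v * v = 1 → α v = v → v = 1 := by
  obtain ⟨m, n, hn, e⟩ := Nat.exists_eq_pow_mul_and_not_dvd (orderOf_pos φ).ne' 3 (by norm_num)
  have hφ1 : ∀ v, v * v = 1 → φ v = v → v = 1 := by
    intro v hv e0
    by_contra h1
    obtain ⟨t, ht, h2, h3⟩ : ∃ t : T, t * t = 1 ∧ t ≠ 1 ∧ t ≠ v := by
      by_contra hcon
      push Not at hcon
      have : (h.V : Set T) ⊆ {1, v} := fun t ht => by
        by_cases h4 : t = 1
        · exact Or.inl h4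
        · exact Or.inr (hcon t ht h4)
      have h5 := (Set.ncard_le_ncard this).trans (Set.ncard_insert_le _ _)
      rw [← Nat.card_coe_set_eq, SetLike.coe_sort_coe, h.card_V, Set.ncard_singleton] at h5
      omega
    obtain ⟨k, hk⟩ := hφ v t hv h1 ht h2
    have e1 : φ ∈ MulAction.stabilizer (MulAut T) v := e0
    exact h3 (hk.symm.trans (pow_mem e1 k))
  have hα : ∀ v, v * v = 1 → (φ ^ n) v = v → v = 1 := by
    intro v hv e
    have h3 : φ ^ 3 ∈ MulAction.stabilizer (MulAut T) v := (h.cube_fix hφ1 hv).1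
    have h4 : φ ^ n ∈ MulAction.stabilizer (MulAut T) v := e
    refine hφ1 v hv ?_
    have h5 : φ ^ Nat.gcd 3 n ∈ MulAction.stabilizer (MulAut T) v := by
      rw [← zpow_natCast, Nat.gcd_eq_gcd_ab, zpow_add, zpow_mul, zpow_mul, zpow_natCast,
        zpow_natCast]
      exact mul_mem (zpow_mem h3 _) (zpow_mem h4 _)
    rwa [(Nat.prime_three.coprime_iff_not_dvd.2 hn).gcd_eq_one, pow_one] at h5
  exact ⟨φ ^ n, h.pow_three_eq_one hα m (by rw [← pow_mul, mul_comm, ← e, pow_orderOf_eq_one]), hα⟩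

end Rk2

end H22
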