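import Mathlib
import Cfsg.Agent.H13.CyclicMax
import Cfsg.Agent.H22.Fpf3

/-!
# 2-groups of rank two with a fixed point free automorphism of order three
-/

set_option autoImplicit false
set_option linter.unusedSectionVars false

namespace H22

open Subgroup
open scoped commutatorElement

/-- an automorphism of order three without fixed involutions -/
structure Fpf3 (T : Type*) [Group T] (α : MulAut T) : Prop extends Rk2 T where
  cube : α ^ 3 = 1
  fpf : ∀ v, v * v = 1 → α v = v → v = 1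

namespace Fpf3
variable {T : Type*} [Group T] [Finite T] {α : MulAut T} (h : Fpf3 T α)
include h

theorem aaa (x : T) : α (α (α x)) = x := by
  have : (α ^ 3) x = x := by rw [h.cube]; rfl
  exact this

theorem fix {x : T} (hx : α x = x) : x = 1 := h.toRk2.fix_eq_one h.fpf x hx

theorem sq : Fpf3 T (α * α) where
  toRk2 := h.toRk2
  cube := by rw [← _root_.sq, ← pow_mul, mul_comm, pow_mul, h.cube, one_pow]
  fpf := fun v _ e => h.fix (by
    have e' : α (α v) = v := e
    rw [← h.aaa (α v), e', e'])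

theorem surj (t : T) : ∃ s, s⁻¹ * α s = t := by
  refine (Finite.injective_iff_surjective (f := fun s : T => s⁻¹ * α s)).1 (fun s s' e => ?_) t
  have e' : s⁻¹ * α s = s'⁻¹ * α s' := e
  have : α (s * s'⁻¹) = s * s'⁻¹ := by
    rw [map_mul, map_inv, mul_inv_eq_iff_eq_mul, mul_assoc, ← e', mul_inv_cancel_left]
  exact mul_inv_eq_one.1 (h.fix this)

theorem prod (x : T) : x * α x * α (α x) = 1 := by
  obtain ⟨s, rfl⟩ := h.surj x
  simp only [map_mul, map_inv, h.aaa]; group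

theorem aa (x : T) : α (α x) = (x * α x)⁻¹ := eq_inv_of_mul_eq_one_right (h.prod x)

theorem comm (x : T) : Commute x (α x) := by
  have h1 := h.aa x⁻¹
  simp only [map_inv, h.aa x, mul_inv_rev, inv_inv] at h1
  exact h1

theorem comm_conj (y t : T) : Commute y (t * α y * t⁻¹) := by
  obtain ⟨s, rfl⟩ := h.surj t
  have h1 := (h.comm (s * y * s⁻¹)).conj s⁻¹
  simp only [map_mul, map_inv] at h1
  convert h1 using 1 <;> group

theorem engel (y t : T) : Commute y (t * y * t⁻¹) := by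
  have h1 := (h.comm_conj y t).mul_right (h.sq.comm_conj y t)
  have h2 : t * y * t⁻¹ = (t * α y * t⁻¹ * (t * (α * α) y * t⁻¹))⁻¹ := by
    rw [MulAut.mul_apply, h.aa]; group
  rw [h2]; exact h1.inv_right

theorem comm_mem_V {x y : T} (hxy : Commute x (y * y)) : ⁅x, y⁆ ∈ h.V := by
  have h1 : Commute ⁅x, y⁆ y := by
    rw [commutatorElement_def]
    exact (h.engel y x).symm.mul_left (Commute.refl y).inv_left
  rw [Rk2.mem_V, ← _root_.sq, ← H13.commutator_pow_right h1, _root_.sq,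
    commutatorElement_eq_one_iff_mul_comm]
  exact hxy

/-- if the exponent is at least 8, or if the group is abelian, it is homocyclic -/
theorem homocyclic_or : (∃ n : ℕ, 1 ≤ n ∧ Nonempty (T ≃* Multiplicative (ZMod (2 ^ n) × ZMod (2 ^ n)))) ∨
    ((∀ x : T, x * x * (x * x) = 1) ∧ ∃ x y : T, x * y ≠ y * x) := by
  classical
  obtain ⟨x, hx⟩ := Finite.exists_max (orderOf : T → ℕ)
  obtain ⟨n, hn⟩ := IsPGroup.iff_orderOf.1 h.two x
  have hall : ∀ w : T, w ^ 2 ^ n = 1 := fun w => by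
    obtain ⟨j, hj⟩ := IsPGroup.iff_orderOf.1 h.two w
    have := hx w
    rw [hj, hn] at this
    exact orderOf_dvd_iff_pow_eq_one.1
      (hj ▸ pow_dvd_pow 2 ((Nat.pow_le_pow_iff_right one_lt_two).1 this))
  obtain _ | k := n
  · exfalso
    have : Subsingleton T := ⟨fun a b => by
      have ha := hall a
      have hb := hall b
      rw [pow_zero, pow_one] at ha hb
      rw [ha, hb]⟩
    have h1 := h.card
    have h2 : Nat.card {x : T // x * x = 1} ≤ 1 := Finite.card_le_one_iff_subsingleton.2 inferInstance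
    omega
  have hx1 : x ^ 2 ^ k ≠ 1 := H13.pow_two_pow_pred_ne_one hn (Nat.lt_succ_self k)
  have hy1 : α x ^ 2 ^ k ≠ 1 := by
    rw [← map_pow]; exact fun e => hx1 (α.injective (e.trans (map_one α).symm))
  have hne : x ^ 2 ^ k ≠ α x ^ 2 ^ k := fun e => hx1 (h.fix (by rw [map_pow, ← e]))
  have H := h.toRk2.eq_mul_of_commute (hall x) (hall _) hx1 hy1 hne (h.comm x)
  by_cases hall2 : ∀ w : T, Commute w x ∧ Commute w (α x)
  · refine Or.inl ⟨k + 1, by omega, h.toRk2.nonempty_equiv_of_pair (hall x) (hall _) hx1 hy1 hne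
      (h.comm x) fun w => ?_⟩
    simpa using H (k + 1) 0 w (by omega) (hall2 w).1 (hall2 w).2 (hall w)
  right
  obtain ⟨w, hw⟩ := not_forall.1 hall2
  refine ⟨?_, ?_⟩
  swap
  · rcases not_and_or.1 hw with e | e
    exacts [⟨w, x, e⟩, ⟨w, α x, e⟩]
  by_contra hcon
  have hk : 2 ≤ k := by
    by_contra hk
    refine hcon fun g => ?_
    have := hall g
    have h1 : g ^ 2 ^ 2 = 1 := orderOf_dvd_iff_pow_eq_one.1
      ((orderOf_dvd_of_pow_eq_one this).trans (pow_dvd_pow 2 (by omega)))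
    rw [← h1]; norm_num [pow_succ, mul_assoc]
  let B : Subgroup T := centralizer {x, α x}
  have hB : ∀ {w : T}, w ∈ B ↔ Commute w x ∧ Commute w (α x) := fun {w} => by
    simp only [B, mem_centralizer_iff, Set.mem_insert_iff, Set.mem_singleton_iff, forall_eq_or_imp,
      forall_eq]
    exact and_congr ⟨fun e => e.symm, fun e => e.symm⟩ ⟨fun e => e.symm, fun e => e.symm⟩
  have hBx : ∀ a b : ℕ, x ^ a * α x ^ b ∈ B := fun a b =>
    B.mul_mem (B.pow_mem (hB.2 ⟨Commute.refl x, h.comm x⟩) a)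
      (B.pow_mem (hB.2 ⟨(h.comm x).symm, Commute.refl _⟩) b)
  have hBc : ∀ a ∈ B, ∀ b ∈ B, Commute a b := by
    intro a ha b hb
    obtain ⟨i, j, e⟩ := H (k + 1) 0 b (by omega) (hB.1 hb).1 (hB.1 hb).2 (hall b)
    rw [e]
    exact (((hB.1 ha).1.pow_right i).mul_right ((hB.1 ha).2.pow_right j)).pow_right _
  have hVB : h.V ≤ B := fun v hv => hB.2 ⟨(h.V_cent hv x).symm, (h.V_cent hv _).symm⟩
  obtain ⟨j, hy, hy2⟩ := H3.exists_pow_not_mem_pow_mem h.two (N := B) (x := w) (fun e => hw (hB.1 e))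
  generalize w ^ 2 ^ j = y at hy hy2
  rw [_root_.sq] at hy2
  -- `y² = d²` with `d ∈ B`
  obtain ⟨a, b, e⟩ := H k 1 (y * y) (by omega) (hB.1 hy2).1 (hB.1 hy2).2
    (by rw [← _root_.sq, ← pow_mul, ← pow_succ', hall])
  have hd := hBx a b
  generalize x ^ a * α x ^ b = d at e hd
  have hc1 : ⁅y, d⁻¹⁆ ∈ h.V := by
    rw [← commutatorElement_inv]
    exact h.V.inv_mem (h.comm_mem_V (hBc _ (B.inv_mem hd) _ hy2))
  have h1 : y * d⁻¹ * (y * d⁻¹) ∈ h.V := by
    rw [h.sq_mul hc1, e, ← mul_inv_rev, pow_one, _root_.sq, mul_inv_cancel, one_mul]; exact hc1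
  have hy' : y * d⁻¹ ∉ B := fun e => hy ((B.mul_mem_cancel_right (B.inv_mem hd)).1 e)
  generalize y * d⁻¹ = z at h1 hy'
  obtain ⟨a', b', e'⟩ := H 1 k (z * z) (by omega) (hB.1 (hVB h1)).1 (hB.1 (hVB h1)).2
    (by rw [pow_one, _root_.sq]; exact h1)
  have hd' := hBx a' b'
  generalize x ^ a' * α x ^ b' = d' at e' hd'
  obtain ⟨i, rfl⟩ : ∃ i, k = i + 2 := ⟨k - 2, by omega⟩
  have hc2 : ⁅d' ^ 2 ^ i, z⁆ ∈ h.V := h.comm_mem_V (hBc _ (B.pow_mem hd' _) _ (hVB h1))
  have hc3 : Commute (d' ^ 2 ^ (i + 1)) z := by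
    rw [pow_succ, pow_mul, Commute, SemiconjBy, ← commutatorElement_eq_one_iff_mul_comm,
      H13.commutator_pow_left (h.V_cent hc2 _).symm, _root_.sq]
    exact hc2
  have h2 : z * (d' ^ 2 ^ (i + 1))⁻¹ ∈ h.V := by
    rw [Rk2.mem_V, ← _root_.sq, hc3.symm.inv_right.mul_pow, _root_.sq z, e', inv_pow, ← pow_mul,
      ← pow_succ, mul_inv_cancel]
  exact hy' ((B.mul_mem_cancel_right (B.inv_mem (B.pow_mem hd' _))).1 (hVB h2))

end Fpf3

section Chain
variable {G : Type*} [Group G] [Finite G]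

theorem mem_normalizer_of_comm {W H : Subgroup G} [W.Normal] (hW : W ≤ H) {g : G}
    (hg : H ≤ (centralizer {(g : G ⧸ W)}).comap (QuotientGroup.mk' W)) :
    g ∈ normalizer (H : Set G) := by
  refine H13.mem_normalizer_of_finite fun y hy => ?_
  have h1 : ((y : G ⧸ W)) * g = g * y := mem_centralizer_singleton_iff.1 (hg hy)
  have h2 : y⁻¹ * (g * y * g⁻¹) ∈ W := by
    rw [← QuotientGroup.eq_one_iff]
    simp only [QuotientGroup.mk_mul, QuotientGroup.mk_inv, ← h1]; group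
  exact (H.mul_mem_cancel_left (H.inv_mem hy)).1 (hW h2)

theorem mem_comap_centralizer {W : Subgroup G} [W.Normal] {g y : G} (h : ⁅y, g⁆ ∈ W) :
    y ∈ (centralizer {(g : G ⧸ W)}).comap (QuotientGroup.mk' W) := by
  rw [mem_comap, mem_centralizer_singleton_iff, ← commutatorElement_eq_one_iff_mul_comm]
  exact (QuotientGroup.eq_one_iff _).2 h

theorem le_comap_centralizer {W : Subgroup G} [W.Normal] (g : G) :
    W ≤ (centralizer {(g : G ⧸ W)}).comap (QuotientGroup.mk' W) := fun y hy => by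
  rw [mem_comap, QuotientGroup.mk'_apply, (QuotientGroup.eq_one_iff y).2 hy]; exact one_mem _

theorem card_chain_le {W : Subgroup G} [W.Normal] {a b c d : G} (ha : a * a ∈ W) (hb : b * b ∈ W)
    (hc : c * c ∈ W) (hd : d * d ∈ W) (hab : ⁅a, b⁆ ∈ W) (hac : ⁅a, c⁆ ∈ W) (had : ⁅a, d⁆ ∈ W)
    (hbc : ⁅b, c⁆ ∈ W) (hbd : ⁅b, d⁆ ∈ W) (hcd : ⁅c, d⁆ ∈ W) :
    Nat.card ↥(zpowers d ⊔ (zpowers c ⊔ (zpowers b ⊔ (zpowers a ⊔ W)))) ≤ 16 * Nat.card W := by
  have l1 : W ≤ zpowers a ⊔ W := le_sup_right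
  have l2 : W ≤ zpowers b ⊔ (zpowers a ⊔ W) := l1.trans le_sup_right
  have l3 : W ≤ zpowers c ⊔ (zpowers b ⊔ (zpowers a ⊔ W)) := l2.trans le_sup_right
  have h1 := card_zpowers_sup_le (mem_normalizer_of_comm le_rfl (le_comap_centralizer a)) ha
  have h2 := card_zpowers_sup_le (mem_normalizer_of_comm l1 (sup_le
    (zpowers_le.2 (mem_comap_centralizer hab)) (le_comap_centralizer b))) (l1 hb)
  have h3 := card_zpowers_sup_le (mem_normalizer_of_comm l2 (sup_le
    (zpowers_le.2 (mem_comap_centralizer hbc)) (sup_le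
    (zpowers_le.2 (mem_comap_centralizer hac)) (le_comap_centralizer c)))) (l2 hc)
  have h4 := card_zpowers_sup_le (mem_normalizer_of_comm l3 (sup_le
    (zpowers_le.2 (mem_comap_centralizer hcd)) (sup_le
    (zpowers_le.2 (mem_comap_centralizer hbd)) (sup_le
    (zpowers_le.2 (mem_comap_centralizer had)) (le_comap_centralizer d))))) (l3 hd)
  omega

end Chain

/-- the Sylow 2-subgroup of `U₃(4)`, abstractly -/
structure U34 (T : Type*) [Group T] (α : MulAut T) : Prop extends Fpf3 T α where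
  exp : ∀ x : T, x * x * (x * x) = 1
  nonab : ∃ x y : T, x * y ≠ y * x

namespace U34
variable {T : Type*} [Group T] [Finite T] {α : MulAut T} (h : U34 T α)
include h

theorem sqV (x : T) : x * x ∈ h.V := h.exp x

theorem commV (x y : T) : ⁅x, y⁆ ∈ h.V := h.comm_mem_V (h.V_cent (h.sqV y) x)

theorem f_left (a b c : T) : ⁅a * b, c⁆ = ⁅a, c⁆ * ⁅b, c⁆ :=
  comm_mul_left_of_central (h.V_cent (h.commV b c))

theorem f_right (a b c : T) : ⁅a, b * c⁆ = ⁅a, b⁆ * ⁅a, c⁆ :=
  comm_mul_right_of_central (h.V_cent (h.commV a c))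

theorem f_symm (a b : T) : ⁅a, b⁆ = ⁅b, a⁆ := by
  rw [← commutatorElement_inv a b, inv_eq_of_mul_eq_one_right (h.commV a b)]

theorem f_V (a : T) {v : T} (hv : v ∈ h.V) : ⁅a, v⁆ = 1 :=
  commutatorElement_eq_one_iff_mul_comm.2 (h.V_cent hv a)

theorem f_self (a : T) : ⁅a, α a⁆ = 1 := commutatorElement_eq_one_iff_mul_comm.2 (h.comm a)

theorem f_alpha (x y : T) : ⁅x, α y⁆ = ⁅α x, y⁆ := by
  have h1 := h.f_self (x * y)
  rw [map_mul, h.f_left, h.f_right, h.f_right, h.f_self, h.f_self, one_mul, mul_one] at h1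
  rw [eq_inv_of_mul_eq_one_left h1, commutatorElement_inv]

theorem f_aa (x y : T) : ⁅x, α (α y)⁆ = α ⁅x, y⁆ := by
  rw [h.f_alpha, map_commutatorElement]

theorem f_a (x y : T) : ⁅x, α y⁆ = α (α ⁅x, y⁆) := by
  rw [← h.f_aa, ← h.f_aa, h.aaa]

theorem sq_mul' (a b : T) : a * b * (a * b) = a * a * (b * b) * ⁅a, b⁆ := h.sq_mul (h.commV a b)

theorem aaV {v : T} (hv : v ∈ h.V) (h1 : v ≠ 1) : α (α v) = v * α v := (h.cube_fix h.fpf hv).2 h1

theorem sq_mul_alpha {x y : T} (hx : x * x ≠ 1) (hxy : ⁅x, y⁆ = x * x) :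
    y * α x * (y * α x) = y * y * (x * x) := by
  rw [h.sq_mul', h.f_alpha, h.f_symm, h.f_a, hxy, h.aaV (h.sqV x) hx, ← map_mul, mul_assoc (y * y),
    ← mul_assoc (α _), h.V_cent (h.sqV x) (α _), mul_assoc (x * x), ← map_mul, h.exp, map_one,
    mul_one]

theorem noQ {x y : T} (hx : x * x ≠ 1) (hxy : ⁅x, y⁆ = x * x) : y * y ≠ x * x := by
  intro e
  have h1 := h.sq_mul_alpha hx hxy
  rw [e, h.exp] at h1
  have h2 := h.f_V x (v := y * α x) h1
  rw [h.f_right, h.f_self, mul_one, hxy] at h2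
  exact hx h2

theorem noQ8 {a b : T} (h1 : b * b = a * a) (h2 : a * b * (a * b) = a * a) : a * a = 1 := by
  by_contra ha
  rw [h.sq_mul', h1, h.exp, one_mul] at h2
  exact h.noQ ha h2 h1

theorem eq_of_commute {x w : T} (hx : x * x ≠ 1) (hw : ⁅x, w⁆ = 1) :
    ∃ a b : ℕ, w = x ^ a * α x ^ b := by
  have h4 : ∀ g : T, g ^ 2 ^ (1 + 1) = 1 := fun g => by
    rw [← h.exp g]; norm_num [pow_succ, mul_assoc]
  have h1 : ⁅α x, w⁆ = 1 := by rw [← h.f_alpha, h.f_a, hw, map_one, map_one]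
  have hx' : α x * α x ≠ 1 := by rw [← map_mul]; exact α.map_ne_one_iff.2 hx
  have hne : x * x ≠ α x * α x := fun e => hx (h.fix (by rw [map_mul, ← e]))
  simpa using h.toRk2.eq_mul_of_commute (k := 1) (h4 x) (h4 _) (by rwa [pow_one, _root_.sq])
    (by rwa [pow_one, _root_.sq]) (by rwa [pow_one, _root_.sq, _root_.sq]) (h.comm x) 2 0 w rfl
    (commutatorElement_eq_one_iff_commute.1 hw).symm
    (commutatorElement_eq_one_iff_commute.1 h1).symm (h4 w)

theorem exists_gens : ∃ x y : T, x * x ≠ 1 ∧ ⁅x, y⁆ = x * x ∧ y * y = α (x * x) := by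
  obtain ⟨x, y, hxy⟩ := h.nonab
  have hx : x * x ≠ 1 := fun e => hxy (h.cent x e y).symm
  have hx' : α (x * x) ≠ 1 := α.map_ne_one_iff.2 hx
  have hne : x * x ≠ α (x * x) := fun e => hx (h.fix e.symm)
  have hf : ⁅x, y⁆ ≠ 1 := fun e => hxy (commutatorElement_eq_one_iff_mul_comm.1 e)
  obtain ⟨y, hy⟩ : ∃ y, ⁅x, y⁆ = x * x := by
    rcases h.cases (h.exp x) (h.map_mem_V α (h.sqV x)) (h.commV x y) hx hx' hne with e | e | e | e
    · exact absurd e hf
    · exact ⟨y, e⟩
    · exact ⟨α y, by rw [h.f_a, e, h.aaa]⟩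
    · exact ⟨α (α y), by rw [h.f_aa, e, ← h.aaV (h.sqV x) hx, h.aaa]⟩
  rcases h.cases (h.exp x) (h.map_mem_V α (h.sqV x)) (h.sqV y) hx hx' hne with e | e | e | e
  · exact absurd (hy.symm.trans (h.f_V x e)) hx
  · exact absurd e (h.noQ hx hy)
  · exact ⟨x, y, hx, hy, e⟩
  · refine ⟨x, y * α x, hx, by rw [h.f_right, h.f_self, mul_one, hy], ?_⟩
    rw [h.sq_mul_alpha hx hy, e, h.V_cent (h.sqV x), ← mul_assoc, h.exp, one_mul]

theorem V_eq {x : T} (hx : x * x ≠ 1) : zpowers (α (x * x)) ⊔ zpowers (x * x) = h.V := by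
  have hx' : α (x * x) ≠ 1 := α.map_ne_one_iff.2 hx
  have hne : x * x ≠ α (x * x) := fun e => hx (h.fix e.symm)
  refine le_antisymm (sup_le (zpowers_le.2 (h.map_mem_V α (h.sqV x))) (zpowers_le.2 (h.sqV x)))
    fun v hv => ?_
  rcases h.cases (h.exp x) (h.map_mem_V α (h.sqV x)) hv hx hx' hne with rfl | rfl | rfl | rfl
  · exact one_mem _
  · exact mem_sup_right (mem_zpowers _)
  · exact mem_sup_left (mem_zpowers _)
  · exact mul_mem (mem_sup_right (mem_zpowers _)) (mem_sup_left (mem_zpowers _))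

theorem chain_top {x y : T} (hx : x * x ≠ 1) (hxy : ⁅x, y⁆ = x * x) :
    zpowers (α y) ⊔ (zpowers y ⊔ (zpowers (α x) ⊔ (zpowers x ⊔ h.V))) = ⊤ := by
  have hx' : α (x * x) ≠ 1 := α.map_ne_one_iff.2 hx
  have hne : x * x ≠ α (x * x) := fun e => hx (h.fix e.symm)
  set K := zpowers (α y) ⊔ (zpowers y ⊔ (zpowers (α x) ⊔ (zpowers x ⊔ h.V)))
  have h1 : α y ∈ K := mem_sup_left (mem_zpowers _)
  have h2 : y ∈ K := mem_sup_right (mem_sup_left (mem_zpowers _))
  have h3 : α x ∈ K := mem_sup_right (mem_sup_right (mem_sup_left (mem_zpowers _)))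
  have h4 : x ∈ K := mem_sup_right (mem_sup_right (mem_sup_right (mem_sup_left (mem_zpowers _))))
  have key : ∀ g t, t ∈ K → ⁅x, g⁆ = ⁅x, t⁆ → g ∈ K := by
    intro g t ht e
    obtain ⟨a, b, e'⟩ := h.eq_of_commute hx (w := g * t)
      (by rw [h.f_right, e]; exact h.commV x t)
    exact (K.mul_mem_cancel_right ht).1 (e' ▸ K.mul_mem (K.pow_mem h4 a) (K.pow_mem h3 b))
  have hay : ⁅x, α y⁆ = x * x * α (x * x) := by rw [h.f_a, hxy, h.aaV (h.sqV x) hx]
  refine eq_top_iff.2 fun g _ => ?_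
  rcases h.cases (h.exp x) (h.map_mem_V α (h.sqV x)) (h.commV x g) hx hx' hne with e | e | e | e
  · exact key g 1 K.one_mem (by simpa using e)
  · exact key g y h2 (e.trans hxy.symm)
  · exact key g (y * α y) (K.mul_mem h2 h1) (by
      rw [e, h.f_right, hxy, hay, ← mul_assoc, h.exp, one_mul])
  · exact key g (α y) h1 (e.trans hay.symm)

theorem card_eq : Nat.card T = 64 := by
  obtain ⟨x, y, hx, hxy, -⟩ := h.exists_gens
  have hx' : α (x * x) ≠ 1 := α.map_ne_one_iff.2 hx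
  have hne : x * x ≠ α (x * x) := fun e => hx (h.fix e.symm)
  have hn : ∀ {H : Subgroup T} (g : T), h.V ≤ H → g ∈ normalizer (H : Set T) := fun g hH =>
    mem_normalizer_of_comm hH fun y _ => mem_comap_centralizer (h.commV y g)
  have hs : ∀ {H : Subgroup T} {g : T}, h.V ≤ H → g ∉ H →
      Nat.card ↥(zpowers g ⊔ H) = 2 * Nat.card H := fun {H g} hH hg =>
    H2.card_sup_zpowers_of_pow_prime_mem Nat.prime_two (hn g hH) hg
      (by rw [_root_.sq]; exact hH (h.sqV g))
  have l1 : h.V ≤ zpowers x ⊔ h.V := le_sup_right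
  have l2 : h.V ≤ zpowers (α x) ⊔ (zpowers x ⊔ h.V) := l1.trans le_sup_right
  have l3 : h.V ≤ zpowers y ⊔ (zpowers (α x) ⊔ (zpowers x ⊔ h.V)) := l2.trans le_sup_right
  have hB : zpowers (α x) ⊔ (zpowers x ⊔ h.V) ≤ centralizer {x} :=
    sup_le (zpowers_le.2 (mem_centralizer_singleton_iff.2 (h.comm x).symm))
      (sup_le (zpowers_le.2 (mem_centralizer_singleton_iff.2 rfl))
        fun v hv => mem_centralizer_singleton_iff.2 (h.V_cent hv x).symm)
  have hB' : ∀ g ∈ zpowers (α x) ⊔ (zpowers x ⊔ h.V), ⁅x, g⁆ = 1 := fun g hg =>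
    commutatorElement_eq_one_iff_mul_comm.2 (mem_centralizer_singleton_iff.1 (hB hg)).symm
  have hay : ⁅x, α y⁆ = x * x * α (x * x) := by rw [h.f_a, hxy, h.aaV (h.sqV x) hx]
  have c1 := hs le_rfl (g := x) hx
  have c2 := hs l1 (g := α x) fun e => by
    rcases mem_zpowers_sup_two (hn x le_rfl) (h.sqV x) e with e | e
    · exact hx' (by rw [map_mul]; exact e)
    · rw [Rk2.mem_V, ← _root_.sq, (h.comm x).inv_left.mul_pow, inv_pow, inv_mul_eq_one, _root_.sq,
        _root_.sq, ← map_mul] at e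
      exact hne e
  have c3 := hs l2 (g := y) fun e => hx (hxy.symm.trans (hB' y e))
  have c4 := hs l3 (g := α y) fun e => by
    rcases mem_zpowers_sup_two (hn y l2) (l2 (h.sqV y)) e with e | e
    · have := hB' _ e
      rw [hay] at this
      exact hne (mul_left_cancel ((h.exp x).trans this.symm))
    · have := h.f_right x y (y⁻¹ * α y)
      rw [hB' _ e, mul_inv_cancel_left, hay, hxy, mul_right_inj] at this
      exact hx' this
  rw [h.chain_top hx hxy, c3, c2, c1, h.card_V, card_top] at c4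
  exact c4

theorem center_eq : center T = h.V := by
  refine le_antisymm (fun z hz => ?_) fun v hv => mem_center_iff.2 (h.V_cent hv)
  by_contra hz1
  obtain ⟨x, y, hxy⟩ := h.nonab
  have hc : ∀ w : T, ⁅z, w⁆ = 1 := fun w =>
    commutatorElement_eq_one_iff_mul_comm.2 (mem_center_iff.1 hz w).symm
  obtain ⟨a, b, rfl⟩ := h.eq_of_commute hz1 (hc x)
  obtain ⟨c, d, rfl⟩ := h.eq_of_commute hz1 (hc y)
  have h1 := h.comm z
  exact hxy ((((Commute.refl z).pow_pow a c).mul_right (h1.pow_pow a d)).mul_left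
    ((h1.symm.pow_pow b c).mul_right ((Commute.refl _).pow_pow b d)))

theorem commutator_eq : commutator T = h.V := by
  refine le_antisymm (commutator_le.2 fun x _ y _ => h.commV x y) ?_
  obtain ⟨x, y, hx, hxy, -⟩ := h.exists_gens
  rw [← h.V_eq hx]
  refine sup_le (zpowers_le.2 ?_) (zpowers_le.2 ?_)
  · rw [← hxy, map_commutatorElement]
    exact commutator_mem_commutator (mem_top _) (mem_top _)
  · rw [← hxy]
    exact commutator_mem_commutator (mem_top _) (mem_top _)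

theorem nonempty_equiv {T' : Type*} [Group T'] [Finite T'] {α' : MulAut T'} (h' : U34 T' α') :
    Nonempty (T ≃* T') := by
  obtain ⟨x, y, hx, hxy, hy⟩ := h.exists_gens
  obtain ⟨x', y', hx', hxy', hy'⟩ := h'.exists_gens
  let W : Subgroup (T × T') := zpowers (α (x * x), α' (x' * x')) ⊔ zpowers (x * x, x' * x')
  have m1 : (x * x, x' * x') ∈ W := mem_sup_right (mem_zpowers _)
  have m2 : (α (x * x), α' (x' * x')) ∈ W := mem_sup_left (mem_zpowers _)
  have m3 : (x * x * α (x * x), x' * x' * α' (x' * x')) ∈ W := W.mul_mem m1 m2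
  have c1 : (x * x, x' * x') ∈ center (T × T') :=
    mem_center_iff.2 fun g => Prod.ext (h.V_cent (h.sqV x) _) (h'.V_cent (h'.sqV x') _)
  have c2 : (α (x * x), α' (x' * x')) ∈ center (T × T') :=
    mem_center_iff.2 fun g => Prod.ext (h.V_cent (h.map_mem_V α (h.sqV x)) _)
      (h'.V_cent (h'.map_mem_V α' (h'.sqV x')) _)
  have hWc : W ≤ center (T × T') := sup_le (zpowers_le.2 c2) (zpowers_le.2 c1)
  have hWn : W.Normal := ⟨fun w hw g => by
    rw [mem_center_iff.1 (hWc hw) g, mul_inv_cancel_right]; exact hw⟩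
  have hW4 : Nat.card W ≤ 4 := by
    have h1 := card_zpowers_sup_le (H := zpowers (x * x, x' * x')) (g := (α (x * x), α' (x' * x')))
      (center_le_normalizer _ c2) (by
        rw [show (α (x * x), α' (x' * x')) * (α (x * x), α' (x' * x')) = 1 from
          Prod.ext (h.map_mem_V α (h.sqV x)) (h'.map_mem_V α' (h'.sqV x'))]
        exact one_mem _)
    have h2 : Nat.card (zpowers (x * x, x' * x')) ≤ 2 := by
      rw [Nat.card_zpowers]
      exact orderOf_le_of_pow_eq_one two_pos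
        (by rw [_root_.sq]; exact Prod.ext (h.exp x) (h'.exp x'))
    exact h1.trans (by omega)
  have hay : ⁅x, α y⁆ = x * x * α (x * x) := by rw [h.f_a, hxy, h.aaV (h.sqV x) hx]
  have hay' : ⁅x', α' y'⁆ = x' * x' * α' (x' * x') := by
    rw [h'.f_a, hxy', h'.aaV (h'.sqV x') hx']
  have pc : ∀ (a b : T) (a' b' : T'), ⁅(a, a'), (b, b')⁆ = (⁅a, b⁆, ⁅a', b'⁆) := fun _ _ _ _ => rfl
  have hΓ := card_chain_le (W := W) (a := (x, x')) (b := (α x, α' x')) (c := (y, y'))
    (d := (α y, α' y')) m1 (by rw [Prod.mk_mul_mk, ← map_mul, ← map_mul]; exact m2)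
    (by rw [Prod.mk_mul_mk, hy, hy']; exact m2)
    (by rw [Prod.mk_mul_mk, ← map_mul, ← map_mul, hy, hy', h.aaV (h.sqV x) hx,
      h'.aaV (h'.sqV x') hx']; exact m3)
    (by rw [pc, h.f_self, h'.f_self]; exact W.one_mem)
    (by rw [pc, hxy, hxy']; exact m1) (by rw [pc, hay, hay']; exact m3)
    (by rw [pc, ← h.f_alpha, ← h'.f_alpha, hay, hay']; exact m3)
    (by rw [pc, ← map_commutatorElement, ← map_commutatorElement, hxy, hxy']; exact m2)
    (by rw [pc, h.f_self, h'.f_self]; exact W.one_mem)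
  set Γ := zpowers (α y, α' y') ⊔ (zpowers (y, y') ⊔ (zpowers (α x, α' x') ⊔ (zpowers (x, x') ⊔ W)))
    with hΓd
  have s1 : Function.Surjective ((MonoidHom.fst T T').comp Γ.subtype) := by
    rw [← MonoidHom.range_eq_top, MonoidHom.range_comp, range_subtype, hΓd]
    simp only [W, Subgroup.map_sup, MonoidHom.map_zpowers, MonoidHom.coe_fst]
    rw [h.V_eq hx, h.chain_top hx hxy]
  have s2 : Function.Surjective ((MonoidHom.snd T T').comp Γ.subtype) := by
    rw [← MonoidHom.range_eq_top, MonoidHom.range_comp, range_subtype, hΓd]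
    simp only [W, Subgroup.map_sup, MonoidHom.map_zpowers, MonoidHom.coe_snd]
    rw [h'.V_eq hx', h'.chain_top hx' hxy']
  have b1 := s1.bijective_of_nat_card_le (by rw [h.card_eq]; omega)
  have b2 := s2.bijective_of_nat_card_le (by rw [h'.card_eq]; omega)
  exact ⟨(MulEquiv.ofBijective _ b1).symm.trans (MulEquiv.ofBijective _ b2)⟩

end U34

end H22
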