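import Mathlib
import Cfsg.Prelude.Def_Classical
import Cfsg.Prelude.Def_CaseTheorems
import Cfsg.Agent.H15.Finite
import Cfsg.Agent.H7.SpSuSimple
import Cfsg.Agent.H22.U34

/-!
# The Sylow 2-subgroup of `PSU₃(4)`
-/

set_option autoImplicit false
set_option linter.unusedSectionVars false

namespace H22

open Subgroup
open scoped commutatorElement Matrix

/-- pairs `(a, b)` with `b + b⁴ = a⁵` -/
@[ext] structure U64 (F : Type*) [Field F] where
  a : F
  b : F
  rel : b + b ^ 4 = a ^ 5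

namespace U64
variable {F : Type*} [Field F] [Fintype F] [hF : Fact (Fintype.card F = 16)]

theorem two_eq : (2 : F) = 0 := by
  by_contra h
  have := H15.card_odd_iff.2 h
  rw [hF.out] at this
  exact absurd this (by decide)

theorem pow16 (x : F) : x ^ 16 = x := by rw [← hF.out]; exact FiniteField.pow_card x

theorem add4 (x y : F) : (x + y) ^ 4 = x ^ 4 + y ^ 4 := by
  linear_combination (2 * x ^ 3 * y + 3 * x ^ 2 * y ^ 2 + 2 * x * y ^ 3) * two_eq (F := F)

instance : Mul (U64 F) := ⟨fun x y => ⟨x.a + y.a, x.b + y.b + x.a ^ 4 * y.a, by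
  rw [add4, add4, pow_succ (x.a + y.a), add4, mul_pow, ← pow_mul, pow16]
  linear_combination x.rel + y.rel⟩⟩

instance : One (U64 F) := ⟨⟨0, 0, by simp⟩⟩

instance : Inv (U64 F) := ⟨fun x => ⟨x.a, x.b ^ 4, by rw [← pow_mul, pow16, add_comm, x.rel]⟩⟩

@[simp] theorem mul_a (x y : U64 F) : (x * y).a = x.a + y.a := rfl
@[simp] theorem mul_b (x y : U64 F) : (x * y).b = x.b + y.b + x.a ^ 4 * y.a := rfl
@[simp] theorem one_a : (1 : U64 F).a = 0 := rfl
@[simp] theorem one_b : (1 : U64 F).b = 0 := rfl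
@[simp] theorem inv_a (x : U64 F) : x⁻¹.a = x.a := rfl
@[simp] theorem inv_b (x : U64 F) : x⁻¹.b = x.b ^ 4 := rfl

instance : Group (U64 F) := Group.ofLeftAxioms
  (fun x y z => by
    ext
    · simp [add_assoc]
    · simp only [mul_a, mul_b, add4]; ring)
  (fun x => by ext <;> simp)
  (fun x => by
    ext
    · simp only [mul_a, inv_a, one_a]; linear_combination x.a * two_eq (F := F)
    · simp only [mul_b, inv_a, inv_b, one_b]; linear_combination x.rel + x.a ^ 5 * two_eq (F := F))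

instance : Finite (U64 F) :=
  Finite.of_injective (fun x : U64 F => (x.a, x.b)) fun _ _ e =>
    U64.ext (congrArg Prod.fst e) (congrArg Prod.snd e)

theorem mul_self_eq_one {x : U64 F} : x * x = 1 ↔ x.a = 0 := by
  constructor
  · intro e
    have h1 := congrArg U64.b e
    simp only [mul_b, one_b] at h1
    have h2 : x.a ^ 5 = 0 := by linear_combination h1 - x.b * two_eq (F := F)
    exact pow_eq_zero_iff (by norm_num) |>.1 h2
  · intro e
    ext
    · simp [e]
    · simp only [mul_b, one_b, e]; linear_combination x.b * two_eq (F := F)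

theorem exp (x : U64 F) : x * x * (x * x) = 1 :=
  mul_self_eq_one.2 (by simp only [mul_a]; linear_combination x.a * two_eq (F := F))

theorem hF' : Fintype.card F = 4 ^ 2 := hF.out

theorem rk2 : Rk2 (U64 F) where
  two := fun x => ⟨2, by rw [← exp x]; norm_num [pow_succ, mul_assoc]⟩
  cent := fun x hx g => by
    rw [mul_self_eq_one] at hx
    ext
    · simp [hx]
    · simp [hx, add_comm]
  card := by
    rw [← H15.card_trace_eq (hF' (F := F)) 0 (by simp)]
    refine Nat.card_congr ⟨fun x => ⟨x.1.b, by rw [x.1.rel, mul_self_eq_one.1 x.2]; simp⟩,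
      fun b => ⟨⟨0, b.1, by rw [b.2]; simp⟩, mul_self_eq_one.2 rfl⟩, fun x => ?_, fun b => rfl⟩
    exact Subtype.ext (U64.ext (mul_self_eq_one.1 x.2).symm rfl)

/-- the automorphism given by a cube root of unity -/
def aut (l : F) (hl : l ^ 3 = 1) : U64 F →* U64 F :=
  MonoidHom.mk' (fun x => ⟨l * x.a, l ^ 2 * x.b, by
      linear_combination l ^ 2 * x.rel + (l ^ 5 + l ^ 2) * x.b ^ 4 * hl - l ^ 2 * x.a ^ 5 * hl⟩)
    fun x y => by
      ext
      · simp [mul_add]
      · simp only [mul_b]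
        linear_combination (-l ^ 2 * x.a ^ 4 * y.a) * hl

theorem aut_aut_aut (l : F) (hl : l ^ 3 = 1) (x : U64 F) :
    aut l hl (aut l hl (aut l hl x)) = x := by
  ext
  · show l * (l * (l * x.a)) = x.a
    linear_combination x.a * hl
  · show l ^ 2 * (l ^ 2 * (l ^ 2 * x.b)) = x.b
    linear_combination (l ^ 3 + 1) * x.b * hl

theorem exists_u34 : ∃ α, U34 (U64 F) α := by
  obtain ⟨l, hl⟩ := exists_prime_orderOf_dvd_card' (G := Fˣ) 3 (by
    rw [Nat.card_units, Nat.card_eq_fintype_card, hF.out]; norm_num)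
  have hl3 : (l : F) ^ 3 = 1 := by rw [← Units.val_pow_eq_pow_val, ← hl, pow_orderOf_eq_one]; rfl
  have hl1 : (l : F) ≠ 1 := fun e => by
    rw [Units.val_eq_one.1 e, orderOf_one] at hl; omega
  let α : MulAut (U64 F) :=
    { aut (l : F) hl3 with
      invFun := fun x => aut (l : F) hl3 (aut (l : F) hl3 x)
      left_inv := aut_aut_aut _ hl3
      right_inv := aut_aut_aut _ hl3 }
  refine ⟨α, ⟨⟨rk2, MulEquiv.ext (aut_aut_aut _ hl3), fun v hv e => ?_⟩, exp, ?_⟩⟩
  · have h1 : (l : F) ^ 2 * v.b = v.b := congrArg U64.b e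
    ext
    · exact mul_self_eq_one.1 hv
    · have h2 : ((l : F) - 1) * v.b = 0 := by linear_combination (-l) * h1 + v.b * hl3
      exact (mul_eq_zero.1 h2).resolve_left (sub_ne_zero.2 hl1)
  · have hb : ∀ a : F, ∃ b : F, b + b ^ 4 = a ^ 5 := fun a => by
      have h1 := H15.card_trace_eq (hF' (F := F)) (a ^ 5) (by
        rw [← pow_mul, show 5 * 4 = 16 + 4 from rfl, pow_add, pow16]; ring)
      obtain ⟨b⟩ := (Nat.card_pos_iff.1 (h1 ▸ (by norm_num : 0 < 4))).1
      exact ⟨b.1, b.2⟩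
    obtain ⟨a, ha⟩ := H15.exists_sigma_ne _ (H15.frob_ne_id (hF' (F := F)))
    obtain ⟨b, hb1⟩ := hb a
    obtain ⟨c, hc1⟩ := hb 1
    refine ⟨⟨a, b, hb1⟩, ⟨1, c, hc1⟩, fun e => ha ?_⟩
    have h1 := congrArg U64.b e
    simp only [mul_b] at h1
    show a ^ 4 = a
    linear_combination h1

/-- the unitary matrix of a pair -/
def mat (x : U64 F) : Matrix (Fin 3) (Fin 3) F :=
  !![1 + x.b, x.b, x.a ^ 4; x.b, 1 + x.b, x.a ^ 4; x.a, x.a, 1]

theorem mat_mul (x y : U64 F) : mat (x * y) = mat x * mat y := by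
  have t := two_eq (F := F)
  ext i j
  fin_cases i <;> fin_cases j <;> simp [mat, Matrix.mul_apply, Fin.sum_univ_three, add4]
  · linear_combination (-x.b * y.b) * t
  · linear_combination (-x.b * y.b) * t
  · linear_combination (-x.b * y.a ^ 4) * t
  · linear_combination (-x.b * y.b) * t
  · linear_combination (-x.b * y.b) * t
  · linear_combination (-x.b * y.a ^ 4) * t
  · linear_combination (-x.a * y.b) * t
  · linear_combination (-x.a * y.b) * t
  · linear_combination (x.a * y.a ^ 4) * t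

theorem mat_det (x : U64 F) : (mat x).det = 1 := by
  have t := two_eq (F := F)
  simp [mat, Matrix.det_fin_three]
  linear_combination (x.b - x.a ^ 5) * t

theorem mat_mem (x : U64 F) : (⟨mat x, mat_det x⟩ : Matrix.SpecialLinearGroup (Fin 3) F) ∈
    Cfsg.SU 3 F 4 := by
  intro u v
  have t := two_eq (F := F)
  show Cfsg.hermForm 3 F 4 (mat x *ᵥ u) (mat x *ᵥ v) = _
  simp only [Cfsg.hermForm, Fin.sum_univ_three, mat, Matrix.mulVec, dotProduct, Matrix.of_apply,
    Matrix.cons_val', Matrix.cons_val_zero, Matrix.cons_val_one, Matrix.cons_val_two,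
    Matrix.cons_val_fin_one, Matrix.head_cons, Matrix.tail_cons, Matrix.head_fin_const, add4,
    mul_pow, one_pow, ← pow_mul, Nat.reduceMul, pow16]
  linear_combination (u 0 + u 1) * (v 0 ^ 4 + v 1 ^ 4) * x.rel +
    ((u 0 + u 1) * (v 0 ^ 4 + v 1 ^ 4) * (x.b ^ 5 + x.a ^ 5) +
      (u 0 + u 1) * v 2 ^ 4 * (x.a + x.a * x.b) +
      u 2 * (v 0 ^ 4 + v 1 ^ 4) * (x.a ^ 4 + x.a ^ 4 * x.b ^ 4) + u 2 * v 2 ^ 4 * x.a ^ 5) * t

/-- the embedding into `SU₃(4)` -/
def toSU : U64 F →* Cfsg.SU 3 F 4 :=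
  MonoidHom.mk' (fun x => ⟨⟨mat x, mat_det x⟩, mat_mem x⟩)
    fun x y => Subtype.ext (Subtype.ext (mat_mul x y))

theorem toSU_injective : Function.Injective (toSU (F := F)) := by
  intro x y e
  have e' : mat x = mat y := congrArg (fun g : Cfsg.SU 3 F 4 => g.1.1) e
  exact U64.ext (congrFun (congrFun e' 2) 0) (congrFun (congrFun e' 1) 0)

theorem card_psu : Nat.card (Cfsg.PSU 3 F 4) = 62400 := by
  have := H7.card_psu (hF' (F := F)) 3 (by norm_num)
  simp [Finset.prod_range_succ] at this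
  omega

theorem center_su : center (Cfsg.SU 3 F 4) = ⊥ := by
  have := H7.card_center_su (hF' (F := F)) 3 (by norm_num)
  exact card_eq_one.1 this

theorem nonempty_equiv_sylow (P : Sylow 2 (Cfsg.PSU 3 F 4)) :
    Nonempty (U64 F ≃* (P : Subgroup (Cfsg.PSU 3 F 4))) := by
  let f : U64 F →* Cfsg.PSU 3 F 4 := (QuotientGroup.mk' _).comp toSU
  have hf : Function.Injective f := by
    have : Function.Injective (QuotientGroup.mk' (center (Cfsg.SU 3 F 4))) := by
      rw [← MonoidHom.ker_eq_bot_iff, QuotientGroup.ker_mk']; exact center_su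
    exact this.comp toSU_injective
  obtain ⟨α, hα⟩ := exists_u34 (F := F)
  have hc : Nat.card f.range = 2 ^ (Nat.card (Cfsg.PSU 3 F 4)).factorization 2 := by
    rw [← Nat.card_congr (MonoidHom.ofInjective hf).toEquiv, hα.card_eq, card_psu,
      show 62400 = 2 ^ 6 * 975 from rfl,
      Nat.factorization_mul_apply_of_coprime (by norm_num), Nat.factorization_pow_self Nat.prime_two,
      Nat.factorization_eq_zero_of_not_dvd (by norm_num)]
    norm_num
  exact ⟨(MonoidHom.ofInjective hf).trans ((Sylow.ofCard f.range hc).equiv P)⟩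

end U64

theorem U34.of_equiv {T T' : Type*} [Group T] [Group T'] {α : MulAut T} (h : U34 T α)
    (e : T ≃* T') : U34 T' (MulAut.congr e α) where
  two := h.two.of_equiv e
  cent := fun x hx g => by
    obtain ⟨x, rfl⟩ := e.surjective x
    obtain ⟨g, rfl⟩ := e.surjective g
    rw [← map_mul, h.cent x (e.injective (by rw [map_mul, hx, map_one])), map_mul]
  card := by
    rw [← h.card]
    exact Nat.card_congr (e.toEquiv.subtypeEquiv fun x => by simp [← map_mul]).symm
  cube := by rw [← map_pow, h.cube, map_one]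
  fpf := fun v hv e1 => by
    obtain ⟨v, rfl⟩ := e.surjective v
    rw [h.fpf v (e.injective (by rw [map_mul, hv, map_one])) (by simpa using e1), map_one]
  exp := fun x => by
    obtain ⟨x, rfl⟩ := e.surjective x
    simp only [← map_mul, h.exp, map_one]
  nonab := by
    obtain ⟨x, y, hxy⟩ := h.nonab
    exact ⟨e x, e y, fun e1 => hxy (e.injective (by simpa using e1))⟩

theorem u34_sylow {F : Type*} [Field F] [Fintype F] (hF : Fintype.card F = 16)
    (P : Sylow 2 (Cfsg.PSU 3 F 4)) : ∃ α, U34 (P : Subgroup (Cfsg.PSU 3 F 4)) α := by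
  have := Fact.mk hF
  obtain ⟨α, hα⟩ := U64.exists_u34 (F := F)
  obtain ⟨e⟩ := U64.nonempty_equiv_sylow P
  exact ⟨_, hα.of_equiv e⟩

theorem four_lt_card_of_not {T : Type*} [Group T] [Finite T] (h1 : ¬ Cfsg.PRankLE 2 1 T) :
    ∃ A : Subgroup T, IsMulCommutative A ∧ (∀ a ∈ A, a ^ 2 = 1) ∧ 4 ≤ Nat.card A := by
  simp only [Cfsg.PRankLE, not_forall, not_le] at h1
  obtain ⟨A, hA, hA2, hc⟩ := h1
  obtain ⟨n, hn⟩ := IsPGroup.iff_card.1 (show IsPGroup 2 A from
    fun a => ⟨1, Subtype.ext (by simpa using hA2 a a.2)⟩)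
  refine ⟨A, hA, hA2, ?_⟩
  rw [hn] at hc ⊢
  exact Nat.pow_le_pow_right two_pos (show 2 ≤ n from (Nat.pow_lt_pow_iff_right one_lt_two).1 hc)

theorem rk2_of_cent {T : Type*} [Group T] [Finite T] (hT : IsPGroup 2 T) (h2 : Cfsg.PRankLE 2 2 T)
    (h1 : ¬ Cfsg.PRankLE 2 1 T) (hc : ∀ x : T, x * x = 1 → ∀ g, g * x = x * g) : Rk2 T := by
  let V : Subgroup T :=
    { carrier := {x | x * x = 1}
      one_mem' := mul_one 1
      inv_mem' := fun {x} hx => by
        have hx' : x * x = 1 := hx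
        show x⁻¹ * x⁻¹ = 1
        rw [← mul_inv_rev, hx', inv_one]
      mul_mem' := fun {x y} hx hy => by
        have hx' : x * x = 1 := hx
        have hy' : y * y = 1 := hy
        show x * y * (x * y) = 1
        rw [mul_assoc, ← mul_assoc y, hc x hx' y, mul_assoc, hy', mul_one, hx'] }
  refine ⟨hT, hc, le_antisymm (h2 V ⟨⟨fun a b => Subtype.ext (hc _ b.2 _)⟩⟩
    fun a ha => by rw [sq]; exact ha) ?_⟩
  obtain ⟨A, -, hA2, hA⟩ := four_lt_card_of_not h1
  exact hA.trans (card_le_of_le (K := V) fun a ha => by have := hA2 a ha; rwa [sq] at this)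

/-- classification, given a transitive automorphism -/
theorem Rk2.homocyclic_or_u34 {T : Type*} [Group T] [Finite T] (h : Rk2 T) (φ : MulAut T)
    (hφ : ∀ s t : T, s * s = 1 → s ≠ 1 → t * t = 1 → t ≠ 1 → ∃ k : ℕ, (φ ^ k) s = t) :
    (∃ n : ℕ, 1 ≤ n ∧ Nonempty (T ≃* Multiplicative (ZMod (2 ^ n) × ZMod (2 ^ n)))) ∨
      ∃ α, U34 T α := by
  obtain ⟨α, h3, hα⟩ := h.exists_order_three φ hφ
  rcases (⟨h, h3, hα⟩ : Fpf3 T α).homocyclic_or with e | ⟨e1, e2⟩
  · exact Or.inl e
  · exact Or.inr ⟨α, ⟨h, h3, hα⟩, e1, e2⟩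

theorem s1237 {T : Type*} [Group T] [Finite T] (hT : IsPGroup 2 T) (h2 : Cfsg.PRankLE 2 2 T)
    (h1 : ¬ Cfsg.PRankLE 2 1 T) (φ : MulAut T)
    (htrans : ∀ s t : T, orderOf s = 2 → orderOf t = 2 → ∃ k : ℕ, (φ ^ k) s = t)
    {F : Type*} [Field F] [Fintype F] (hF : Fintype.card F = 16) (P : Sylow 2 (Cfsg.PSU 3 F 4)) :
    (∃ n : ℕ, 1 ≤ n ∧ Nonempty (T ≃* Multiplicative (ZMod (2 ^ n) × ZMod (2 ^ n)))) ∨
      Nonempty (T ≃* (P : Subgroup (Cfsg.PSU 3 F 4))) := by
  have ho : ∀ {s : T}, s * s = 1 → s ≠ 1 → orderOf s = 2 := fun hs h =>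
    orderOf_eq_prime (by rwa [sq]) h
  have hnt : Nontrivial T := by
    obtain ⟨A, -, -, hA⟩ := four_lt_card_of_not h1
    exact Finite.one_lt_card_iff_nontrivial.1 (by have := card_le_card_group A; omega)
  obtain ⟨z, hz, hz2, hz1⟩ := exists_invol_mem (hT.to_subgroup (center T))
    ((center T).nontrivial_iff_ne_bot.1 hT.center_nontrivial)
  have h : Rk2 T := rk2_of_cent hT h2 h1 fun x hx g => by
    by_cases hx1 : x = 1
    · simp [hx1]
    obtain ⟨k, rfl⟩ := htrans z x (ho hz2 hz1) (ho hx hx1)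
    obtain ⟨g, rfl⟩ := (φ ^ k).surjective g
    rw [← map_mul, ← map_mul, mem_center_iff.1 hz]
  rcases h.homocyclic_or_u34 φ fun s t hs hs1 ht ht1 => htrans s t (ho hs hs1) (ho ht ht1) with
    e | ⟨α, hα⟩
  · exact Or.inl e
  · obtain ⟨β, hβ⟩ := u34_sylow hF P
    exact Or.inr (hα.nonempty_equiv hβ)

theorem U34.s1248 {T : Type*} [Group T] [Finite T] {α : MulAut T} (h : U34 T α) :
    Nat.card T = 64 ∧ IsKleinFour (center T) ∧ center T = closure {x : T | orderOf x = 2} ∧
      center T = commutator T ∧ Nat.card (T ⧸ center T) = 16 ∧ ∀ x : T ⧸ center T, x ^ 2 = 1 := by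
  have hc : Nat.card (center T) = 4 := by rw [h.center_eq, h.card_V]
  refine ⟨h.card_eq, H13.isKleinFour_of_card_of_sq hc fun x hx => ?_, ?_,
    h.center_eq.trans h.commutator_eq.symm, ?_, fun x => ?_⟩
  · rw [h.center_eq] at hx; rw [sq]; exact hx
  · rw [h.center_eq]
    refine le_antisymm (fun v hv => ?_) ((closure_le _).2 fun v hv => ?_)
    · by_cases h1 : v = 1
      · rw [h1]; exact one_mem _
      · exact subset_closure (orderOf_eq_prime (by rw [sq]; exact hv) h1)
    · have h1 : orderOf v = 2 := hv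
      show v * v = 1
      rw [← sq, ← h1, pow_orderOf_eq_one]
  · have := (center T).card_eq_card_quotient_mul_card_subgroup
    rw [h.card_eq, hc] at this
    omega
  · obtain ⟨x, rfl⟩ := QuotientGroup.mk_surjective x
    rw [← QuotientGroup.mk_pow, QuotientGroup.eq_one_iff, h.center_eq, sq]
    exact h.sqV x

end H22
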