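import Mathlib
import Cfsg.Agent.H22.Wr

/-!
# Fusion in groups with wreathed Sylow 2-subgroups
-/

set_option autoImplicit false
set_option linter.unusedSectionVars false

namespace H22

open Subgroup

variable {G : Type*} [Group G] {n : ℕ}

/-- the subgroup of elements of order at most two of an abelian group is normalized -/
theorem normalizer_le_normalizer_of_omega [Finite G] {U T : Subgroup G}
    (hT : ∀ x, x ∈ T ↔ x ∈ U ∧ x * x = 1) : normalizer (U : Set G) ≤ normalizer (T : Set G) :=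
  fun g hg => mem_normalizer_of_conj_mem fun x hx => (hT _).2
    ⟨conj_mem_of_mem_normalizer hg ((hT x).1 hx).1, conj_mul_self ((hT x).1 hx).2 g⟩

namespace WR

section
variable {S : Subgroup G} {E : WR S n}

theorem mem_T_iff {U T : Subgroup G} (hU : E.IsR U ⊤) (hT : E.IsR T (Om n)) (x : G) :
    x ∈ T ↔ x ∈ U ∧ x * x = 1 := by
  constructor
  · intro hx
    obtain ⟨a, ha, rfl⟩ := hT.cases hx
    exact ⟨(hU.r_mem a).2 trivial, E.r_mul_self_eq_one.2 (mem_Om'.1 ha)⟩
  · rintro ⟨hx, h⟩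
    obtain ⟨a, -, rfl⟩ := hU.cases hx
    exact (hT.r_mem a).2 (mem_Om'.2 (E.r_mul_self_eq_one.1 h))

theorem T_isKleinFour (hn : 1 ≤ n) {T : Subgroup G} (hT : E.IsR T (Om n)) : IsKleinFour T :=
  isKleinFour_of (by rw [hT.card, card_Om hn]) fun x hx => by
    obtain ⟨a, ha, rfl⟩ := hT.cases hx
    exact E.r_mul_self_eq_one.2 (mem_Om'.1 ha)

theorem oddAut_U_fixedPointFree (hn : 1 ≤ n) {U : Subgroup G} (hU : E.IsR U ⊤) {φ : G → G}
    (hφ : OddAut U φ) (hne : ∃ x ∈ U, φ x ≠ x) : ∀ x ∈ U, φ x = x → x = 1 := by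
  have hT := E.isR_rsub (Om n)
  have hU2 := E.isPGroup.to_le hU.le
  have hφT := hφ.restrict (hT.le_isR hU le_top) fun y hy => by
    obtain ⟨h1, h2⟩ := (mem_T_iff hU hT y).1 hy
    exact (mem_T_iff hU hT _).2 ⟨hφ.mem y h1, by rw [← hφ.mul _ h1 _ h1, h2, hφ.one]⟩
  intro x hx e
  obtain ⟨k, hk⟩ := isPGroup_iff_forall_mem.1 hU2 x hx
  induction k generalizing x with
  | zero => rwa [pow_zero, pow_one] at hk
  | succ k ih =>
    have h1 := ih (x * x) (U.mul_mem hx hx) (by rw [hφ.mul _ hx _ hx, e])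
      (by rw [← sq, ← pow_mul, ← pow_succ', hk])
    by_contra h2
    obtain ⟨y, hy, hne⟩ := hne
    exact hne (hφ.fix_of_omega hU2 hU.comm (fun u hu h => hφT.fix_kleinFour (T_isKleinFour hn hT)
      ((mem_T_iff hU hT x).2 ⟨hx, h1⟩) h2 e u ((mem_T_iff hU hT u).2 ⟨hu, h⟩)) y hy)

theorem U_le_commutator [Finite G] (hn : 1 ≤ n) {U : Subgroup G} (hU : E.IsR U ⊤)
    (h : HasOdd U) : U ≤ commutator G := by
  obtain ⟨g, hg, hφ, hne⟩ := h.exists_conj
  exact le_commutator_of_fixedPointFree hg (oddAut_U_fixedPointFree hn hU hφ hne)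

theorem hasOdd_T [Finite G] {U T : Subgroup G} (hU : E.IsR U ⊤) (hT : E.IsR T (Om n))
    (h : HasOdd U) : HasOdd T := by
  obtain ⟨g, hg, ho, hc⟩ := h
  refine ⟨g, normalizer_le_normalizer_of_omega (mem_T_iff hU hT) hg, ho, fun hc' => hc ?_⟩
  exact mem_centralizer_of_forall_conj_eq ((oddAut_conj hg (odd_of_coprime_two ho)).fix_of_omega
    (E.isPGroup.to_le hU.le) hU.comm fun x hx h =>
      conj_eq_of_mem_centralizer hc' ((mem_T_iff hU hT x).2 ⟨hx, h⟩))

theorem isConj_of_hasOdd_U [Finite G] (hn : 1 ≤ n) {U : Subgroup G} (hU : E.IsR U ⊤)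
    (h : HasOdd U) : IsConj (E.r (hh n, hh n)) (E.r (hh n, 0)) := by
  have hT := E.isR_rsub (Om n)
  exact (hasOdd_T hU hT h).kleinFour_isConj (T_isKleinFour hn hT)
    ((hT.r_mem _).2 ⟨hh_mem_K le_rfl, hh_mem_K le_rfl⟩) ((hT.r_mem _).2 ⟨hh_mem_K le_rfl, zero_mem _⟩)
    (ne_one_of_orderOf_two (E.orderOf_z hn)) (ne_one_of_orderOf_two (E.orderOf_u hn))

theorem isConj_of_hasOdd_V (hn : 1 ≤ n) {V : Subgroup G} {d : WA n} (hV : E.IsS V (Bj n 1) d)
    (h : HasOdd V) : IsConj (E.r (hh n, 0)) (E.s 0) := by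
  obtain ⟨g, -, hφ, hne⟩ := h.exists_conj
  obtain ⟨-, a, -, h1, h2⟩ := oddAut_moves hn hV le_rfl hn hφ hne
  exact (isConj_of_conj_eq h2).trans (E.isConj_s (by simpa using h1))

theorem inf_centralizer_V (hn : 1 ≤ n) {V : Subgroup G} {j : ℕ} {d : WA n}
    (hV : E.IsS V (Bj n j) d) (hj : 1 ≤ j) :
    V ⊓ centralizer (V : Set G) = S ⊓ centralizer (S : Set G) := by
  have h1 := isR_inf_centralizer hn hV hj
  rw [← h1.unique (E.isR_center' hn)]
  exact le_antisymm (inf_le_inf_right _ hV.le)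
    (le_inf (h1.le_isS hV (Bj_mono (Nat.zero_le _))) inf_le_right)

theorem normalizer_V_le (hn : 1 ≤ n) {V : Subgroup G} {j : ℕ} {d : WA n}
    (hV : E.IsS V (Bj n j) d) (hj : 1 ≤ j) :
    normalizer (V : Set G) ≤ normalizer ((S ⊓ centralizer (S : Set G) : Subgroup G) : Set G) := by
  rw [← inf_centralizer_V hn hV hj]
  exact fun g hg => mem_normalizer_inf hg (normalizer_le_normalizer_centralizer V hg)

theorem inv_mul_mem_Y (hn : 1 ≤ n) {V Y : Subgroup G} {d : WA n} (hV : E.IsS V (Bj n 1) d)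
    (hY : E.IsS Y (Cj n 0) (hh n, 0)) {x y : G} (hx : x ∈ V) (hy : y ∈ V)
    (hx' : x ∉ S ⊓ centralizer (S : Set G)) (hy' : y ∉ S ⊓ centralizer (S : Set G))
    (e : x * x = y * y) : x⁻¹ * y ∈ Y := by
  have hZ := E.isR_center' hn
  have h2 := two_mul_hh hn
  have key : ∀ a ∈ Bj n 1, E.r a ∉ S ⊓ centralizer (S : Set G) → a.1 - hh n = a.2 := by
    intro a ha ha'
    rw [hZ.r_mem] at ha'
    simpa using mem_Bj_zero.1 (((mem_Bj_one hn).1 ha).resolve_left ha')
  have rs : ∀ a ∈ Bj n 1, ∀ b, E.r a ∉ S ⊓ centralizer (S : Set G) →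
      E.r a * E.r a = E.s b * E.s b → (E.r a)⁻¹ * E.s b ∈ Y := by
    intro a ha b ha' e
    have h3 := key a ha ha'
    rw [E.r_mul_r, E.s_mul_self, E.r_inj] at e
    have h4 : a.2 + a.2 = b.1 + b.2 := congrArg Prod.snd e
    rw [E.r_inv_mul_s, hY.s_mem, mem_Cj_zero]
    simp only [Prod.fst_sub, Prod.snd_sub]
    linear_combination -h4 - h3 - h2
  rcases hV.cases hx with ⟨a, ha, rfl⟩ | ⟨a, ha, rfl⟩ <;>
    rcases hV.cases hy with ⟨b, hb, rfl⟩ | ⟨b, hb, rfl⟩
  · have h3 := key a ha hx'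
    have h4 := key b hb hy'
    rw [E.r_mul_r, E.r_mul_r, E.r_inj] at e
    have h5 : a.2 + a.2 = b.2 + b.2 := congrArg Prod.snd e
    rw [E.r_inv_mul_r, hY.r_mem, mem_Cj_zero]
    simp only [Prod.fst_sub, Prod.snd_sub]
    linear_combination h4 - h3 - h5
  · exact rs a ha b hx' e
  · simpa using Y.inv_mem (rs b hb a hy' e.symm)
  · rw [E.s_mul_self, E.s_mul_self, E.r_inj] at e
    have h5 : a.1 + a.2 = b.1 + b.2 := congrArg Prod.snd e
    rw [E.s_inv_mul_s, hY.r_mem, mem_Cj_zero]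
    simp only [sw_fst, sw_snd, Prod.fst_sub, Prod.snd_sub]
    linear_combination -h5

theorem le_of_U (E : WR S n) {F : Subgroup G} (h : ∀ a, E.r a ∈ F) {d : WA n} (hd : E.s d ∈ F) :
    S ≤ F := (E.isS_top d).le_of (fun a _ => h a) hd

end

variable [Finite G] {P : Sylow 2 G} {E : WR (P : Subgroup G) n}

theorem normalizer_Z_le (E : WR (P : Subgroup G) n) (hn : 1 ≤ n) :
    normalizer (((P : Subgroup G) ⊓ centralizer ((P : Subgroup G) : Set G) : Subgroup G) : Set G) ≤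
      centralizer (((P : Subgroup G) ⊓ centralizer ((P : Subgroup G) : Set G) : Subgroup G) : Set G) := by
  have : IsCyclic ↥((P : Subgroup G) ⊓ centralizer ((P : Subgroup G) : Set G)) := by
    rw [(E.isR_center' hn).unique E.isR_zpowers_diag]; infer_instance
  exact normalizer_le_centralizer_of_cyclic P inf_le_left fun g hg =>
    mem_centralizer_iff.2 fun z hz => (mem_centralizer_iff.1 hz.2 g hg).symm

theorem U_fullyNormalized {U : Subgroup G} (hU : E.IsR U ⊤) :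
    SylIn 2 ((P : Subgroup G) ⊓ normalizer (U : Set G)) (normalizer (U : Set G)) := by
  rw [inf_of_le_left (le_normalizer_U hU)]
  exact sylIn_of_sylow_le P (le_normalizer_U hU)

theorem U_index (hn : 1 ≤ n) {U : Subgroup G} (hU : E.IsR U ⊤) :
    ((centralizer (U : Set G)).relIndex (normalizer (U : Set G)) = 2 ∧ ¬ HasOdd U) ∨
    ((centralizer (U : Set G)).relIndex (normalizer (U : Set G)) = 6 ∧ HasOdd U) := by
  have hT := E.isR_rsub (Om n)
  have hU2 := E.isPGroup.to_le hU.le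
  have hTU := hT.le_isR hU le_top
  have := relIndex_two_or_six (X₁ := E.rsub (Om n)) (X₀ := ⊥) (a := E.r (hh n, 0))
    (b := E.r (0, hh n)) hU2 hTU (normalizer_le_normalizer_of_omega (mem_T_iff hU hT))
    (fun g _ => mem_normalizer_of_conj_mem fun a ha => by rw [mem_bot.1 ha]; simp)
    ((hT.r_mem _).2 ⟨hh_mem_K le_rfl, zero_mem _⟩) ((hT.r_mem _).2 ⟨zero_mem _, hh_mem_K le_rfl⟩)
    (by simp [E.r_eq_one, hh_ne_zero hn]) (by simp [E.r_eq_one, hh_ne_zero hn]) ?_ ?_
    (sylIn_of_sylow_le P (le_normalizer_U hU)) ?_ ?_ ?_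
  · rwa [sup_centralizer_of_comm hU.comm] at this
  · intro x hx
    obtain ⟨a, ha, rfl⟩ := hT.cases hx
    rcases Om_cases hn ha with rfl | rfl | rfl | rfl
    · simp [E.r_zero]
    · simp [E.r_mul_r]
    · simp
    · simp
  · intro y hy x hx
    rw [hU.comm y hy x (hTU hx)]; simp
  · rw [← inf_relIndex_right, sup_centralizer_inf hU.le (inf_centralizer_U hn hU).le,
      relIndex_U hU]
  · intro g hg h
    rcases E.cases hg with ⟨a, rfl⟩ | ⟨a, rfl⟩
    · exact mem_sup_left ((hU.r_mem a).2 trivial)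
    · have := h _ ((hT.r_mem (hh n, 0)).2 ⟨hh_mem_K le_rfl, zero_mem _⟩)
      rw [E.s_conj_r, E.r_inv_mul_r, mem_bot, E.r_eq_one] at this
      exact absurd (by simpa using congrArg Prod.snd this) (hh_ne_zero hn)
  · intro φ hφ h
    refine hφ.fix_of_omega hU2 hU.comm fun x hx h2 => ?_
    exact (inv_mul_eq_one.1 (mem_bot.1 (h x ((mem_T_iff hU hT x).2 ⟨hx, h2⟩)))).symm

theorem V_fullyNormalized (hn : 1 ≤ n) {V : Subgroup G} {d : WA n} (hV : E.IsS V (Bj n 1) d) :
    SylIn 2 ((P : Subgroup G) ⊓ normalizer (V : Set G)) (normalizer (V : Set G)) := by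
  refine fullyNormalized_of_card P hV.le fun g hg => ?_
  have hnc : ¬ IsMulCommutative (cj g V) := fun h => isS_not_comm hn hV le_rfl
    (IsMulCommutative.of_setLike_mul_comm fun x hx y hy => by
      have := setLike_mul_comm (conj_mem_cj (g := g) hx) (conj_mem_cj (g := g) hy)
      calc x * y = g⁻¹ * (g * x * g⁻¹ * (g * y * g⁻¹)) * g := by group
        _ = y * x := by rw [this]; group)
  rcases E.isR_or_isS hg with h | ⟨d', h⟩
  · exact absurd h.isMulCommutative hnc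
  have h1 : cj g V ⊓ centralizer (cj g V : Set G) = (P : Subgroup G) ⊓ centralizer ((P : Subgroup G) : Set G) :=
    eq_of_le_of_card_ge (E.center_le hn hg hnc) (by
      rw [← cj_centralizer, ← cj_inf, card_cj, inf_centralizer_V hn hV le_rfl])
  obtain ⟨j, hj, e⟩ := exists_eq_Bj (B := E.rpart (cj g V)) fun a ha =>
    (h1.ge (((E.isR_center' hn).r_mem a).2 ha)).1
  rw [e] at h
  have h2 := h.card
  rw [card_cj, hV.card, card_Bj hj, card_Bj hn] at h2
  obtain rfl : 1 = j := by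
    have := Nat.pow_right_injective le_rfl (Nat.eq_of_mul_eq_mul_left two_pos h2); omega
  rw [(isS_normalizer h).card, (isS_normalizer hV).card]

theorem V_index (hn : 2 ≤ n) {V : Subgroup G} {d : WA n} (hV : E.IsS V (Bj n 1) d) :
    ((V ⊔ centralizer (V : Set G)).relIndex (normalizer (V : Set G)) = 2 ∧ ¬ HasOdd V) ∨
    ((V ⊔ centralizer (V : Set G)).relIndex (normalizer (V : Set G)) = 6 ∧ HasOdd V) := by
  have hn1 : 1 ≤ n := by omega
  have hZ := E.isR_zpowers_diag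
  refine relIndex_two_or_six' P (z := E.r (1, 1)) (a := E.r (hh n, 0)) (b := E.s d) hV.le
    ((isR_inf_centralizer hn1 hV le_rfl).le_isS hV (Bj_mono (Nat.zero_le _)))
    (V_fullyNormalized hn1 hV) (isS_relIndex_normalizer hV hn) ((hV.r_mem _).2 (diag_mem_Bj 1))
    (by rw [hZ.unique (E.isR_center' hn1)]; exact normalizer_V_le hn1 hV le_rfl)
    ((hV.r_mem _).2 (by simp [mem_Bj, hh_mem_K])) hV.self_mem
    (by simp [hZ.r_mem, mem_Bj_zero, hh_ne_zero hn1]) (hZ.s_not_mem d)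
    (hV.cover hZ sw_mem_Bj fun b => (mem_Bj_one hn1).1)
    (fun y hy x hx => hV.inv_mul_conj_mem (fun b hb => (hZ.r_mem _).2 (sub_sw_mem_Bj.2 hb)) hy hx)
    fun g hg H => hV.mem_of_inv_mul_conj_mem hZ (fun b => sub_sw_mem_Bj.1) hg (H _ hV.self_mem)

/-- the data of a wreathed Sylow 2-subgroup with its two candidates for essential subgroups -/
structure Data (P : Sylow 2 G) (U V : Subgroup G) where
  n : ℕ
  hn : 2 ≤ n
  E : WR (P : Subgroup G) n
  d : WA n
  hU : E.IsR U ⊤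
  hV : E.IsS V (Bj n 1) d
  hd : d.1 + d.2 = 0

theorem exists_data (hS : Cfsg.IsWreathed (P : Subgroup G)) (n : ℕ)
    (hn : Nat.card P = 2 ^ (2 * n + 1)) {U : Subgroup G} (hUS : U ≤ P) (hUab : IsMulCommutative U)
    (hUcard : Nat.card U = 2 ^ (2 * n)) {Q : Subgroup G} (hQS : Q ≤ P)
    (f : Q ≃* QuaternionGroup 2) :
    ∃ D : Data P U (Q ⊔ (center (P : Subgroup G)).map (P : Subgroup G).subtype), D.n = n := by
  obtain ⟨m, hm, ⟨E⟩⟩ := exists_WR hS
  obtain rfl : m = n := by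
    have := E.card
    rw [hn] at this
    have := Nat.pow_right_injective le_rfl this
    omega
  obtain ⟨d, h1, -, h2⟩ := E.isS_sup_center hm hQS f
  exact ⟨⟨m, hm, E, d, eq_U_of_card hm hUS hUab hUcard, by rwa [map_center_eq], h1⟩, rfl⟩

theorem exists_data' (E : WR (P : Subgroup G) n) (hn : 2 ≤ n) :
    ∃ U V, ∃ D : Data P U V, D.E.r (hh D.n, hh D.n) = E.r (hh n, hh n) := by
  obtain ⟨V, hV⟩ := E.exists_V (j := 1) 0
  exact ⟨_, V, ⟨n, hn, E, 0, E.isR_rsub ⊤, hV, by simp⟩, rfl⟩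

namespace Data
variable {U V : Subgroup G} (D : Data P U V)

theorem one_le : 1 ≤ D.n := by have := D.hn; omega

include D in
theorem index_U :
    ((centralizer (U : Set G)).relIndex (normalizer (U : Set G)) = 2 ∧ ¬ HasOdd U) ∨
    ((centralizer (U : Set G)).relIndex (normalizer (U : Set G)) = 6 ∧ HasOdd U) :=
  U_index D.one_le D.hU

include D in
theorem index_V :
    ((V ⊔ centralizer (V : Set G)).relIndex (normalizer (V : Set G)) = 2 ∧ ¬ HasOdd V) ∨
    ((V ⊔ centralizer (V : Set G)).relIndex (normalizer (V : Set G)) = 6 ∧ HasOdd V) :=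
  V_index D.hn D.hV

include D in
theorem hasOdd_U (h : (centralizer (U : Set G)).relIndex (normalizer (U : Set G)) = 6) :
    HasOdd U := by rcases D.index_U with h' | h' <;> [omega; exact h'.2]

include D in
theorem not_hasOdd_U (h : (centralizer (U : Set G)).relIndex (normalizer (U : Set G)) = 2) :
    ¬ HasOdd U := by rcases D.index_U with h' | h' <;> [exact h'.2; omega]

include D in
theorem hasOdd_V (h : (V ⊔ centralizer (V : Set G)).relIndex (normalizer (V : Set G)) = 6) :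
    HasOdd V := by rcases D.index_V with h' | h' <;> [omega; exact h'.2]

include D in
theorem not_hasOdd_V (h : (V ⊔ centralizer (V : Set G)).relIndex (normalizer (V : Set G)) = 2) :
    ¬ HasOdd V := by rcases D.index_V with h' | h' <;> [exact h'.2; omega]

theorem hasOdd_cases {X : Subgroup G} (hX : X ≤ P)
    (hc : (P : Subgroup G) ⊓ centralizer (X : Set G) ≤ X) (h : HasOdd X) :
    (HasOdd U ∧ X = U) ∨ (HasOdd V ∧ ∃ a, D.E.IsS X (Bj D.n 1) a) := by
  obtain ⟨φ, hφ, hne⟩ := h.exists_oddAut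
  rcases D.E.oddAut_cases D.hn hX hc hφ hne with h1 | ⟨a, h1, h2, -⟩
  · obtain rfl := h1.unique D.hU
    exact Or.inl ⟨h, rfl⟩
  · obtain ⟨c, hc⟩ := isS_conj h1 D.hV (h2.trans D.hd.symm)
    exact Or.inr ⟨hc ▸ h.cj _, a, h1⟩

theorem focal_le {F : Subgroup G} (hF : ∀ b ∈ Cj D.n 0, D.E.r b ∈ F)
    (h0 : HasOdd U → U ≤ F) (h1 : HasOdd V → D.E.s (hh D.n, 0) ∈ F) : commutator G ⊓ P ≤ F := by
  refine commutator_inf_le_of_local P F
    (fun a ha s hs => D.E.inv_mul_conj_mem' hF ha hs) fun X hX hc _ h g hg x hx => ?_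
  rcases D.hasOdd_cases hX hc h with ⟨h2, rfl⟩ | ⟨h2, a, h3⟩
  · exact h0 h2 (X.mul_mem (X.inv_mem hx) (conj_mem_of_mem_normalizer hg hx))
  · obtain ⟨Y, hY⟩ := D.E.exists_Y D.one_le
    have hg' := normalizer_V_le D.one_le h3 le_rfl hg
    have hg'' := normalizer_Z_le D.E D.one_le hg'
    by_cases hxZ : x ∈ (P : Subgroup G) ⊓ centralizer ((P : Subgroup G) : Set G)
    · rw [conj_eq_of_mem_centralizer hg'' hxZ, inv_mul_cancel]; exact one_mem _
    refine hY.le_of hF (h1 h2) (inv_mul_mem_Y D.one_le h3 hY hx (conj_mem_of_mem_normalizer hg hx)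
      hxZ (fun h => hxZ ((mem_normalizer_iff.1 hg' x).2 h)) ?_)
    have hZ := D.E.isR_center' D.one_le
    have hxx : x * x ∈ (P : Subgroup G) ⊓ centralizer ((P : Subgroup G) : Set G) := by
      rcases h3.cases hx with ⟨b, hb, rfl⟩ | ⟨b, hb, rfl⟩
      · rw [D.E.r_mul_r, hZ.r_mem, mem_Bj_zero]
        have := mem_K_one'.1 hb
        simp only [Prod.fst_add, Prod.snd_add]
        change b.1 - b.2 + (b.1 - b.2) = 0 at this
        linear_combination this
      · rw [D.E.s_mul_self, hZ.r_mem]; exact diag_mem_Bj _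
    rw [← conj_eq_of_mem_centralizer hg'' hxx]; group

theorem isConj_U (h : HasOdd U) : IsConj (D.E.r (hh D.n, hh D.n)) (D.E.r (hh D.n, 0)) :=
  isConj_of_hasOdd_U D.one_le D.hU h

theorem isConj_V (h : HasOdd V) : IsConj (D.E.r (hh D.n, 0)) (D.E.s 0) :=
  isConj_of_hasOdd_V D.one_le D.hV h

theorem s_mem (h : HasOdd V) : D.E.s (hh D.n, 0) ∈ commutator G := by
  have := inv_mul_mem_commutator_of_isConj (D.isConj_V h)
  rw [D.E.r_inv_mul_s] at this
  simpa [neg_hh D.one_le] using this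

theorem not_isConj_zu (h : ¬ HasOdd U) :
    ¬ IsConj (D.E.r (hh D.n, hh D.n)) (D.E.r (hh D.n, 0)) := by
  obtain ⟨Y, hY⟩ := D.E.exists_Y D.one_le
  refine not_isConj_of_not_mem (D.focal_le (fun b => (hY.r_mem b).2) (fun h' => absurd h' h)
    fun _ => hY.self_mem) (D.E.r_mem _) (D.E.r_mem _) ?_
  rw [D.E.r_inv_mul_r, hY.r_mem, mem_Cj_zero]
  simpa using hh_ne_zero D.one_le

theorem not_isConj_rs (h : ¬ HasOdd V) (a b : WA D.n) : ¬ IsConj (D.E.r a) (D.E.s b) := by
  refine not_isConj_of_not_mem (D.focal_le (F := U) (fun b _ => (D.hU.r_mem b).2 trivial)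
    (fun _ => le_rfl) fun h' => absurd h' h) (D.E.r_mem _) (D.E.s_mem _) ?_
  rw [D.E.r_inv_mul_s]
  exact D.hU.s_not_mem _

theorem involution_isConj {t : G} (ht : orderOf t = 2) :
    IsConj t (D.E.r (hh D.n, hh D.n)) ∨ IsConj t (D.E.r (hh D.n, 0)) ∨ IsConj t (D.E.s 0) := by
  obtain ⟨a, ha, ho, e⟩ := exists_isConj_mem_sylow P (k := 1) ht
  exact (D.E.involution_isConj D.one_le ha ho).imp e.trans (Or.imp e.trans e.trans)

theorem isConj_all (hU : HasOdd U) (hV : HasOdd V) {t : G} (ht : orderOf t = 2) :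
    IsConj t (D.E.r (hh D.n, hh D.n)) := by
  rcases D.involution_isConj ht with h | h | h
  · exact h
  · exact h.trans (D.isConj_U hU).symm
  · exact h.trans ((D.isConj_U hU).trans (D.isConj_V hV)).symm

include D

theorem classes_one (hU : HasOdd U) (hV : HasOdd V) :
    Nat.card {C : ConjClasses G // ∃ t : G, orderOf t = 2 ∧ ConjClasses.mk t = C} = 1 :=
  card_classes_eq_one (D.E.orderOf_z D.one_le) fun _ => D.isConj_all hU hV

theorem classes_quat (hU : ¬ HasOdd U) (hV : HasOdd V) :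
    Nat.card {C : ConjClasses G // ∃ t : G, orderOf t = 2 ∧ ConjClasses.mk t = C} = 2 :=
  card_classes_eq_two (D.E.orderOf_z D.one_le) (D.E.orderOf_u D.one_le) (D.not_isConj_zu hU)
    fun _ ht => (D.involution_isConj ht).imp id (·.elim id (·.trans (D.isConj_V hV).symm))

theorem classes_ab (hU : HasOdd U) (hV : ¬ HasOdd V) :
    Nat.card {C : ConjClasses G // ∃ t : G, orderOf t = 2 ∧ ConjClasses.mk t = C} = 2 :=
  card_classes_eq_two (D.E.orderOf_u D.one_le) D.E.orderOf_s_zero (D.not_isConj_rs hV _ _)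
    fun _ ht => (D.involution_isConj ht).elim (fun h => Or.inl (h.trans (D.isConj_U hU))) id

theorem classes_three (hU : ¬ HasOdd U) (hV : ¬ HasOdd V) :
    Nat.card {C : ConjClasses G // ∃ t : G, orderOf t = 2 ∧ ConjClasses.mk t = C} = 3 :=
  card_classes_eq_three (D.E.orderOf_z D.one_le) (D.E.orderOf_u D.one_le) D.E.orderOf_s_zero
    (D.not_isConj_zu hU) (D.not_isConj_rs hV _ _) (D.not_isConj_rs hV _ _)
    fun _ => D.involution_isConj

theorem le_commutator (hU : HasOdd U) (hV : HasOdd V) : (P : Subgroup G) ≤ commutator G :=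
  D.E.le_of_U (fun a => U_le_commutator D.one_le D.hU hU ((D.hU.r_mem a).2 trivial)) (D.s_mem hV)

theorem hasNPC (hU : ¬ HasOdd U) (hV : ¬ HasOdd V) : Cfsg.HasNormalPComplement 2 G :=
  hasNPC_of_not_hasOdd P fun _ hX hc h => (D.hasOdd_cases hX hc h).elim (hU ·.1) (hV ·.1)

theorem center_conj_eq (hU : ¬ HasOdd U) {a : G}
    (ha : a ∈ (P : Subgroup G) ⊓ centralizer ((P : Subgroup G) : Set G)) {g : G} (hg : g * a * g⁻¹ ∈ P) :
    g * a * g⁻¹ = a := by
  set Z := (P : Subgroup G) ⊓ centralizer ((P : Subgroup G) : Set G)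
  have key : ∀ g ∈ centralizer (Z : Set G), ∀ a, (a ∈ Z ∨ g * a * g⁻¹ ∈ Z) → a = g * a * g⁻¹ := by
    rintro g hg a (h | h)
    · exact (conj_eq_of_mem_centralizer hg h).symm
    · have := conj_eq_of_mem_centralizer (inv_mem hg) h
      rw [← this]; group
  refine (alperin_rel P (fun a b => (a ∈ Z ∨ b ∈ Z) → a = b) (fun a b h h' => (h h'.symm).symm)
    ?_ (fun a _ s hs => key s ?_ a) ?_ ha.1 hg (Or.inl ha)).symm
  · rintro a b c h1 h2 (h | h)
    · obtain rfl := h1 (Or.inl h)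
      exact h2 (Or.inl h)
    · obtain rfl := h2 (Or.inr h)
      exact h1 (Or.inr h)
  · exact mem_centralizer_iff.2 fun z hz => (mem_centralizer_iff.1 hz.2 s hs).symm
  · intro X hX hc _ h g hg a _
    rcases D.hasOdd_cases hX hc h with ⟨h2, -⟩ | ⟨-, b, h3⟩
    · exact absurd h2 hU
    · exact key g (normalizer_Z_le D.E D.one_le (normalizer_V_le D.one_le h3 le_rfl hg)) a

theorem weaklyClosed (hU : ¬ HasOdd U) (Z₀ : Subgroup G)
    (h : Z₀ ≤ (center (P : Subgroup G)).map (P : Subgroup G).subtype) :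
    Cfsg.IsWeaklyClosed Z₀ P := by
  rw [map_center_eq] at h
  refine ⟨h.trans inf_le_left, fun g hg => cj_eq_of_le (cj_le_iff.2 fun a ha => ?_)⟩
  rwa [D.center_conj_eq hU (h ha) (cj_le_iff.1 hg a ha)]

theorem quat_case (hU : ¬ HasOdd U) (hV : HasOdd V) :
    ∃ K : Subgroup G, K.Normal ∧ K.index = 2 ^ D.n ∧
      (∀ R : Sylow 2 K, ∃ m : ℕ, 1 ≤ m ∧ Nonempty ((R : Subgroup K) ≃* QuaternionGroup (2 ^ m))) ∧
      ∀ H : Subgroup K, H.index ≠ 2 := by
  obtain ⟨Y, hY⟩ := D.E.exists_Y D.one_le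
  have h3 : commutator G ⊓ P = Y := le_antisymm (D.focal_le (fun b => (hY.r_mem b).2)
    (fun h' => absurd h' hU) fun _ => hY.self_mem)
    (le_inf (hY.le_of (fun a => D.E.r_mem_commutator) (D.s_mem hV)) hY.le)
  obtain ⟨-, h5, h6⟩ := pResidual_data P h3 (s := D.E.r (1, 0)) (D.E.le_of_U (fun a => by
    obtain ⟨k, hk⟩ := ZMod.intCast_surjective (a.1 + a.2)
    have := mul_mem (mem_sup_left (T := zpowers (D.E.r (1, 0))) ((hY.r_mem (-a.2, a.2)).2
      (by simp [mem_Cj]))) (mem_sup_right (zpow_mem (mem_zpowers _) k))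
    rw [D.E.r_zpow, D.E.r_mul_r] at this
    convert this using 2
    ext <;> simp [hk]) (mem_sup_left hY.self_mem))
  refine ⟨_, inferInstance, ?_, fun R => ⟨D.n - 1, by have := D.hn; omega, ?_⟩,
    pResidual_two_no_index_two G⟩
  · rw [h5]
    refine hY.relIndex_isS (D.E.isS_top 0) hY.le ?_
    rw [AddSubgroup.card_top, card_WA, card_Cj (Nat.zero_le _), add_zero, two_mul, pow_add]
  · obtain ⟨f⟩ := h6 R
    obtain ⟨f'⟩ := Y_equiv D.hn hY
    exact ⟨f.trans f'⟩

theorem ab_case (hU : HasOdd U) (hV : ¬ HasOdd V) :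
    ∃ K : Subgroup G, K.Normal ∧ K.index = 2 ∧ U ≤ K ∧ ∀ H : Subgroup K, H.index ≠ 2 := by
  have h3 : commutator G ⊓ P = U := le_antisymm (D.focal_le (fun b _ => (D.hU.r_mem b).2 trivial)
    (fun _ => le_rfl) fun h' => absurd h' hV) (le_inf (U_le_commutator D.one_le D.hU hU) D.hU.le)
  obtain ⟨h4, h5, -⟩ := pResidual_data P h3 (s := D.E.s 0) (D.E.le_of_U
    (fun a => mem_sup_left ((D.hU.r_mem a).2 trivial)) (mem_sup_right (mem_zpowers _)))
  exact ⟨_, inferInstance, by rw [h5, relIndex_U D.hU], h4.ge.trans inf_le_left,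
    pResidual_two_no_index_two G⟩

theorem hasOdd_of_le_commutator (h : (P : Subgroup G) ≤ commutator G) : HasOdd U ∧ HasOdd V := by
  constructor
  · by_contra hU
    obtain ⟨Y, hY⟩ := D.E.exists_Y D.one_le
    have := (hY.r_mem (1, 0)).1 (D.focal_le (fun b => (hY.r_mem b).2)
      (fun h' => absurd h' hU) (fun _ => hY.self_mem) ⟨h (D.E.r_mem _), D.E.r_mem _⟩)
    exact one_not_mem_K (n := D.n) (j := 0) D.one_le (by simpa [mem_Cj] using this)
  · by_contra hV
    exact D.hU.s_not_mem 0 (D.focal_le (fun b _ => (D.hU.r_mem b).2 trivial)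
      (fun _ => le_rfl) (fun h' => absurd h' hV) ⟨h (D.E.s_mem _), D.E.s_mem _⟩)

end Data
end WR

end H22
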