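import Mathlib
import Cfsg.Agent.H13.PSolvable
import Cfsg.Agent.H22.WrFusion

/-!
# Groups with quasi-dihedral or wreathed Sylow 2-subgroups
-/

set_option autoImplicit false
set_option linter.unusedSectionVars false

namespace H22

open Subgroup Cfsg

universe u

variable {G : Type*} [Group G] {n : ℕ}

theorem isQuasiDihedral_of_equiv {S S' : Type*} [Group S] [Group S'] (e : S ≃* S')
    (h : IsQuasiDihedral S) : IsQuasiDihedral S' := by
  obtain ⟨n, hn, hc, x, y, hx, hy, h⟩ := h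
  exact ⟨n, hn, by rw [← hc, Nat.card_congr e.toEquiv], e x, e y, by rw [e.orderOf_eq, hx],
    by rw [e.orderOf_eq, hy], by rw [← map_inv, ← map_mul, ← map_mul, h, map_pow]⟩

theorem isWreathed_of_equiv {S S' : Type*} [Group S] [Group S'] (e : S ≃* S')
    (h : IsWreathed S) : IsWreathed S' := by
  obtain ⟨n, hn, hc, x, y, z, hx, hxy, hi, hz, h⟩ := h
  refine ⟨n, hn, by rw [← hc, Nat.card_congr e.toEquiv], e x, e y, e z, by rw [e.orderOf_eq, hx],
    by rw [← map_mul, hxy, map_mul], ?_, by rw [e.orderOf_eq, hz],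
    by rw [← map_inv, ← map_mul, ← map_mul, h]⟩
  have := congrArg (Subgroup.map (e : S →* S')) hi
  rwa [map_inf_eq _ _ _ e.injective, MonoidHom.map_zpowers, MonoidHom.map_zpowers,
    Subgroup.map_bot] at this

theorem qd_of_equiv {S S' : Type*} [Group S] [Group S'] (e : S ≃* S')
    (h : IsQuasiDihedral S ∨ IsWreathed S) : IsQuasiDihedral S' ∨ IsWreathed S' :=
  h.imp (isQuasiDihedral_of_equiv e) (isWreathed_of_equiv e)

theorem HasOdd.subgroupOf [Finite G] {X H : Subgroup G} (h : HasOdd X) (hX : X ≤ H)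
    (hN : normalizer (X : Set G) ≤ H) : HasOdd (X.subgroupOf H) := by
  obtain ⟨g, hg, ho, hc⟩ := h
  refine ⟨⟨g, hN hg⟩, mem_normalizer_of_conj_mem fun a ha =>
      mem_subgroupOf.2 (conj_mem_of_mem_normalizer hg (mem_subgroupOf.1 ha)),
    by rwa [← orderOf_coe], fun h => hc (mem_centralizer_iff.2 fun x hx => ?_)⟩
  exact congrArg Subtype.val (mem_centralizer_iff.1 h ⟨x, hX hx⟩ hx)

theorem Ext2.IsS.subgroupOf {S : Subgroup G} {A : Type} [AddCommGroup A] {σ : A →+ A} {c : A}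
    {E : Ext2 S A σ c} {X H : Subgroup G} {B : AddSubgroup A} {d : A} (h : E.IsS X B d)
    (hS : S ≤ H) : (E.subgroupOf hS).IsS (X.subgroupOf H) B d :=
  ⟨comap_mono h.le, h.r_mem, h.s_mem⟩

theorem Ext2.IsR.subgroupOf {S : Subgroup G} {A : Type} [AddCommGroup A] {σ : A →+ A} {c : A}
    {E : Ext2 S A σ c} {X H : Subgroup G} {B : AddSubgroup A} (h : E.IsR X B)
    (hS : S ≤ H) : (E.subgroupOf hS).IsR (X.subgroupOf H) B :=
  ⟨comap_mono h.le, h.r_mem, h.s_not_mem⟩

theorem eq_of_isConj_of_centralizer {x : G} {a b : centralizer ({x} : Set G)} (ha : (a : G) = x)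
    (h : IsConj a b) : (b : G) = x := by
  obtain ⟨g, rfl⟩ := isConj_iff.1 h
  simp only [coe_mul, coe_inv, ha]
  rw [mem_centralizer_singleton_iff.1 g.2, mul_inv_cancel_right]

/-- a Sylow subgroup maps isomorphically to a quotient by a normal subgroup of coprime order -/
theorem sylow_equiv_mapSurjective [Finite G] {p : ℕ} [Fact p.Prime] (P : Sylow p G)
    (N : Subgroup G) [N.Normal] (hN : (Nat.card N).Coprime p) :
    Nonempty ((P : Subgroup G) ≃*
      (P.mapSurjective (QuotientGroup.mk'_surjective N) : Subgroup (G ⧸ N))) := by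
  refine ⟨MulEquiv.ofBijective ((QuotientGroup.mk' N).subgroupMap P)
    ⟨(injective_iff_map_eq_one _).2 fun x hx => ?_, MonoidHom.subgroupMap_surjective _ _⟩⟩
  have h1 : (x : G) ∈ N := (QuotientGroup.eq_one_iff _).1 (congrArg Subtype.val hx)
  exact Subtype.ext (H3.eq_one_of_mem_of_coprime P.isPGroup' x.2 (H3.orderOf_coprime_of_mem hN h1))

theorem no_index_two_quotient (N : Subgroup G) [N.Normal] (h : ∀ H : Subgroup G, H.index ≠ 2) :
    ∀ H : Subgroup (G ⧸ N), H.index ≠ 2 := fun H => by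
  rw [← H.index_comap_of_surjective (QuotientGroup.mk'_surjective N)]; exact h _

theorem exists_involution_of_not_odd [Finite G] {N : Subgroup G} (h : ¬ Odd (Nat.card N)) :
    ∃ t ∈ N, orderOf t = 2 := by
  obtain ⟨t, ht⟩ := exists_prime_orderOf_dvd_card' (G := N) 2
    (even_iff_two_dvd.1 (Nat.not_odd_iff_even.1 h))
  exact ⟨t, t.2, by rw [orderOf_coe, ht]⟩

variable [Finite G] {P : Sylow 2 G}

namespace SD

theorem exists_data' (E : MC (P : Subgroup G) n (hh n) 0) (hn : 3 ≤ n) :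
    ∃ T Q, Nonempty (Data P T Q) := by
  obtain ⟨T, hT⟩ := E.exists_isS_K (j := 1) 0 (by simp)
  obtain ⟨Q, hQ⟩ := E.exists_isS_K (j := 2) 1 (by simpa using hh_mem_K (by decide))
  exact ⟨T, Q, ⟨⟨n, hn, E, 0, 1, hT, hQ, by simp, by simp⟩⟩⟩

theorem exists_data (hS : IsQuasiDihedral (P : Subgroup G)) : ∃ T Q, Nonempty (Data P T Q) := by
  obtain ⟨n, hn, ⟨E⟩⟩ := exists_MC_of_isQuasiDihedral hS
  exact exists_data' E hn

namespace Data
variable {T Q : Subgroup G} (D : Data P T Q)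

/-- restriction to a subgroup containing the Sylow subgroup -/
def subgroupOf {H : Subgroup G} (h : (P : Subgroup G) ≤ H) :
    Data (P.subtype h) (T.subgroupOf H) (Q.subgroupOf H) :=
  ⟨D.n, D.hn, D.E.subgroupOf h, D.dT, D.dQ, D.hT.subgroupOf h, D.hQ.subgroupOf h, D.eT, D.eQ⟩

include D in
theorem hasOdd_of_le_commutator (h : (P : Subgroup G) ≤ commutator G) : HasOdd T ∧ HasOdd Q := by
  constructor
  · by_contra hT
    obtain ⟨Y, hY⟩ := exists_quat D.E D.hn
    have := (hY.s_mem 0).1 (D.focal_le (fun b => (hY.r_mem b).2)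
      (fun h' => absurd h' hT) (fun _ => hY.self_mem) ⟨h (D.E.s_mem _), D.E.s_mem _⟩)
    exact D.one_not_mem (by simpa using this)
  · by_contra hQ
    obtain ⟨Y, hY⟩ := exists_dih D.E
    have := (hY.s_mem 1).1 (D.focal_le (fun b => (hY.r_mem b).2)
      (fun _ => hY.self_mem) (fun h' => absurd h' hQ) ⟨h (D.E.s_mem _), D.E.s_mem _⟩)
    exact D.one_not_mem (by simpa using this)

theorem isConj_all (hT : HasOdd T) {t : G} (ht : orderOf t = 2) : IsConj t (D.E.r (hh D.n)) :=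
  (D.involution_isConj ht).elim id (·.trans (D.isConj_two hT).symm)

theorem center_cases {x : G}
    (hx : x ∈ (P : Subgroup G) ⊓ centralizer ((P : Subgroup G) : Set G)) :
    x = 1 ∨ x = D.E.r (hh D.n) := by
  obtain ⟨a, ha, rfl⟩ := (D.E.isR_center_K (tw_hh D.hn) D.two_le).cases hx
  rcases (mem_K_one D.one_le).1 ha with rfl | rfl
  · exact Or.inl D.E.r_zero
  · exact Or.inr rfl

theorem z_mem : D.E.r (hh D.n) ∈ (P : Subgroup G) ⊓ centralizer ((P : Subgroup G) : Set G) :=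
  ((D.E.isR_center_K (tw_hh D.hn) D.two_le).r_mem _).2 (hh_mem_K le_rfl)

end Data
end SD

namespace WR

theorem exists_data₀ (hS : IsWreathed (P : Subgroup G)) : ∃ U V, Nonempty (Data P U V) := by
  obtain ⟨n, hn, ⟨E⟩⟩ := exists_WR hS
  obtain ⟨U, V, D, -⟩ := exists_data' E hn
  exact ⟨U, V, ⟨D⟩⟩

namespace Data
variable {U V : Subgroup G} (D : Data P U V)

/-- restriction to a subgroup containing the Sylow subgroup -/
def subgroupOf {H : Subgroup G} (h : (P : Subgroup G) ≤ H) :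
    Data (P.subtype h) (U.subgroupOf H) (V.subgroupOf H) :=
  ⟨D.n, D.hn, D.E.subgroupOf h, D.d, D.hU.subgroupOf h, D.hV.subgroupOf h, D.hd⟩

theorem z_mem :
    D.E.r (hh D.n, hh D.n) ∈ (P : Subgroup G) ⊓ centralizer ((P : Subgroup G) : Set G) :=
  ((D.E.isR_center' D.one_le).r_mem _).2 (diag_mem_Bj _)

theorem eq_z {x : G} (hx : x ∈ (P : Subgroup G) ⊓ centralizer ((P : Subgroup G) : Set G))
    (ho : orderOf x = 2) : x = D.E.r (hh D.n, hh D.n) := by
  obtain ⟨a, ha, rfl⟩ := (D.E.isR_center' D.one_le).cases hx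
  obtain ⟨h1, h2⟩ := D.E.orderOf_r_eq_two.1 ho
  have h3 := mem_Bj_zero.1 ha
  rcases Om_cases D.one_le (mem_Om'.2 h1) with rfl | rfl | rfl | rfl
  · exact absurd rfl h2
  · rfl
  · exact absurd h3 (hh_ne_zero D.one_le)
  · exact absurd h3.symm (hh_ne_zero D.one_le)

theorem z_ne_u : D.E.r (hh D.n, 0) ≠ D.E.r (hh D.n, hh D.n) := fun h =>
  hh_ne_zero D.one_le (congrArg Prod.snd (D.E.r_inj.1 h)).symm

end Data
end WR

theorem qd_center (hS : IsQuasiDihedral (P : Subgroup G) ∨ IsWreathed (P : Subgroup G)) :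
    (∃ z ∈ (P : Subgroup G) ⊓ centralizer ((P : Subgroup G) : Set G), orderOf z = 2) ∧
    (∃ w, zpowers w = (P : Subgroup G) ⊓ centralizer ((P : Subgroup G) : Set G)) ∧
    ¬ (P : Subgroup G) ≤ centralizer ((P : Subgroup G) : Set G) := by
  rcases hS with hS | hS
  · obtain ⟨T, Q, ⟨D⟩⟩ := SD.exists_data hS
    have hZ := D.E.isR_center_K (tw_hh D.hn) D.two_le
    exact ⟨⟨_, D.z_mem, SD.orderOf_r_hh D.E D.hn⟩, ⟨_, (D.E.isR_zpowers_K D.one_le).unique hZ⟩,
      fun h => hZ.s_not_mem 0 ⟨D.E.s_mem 0, h (D.E.s_mem 0)⟩⟩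
  · obtain ⟨U, V, ⟨D⟩⟩ := WR.exists_data₀ hS
    have hZ := D.E.isR_center' D.one_le
    exact ⟨⟨_, D.z_mem, D.E.orderOf_z D.one_le⟩, ⟨_, D.E.isR_zpowers_diag.unique hZ⟩,
      fun h => hZ.s_not_mem 0 ⟨D.E.s_mem 0, h (D.E.s_mem 0)⟩⟩

theorem qd_isConj (hS : IsQuasiDihedral (P : Subgroup G) ∨ IsWreathed (P : Subgroup G))
    (hG : ∀ H : Subgroup G, H.index ≠ 2) {a b : G} (ha : orderOf a = 2) (hb : orderOf b = 2) :
    IsConj a b := by
  have h := sylow_le_commutator_of_no_index_two P hG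
  rcases hS with hS | hS
  · obtain ⟨T, Q, ⟨D⟩⟩ := SD.exists_data hS
    have h1 := (D.hasOdd_of_le_commutator h).1
    exact (D.isConj_all h1 ha).trans (D.isConj_all h1 hb).symm
  · obtain ⟨U, V, ⟨D⟩⟩ := WR.exists_data₀ hS
    obtain ⟨h1, h2⟩ := D.hasOdd_of_le_commutator h
    exact (D.isConj_all h1 h2 ha).trans (D.isConj_all h1 h2 hb).symm

theorem qd_central (hS : IsQuasiDihedral (P : Subgroup G) ∨ IsWreathed (P : Subgroup G))
    (hG : ∀ H : Subgroup G, H.index ≠ 2) {x : G} (hx : orderOf x = 2)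
    (hxP : x ∈ (P : Subgroup G) ⊓ centralizer ((P : Subgroup G) : Set G)) :
    ∃ R : Sylow 2 (centralizer ({x} : Set G)), Nat.card R = Nat.card P ∧
      (∃ K : Subgroup (centralizer ({x} : Set G)), K.Normal ∧ (∃ a : ℕ, K.index = 2 ^ a) ∧
        (∀ H : Subgroup K, H.index ≠ 2) ∧ (∀ R' : Sylow 2 K, ∃ m : ℕ, 1 ≤ m ∧
          Nonempty ((R' : Subgroup K) ≃* QuaternionGroup (2 ^ m)))) ∧
      ∀ Z₀ : Subgroup (centralizer ({x} : Set G)),
        Z₀ ≤ (center (R : Subgroup (centralizer ({x} : Set G)))).map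
          (R : Subgroup (centralizer ({x} : Set G))).subtype →
        IsWeaklyClosed Z₀ (R : Subgroup (centralizer ({x} : Set G))) := by
  have h := sylow_le_commutator_of_no_index_two P hG
  have hP : (P : Subgroup G) ≤ centralizer ({x} : Set G) := fun g hg =>
    mem_centralizer_singleton_iff.2 (mem_centralizer_iff.1 hxP.2 g hg)
  refine ⟨P.subtype hP, H2.card_subgroupOf_of_le hP, ?_⟩
  rcases hS with hS | hS
  · obtain ⟨T, Q, ⟨D⟩⟩ := SD.exists_data hS
    obtain rfl := (D.center_cases hxP).resolve_left (ne_one_of_orderOf_two hx)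
    have hT : ¬ HasOdd (T.subgroupOf _) := fun h' =>
      D.E.s_ne_r _ _ (eq_of_isConj_of_centralizer rfl ((D.subgroupOf hP).isConj_two h'))
    have hQ : HasOdd (Q.subgroupOf (centralizer {D.E.r (hh D.n)})) := by
      refine (D.hasOdd_of_le_commutator h).2.subgroupOf (D.hQ.le.trans hP) fun g hg => ?_
      obtain ⟨f⟩ := D.equivQ
      have h1 := (D.hQ.r_mem _).2 (hh_mem_K (n := D.n) (j := 2) (by decide))
      have h2 := mul_self_of_orderOf_two hx
      rw [mem_centralizer_singleton_iff, ← mul_inv_eq_iff_eq_mul]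
      exact q8_unique_involution f (conj_mem_of_mem_normalizer hg h1) h1 (conj_mul_self h2 g) h2
        (ne_one_of_orderOf_two (by rw [orderOf_conj', hx])) (ne_one_of_orderOf_two hx)
    obtain ⟨K, h1, h2, h3, h4⟩ := (D.subgroupOf hP).quat_case hT hQ
    refine ⟨⟨K, h1, ⟨1, h2⟩, h4, h3⟩, fun Z₀ hZ => ?_⟩
    rw [map_center_eq] at hZ
    refine ⟨hZ.trans inf_le_left, fun g _ => cj_eq_of_le (cj_le_iff.2 fun a ha => ?_)⟩
    rcases (D.subgroupOf hP).center_cases (hZ ha) with rfl | rfl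
    · simp
    · convert ha using 1
      exact Subtype.ext (eq_of_isConj_of_centralizer rfl (isConj_conj g _))
  · obtain ⟨U, V, ⟨D⟩⟩ := WR.exists_data₀ hS
    obtain rfl := D.eq_z hxP hx
    have hU : ¬ HasOdd (U.subgroupOf _) := fun h' =>
      D.z_ne_u (eq_of_isConj_of_centralizer rfl ((D.subgroupOf hP).isConj_U h'))
    have hV : HasOdd (V.subgroupOf (centralizer {D.E.r (hh D.n, hh D.n)})) := by
      refine (D.hasOdd_of_le_commutator h).2.subgroupOf (D.hV.le.trans hP) fun g hg => ?_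
      exact mem_centralizer_singleton_iff.2 (mem_centralizer_iff.1 (WR.normalizer_Z_le D.E D.one_le
        (WR.normalizer_V_le D.one_le D.hV le_rfl hg)) _ hxP).symm
    obtain ⟨K, h1, h2, h3, h4⟩ := (D.subgroupOf hP).quat_case hU hV
    exact ⟨⟨K, h1, ⟨_, h2⟩, h4, h3⟩, (D.subgroupOf hP).weaklyClosed hU⟩

theorem qd_exists_central (hS : IsQuasiDihedral (P : Subgroup G) ∨ IsWreathed (P : Subgroup G))
    (hG : ∀ H : Subgroup G, H.index ≠ 2) {x : G} (hx : orderOf x = 2) :
    ∃ P' : Sylow 2 G, (IsQuasiDihedral (P' : Subgroup G) ∨ IsWreathed (P' : Subgroup G)) ∧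
      Nat.card P' = Nat.card P ∧
      x ∈ (P' : Subgroup G) ⊓ centralizer ((P' : Subgroup G) : Set G) := by
  obtain ⟨⟨z, hz, ho⟩, -⟩ := qd_center hS
  obtain ⟨g, rfl⟩ := isConj_iff.1 (qd_isConj hS hG ho hx)
  refine ⟨g • P, qd_of_equiv (cjEquiv g P) hS, card_cj g P, ?_⟩
  rw [coe_smul_sylow, ← cj_centralizer, ← cj_inf]
  exact conj_mem_cj hz

theorem qd_le_of_normal (hS : IsQuasiDihedral (P : Subgroup G) ∨ IsWreathed (P : Subgroup G))
    (hG : ∀ H : Subgroup G, H.index ≠ 2) (N : Subgroup G) [N.Normal] {t : G} (htN : t ∈ N)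
    (ht : orderOf t = 2) : (P : Subgroup G) ≤ N := by
  have h := sylow_le_commutator_of_no_index_two P hG
  have h1 : ∀ u : G, orderOf u = 2 → u ∈ N := fun u hu =>
    mem_of_isConj_of_normal N (qd_isConj hS hG ht hu) htN
  rcases hS with hS | hS
  · obtain ⟨T, Q, ⟨D⟩⟩ := SD.exists_data hS
    have h0 := h1 _ (SD.orderOf_s_zero D.E)
    have h2 := N.mul_mem (h1 _ (D.E.orderOf_s_two.2 (SD.sq_zero_iff.2 D.qq_mem))) (N.inv_mem h0)
    rw [D.E.s_mul_s_inv, sub_zero] at h2
    exact D.E.le_of_s_zero_one h0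
      (mem_of_isConj_of_normal N (D.isConj_four (D.hasOdd_of_le_commutator h).2) h2)
  · obtain ⟨U, V, ⟨D⟩⟩ := WR.exists_data₀ hS
    have hn := D.one_le
    have h0 := h1 _ D.E.orderOf_s_zero
    have h2 : ∀ a ∈ Cj D.n 0, D.E.r a ∈ N := fun a ha => by
      have := N.mul_mem (h1 _ (D.E.orderOf_s_two.2 (mem_Cj_zero.1 ha))) (N.inv_mem h0)
      rwa [D.E.s_mul_s_inv, sub_zero] at this
    obtain ⟨g, hg, hφ, hne⟩ := (D.hasOdd_of_le_commutator h).1.exists_conj
    have hfpf := WR.oddAut_U_fixedPointFree hn D.hU hφ hne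
    have hU : ∀ a, D.E.r a ∈ U := fun a => (D.hU.r_mem a).2 trivial
    obtain ⟨a, -, ha⟩ := D.hU.cases (hφ.mem _ (hU (1, -1)))
    have h3 : D.E.r a ∈ N := ha ▸ mem_of_isConj_of_normal N (isConj_conj g _) (h2 _ (anti_mem_Cj 1))
    have h4 : a.1 + a.2 ∉ K D.n (D.n - 1) := by
      intro h4
      have h5 := hφ.pow (hU (1, -1)) (2 ^ (D.n - 1))
      have e : (2 ^ (D.n - 1) : ℕ) • ((1, -1) : WA D.n) = (hh D.n, hh D.n) := by
        ext
        · simp [hh]
        · simpa [hh] using neg_hh hn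
      have e' : (2 ^ (D.n - 1) : ℕ) • a = (hh D.n * a.1, hh D.n * a.1) := by
        have h6 : hh D.n * (a.1 + a.2) = 0 := h4
        have h7 := two_mul_hh hn
        ext
        · simp [hh]
        · rw [Prod.smul_snd, nsmul_eq_mul, natCast_two_pow]
          change hh D.n * a.2 = _
          linear_combination h6 - a.1 * h7
      rw [ha, D.E.r_pow, D.E.r_pow, e, e'] at h5
      have h8 := ne_one_of_orderOf_two (D.E.orderOf_z hn)
      rcases (mem_K_one hn).1 (mem_K_mul (hh_mem_K (n := D.n) le_rfl) a.1) with h9 | h9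
      · rw [h9] at h5
        exact h8 ((hφ.eq_one_iff (hU _)).1 (h5.trans D.E.r_zero))
      · rw [h9] at h5
        exact h8 (hfpf _ (hU _) h5)
    refine D.E.le_of_U (fun b => ?_) h0
    obtain ⟨v, hv⟩ := (isUnit_of_not_mem hn h4).exists_left_inv
    obtain ⟨m, hm⟩ := ZMod.intCast_surjective ((b.1 + b.2) * v)
    have := N.mul_mem (h2 (b - m • a) (by
      rw [mem_Cj_zero]
      rw [Prod.fst_sub, Prod.snd_sub, Prod.smul_fst, Prod.smul_snd, zsmul_eq_mul, zsmul_eq_mul, hm]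
      linear_combination -(b.1 + b.2) * hv)) (N.zpow_mem h3 m)
    rwa [D.E.r_zpow, D.E.r_mul_r, sub_add_cancel] at this

theorem odd_index_of_sylow_le {L : Subgroup G} (h : (P : Subgroup G) ≤ L) : Odd L.index :=
  odd_of_coprime_two ((H3.sylow_index_coprime P).coprime_dvd_left (index_dvd_of_le h))

theorem qd_simple (hS : IsQuasiDihedral (P : Subgroup G) ∨ IsWreathed (P : Subgroup G))
    (hG : ∀ H : Subgroup G, H.index ≠ 2) (hO : oddCore G = ⊥) :
    ∃ L : Subgroup G, L.Normal ∧ Odd L.index ∧ IsSimpleGroup L ∧ ¬ IsMulCommutative L := by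
  obtain ⟨⟨z, hz, ho⟩, -, hnc⟩ := qd_center hS
  set L := normalClosure ((P : Subgroup G) : Set G)
  have hPL : (P : Subgroup G) ≤ L := le_normalClosure
  have key : ∀ N : Subgroup G, N.Normal → N ≠ ⊥ → L ≤ N := by
    intro N _ hN
    obtain ⟨t, ht, ht2⟩ := exists_involution_of_not_odd (N := N) fun h =>
      hN (le_bot_iff.1 (hO ▸ H2.le_pPrimeCore inferInstance (Nat.coprime_two_right.2 h)))
    exact normalClosure_le_normal (qd_le_of_normal hS hG N ht ht2)
  have hL : ∀ H : Subgroup L, H.index ≠ 2 := by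
    rw [← pResidual_two_eq_top_iff]
    by_cases h : (pResidual 2 L).map L.subtype = ⊥
    · exfalso
      rw [map_eq_bot_iff_of_injective _ L.subtype_injective, H3.pResidual_eq_bot_iff] at h
      have h1 : L = P := P.is_maximal' h hPL
      have h2 : ((P : Subgroup G) ⊓ centralizer ((P : Subgroup G) : Set G)).Normal := by
        rw [← h1]; infer_instance
      exact hnc ((qd_le_of_normal hS hG _ hz ho).trans inf_le_right)
    · exact top_le_iff.1 fun x _ => by
        obtain ⟨y, hy, e⟩ := key _ inferInstance h x.2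
        rwa [← show y = x from Subtype.ext e]
  have hOL : oddCore L = ⊥ := by
    have : (oddCore L).map L.subtype ≤ oddCore G := H2.map_subtype_pPrimeCore_le 2 L
    rwa [hO, le_bot_iff, map_eq_bot_iff_of_injective _ L.subtype_injective] at this
  have hR := qd_of_equiv (subgroupOfEquivOfLe hPL).symm hS
  have : Nontrivial L := ⟨⟨⟨z, hPL hz.1⟩, 1, fun h => ne_one_of_orderOf_two ho
    (congrArg Subtype.val h)⟩⟩
  refine ⟨L, inferInstance, odd_index_of_sylow_le hPL, ⟨fun M hM => ?_⟩, fun h => hnc fun x hx =>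
    mem_centralizer_iff.2 fun y hy => setLike_mul_comm (hPL hy) (hPL hx)⟩
  rw [or_iff_not_imp_left]
  intro hM'
  obtain ⟨t, ht, ht2⟩ := exists_involution_of_not_odd (N := M) fun h =>
    hM' (le_bot_iff.1 (hOL ▸ H2.le_pPrimeCore hM (Nat.coprime_two_right.2 h)))
  have h1 := qd_le_of_normal (P := P.subtype hPL) hR hL M ht ht2
  have h2 : L ≤ M.map L.subtype := by
    refine (closure_le _).2 fun x hx => ?_
    obtain ⟨a, ha, hax⟩ := Group.mem_conjugatesOfSet_iff.1 hx
    have hxL : x ∈ L := mem_of_isConj_of_normal L hax (hPL ha)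
    obtain ⟨k, hk⟩ := isPGroup_iff_forall_mem.1 P.isPGroup' a ha
    obtain ⟨g, hg⟩ := sylow_exists_conj_mem (P.subtype hPL) (a := ⟨x, hxL⟩) (k := k) (by
      obtain ⟨c, rfl⟩ := isConj_iff.1 hax
      exact Subtype.ext (by simp [conj_pow, hk]))
    exact ⟨_, mem_of_isConj_of_normal M (isConj_conj g _).symm (h1 hg), rfl⟩
  exact top_le_iff.1 fun x _ => by
    obtain ⟨y, hy, e⟩ := h2 x.2
    rwa [← show y = x from Subtype.ext e]

theorem qd_simple_quotient (hS : IsQuasiDihedral (P : Subgroup G) ∨ IsWreathed (P : Subgroup G))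
    (hG : ∀ H : Subgroup G, H.index ≠ 2) :
    ∃ L : Subgroup (G ⧸ oddCore G), L.Normal ∧ Odd L.index ∧ IsSimpleGroup L ∧
      ¬ IsMulCommutative L := by
  obtain ⟨e⟩ := sylow_equiv_mapSurjective P (oddCore G) (H2.pPrimeCore_coprime 2 G)
  exact qd_simple (qd_of_equiv e hS) (no_index_two_quotient _ hG)
    (H2.pPrimeCore_quotient_pPrimeCore 2 G)

/-- the statement of Glauberman's `Z*`-theorem -/
def ZStar : Prop := ∀ {G : Type u} [Group G] [Finite G] (P : Sylow 2 G) (u : G),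
  orderOf u = 2 → u ∈ P → (∀ g : G, g * u * g⁻¹ ∈ P → g * u * g⁻¹ = u) →
  ∃ N : Subgroup G, N.Normal ∧ Odd (Nat.card N) ∧ ∀ g : G, (u * g * u⁻¹ * g⁻¹) ∈ N

theorem isolated_quotient_of_normal {p : ℕ} [Fact p.Prime] (P : Sylow p G) (N : Subgroup G)
    [N.Normal] {x : G} (hx : x ∈ P) (h : ∀ g : G, g * x * g⁻¹ ∈ P → g * x * g⁻¹ = x) (g : G ⧸ N)
    (hg : g * x * g⁻¹ ∈ P.mapSurjective (QuotientGroup.mk'_surjective N)) : g * x * g⁻¹ = x := by
  obtain ⟨g, rfl⟩ := QuotientGroup.mk_surjective g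
  obtain ⟨y, hy, e⟩ := hg
  have h1 : g * x * g⁻¹ ∈ (P : Subgroup G) ⊔ N := by
    have : y⁻¹ * (g * x * g⁻¹) ∈ N := QuotientGroup.eq.1 e
    simpa using mul_mem (mem_sup_left hy) (mem_sup_right this)
  obtain ⟨k, hk⟩ := isPGroup_iff_forall_mem.1 P.isPGroup' x hx
  obtain ⟨c, hc, h2⟩ := (sylIn_of_sylow_le P (le_sup_left : _ ≤ (P : Subgroup G) ⊔ N)).exists_cj_le
    (zpowers_le.2 h1) (isPGroup_zpowers (k := k) (by rw [conj_pow, hk]; simp))
  have h3 := h (c * g) (by
    have := h2 (conj_mem_cj (g := c) (mem_zpowers _))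
    rwa [show c * (g * x * g⁻¹) * c⁻¹ = c * g * x * (c * g)⁻¹ by group] at this)
  obtain ⟨s, hs, m, hm, rfl⟩ := (mem_sup_of_le_normalizer le_normalizer_of_normal).1 hc
  have h4 := h s⁻¹ (by rw [inv_inv]; exact P.mul_mem (P.mul_mem (P.inv_mem hs) hx) hs)
  have h5 : g * x * g⁻¹ = m⁻¹ * x * m := by
    conv_rhs => rw [← h4, ← h3]
    group
  rw [← QuotientGroup.mk_inv, ← QuotientGroup.mk_mul, ← QuotientGroup.mk_mul, h5,
    QuotientGroup.mk_mul, QuotientGroup.mk_mul, QuotientGroup.mk_inv,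
    (QuotientGroup.eq_one_iff m).2 hm]
  simp

theorem central_mod_core_aux (hZ : ZStar.{u}) (m : ℕ) : ∀ (G : Type u) [Group G] [Finite G],
    Nat.card G ≤ m → ∀ (P : Sylow 2 G) (w : G), w ∈ P →
      (∀ x ∈ zpowers w, ∀ g : G, g * x * g⁻¹ ∈ P → g * x * g⁻¹ = x) →
      ∀ g : G, w⁻¹ * (g * w * g⁻¹) ∈ oddCore G := by
  induction m with
  | zero => intro G _ _ h; exact absurd h (by simpa using Nat.card_pos.ne')
  | succ m ih =>
    intro G _ _ hG P w hw h g
    have quot : ∀ (N : Subgroup G) [N.Normal], N ≠ ⊥ →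
        ((w⁻¹ * (g * w * g⁻¹) : G) : G ⧸ N) ∈ oddCore (G ⧸ N) := by
      intro N _ hN
      refine ih (G ⧸ N) ?_ (P.mapSurjective (QuotientGroup.mk'_surjective N)) w ⟨w, hw, rfl⟩ ?_ g
      · have h1 := N.card_eq_card_quotient_mul_card_subgroup
        have h2 : 1 < Nat.card N := N.one_lt_card_iff_ne_bot.2 hN
        have h3 : 0 < Nat.card (G ⧸ N) := Nat.card_pos
        nlinarith
      · rintro _ ⟨k, rfl⟩ g hg
        exact isolated_quotient_of_normal P N (x := w ^ k) (P.zpow_mem hw k)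
          (h _ ⟨k, rfl⟩) g hg
    by_cases hO : oddCore G = ⊥
    swap
    · have := quot _ hO
      rwa [show oddCore (G ⧸ oddCore G) = ⊥ from H2.pPrimeCore_quotient_pPrimeCore 2 G, mem_bot,
        QuotientGroup.eq_one_iff] at this
    by_cases hw1 : w = 1
    · simp [hw1]
    obtain ⟨z, hz, ho⟩ := exists_involution_of_not_odd (N := zpowers w) fun h' =>
      hw1 (H3.eq_one_of_mem_of_coprime P.isPGroup' hw
        (by rw [← Nat.card_zpowers]; exact Nat.coprime_two_right.2 h'))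
    have hzP : z ∈ P := zpowers_le.2 hw hz
    obtain ⟨N, hN, hodd, hzN⟩ := hZ P z ho hzP (h z hz)
    have hN' : N = ⊥ := le_bot_iff.1 (hO ▸ H2.le_pPrimeCore hN (Nat.coprime_two_right.2 hodd))
    have hc : ∀ g : G, g * z * g⁻¹ = z := fun g => by
      have := hzN g
      rw [hN', mem_bot, mul_inv_eq_one, mul_inv_eq_iff_eq_mul] at this
      rw [← this, mul_inv_cancel_right]
    have : (zpowers z).Normal := ⟨by
      rintro _ ⟨k, rfl⟩ g
      exact ⟨k, by rw [← conj_zpow, hc]⟩⟩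
    have h1 := quot (zpowers z) (by rw [Ne, zpowers_eq_bot]; exact ne_one_of_orderOf_two ho)
    have h2 : (oddCore (G ⧸ zpowers z)).comap (QuotientGroup.mk' _) ≤ zpowers z ⊔ oddCore G := by
      refine H13.le_sup_pPrimeCore_of_central (P.isPGroup'.to_le (zpowers_le.2 hzP))
        (fun g _ => mem_centralizer_iff.2 ?_) ?_
      · rintro _ ⟨k, rfl⟩
        exact (mul_inv_eq_iff_eq_mul.1 (by rw [← conj_zpow, hc])).symm
      · have h3 := H2.card_mul_relIndex (H := zpowers z)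
          (K := (oddCore (G ⧸ zpowers z)).comap (QuotientGroup.mk' _)) fun x hx => by
            rw [mem_comap, QuotientGroup.mk'_apply, (QuotientGroup.eq_one_iff x).2 hx]
            exact one_mem _
        rw [H2.card_comap_mk'] at h3
        rw [Nat.eq_of_mul_eq_mul_left Nat.card_pos h3]
        exact H2.pPrimeCore_coprime 2 _
    have h3 := h2 h1
    rw [hO, sup_bot_eq] at h3
    rw [h w (mem_zpowers w) g ((P.mul_mem_cancel_left (P.inv_mem hw)).1 (zpowers_le.2 hzP h3))]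
    simp

theorem normal_core_sup_zpowers {G : Type u} [Group G] [Finite G] (hZ : ZStar.{u})
    (P : Sylow 2 G) {w : G} (hw : w ∈ P)
    (h : ∀ x ∈ zpowers w, ∀ g : G, g * x * g⁻¹ ∈ P → g * x * g⁻¹ = x) :
    (oddCore G ⊔ zpowers w).Normal := by
  rw [← normalizer_eq_top_iff, eq_top_iff]
  intro g _
  rw [← cj_eq_iff]
  refine cj_eq_of_le ?_
  rw [cj_sup, cj_eq_of_normal, cj_zpowers]
  refine sup_le le_sup_left (zpowers_le.2 ?_)
  simpa using mul_mem (mem_sup_right (mem_zpowers w))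
    (mem_sup_left (central_mod_core_aux hZ _ G le_rfl P w hw h g))

theorem qd_isolated {G : Type u} [Group G] [Finite G] (hZ : ZStar.{u}) (P : Sylow 2 G)
    (hS : IsQuasiDihedral (P : Subgroup G) ∨ IsWreathed (P : Subgroup G)) {z : G} (hzP : z ∈ P)
    (hz : IsIsolatedInvolution z) :
    (oddCore G ⊔ (center (P : Subgroup G)).map (P : Subgroup G).subtype).Normal := by
  obtain ⟨-, ⟨w, hw⟩, -⟩ := qd_center hS
  rw [map_center_eq, ← hw]
  refine normal_core_sup_zpowers hZ P (hw.le (mem_zpowers w)).1 ?_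
  rw [hw]
  rcases hS with hS | hS
  · obtain ⟨T, Q, ⟨D⟩⟩ := SD.exists_data hS
    have he := tw_hh D.hn
    rcases SD.involution_cases D.E D.hn hzP hz.1 with rfl | ⟨a, -, rfl⟩
    · intro x hx g hg
      rcases D.center_cases hx with rfl | rfl
      · simp
      · exact hz.2 g (mem_centralizer_iff.1 hx.2 _ hg).symm
    · exfalso
      have h1 : qq D.n - sig (hh D.n) (qq D.n) = hh D.n := by
        rw [he.sig_eq_neg D.qq_mem, sub_neg_eq_add, qq_add_qq D.two_le]
      have := hz.2 (D.E.r (qq D.n)) (by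
        rw [D.E.r_conj_s, h1]
        exact D.E.s_comm_s.2 (he.sig_eq_self.2 (by simpa using hh_mem_K le_rfl)))
      rw [D.E.r_conj_s, h1, D.E.s_inj] at this
      exact hh_ne_zero D.one_le (by simpa using this)
  · obtain ⟨U, V, ⟨D⟩⟩ := WR.exists_data₀ hS
    have hn := D.one_le
    rcases D.E.involution_cases hn hzP hz.1 with rfl | (rfl | rfl) | ⟨a, -, rfl⟩
    · refine fun x hx g hg => D.center_conj_eq (fun h => ?_) hx hg
      obtain ⟨g, hg⟩ := isConj_iff.1 (D.isConj_U h)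
      exact D.z_ne_u (hg.symm.trans (hz.2 g (hg ▸ D.E.r_comm_r _ _)))
    · have := hz.2 (D.E.s 0) (by rw [D.E.s_conj_r]; exact D.E.r_comm_r _ _)
      rw [D.E.s_conj_r, D.E.r_inj] at this
      exact absurd (congrArg Prod.snd this) (hh_ne_zero hn)
    · have := hz.2 (D.E.s 0) (by rw [D.E.s_conj_r]; exact D.E.r_comm_r _ _)
      rw [D.E.s_conj_r, D.E.r_inj] at this
      exact absurd (congrArg Prod.fst this) (hh_ne_zero hn)
    · have := hz.2 (D.E.r (hh D.n, 0)) (by
        rw [D.E.r_conj_s]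
        exact D.E.s_comm_s.2 (sw_eq_self.2 (by simp [mem_Bj_zero, neg_hh hn])))
      rw [D.E.r_conj_s, D.E.s_inj] at this
      exact absurd (by simpa using congrArg Prod.fst this) (hh_ne_zero hn)

theorem core_mul_centralizer {G : Type u} [Group G] [Finite G] (hZ : ZStar.{u}) (P : Sylow 2 G)
    {w : G} (hw : w ∈ (P : Subgroup G) ⊓ centralizer ((P : Subgroup G) : Set G))
    (h : ∀ Z₀ : Subgroup G, Z₀ ≤ zpowers w → IsWeaklyClosed Z₀ (P : Subgroup G)) (g : G) :
    ∃ o ∈ oddCore G, ∃ c ∈ centralizer (zpowers w : Set G), g = o * c := by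
  have hc : ∀ x ∈ zpowers w, normalizer (zpowers x : Set G) ≤ centralizer (zpowers x : Set G) := by
    intro x hx
    have hx' := zpowers_le.2 (zpowers_le.2 hw hx)
    exact normalizer_le_centralizer_of_cyclic P (hx'.trans inf_le_left) fun s hs =>
      mem_centralizer_iff.2 fun y hy => (mem_centralizer_iff.1 (hx' hy).2 s hs).symm
  have hN := normal_core_sup_zpowers hZ P hw.1 fun x hx g hg => by
    refine conj_eq_of_mem_centralizer (hc x hx (cj_eq_iff.1 ((h _ (zpowers_le.2 hx)).2 g ?_)))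
      (mem_zpowers x)
    change cj g _ ≤ _
    rw [cj_zpowers]; exact zpowers_le.2 hg
  have h1 := (sylIn_top P).inf_normal (K := oddCore G ⊔ zpowers w) le_top le_normalizer_of_normal
  have h2 : (P : Subgroup G) ⊓ (oddCore G ⊔ zpowers w) = zpowers w := by
    refine le_antisymm ?_ (le_inf (zpowers_le.2 hw.1) le_sup_right)
    rintro s ⟨hs, hs'⟩
    rw [sup_comm] at hs'
    obtain ⟨y, hy, o, ho, rfl⟩ := (mem_sup_of_le_normalizer le_normalizer_of_normal).1 hs'
    rw [H3.eq_one_of_mem_of_coprime P.isPGroup'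
      ((P.mul_mem_cancel_left (zpowers_le.2 hw.1 hy)).1 hs)
      (H3.orderOf_coprime_of_mem (H2.pPrimeCore_coprime 2 G) ho), mul_one]
    exact hy
  rw [h2] at h1
  obtain ⟨k, hk, h3⟩ := h1.frattini (H := ⊤) le_normalizer_of_normal (mem_top g)
  rw [sup_comm] at hk
  obtain ⟨y, hy, o, ho, rfl⟩ := (mem_sup_of_le_normalizer le_normalizer_of_normal).1 hk
  refine ⟨o⁻¹, inv_mem ho, y⁻¹ * (y * o * g), mul_mem (inv_mem (hc w (mem_zpowers w)
    (le_normalizer hy))) (hc w (mem_zpowers w) h3), by group⟩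

end H22
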