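import Mathlib
import Cfsg.Prelude.Def_TwoFusion
import Cfsg.Agent.H3.MaxClass
import Cfsg.Agent.H22.MCFusion
import Cfsg.Agent.H22.U34Model

/-!
# Sylow 2-subgroups of groups of 2-rank two without isolated involutions
-/

set_option autoImplicit false
set_option linter.unusedSectionVars false

namespace H22

open Subgroup
open scoped commutatorElement

section PGroup
variable {G : Type*} [Group G] [Finite G]

theorem quaternion_unique_invol {n : ℕ} (e : G ≃* QuaternionGroup n) {x y : G} (hx : x * x = 1)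
    (hy : y * y = 1) (hx1 : x ≠ 1) (hy1 : y ≠ 1) : x = y := by
  have : NeZero n := ⟨by
    rintro rfl
    have : Finite (QuaternionGroup 0) := Finite.of_equiv G e.toEquiv
    have : Finite (ZMod (2 * 0)) := Finite.of_injective (QuaternionGroup.a : ZMod (2 * 0) → _)
      fun _ _ h => QuaternionGroup.a.inj h
    exact not_finite (ZMod 0)⟩
  have key : ∀ x : QuaternionGroup n, x * x = 1 → x ≠ 1 → x = QuaternionGroup.a n := by
    rintro (i | i) h h1
    · have h2 : i + i = 0 := QuaternionGroup.a.inj h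
      rcases (ZMod.neg_eq_self_iff i).1 (neg_eq_of_add_eq_zero_left h2) with rfl | h3
      · exact absurd rfl h1
      · rw [← ZMod.natCast_zmod_val i, show i.val = n by omega]
    · have := QuaternionGroup.orderOf_xa i
      have h2 := orderOf_dvd_of_pow_eq_one (show (QuaternionGroup.xa i) ^ 2 = 1 by rwa [sq])
      rw [this] at h2
      omega
  refine e.injective ((key _ ?_ ?_).trans (key _ ?_ ?_).symm)
  · rw [← map_mul, hx, map_one]
  · exact e.map_ne_one_iff.2 hx1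
  · rw [← map_mul, hy, map_one]
  · exact e.map_ne_one_iff.2 hy1

theorem rank_cases (h2 : Cfsg.PRankLE 2 2 G) {a b c : G} (ha : a * a = 1) (hb : b * b = 1)
    (hc : c * c = 1) (hab : Commute a b) (hac : Commute a c) (hbc : Commute b c) (ha1 : a ≠ 1)
    (hb1 : b ≠ 1) (hne : a ≠ b) : c = 1 ∨ c = a ∨ c = b ∨ c = a * b := by
  classical
  by_contra hcon
  push Not at hcon
  obtain ⟨h1, h2', h3, h4⟩ := hcon
  have hab1 : a * b ≠ 1 := fun e => hne (mul_left_cancel (ha.trans e.symm))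
  have hab2 : a * b ≠ a := fun e => hb1 (by simpa using e)
  have hab3 : a * b ≠ b := fun e => ha1 (by simpa using e)
  have hcomm : ∀ x ∈ ({a, b, c} : Set G), ∀ y ∈ ({a, b, c} : Set G), x * y = y * x := by
    rintro x (rfl | rfl | rfl) y (rfl | rfl | rfl)
    exacts [rfl, hab, hac, hab.symm, rfl, hbc, hac.symm, hbc.symm, rfl]
  have hA := isMulCommutative_closure hcomm
  have hle := h2 (closure {a, b, c}) hA fun x hx => by
    induction hx using closure_induction with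
    | mem x hx => rcases hx with rfl | rfl | rfl <;> rwa [sq]
    | one => simp
    | mul x y hx hy ex ey =>
      rw [(show Commute x y from H13.isMulCommutative_iff_forall_mem.1 hA x hx y hy).mul_pow, ex, ey,
        mul_one]
    | inv x hx ex => rw [inv_pow, ex, inv_one]
  have hsub : (({c, 1, a, b, a * b} : Finset G) : Set G) ⊆ (closure {a, b, c} : Subgroup G) := by
    intro x hx
    simp only [Finset.coe_insert, Finset.coe_singleton, Set.mem_insert_iff,
      Set.mem_singleton_iff] at hx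
    have m1 : a ∈ closure ({a, b, c} : Set G) := subset_closure (by simp)
    have m2 : b ∈ closure ({a, b, c} : Set G) := subset_closure (by simp)
    rcases hx with rfl | rfl | rfl | rfl | rfl
    exacts [subset_closure (by simp), one_mem _, m1, m2, mul_mem m1 m2]
  have hle2 := Set.ncard_le_ncard hsub
  rw [Set.ncard_coe_finset, ← Nat.card_coe_set_eq, SetLike.coe_sort_coe,
    Finset.card_insert_of_notMem (by simp [h1, h2', h3, h4]),
    Finset.card_insert_of_notMem (by simp [ha1.symm, hb1.symm, hab1.symm]),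
    Finset.card_insert_of_notMem (by simp [hne, hab2.symm]),
    Finset.card_insert_of_notMem (by simp [hab3.symm]), Finset.card_singleton] at hle2
  omega

theorem mem_zpowers_two {z x : G} (hz : z * z = 1) (hx : x ∈ zpowers z) : x = 1 ∨ x = z := by
  by_cases h : x = 1
  · exact Or.inl h
  by_cases h1 : z = 1
  · left; simpa [h1] using hx
  refine Or.inr ((eq_pow_of_mem_zpowers (k := 0) (by simpa [sq] using hz) (by simpa using h1) hx ?_
    h).trans (by simp))
  obtain ⟨k, rfl⟩ := hx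
  show z ^ k * z ^ k = 1
  rw [← (Commute.refl z).mul_zpow, hz, one_zpow]

/-- a 2-group with a self-centralizing four-group -/
theorem dihedral_or_qd_of_four (hG : IsPGroup 2 G) {a b : G} (ha : a * a = 1) (hb : b * b = 1)
    (hab : Commute a b) (ha1 : a ≠ 1) (hb1 : b ≠ 1) (hne : a ≠ b)
    (hC : ∀ c, Commute a c → Commute b c → c = 1 ∨ c = a ∨ c = b ∨ c = a * b) :
    (∃ m : ℕ, 2 ≤ m ∧ Nonempty (G ≃* DihedralGroup m)) ∨ Cfsg.IsQuasiDihedral G := by
  obtain ⟨h4, hA, hA2⟩ := H13.four_of_commute (x := a) (z := b) (by rwa [sq]) (by rwa [sq]) hb1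
    (fun e => (mem_zpowers_two hb e).elim ha1 hne) hab
  have m1 : a ∈ zpowers a ⊔ zpowers b := mem_sup_left (mem_zpowers a)
  have m2 : b ∈ zpowers a ⊔ zpowers b := mem_sup_right (mem_zpowers b)
  have hCA : centralizer ((zpowers a ⊔ zpowers b : Subgroup G) : Set G) = zpowers a ⊔ zpowers b := by
    refine le_antisymm (fun c hc => ?_) (le_centralizer _)
    rcases hC c (hc a m1) (hc b m2) with rfl | rfl | rfl | rfl
    exacts [one_mem _, m1, m2, mul_mem m1 m2]
  obtain ⟨n, hn⟩ := IsPGroup.iff_card.1 hG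
  by_cases h3 : 3 ≤ n
  · rcases H3.dihedral_or_quaternion_or_quasiDihedral_of_selfCentralizing h3 hn _ h4 hCA with
      e | ⟨⟨e⟩⟩ | e
    · exact Or.inl ⟨_, Nat.le_self_pow (n := n - 1) (by omega) 2, e⟩
    · exact absurd (quaternion_unique_invol e ha hb ha1 hb1) hne
    · exact Or.inr e
  · have htop : zpowers a ⊔ zpowers b = ⊤ := eq_top_of_le_card _ (by
      rw [h4, hn]; exact Nat.pow_le_pow_right two_pos (show n ≤ 2 by omega))
    have := H13.isKleinFour_of_card_of_sq h4 hA2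
    obtain ⟨e⟩ := IsKleinFour.nonempty_mulEquiv (G₁ := ↥(zpowers a ⊔ zpowers b))
      (G₂ := DihedralGroup 2)
    exact Or.inl ⟨2, le_rfl, ⟨(topEquiv.symm.trans (MulEquiv.subgroupCongr htop.symm)).trans e⟩⟩

/-- a 2-group of rank two is of maximal class or has a normal four-group -/
theorem exists_normal_four_or (hG : IsPGroup 2 G) (h2 : Cfsg.PRankLE 2 2 G) {a b : G}
    (ha : a * a = 1) (hb : b * b = 1) (ha1 : a ≠ 1) (hb1 : b ≠ 1) (hne : a ≠ b) :
    ((∃ m : ℕ, 2 ≤ m ∧ Nonempty (G ≃* DihedralGroup m)) ∨ Cfsg.IsQuasiDihedral G) ∨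
    ∃ z u : G, z * z = 1 ∧ u * u = 1 ∧ z ≠ 1 ∧ u ≠ 1 ∧ z ≠ u ∧ (∀ s, Commute z s) ∧
      ∀ s, s * u * s⁻¹ = u ∨ s * u * s⁻¹ = z * u := by
  by_cases hn : ∀ A : Subgroup G, A.Normal → IsMulCommutative A → IsCyclic A
  · left
    have hnc : ¬ IsCyclic G := fun hc => by
      obtain ⟨x, hx⟩ := hc.exists_generator
      obtain ⟨k, hk⟩ := IsPGroup.iff_orderOf.1 hG x
      obtain _ | k := k
      · exact ha1 (by simpa [orderOf_eq_one_iff.1 hk] using hx a)
      · have h1 : x ^ 2 ^ (k + 1) = 1 := hk ▸ pow_orderOf_eq_one x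
        have h3 := H13.pow_two_pow_pred_ne_one hk (Nat.lt_succ_self k)
        exact hne ((eq_pow_of_mem_zpowers h1 h3 (hx a) ha ha1).trans
          (eq_pow_of_mem_zpowers h1 h3 (hx b) hb hb1).symm)
    rcases (H13.cyclic_normal_abelian 2 hG hn hnc).2 with ⟨n, ⟨e⟩⟩ | ⟨n, h8, e⟩ | e
    · exact absurd (quaternion_unique_invol e ha hb ha1 hb1) hne
    · exact Or.inl ⟨n, by omega, e⟩
    · exact Or.inr e
  right
  push Not at hn
  obtain ⟨A, hAn, hA, hnc⟩ := hn
  have hAc := H13.isMulCommutative_iff_forall_mem.1 hA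
  let V : Subgroup G :=
    { carrier := {x | x ∈ A ∧ x * x = 1}
      one_mem' := ⟨A.one_mem, mul_one 1⟩
      inv_mem' := fun {x} hx => ⟨A.inv_mem hx.1, by rw [← mul_inv_rev, hx.2, inv_one]⟩
      mul_mem' := fun {x y} hx hy => ⟨A.mul_mem hx.1 hy.1, by
        rw [mul_assoc, ← mul_assoc y, hAc y hy.1 x hx.1, mul_assoc, hy.2, mul_one, hx.2]⟩ }
  have hVn : V.Normal := ⟨fun x hx g => ⟨hAn.conj_mem x hx.1 g, conj_mul_self hx.2 g⟩⟩
  obtain ⟨x, y, hx1, hx2, hy2, hyx⟩ : ∃ x y : A, x ≠ 1 ∧ x ^ 2 = 1 ∧ y ^ 2 = 1 ∧ y ∉ zpowers x := by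
    by_contra hcon
    push Not at hcon
    exact hnc (H2.UniqueOrderP.isCyclic_of_comm (hG.to_subgroup A) hcon)
  have hxV : (x : G) ∈ V := ⟨x.2, by rw [← sq]; exact congrArg Subtype.val hx2⟩
  have hyV : (y : G) ∈ V := ⟨y.2, by rw [← sq]; exact congrArg Subtype.val hy2⟩
  have hx1' : (x : G) ≠ 1 := fun e => hx1 (Subtype.ext e)
  have hy1' : (y : G) ≠ 1 := fun e => hyx (by rw [show y = 1 from Subtype.ext e]; exact one_mem _)
  have hxy : (x : G) ≠ y := fun e => hyx (by rw [← show x = y from Subtype.ext e]; exact mem_zpowers x)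
  have hV1 : V ≠ ⊥ := fun e => hx1' (mem_bot.1 (e ▸ hxV))
  obtain ⟨⟨z, hzV, hzC⟩, hz1⟩ := ne_bot_iff_exists_ne_one.1 (H13.inf_centralizer_ne_bot
    (hG.to_subgroup V) (hG.to_subgroup ⊤) le_normalizer_of_normal hV1)
  have hz1' : z ≠ 1 := fun e => hz1 (Subtype.ext e)
  have hzc : ∀ s, Commute z s := fun s => (hzC s (mem_sup_left (mem_top s))).symm
  obtain ⟨u, huV, hu1, hzu⟩ : ∃ u ∈ V, u ≠ 1 ∧ z ≠ u := by
    by_cases e : z = x
    · exact ⟨y, hyV, hy1', e ▸ hxy⟩
    · exact ⟨x, hxV, hx1', e⟩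
  refine ⟨z, u, hzV.2, huV.2, hz1', hu1, hzu, hzc, fun s => ?_⟩
  have hs := hVn.conj_mem u huV s
  rcases rank_cases h2 hzV.2 huV.2 hs.2 (hzc _) (hzc _) (hAc _ huV.1 _ hs.1) hz1' hu1 hzu with
    e | e | e | e
  · exact absurd (by simpa using e) hu1
  · exfalso
    refine hzu ?_
    rw [mul_inv_eq_iff_eq_mul, (hzc s).eq] at e
    exact (mul_left_cancel e).symm
  · exact Or.inl e
  · exact Or.inr e

theorem card_le_sq_of_involutive {Q : Type*} [Group Q] [Finite Q] (hc : ∀ x y : Q, x * y = y * x)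
    (h2 : ∀ x : Q, x * x = 1) (θ : Q →* Q) (hθ : ∀ x, θ (θ x) = x) :
    Nat.card Q ≤ Nat.card (θ.eqLocus (MonoidHom.id Q)) ^ 2 := by
  let δ : Q →* Q := MonoidHom.mk' (fun x => x * θ x) fun x y => by
    rw [map_mul, mul_assoc, mul_assoc, ← mul_assoc y, hc y, mul_assoc]
  have h1 : δ.ker ≤ θ.eqLocus (MonoidHom.id Q) := fun x hx => by
    have hx' : x * θ x = 1 := hx
    exact mul_left_cancel (hx'.trans (h2 x).symm)
  have h3 : δ.range ≤ θ.eqLocus (MonoidHom.id Q) := by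
    rintro _ ⟨x, rfl⟩
    show θ (x * θ x) = x * θ x
    rw [map_mul, hθ, hc]
  rw [← δ.ker.card_mul_index, index_ker, sq]
  exact Nat.mul_le_mul (card_le_of_le h1) (card_le_of_le h3)

theorem U34.fix_of_sq {α : MulAut G} (h : U34 G α) (θ : MulAut G)
    (hθ : ∀ x, x⁻¹ * θ (θ x) ∈ h.V) {u : G} (hu : u * u = 1) : θ u = u := by
  by_contra hne
  let θ' : G ⧸ h.V →* G ⧸ h.V := QuotientGroup.map _ _ (θ : G →* G) fun x hx => h.map_mem_V θ hx
  have hθ' : ∀ x : G, θ' x = (θ x : G) := fun _ => rfl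
  have hle := card_le_sq_of_involutive (Q := G ⧸ h.V) (fun x y => by
      obtain ⟨x, rfl⟩ := QuotientGroup.mk_surjective x
      obtain ⟨y, rfl⟩ := QuotientGroup.mk_surjective y
      rw [← commutatorElement_eq_one_iff_mul_comm]
      exact (QuotientGroup.eq_one_iff _).2 (h.commV x y))
    (fun x => by
      obtain ⟨x, rfl⟩ := QuotientGroup.mk_surjective x
      exact (QuotientGroup.eq_one_iff _).2 (h.sqV x)) θ'
    (fun x => by
      obtain ⟨x, rfl⟩ := QuotientGroup.mk_surjective x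
      exact (QuotientGroup.eq.2 (hθ x)).symm)
  have h16 : Nat.card (G ⧸ h.V) = 16 := by
    have := h.V.card_eq_card_quotient_mul_card_subgroup
    rw [h.card_eq, h.card_V] at this
    omega
  set M := θ'.eqLocus (MonoidHom.id _)
  have h3 : 2 < Nat.card M := by
    by_contra hcon
    have : Nat.card M ^ 2 ≤ 2 ^ 2 := Nat.pow_le_pow_left (by omega) 2
    omega
  obtain ⟨x, y, hx1, hy1, hxy⟩ : ∃ x y : M, x ≠ 1 ∧ y ≠ 1 ∧ x ≠ y := by
    have := Fintype.ofFinite M
    rw [Nat.card_eq_fintype_card] at h3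
    obtain ⟨a, b, c, hab, hac, hbc⟩ := Fintype.two_lt_card_iff.1 h3
    by_cases ha : a = 1
    · exact ⟨b, c, ha ▸ hab.symm, ha ▸ hac.symm, hbc⟩
    by_cases hb : b = 1
    · exact ⟨a, c, ha, hb ▸ hbc.symm, hac⟩
    · exact ⟨a, b, ha, hb, hab⟩
  have key : ∀ x : G, (x : G ⧸ h.V) ∈ M → θ (x * x) = x * x := by
    intro x hx
    have h1 : x⁻¹ * θ x ∈ h.V := QuotientGroup.eq.1 (Eq.symm hx)
    have h2 := h.sq_mul' x (x⁻¹ * θ x)
    rw [h.f_V x h1, show x⁻¹ * θ x * (x⁻¹ * θ x) = 1 from h1, mul_inv_cancel_left] at h2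
    rw [map_mul, h2, mul_one, mul_one]
  have uniq : ∀ a b : G, a * a = 1 → b * b = 1 → a ≠ 1 → b ≠ 1 → θ a = a → θ b = b → a = b := by
    intro a b ha hb ha1 hb1 ea eb
    by_contra hab
    rcases h.cases ha hb hu ha1 hb1 hab with rfl | rfl | rfl | rfl
    exacts [hne (map_one θ), hne ea, hne eb, hne (by rw [map_mul, ea, eb])]
  obtain ⟨x, hxM⟩ := x
  obtain ⟨y, hyM⟩ := y
  obtain ⟨x, rfl⟩ := QuotientGroup.mk_surjective x
  obtain ⟨y, rfl⟩ := QuotientGroup.mk_surjective y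
  have hx : x * x ≠ 1 := fun e => hx1 (Subtype.ext ((QuotientGroup.eq_one_iff x).2 e))
  have hy : y * y ≠ 1 := fun e => hy1 (Subtype.ext ((QuotientGroup.eq_one_iff y).2 e))
  have hxy' : x * y * (x * y) ≠ 1 := fun e => hxy (Subtype.ext (QuotientGroup.eq.2 (by
    have := h.V.mul_mem (h.V.inv_mem (h.sqV x)) (x := (x * x)⁻¹) (y := x * y) e
    simpa [mul_assoc] using this)))
  exact hx (h.noQ8 (uniq _ _ (h.exp y) (h.exp x) hy hx (key y hyM) (key x hxM))
    (uniq _ _ (h.exp _) (h.exp x) hxy' hx (key _ (M.mul_mem hxM hyM)) (key x hxM)))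

theorem Rk2.of_equiv {T T' : Type*} [Group T] [Group T'] (h : Rk2 T) (e : T ≃* T') : Rk2 T' where
  two := h.two.of_equiv e
  cent := fun x hx g => by
    obtain ⟨x, rfl⟩ := e.surjective x
    obtain ⟨g, rfl⟩ := e.surjective g
    rw [← map_mul, h.cent x (e.injective (by rw [map_mul, hx, map_one])), map_mul]
  card := by
    rw [← h.card]
    exact Nat.card_congr (e.toEquiv.subtypeEquiv fun x => by simp [← map_mul]).symm

theorem isWreathed_of_homocyclic {T : Subgroup G} (hi : T.index = 2) (h : Rk2 T) {n : ℕ}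
    (hn : 2 ≤ n) (e : T ≃* Multiplicative (ZMod (2 ^ n) × ZMod (2 ^ n))) {s : G} (hs : s ∉ T)
    {u : G} (hu : u ∈ T) (hu2 : u * u = 1) (hsu : s * u * s⁻¹ ≠ u) : Cfsg.IsWreathed G := by
  obtain ⟨k, rfl⟩ : ∃ k, n = k + 1 := ⟨n - 1, by omega⟩
  have hN : T.Normal := normal_of_index_eq_two hi
  have hc : ∀ x y : T, Commute x y := fun x y => e.injective (by rw [map_mul, map_mul, mul_comm])
  have hexp : ∀ x : T, x ^ 2 ^ (k + 1) = 1 := fun x => e.injective (by
    rw [map_pow, map_one]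
    have h0 : (2 : ZMod (2 ^ (k + 1))) ^ (k + 1) = 0 := by exact_mod_cast ZMod.natCast_self _
    refine Multiplicative.toAdd.injective ?_
    ext <;> simp [h0])
  have hh : ((2 ^ k : ℕ) : ZMod (2 ^ (k + 1))) ≠ 0 := fun h0 => by
    have := Nat.le_of_dvd (by positivity) ((ZMod.natCast_eq_zero_iff _ _).1 h0)
    have := Nat.pow_lt_pow_right one_lt_two (Nat.lt_succ_self k)
    omega
  let θ : MulAut T := MulAut.conjNormal s
  have sq' : ∀ x : T, x ^ 2 ^ k * x ^ 2 ^ k = 1 := fun x => by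
    rw [← pow_add, ← two_mul, ← pow_succ', hexp]
  obtain ⟨x, hx1, hx⟩ : ∃ x : T, x ^ 2 ^ k ≠ 1 ∧ θ (x ^ 2 ^ k) ≠ x ^ 2 ^ k := by
    by_contra hcon
    push Not at hcon
    set a := e.symm (Multiplicative.ofAdd (1, 0))
    set b := e.symm (Multiplicative.ofAdd (0, 1))
    have ea : e (a ^ 2 ^ k) = Multiplicative.ofAdd (((2 ^ k : ℕ) : ZMod (2 ^ (k + 1))), 0) := by
      rw [map_pow, MulEquiv.apply_symm_apply, ← ofAdd_nsmul]; simp
    have eb : e (b ^ 2 ^ k) = Multiplicative.ofAdd (0, ((2 ^ k : ℕ) : ZMod (2 ^ (k + 1)))) := by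
      rw [map_pow, MulEquiv.apply_symm_apply, ← ofAdd_nsmul]; simp
    have ha : a ^ 2 ^ k ≠ 1 := fun h0 => by
      rw [h0, map_one] at ea; exact hh (congrArg (fun t => t.toAdd.1) ea).symm
    have hb : b ^ 2 ^ k ≠ 1 := fun h0 => by
      rw [h0, map_one] at eb; exact hh (congrArg (fun t => t.toAdd.2) eb).symm
    have hab : a ^ 2 ^ k ≠ b ^ 2 ^ k := fun h0 => by
      rw [h0, eb] at ea; exact hh (congrArg (fun t => t.toAdd.2) ea)
    have : θ ⟨u, hu⟩ = ⟨u, hu⟩ := by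
      rcases h.cases (sq' a) (sq' b) (c := ⟨u, hu⟩) (Subtype.ext hu2) ha hb hab with
        e | e | e | e <;> rw [e]
      exacts [map_one θ, hcon a ha, hcon b hb, by rw [map_mul, hcon a ha, hcon b hb]]
    exact hsu (congrArg Subtype.val this)
  have hy1 : θ x ^ 2 ^ k ≠ 1 := by rw [← map_pow]; exact θ.map_ne_one_iff.2 hx1
  have hne : x ^ 2 ^ k ≠ θ x ^ 2 ^ k := by rw [← map_pow]; exact hx.symm
  have hss : s * s ∈ T := (mul_mem_iff_of_index_two hi).2 Iff.rfl
  obtain ⟨i, j, hij⟩ := h.eq_mul_of_commute (hexp x) (hexp _) hx1 hy1 hne (hc _ _) (k + 1) 0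
    ⟨s * s, hss⟩ (by omega) (hc _ _) (hc _ _) (hexp _)
  rw [pow_zero, pow_one] at hij
  have hθθ : θ (θ x) = x := Subtype.ext (by
    have := congrArg Subtype.val (hc ⟨s * s, hss⟩ x).eq
    show s * (s * x * s⁻¹) * s⁻¹ = x
    calc s * (s * x * s⁻¹) * s⁻¹ = (s * s * x) * (s * s)⁻¹ := by group
      _ = x := by rw [show s * s * x = x * (s * s) from this]; group)
  have hθs : θ ⟨s * s, hss⟩ = ⟨s * s, hss⟩ := Subtype.ext (by
    show s * (s * s) * s⁻¹ = s * s
    group)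
  have hbot := zpowers_inf_eq_bot_of_two_pow (hexp x) (hexp _) hx1 hy1 hne
  have hyij : θ x ^ j = θ x ^ i := by
    rw [hij, map_mul, map_pow, map_pow, hθθ] at hθs
    have h1 : θ x ^ i * (θ x ^ j)⁻¹ = x ^ i * (x ^ j)⁻¹ := by
      rw [mul_inv_eq_iff_eq_mul, mul_assoc, (hc _ (θ x ^ j)).eq, ← mul_assoc, ← hθs,
        mul_inv_cancel_right]
    have h2 : θ x ^ i * (θ x ^ j)⁻¹ ∈ zpowers x ⊓ zpowers (θ x) :=
      ⟨h1 ▸ mul_mem (npow_mem_zpowers x i) ((zpowers x).inv_mem (npow_mem_zpowers x j)),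
        mul_mem (npow_mem_zpowers _ i) ((zpowers _).inv_mem (npow_mem_zpowers _ j))⟩
    rw [hbot, mem_bot, mul_inv_eq_one] at h2
    exact h2.symm
  rw [hyij] at hij
  have hij' : s * s = (x : G) ^ i * (s * x * s⁻¹) ^ i := congrArg Subtype.val hij
  have hcx : Commute (x : G) (s * x * s⁻¹) := congrArg Subtype.val (hc x (θ x)).eq
  refine ⟨k + 1, hn, ?_, x, s * x * s⁻¹, s * ((x : G) ^ i)⁻¹, ?_, hcx, ?_, ?_, ?_⟩
  · rw [← T.card_mul_index, hi, Nat.card_congr e.toEquiv]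
    simp only [Nat.card_eq_fintype_card, Fintype.card_multiplicative, Fintype.card_prod, ZMod.card]
    ring
  · rw [orderOf_coe]; exact orderOf_eq_prime_pow hx1 (hexp x)
  · refine zpowers_inf_eq_bot_of_two_pow (k := k) (congrArg Subtype.val (hexp x))
      (congrArg Subtype.val (hexp (θ x))) (fun h0 => hx1 (Subtype.ext h0))
      (fun h0 => hy1 (Subtype.ext h0)) fun h0 => hne (Subtype.ext h0)
  · refine orderOf_eq_two_of_mul_self ?_ fun h0 => hs ?_
    · calc s * ((x : G) ^ i)⁻¹ * (s * ((x : G) ^ i)⁻¹)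
          = ((s * x * s⁻¹) ^ i)⁻¹ * (s * s) * ((x : G) ^ i)⁻¹ := by rw [conj_pow]; group
        _ = 1 := by rw [hij', (hcx.pow_pow i i).eq]; group
    · rw [mul_inv_eq_one.1 h0]; exact T.pow_mem x.2 i
  · group

section NormalFour
variable (hG : IsPGroup 2 G) (h2 : Cfsg.PRankLE 2 2 G) {z u : G} (hz : z * z = 1) (hu : u * u = 1)
  (hz1 : z ≠ 1) (hu1 : u ≠ 1) (hzu : z ≠ u) (hzc : ∀ s, Commute z s)
  (hs : ∀ s, s * u * s⁻¹ = u ∨ s * u * s⁻¹ = z * u)
include hG h2 hz hu hz1 hu1 hzu hzc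

theorem rk2_centralizer : Rk2 (centralizer {u} : Subgroup G) := by
  have hcu : ∀ x : (centralizer {u} : Subgroup G), Commute u x := fun x =>
    (mem_centralizer_singleton_iff.1 x.2).symm
  have hcases : ∀ x : (centralizer {u} : Subgroup G), x * x = 1 →
      (x : G) = 1 ∨ (x : G) = z ∨ (x : G) = u ∨ (x : G) = z * u := fun x hx =>
    rank_cases h2 hz hu (congrArg Subtype.val hx) (hzc _) (hzc _) (hcu x) hz1 hu1 hzu
  have mz : z ∈ centralizer {u} := mem_centralizer_singleton_iff.2 (hzc u)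
  have mu : u ∈ centralizer {u} := mem_centralizer_singleton_iff.2 rfl
  refine rk2_of_cent (hG.to_subgroup _) (fun A hA hA2 => ?_) (fun h1 => ?_) fun x hx g => ?_
  · rw [← card_map_of_injective (centralizer {u}).subtype_injective]
    refine h2 _ (A.map_isMulCommutative _) ?_
    rintro _ ⟨a, ha, rfl⟩
    rw [← map_pow, hA2 a ha, map_one]
  · obtain ⟨h4, hA, hA2⟩ := H13.four_of_commute (G := centralizer {u}) (x := ⟨z, mz⟩)
      (z := ⟨u, mu⟩) (Subtype.ext (by rwa [← sq] at hz)) (Subtype.ext (by rwa [← sq] at hu))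
      (fun e => hu1 (congrArg Subtype.val e))
      (fun e => (mem_zpowers_two (Subtype.ext hu) e).elim (fun e => hz1 (congrArg Subtype.val e))
        fun e => hzu (congrArg Subtype.val e)) (Subtype.ext (hzc u))
    have := h1 _ hA hA2
    omega
  · refine Subtype.ext ?_
    show (g : G) * x = x * g
    rcases hcases x hx with e | e | e | e <;> rw [e]
    · simp
    · exact (hzc g).symm
    · exact (hcu g).symm
    · exact ((hzc g).mul_left (hcu g)).symm

include hs in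
theorem concl_of_centralizer
    (hT : (∃ n : ℕ, 1 ≤ n ∧ Nonempty ((centralizer {u} : Subgroup G) ≃*
      Multiplicative (ZMod (2 ^ n) × ZMod (2 ^ n)))) ∨ ∃ α, U34 (centralizer {u} : Subgroup G) α) :
    (∃ m : ℕ, 2 ≤ m ∧ Nonempty (G ≃* DihedralGroup m)) ∨ Cfsg.IsQuasiDihedral G ∨
      Cfsg.IsWreathed G ∨
      (∃ n : ℕ, 2 ≤ n ∧ Nonempty (G ≃* Multiplicative (ZMod (2 ^ n) × ZMod (2 ^ n)))) ∨
      ∃ α, U34 G α := by
  have hR := rk2_centralizer hG h2 hz hu hz1 hu1 hzu hzc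
  have mu : u ∈ centralizer {u} := mem_centralizer_singleton_iff.2 rfl
  have h1 : Nonempty ((centralizer {u} : Subgroup G) ≃*
      Multiplicative (ZMod (2 ^ 1) × ZMod (2 ^ 1))) →
      (∃ m : ℕ, 2 ≤ m ∧ Nonempty (G ≃* DihedralGroup m)) ∨ Cfsg.IsQuasiDihedral G := by
    rintro ⟨e⟩
    refine dihedral_or_qd_of_four hG hz hu (hzc u) hz1 hu1 hzu fun c hc1 hc2 =>
      rank_cases h2 hz hu ?_ (hzc u) hc1 hc2 hz1 hu1 hzu
    have : ∀ x : Multiplicative (ZMod (2 ^ 1) × ZMod (2 ^ 1)), x * x = 1 := by decide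
    have h3 : (⟨c, mem_centralizer_singleton_iff.2 hc2.symm⟩ : centralizer {u}) *
        ⟨c, mem_centralizer_singleton_iff.2 hc2.symm⟩ = 1 :=
      e.injective (by rw [map_mul, this, map_one])
    exact congrArg Subtype.val h3
  by_cases htop : centralizer {u} = (⊤ : Subgroup G)
  · have f : (centralizer {u} : Subgroup G) ≃* G := (MulEquiv.subgroupCongr htop).trans topEquiv
    rcases hT with ⟨n, hn, ⟨e⟩⟩ | ⟨α, hα⟩
    · rcases hn.eq_or_lt with rfl | hn
      · exact (h1 ⟨e⟩).imp_right Or.inl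
      · exact Or.inr (Or.inr (Or.inr (Or.inl ⟨n, hn, ⟨f.symm.trans e⟩⟩)))
    · exact Or.inr (Or.inr (Or.inr (Or.inr ⟨_, hα.of_equiv f⟩)))
  obtain ⟨s, hsT⟩ : ∃ s, s ∉ centralizer {u} := by
    by_contra hcon
    push Not at hcon
    exact htop (eq_top_iff.2 fun s _ => hcon s)
  have hmem : ∀ g : G, g ∈ centralizer {u} ↔ g * u * g⁻¹ = u := fun g => by
    rw [mem_centralizer_singleton_iff, mul_inv_eq_iff_eq_mul]
  have hi : (centralizer {u} : Subgroup G).index = 2 := by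
    rw [index_eq_two_iff_exists_notMem_and]
    refine ⟨s, hsT, fun b => ?_⟩
    by_cases hb : b ∈ centralizer {u}
    · exact Or.inr hb
    · left
      have e1 := (hs b).resolve_left fun e => hb ((hmem b).2 e)
      have e2 := (hs s).resolve_left fun e => hsT ((hmem s).2 e)
      rw [hmem]
      calc b * s * u * (b * s)⁻¹ = b * (s * u * s⁻¹) * b⁻¹ := by group
        _ = z * (b * u * b⁻¹) := by rw [e2, ← mul_assoc, ← (hzc b).eq]; group
        _ = u := by rw [e1, ← mul_assoc, hz, one_mul]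
  have hsu : s * u * s⁻¹ ≠ u := fun e => hsT ((hmem s).2 e)
  rcases hT with ⟨n, hn, ⟨e⟩⟩ | ⟨α, hα⟩
  · rcases hn.eq_or_lt with rfl | hn
    · exact (h1 ⟨e⟩).imp_right Or.inl
    · exact Or.inr (Or.inr (Or.inl (isWreathed_of_homocyclic hi hR hn e hsT mu hu hsu)))
  · exfalso
    have hN := normal_of_index_eq_two hi
    have hss : s * s ∈ centralizer {u} := (mul_mem_iff_of_index_two hi).2 Iff.rfl
    have := hα.fix_of_sq (MulAut.conjNormal s) (fun x => by
      have := hα.commV x⁻¹ ⟨s * s, hss⟩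
      convert this using 1
      refine Subtype.ext ?_
      show (x : G)⁻¹ * (s * (s * x * s⁻¹) * s⁻¹) = (x : G)⁻¹ * (s * s) * (x : G)⁻¹⁻¹ * (s * s)⁻¹
      group) (u := ⟨u, mu⟩) (Subtype.ext hu)
    exact hsu (congrArg Subtype.val this)

end NormalFour

end PGroup

section Fusion
variable {G : Type*} [Group G] [Finite G]

theorem exists_conj_into (S : Sylow 2 G) {z : G} (hzc : ∀ s ∈ S, Commute z s) {R : Subgroup G}
    (hR : IsPGroup 2 R) (hRz : ∀ r ∈ R, Commute z r) :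
    ∃ c, c * z * c⁻¹ = z ∧ ∀ r ∈ R, c * r * c⁻¹ ∈ S := by
  obtain ⟨c, hc, hle⟩ := (sylIn_of_sylow_le S (H := centralizer {z})
    fun s hs => mem_centralizer_singleton_iff.2 (hzc s hs).symm).exists_cj_le
    (fun r hr => mem_centralizer_singleton_iff.2 (hRz r hr).symm) hR
  exact ⟨c, by rw [mem_centralizer_singleton_iff.1 hc, mul_inv_cancel_right], cj_le_iff.1 hle⟩

theorem exists_conj_ne (S : Sylow 2 G) {z : G} (hz : z * z = 1) (hz1 : z ≠ 1)
    (hzc : ∀ s ∈ S, Commute z s) (hiso : ¬ Cfsg.IsIsolatedInvolution z) :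
    ∃ g, g * z * g⁻¹ ∈ S ∧ g * z * g⁻¹ ≠ z := by
  simp only [Cfsg.IsIsolatedInvolution, not_and, not_forall] at hiso
  obtain ⟨g, hg, hne⟩ := hiso (orderOf_eq_two_of_mul_self hz hz1)
  obtain ⟨c, hc, hle⟩ := exists_conj_into S hzc (R := zpowers (g * z * g⁻¹))
    (isPGroup_zpowers (k := 1) (by rw [pow_one, sq]; exact conj_mul_self hz g))
    (by rintro _ ⟨k, rfl⟩; exact hg.zpow_right k)
  refine ⟨c * g, by simpa [mul_assoc] using hle _ (mem_zpowers _), fun e => hne ?_⟩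
  calc g * z * g⁻¹ = c⁻¹ * (c * g * z * (c * g)⁻¹) * c := by group
    _ = c⁻¹ * (c * z * c⁻¹) * c := by rw [e, hc]
    _ = z := by group

/-- the data of a normal four-group in a Sylow 2-subgroup -/
structure NF (S : Sylow 2 G) (z u : G) : Prop where
  rank : Cfsg.PRankLE 2 2 G
  zS : z ∈ S
  uS : u ∈ S
  zz : z * z = 1
  uu : u * u = 1
  z1 : z ≠ 1
  u1 : u ≠ 1
  zu : z ≠ u
  zc : ∀ s ∈ S, Commute z s
  cj : ∀ s ∈ S, s * u * s⁻¹ = u ∨ s * u * s⁻¹ = z * u

namespace NF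
variable {S : Sylow 2 G} {z u : G} (h : NF S z u)
include h

theorem swap : NF S z (z * u) where
  rank := h.rank
  zS := h.zS
  uS := S.mul_mem h.zS h.uS
  zz := h.zz
  uu := by rw [mul_assoc, ← mul_assoc u, ← (h.zc u h.uS).eq, mul_assoc, h.uu, mul_one, h.zz]
  z1 := h.z1
  u1 := fun e => h.zu (mul_left_cancel (h.zz.trans e.symm))
  zu := fun e => h.u1 (by simpa using e)
  zc := h.zc
  cj := fun s hs => by
    have : s * (z * u) * s⁻¹ = z * (s * u * s⁻¹) := by rw [← mul_assoc, ← (h.zc s hs).eq]; group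
    rw [this]
    rcases h.cj s hs with e | e <;> rw [e]
    exacts [Or.inl rfl, Or.inr rfl]

theorem cases {x : G} (hx : x ∈ S) (hxu : Commute u x) (hxx : x * x = 1) :
    x = 1 ∨ x = z ∨ x = u ∨ x = z * u :=
  rank_cases h.rank h.zz h.uu hxx (h.zc u h.uS) (h.zc x hx) hxu h.z1 h.u1 h.zu

theorem mul_commute {s t : G} (hs : s ∈ S) (ht : t ∈ S) (hsu : ¬ Commute u s)
    (htu : ¬ Commute u t) : Commute u (s * t) := by
  have e1 := (h.cj s hs).resolve_left fun e => hsu (mul_inv_eq_iff_eq_mul.1 e).symm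
  have e2 := (h.cj t ht).resolve_left fun e => htu (mul_inv_eq_iff_eq_mul.1 e).symm
  refine (mul_inv_eq_iff_eq_mul.1 ?_).symm
  calc s * t * u * (s * t)⁻¹ = s * (t * u * t⁻¹) * s⁻¹ := by group
    _ = z * (s * u * s⁻¹) := by rw [e2, ← mul_assoc, ← (h.zc s hs).eq]; group
    _ = u := by rw [e1, ← mul_assoc, h.zz, one_mul]

theorem sq_commute {s : G} (hs : s ∈ S) : Commute u (s * s) := by
  by_cases e : Commute u s
  · exact e.mul_right e
  · exact h.mul_commute hs hs e e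

/-- elements of a subgroup whose only involution `z` is not a square -/
theorem eq_of_not_sq {R : Subgroup G} (hR : R ≤ S) (h1 : ∀ x ∈ R, x * x = 1 → x = 1 ∨ x = z)
    (h2 : ∀ x ∈ R, x * x ≠ z) : ∀ x ∈ R, x = 1 ∨ x = z := by
  intro x hx
  obtain ⟨k, hk⟩ := isPGroup_iff_forall_mem.1 S.isPGroup' x (hR hx)
  induction k generalizing x with
  | zero => left; simpa using hk
  | succ k ih =>
    rcases ih (x * x) (R.mul_mem hx hx) (by rw [← sq, ← pow_mul, ← pow_succ', hk]) with e | e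
    · exact h1 x hx e
    · exact absurd e (h2 x hx)

theorem maxClass {t : G} (ht : t ∈ S) (htt : t * t = 1) (ht1 : t ≠ 1) (hzt : z ≠ t)
    (hC : ∀ c ∈ S, Commute t c → c = 1 ∨ c = z ∨ c = t ∨ c = z * t) :
    (∃ m : ℕ, 2 ≤ m ∧ Nonempty ((S : Subgroup G) ≃* DihedralGroup m)) ∨
      Cfsg.IsQuasiDihedral (S : Subgroup G) := by
  refine dihedral_or_qd_of_four S.isPGroup' (a := ⟨z, h.zS⟩) (b := ⟨t, ht⟩) (Subtype.ext h.zz)
    (Subtype.ext htt) (Subtype.ext (h.zc t ht)) (fun e => h.z1 (congrArg Subtype.val e))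
    (fun e => ht1 (congrArg Subtype.val e)) (fun e => hzt (congrArg Subtype.val e))
    fun c _ hc => ?_
  simp only [Subtype.ext_iff]
  exact hC c c.2 (congrArg Subtype.val hc)

theorem fused_or (hiso : ¬ Cfsg.IsIsolatedInvolution z) :
    ((∃ m : ℕ, 2 ≤ m ∧ Nonempty ((S : Subgroup G) ≃* DihedralGroup m)) ∨
      Cfsg.IsQuasiDihedral (S : Subgroup G)) ∨
    (∃ g, g * z * g⁻¹ = u) ∨ ∃ g, g * z * g⁻¹ = z * u := by
  obtain ⟨g, hgS, hgz⟩ := exists_conj_ne S h.zz h.z1 h.zc hiso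
  have key : ∀ g : G, g * z * g⁻¹ ∈ S → Commute u (g * z * g⁻¹) → g * z * g⁻¹ ≠ z →
      (∃ g, g * z * g⁻¹ = u) ∨ ∃ g, g * z * g⁻¹ = z * u := by
    intro g h1 h2 h3
    rcases h.cases h1 h2 (conj_mul_self h.zz g) with e | e | e | e
    · exact absurd (by simpa using e) h.z1
    · exact absurd e h3
    · exact Or.inl ⟨g, e⟩
    · exact Or.inr ⟨g, e⟩
  by_cases htu : Commute u (g * z * g⁻¹)
  · exact Or.inr (key g hgS htu hgz)
  set t := g * z * g⁻¹ with ht
  have htt : t * t = 1 := conj_mul_self h.zz g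
  by_cases hsq : ∃ y ∈ S, Commute t y ∧ y * y = z
  · right
    obtain ⟨y, hyS, hyt, hy⟩ := hsq
    obtain ⟨c, hc, hle⟩ := exists_conj_into S h.zc (R := zpowers (g⁻¹ * y * g))
      (isPGroup_zpowers (k := 2) (by
        calc (g⁻¹ * y * g) ^ 2 ^ 2 = g⁻¹ * (y * y * (y * y)) * g := by
              norm_num [pow_succ, mul_assoc]
          _ = 1 := by rw [hy, h.zz]; group))
      (by
        rintro _ ⟨k, rfl⟩
        refine Commute.zpow_right ?_ k
        have := hyt.conj g⁻¹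
        simpa [ht, mul_assoc] using this)
    have h1 := hle _ (mem_zpowers _)
    have h2 : c * (g⁻¹ * y * g) * c⁻¹ * (c * (g⁻¹ * y * g) * c⁻¹) = c * g⁻¹ * z * (c * g⁻¹)⁻¹ := by
      rw [← hy]; group
    refine key (c * g⁻¹) (h2 ▸ S.mul_mem h1 h1) (h2 ▸ h.sq_commute h1) fun e => hgz ?_
    calc t = g * c⁻¹ * (c * z * c⁻¹) * c * g⁻¹ := by rw [ht]; group
      _ = g * c⁻¹ * (c * g⁻¹ * z * (c * g⁻¹)⁻¹) * c * g⁻¹ := by rw [hc, e]
      _ = z := by group
  left
  have hR := h.eq_of_not_sq (R := (S : Subgroup G) ⊓ centralizer {u, t}) inf_le_left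
    (fun x hx hxx => by
      have h1 : Commute u x := hx.2 u (by simp)
      have h2 : Commute t x := hx.2 t (by simp)
      rcases h.cases hx.1 h1 hxx with e | e | e | e
      · exact Or.inl e
      · exact Or.inr e
      · exact absurd (e ▸ h2).symm htu
      · exfalso
        refine htu ?_
        have h3 := (h.zc t hgS).symm.mul_right h2
        rw [e, ← mul_assoc, h.zz, one_mul] at h3
        exact h3.symm)
    fun x hx e => hsq ⟨x, hx.1, hx.2 t (by simp), e⟩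
  refine h.maxClass hgS htt (by simpa [ht] using h.z1) hgz.symm fun c hc hct => ?_
  by_cases hcu : Commute u c
  · rcases hR c ⟨hc, by rintro _ (rfl | rfl); exacts [hcu, hct]⟩ with e | e
    exacts [Or.inl e, Or.inr (Or.inl e)]
  · rcases hR (c * t) ⟨S.mul_mem hc hgS, by
      rintro _ (rfl | rfl)
      exacts [h.mul_commute hc hgS hcu htu, hct.mul_right (Commute.refl _)]⟩ with e | e
    · exact Or.inr (Or.inr (Or.inl (mul_right_cancel (e.trans htt.symm))))
    · exact Or.inr (Or.inr (Or.inr (by rw [← e, mul_assoc, htt, mul_one])))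

theorem four : IsKleinFour ↥(zpowers z ⊔ zpowers u) ∧
    ∀ x, x ∈ zpowers z ⊔ zpowers u ↔ (x = 1 ∨ x = z ∨ x = u ∨ x = z * u) := by
  obtain ⟨h4, hA, hA2⟩ := H13.four_of_commute (x := z) (z := u) (by rw [sq, h.zz])
    (by rw [sq, h.uu]) h.u1 (fun e => (mem_zpowers_two h.uu e).elim h.z1 h.zu) (h.zc u h.uS)
  have m1 : z ∈ zpowers z ⊔ zpowers u := mem_sup_left (mem_zpowers z)
  have m2 : u ∈ zpowers z ⊔ zpowers u := mem_sup_right (mem_zpowers u)
  refine ⟨H13.isKleinFour_of_card_of_sq h4 hA2, fun x => ⟨fun hx => ?_, ?_⟩⟩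
  · exact h.cases (sup_le (zpowers_le.2 h.zS) (zpowers_le.2 h.uS) hx)
      (H13.isMulCommutative_iff_forall_mem.1 hA u m2 x hx) (by rw [← sq]; exact hA2 x hx)
  · rintro (rfl | rfl | rfl | rfl)
    exacts [one_mem _, m1, m2, mul_mem m1 m2]

theorem le_normalizer : (S : Subgroup G) ≤ normalizer ((zpowers z ⊔ zpowers u : Subgroup G) : Set G) :=
  fun s hs => mem_normalizer_of_conj_mem fun x hx => by
    have hz : s * z * s⁻¹ = z := by rw [← (h.zc s hs).eq, mul_inv_cancel_right]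
    rw [h.four.2] at hx ⊢
    rcases hx with rfl | rfl | rfl | rfl
    · simp
    · simp [hz]
    · rcases h.cj s hs with e | e <;> simp [e]
    · rcases h.swap.cj s hs with e | e <;> rw [e] <;> simp [← mul_assoc, h.zz]

theorem hasOdd_or {g : G} (hg : g * z * g⁻¹ = u) :
    ((∃ m : ℕ, 2 ≤ m ∧ Nonempty ((S : Subgroup G) ≃* DihedralGroup m)) ∨
      Cfsg.IsQuasiDihedral (S : Subgroup G)) ∨ HasOdd (zpowers z ⊔ zpowers u) := by
  obtain ⟨c, hc, hle⟩ := exists_conj_into S h.zc (R := H22.cj g⁻¹ ((S : Subgroup G) ⊓ centralizer {u}))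
    (isPGroup_cj (S.isPGroup'.to_le inf_le_left) _) (by
      rintro _ ⟨x, hx, rfl⟩
      have := (show Commute x u from mem_centralizer_singleton_iff.1 hx.2).symm.conj g⁻¹
      simpa [← hg, mul_assoc] using this)
  obtain ⟨k, hku, hk⟩ : ∃ k : G, k * u * k⁻¹ = z ∧ ∀ x ∈ S, Commute u x → k * x * k⁻¹ ∈ S :=
    ⟨c * g⁻¹, by rw [← hg]; simpa [mul_assoc] using hc, fun x hx hxu => by
      have := hle _ (conj_mem_cj (g := g⁻¹) ⟨hx, mem_centralizer_singleton_iff.2 hxu.symm⟩)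
      simpa [mul_assoc] using this⟩
  have htS : k * z * k⁻¹ ∈ S := hk z h.zS (h.zc u h.uS).symm
  have htt := conj_mul_self h.zz k
  have htz : k * z * k⁻¹ ≠ z := fun e => h.zu (by simpa using e.trans hku.symm)
  have ht1 : k * z * k⁻¹ ≠ 1 := by simpa using h.z1
  by_cases htu : Commute u (k * z * k⁻¹)
  · right
    by_contra hno
    have hkN : k ∈ normalizer ((zpowers z ⊔ zpowers u : Subgroup G) : Set G) := by
      refine mem_normalizer_of_conj_mem fun x hx => ?_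
      have h1 : k * z * k⁻¹ ∈ zpowers z ⊔ zpowers u := (h.four.2 _).2 (h.cases htS htu htt)
      have h2 : k * u * k⁻¹ ∈ zpowers z ⊔ zpowers u := (h.four.2 _).2 (Or.inr (Or.inl hku))
      rcases (h.four.2 x).1 hx with rfl | rfl | rfl | rfl
      · simp
      · exact h1
      · exact h2
      · simpa [mul_assoc] using mul_mem h1 h2
    obtain ⟨s, hs, e⟩ := exists_conj_of_not_hasOdd hno (sylIn_of_sylow_le S h.le_normalizer) hkN
    have := e u ((h.four.2 u).2 (by simp))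
    rw [hku] at this
    rcases h.cj s hs with e' | e'
    · exact h.zu (this.symm.trans e')
    · exact h.u1 (by simpa using this.symm.trans e')
  left
  set t := k * z * k⁻¹ with ht
  have hR := h.eq_of_not_sq (R := (S : Subgroup G) ⊓ centralizer {u, t}) inf_le_left
    (fun x hx hxx => by
      have h1 : Commute u x := hx.2 u (by simp)
      have h2 : Commute t x := hx.2 t (by simp)
      rcases h.cases hx.1 h1 hxx with e | e | e | e
      · exact Or.inl e
      · exact Or.inr e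
      · exact absurd (e ▸ h2).symm htu
      · exfalso
        refine htu ?_
        have h3 := (h.zc t htS).symm.mul_right h2
        rw [e, ← mul_assoc, h.zz, one_mul] at h3
        exact h3.symm)
    fun x hx e => htu (by
      have := h.sq_commute (hk x hx.1 (hx.2 u (by simp)))
      rwa [show k * x * k⁻¹ * (k * x * k⁻¹) = t by rw [ht, ← e]; group] at this)
  refine h.maxClass h.uS h.uu h.u1 h.zu fun x hx hxu => ?_
  have h1 := hk x hx hxu
  have h2 : Commute t (k * x * k⁻¹) := (h.zc x hx).conj k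
  by_cases hcu : Commute u (k * x * k⁻¹)
  · rcases hR _ ⟨h1, by rintro _ (rfl | rfl); exacts [hcu, h2]⟩ with e | e
    · exact Or.inl (by simpa using e)
    · exact Or.inr (Or.inr (Or.inl (by simpa using e.trans hku.symm)))
  · rcases hR (k * x * k⁻¹ * t) ⟨S.mul_mem h1 htS, by
      rintro _ (rfl | rfl)
      exacts [h.mul_commute h1 htS hcu htu, h2.mul_right (Commute.refl _)]⟩ with e | e
    · exact Or.inr (Or.inl (by simpa [ht] using mul_right_cancel (e.trans htt.symm)))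
    · refine Or.inr (Or.inr (Or.inr ?_))
      have h3 : x * z = u := by
        have h4 := e.trans hku.symm
        rw [show k * x * k⁻¹ * t = k * (x * z) * k⁻¹ by rw [ht]; group] at h4
        simpa using h4
      rw [← h3, (h.zc _ (S.mul_mem hx h.zS)).eq, mul_assoc, h.zz, mul_one]

theorem concl_of_hasOdd (ho : HasOdd (zpowers z ⊔ zpowers u)) :
    (∃ m : ℕ, 2 ≤ m ∧ Nonempty ((S : Subgroup G) ≃* DihedralGroup m)) ∨
      Cfsg.IsQuasiDihedral (S : Subgroup G) ∨ Cfsg.IsWreathed (S : Subgroup G) ∨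
      (∃ n : ℕ, 2 ≤ n ∧
        Nonempty ((S : Subgroup G) ≃* Multiplicative (ZMod (2 ^ n) × ZMod (2 ^ n)))) ∨
      ∃ α, U34 (S : Subgroup G) α := by
  have h2 : Cfsg.PRankLE 2 2 (S : Subgroup G) := fun A hA hA2 => by
    rw [← card_map_of_injective (S : Subgroup G).subtype_injective]
    refine h.rank _ (A.map_isMulCommutative _) ?_
    rintro _ ⟨a, ha, rfl⟩
    rw [← map_pow, hA2 a ha, map_one]
  have a1 : (⟨z, h.zS⟩ : (S : Subgroup G)) * ⟨z, h.zS⟩ = 1 := Subtype.ext h.zz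
  have a2 : (⟨u, h.uS⟩ : (S : Subgroup G)) * ⟨u, h.uS⟩ = 1 := Subtype.ext h.uu
  have a3 : (⟨z, h.zS⟩ : (S : Subgroup G)) ≠ 1 := fun e => h.z1 (congrArg Subtype.val e)
  have a4 : (⟨u, h.uS⟩ : (S : Subgroup G)) ≠ 1 := fun e => h.u1 (congrArg Subtype.val e)
  have a5 : (⟨z, h.zS⟩ : (S : Subgroup G)) ≠ ⟨u, h.uS⟩ := fun e => h.zu (congrArg Subtype.val e)
  have a6 : ∀ s : (S : Subgroup G), Commute (⟨z, h.zS⟩ : (S : Subgroup G)) s := fun s =>
    Subtype.ext (h.zc s s.2)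
  refine concl_of_centralizer S.isPGroup' h2 a1 a2 a3 a4 a5 a6
    (fun s => by simp only [Subtype.ext_iff]; exact h.cj s s.2) ?_
  have hR := rk2_centralizer S.isPGroup' h2 a1 a2 a3 a4 a5 a6
  set V := zpowers z ⊔ zpowers u with hV
  set T := (S : Subgroup G) ⊓ centralizer (V : Set G) with hT
  have mz : z ∈ V := (h.four.2 _).2 (by simp)
  have mu : u ∈ V := (h.four.2 _).2 (by simp)
  have hTe : (centralizer {(⟨u, h.uS⟩ : (S : Subgroup G))}).map (S : Subgroup G).subtype = T := by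
    refine le_antisymm ?_ fun x hx => ⟨⟨x, hx.1⟩,
      mem_centralizer_singleton_iff.2 (Subtype.ext (hx.2 u mu).symm), rfl⟩
    rintro _ ⟨x, hx, rfl⟩
    have hxu : Commute u x := (congrArg Subtype.val (mem_centralizer_singleton_iff.1 hx)).symm
    refine ⟨x.2, fun v hv => ?_⟩
    rcases (h.four.2 v).1 hv with rfl | rfl | rfl | rfl
    exacts [by simp, h.zc _ x.2, hxu, (h.zc _ x.2).mul_left hxu]
  have f : (centralizer {(⟨u, h.uS⟩ : (S : Subgroup G))}) ≃* T :=
    (equivMapOfInjective _ _ (S : Subgroup G).subtype_injective).trans (MulEquiv.subgroupCongr hTe)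
  obtain ⟨g, hgN, hφ, hne⟩ := ho.exists_conj
  have hSyl : SylIn 2 T (centralizer (V : Set G)) :=
    (sylIn_of_sylow_le S h.le_normalizer).inf_normal (centralizer_le_normalizer _)
      (normalizer_le_normalizer_centralizer V)
  obtain ⟨c, hc, hgc⟩ := hSyl.frattini' (normalizer_le_normalizer_centralizer V) hgN
  let φ : MulAut T := T.normalizerMonoidHom ⟨g * c, hgc⟩
  have hφv : ∀ x : T, (x : G) ∈ V → (φ x : G) = g * x * g⁻¹ := fun x hx => by
    show g * c * x * (g * c)⁻¹ = _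
    rw [mul_assoc g, ← hc x hx]; group
  have hVT : ∀ x : T, x * x = 1 → (x : G) ∈ V := fun x hx =>
    (h.four.2 _).2 (h.cases x.2.1 (x.2.2 u mu) (congrArg Subtype.val hx))
  rcases (hR.of_equiv f).homocyclic_or_u34 φ (fun s t hs hs1 ht ht1 => by
    rcases hφ.kleinFour_trans h.four.1 hne (hVT s hs) (hVT t ht) (fun e => hs1 (Subtype.ext e))
      (fun e => ht1 (Subtype.ext e)) with e | e | e
    · exact ⟨0, Subtype.ext e.symm⟩
    · exact ⟨1, Subtype.ext ((hφv s (hVT s hs)).trans e.symm)⟩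
    · refine ⟨2, Subtype.ext ?_⟩
      have h1 := hφv s (hVT s hs)
      have h3 := hφv (φ s) (h1 ▸ hφ.mem _ (hVT s hs))
      rw [h1] at h3
      exact h3.trans e.symm) with ⟨n, hn, ⟨e⟩⟩ | ⟨α, hα⟩
  · exact Or.inl ⟨n, hn, ⟨f.trans e⟩⟩
  · exact Or.inr ⟨_, hα.of_equiv f.symm⟩

end NF

theorem exists_two_invol (h1 : ¬ Cfsg.PRankLE 2 1 G) (S : Sylow 2 G) :
    ∃ a b : (S : Subgroup G), a * a = 1 ∧ b * b = 1 ∧ a ≠ 1 ∧ b ≠ 1 ∧ a ≠ b := by
  obtain ⟨A, -, hA2, hA⟩ := four_lt_card_of_not h1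
  obtain ⟨g, hg⟩ := sylow_exists_cj_le S (R := A) fun a => ⟨1, Subtype.ext (by simpa using hA2 a a.2)⟩
  obtain ⟨x, y, hx1, hy1, hxy⟩ : ∃ x y : A, x ≠ 1 ∧ y ≠ 1 ∧ x ≠ y := by
    have := Fintype.ofFinite A
    rw [Nat.card_eq_fintype_card] at hA
    obtain ⟨a, b, c, hab, hac, hbc⟩ := Fintype.two_lt_card_iff.1 (by omega : 2 < Fintype.card A)
    by_cases ha : a = 1
    · exact ⟨b, c, ha ▸ hab.symm, ha ▸ hac.symm, hbc⟩
    by_cases hb : b = 1
    · exact ⟨a, c, ha, hb ▸ hbc.symm, hac⟩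
    · exact ⟨a, b, ha, hb, hab⟩
  refine ⟨⟨_, hg (conj_mem_cj x.2)⟩, ⟨_, hg (conj_mem_cj y.2)⟩,
    Subtype.ext (conj_mul_self (by rw [← sq]; exact hA2 x x.2) g),
    Subtype.ext (conj_mul_self (by rw [← sq]; exact hA2 y y.2) g), fun e => hx1 ?_,
    fun e => hy1 ?_, fun e => hxy ?_⟩ <;>
  exact Subtype.ext (by simpa using congrArg Subtype.val e)

theorem s1238' (h2 : Cfsg.PRankLE 2 2 G) (h1 : ¬ Cfsg.PRankLE 2 1 G)
    (hiso : ∀ z : G, ¬ Cfsg.IsIsolatedInvolution z) (S : Sylow 2 G) :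
    (∃ m : ℕ, 2 ≤ m ∧ Nonempty ((S : Subgroup G) ≃* DihedralGroup m)) ∨
      Cfsg.IsQuasiDihedral (S : Subgroup G) ∨ Cfsg.IsWreathed (S : Subgroup G) ∨
      (∃ n : ℕ, 2 ≤ n ∧
        Nonempty ((S : Subgroup G) ≃* Multiplicative (ZMod (2 ^ n) × ZMod (2 ^ n)))) ∨
      ∃ α, U34 (S : Subgroup G) α := by
  have h2' : Cfsg.PRankLE 2 2 (S : Subgroup G) := fun A hA hA2 => by
    rw [← card_map_of_injective (S : Subgroup G).subtype_injective]
    refine h2 _ (A.map_isMulCommutative _) ?_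
    rintro _ ⟨a, ha, rfl⟩
    rw [← map_pow, hA2 a ha, map_one]
  obtain ⟨a, b, ha, hb, ha1, hb1, hab⟩ := exists_two_invol h1 S
  rcases exists_normal_four_or S.isPGroup' h2' ha hb ha1 hb1 hab with
    e | ⟨z, u, hz, hu, hz1, hu1, hzu, hzc, hs⟩
  · exact e.imp_right Or.inl
  have h : NF S z u := ⟨h2, z.2, u.2, congrArg Subtype.val hz, congrArg Subtype.val hu,
    fun e => hz1 (Subtype.ext e), fun e => hu1 (Subtype.ext e), fun e => hzu (Subtype.ext e),
    fun s hs => congrArg Subtype.val (hzc ⟨s, hs⟩).eq,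
    fun s hs' => (hs ⟨s, hs'⟩).imp (congrArg Subtype.val) (congrArg Subtype.val)⟩
  rcases h.fused_or (hiso z) with e | ⟨g, hg⟩ | ⟨g, hg⟩
  · exact e.imp_right Or.inl
  · exact (h.hasOdd_or hg).elim (fun e => e.imp_right Or.inl) h.concl_of_hasOdd
  · exact (h.swap.hasOdd_or hg).elim (fun e => e.imp_right Or.inl) h.swap.concl_of_hasOdd

theorem s1238 (h2 : Cfsg.PRankLE 2 2 G) (h1 : ¬ Cfsg.PRankLE 2 1 G)
    (hiso : ∀ z : G, ¬ Cfsg.IsIsolatedInvolution z) (S : Sylow 2 G)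
    {F : Type*} [Field F] [Fintype F] (hF : Fintype.card F = 16) (P : Sylow 2 (Cfsg.PSU 3 F 4)) :
    (∃ m : ℕ, 2 ≤ m ∧ Nonempty ((S : Subgroup G) ≃* DihedralGroup m)) ∨
      Cfsg.IsQuasiDihedral (S : Subgroup G) ∨ Cfsg.IsWreathed (S : Subgroup G) ∨
      (∃ n : ℕ, 2 ≤ n ∧
        Nonempty ((S : Subgroup G) ≃* Multiplicative (ZMod (2 ^ n) × ZMod (2 ^ n)))) ∨
      Nonempty ((S : Subgroup G) ≃* (P : Subgroup (Cfsg.PSU 3 F 4))) := by
  obtain ⟨β, hβ⟩ := u34_sylow hF P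
  exact (s1238' h2 h1 hiso S).imp_right fun e => e.imp_right fun e => e.imp_right fun e =>
    e.imp_right fun ⟨_, hα⟩ => hα.nonempty_equiv hβ

end Fusion

end H22
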