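import Mathlib
import Cfsg.Agent.H22.Rank2

/-!
# Elementary abelian sections of 2-groups
-/

set_option autoImplicit false
set_option linter.unusedSectionVars false

namespace H22

open Subgroup
open scoped commutatorElement

variable {G : Type*} [Group G]

/-- `U / (N ⊓ U)` is an elementary abelian 2-group -/
structure Sec (N U : Subgroup G) : Prop where
  sq : ∀ x ∈ U, x * x ∈ N
  comm : ∀ x ∈ U, ∀ y ∈ U, ⁅x, y⁆ ∈ N

/-- all elementary abelian sections of `S` have order at most `k` -/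
def SR (k : ℕ) (S : Subgroup G) : Prop := ∀ N U : Subgroup G, U ≤ S → Sec N U → N.relIndex U ≤ k

theorem Sec.mono {N U M V : Subgroup G} (h : Sec N U) (hM : N ≤ M) (hV : V ≤ U) : Sec M V :=
  ⟨fun x hx => hM (h.sq x (hV hx)), fun x hx y hy => hM (h.comm x (hV hx) y (hV hy))⟩

theorem Sec.inf {N U : Subgroup G} (h : Sec N U) : Sec (N ⊓ U) U :=
  ⟨fun x hx => ⟨h.sq x hx, U.mul_mem hx hx⟩, fun x hx y hy => ⟨h.comm x hx y hy,
    U.mul_mem (U.mul_mem (U.mul_mem hx hy) (U.inv_mem hx)) (U.inv_mem hy)⟩⟩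

theorem Sec.le_normalizer [Finite G] {N U : Subgroup G} (h : Sec N U) (hN : N ≤ U) :
    U ≤ normalizer (N : Set G) := fun g hg =>
  mem_normalizer_of_conj_mem fun a ha => by
    simpa [commutatorElement_def] using N.mul_mem (h.comm g hg a (hN ha)) ha

theorem Sec.filter [Finite G] {N U F : Subgroup G} (h : Sec N U) (hN : N ≤ U) (hF : F ≤ U) :
    N.relIndex U = N.relIndex F * (F ⊔ N).relIndex U := by
  rw [← H2.relIndex_sup_of_le_normalizer (hF.trans (h.le_normalizer hN)),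
    relIndex_mul_relIndex _ _ _ le_sup_right (sup_le hF hN)]

theorem Sec.map {G' : Type*} [Group G'] {N U : Subgroup G} (h : Sec N U) (f : G →* G') :
    Sec (N.map f) (U.map f) := by
  constructor
  · rintro _ ⟨x, hx, rfl⟩
    exact ⟨_, h.sq x hx, map_mul f x x⟩
  · rintro _ ⟨x, hx, rfl⟩ _ ⟨y, hy, rfl⟩
    exact ⟨_, h.comm x hx y hy, map_commutatorElement f x y⟩

theorem SR.of_le {k : ℕ} {S T : Subgroup G} (h : SR k S) (hT : T ≤ S) : SR k T :=
  fun N U hU => h N U (hU.trans hT)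

theorem SR.mono {k l : ℕ} {S : Subgroup G} (h : SR k S) (hl : k ≤ l) : SR l S :=
  fun N U hU hs => (h N U hU hs).trans hl

theorem sr_of_le {k : ℕ} {S : Subgroup G}
    (h : ∀ N U : Subgroup G, U ≤ S → N ≤ U → Sec N U → N.relIndex U ≤ k) : SR k S :=
  fun N U hU hs => inf_relIndex_right N U ▸ h _ U hU inf_le_right hs.inf

theorem SR.map {G' : Type*} [Group G'] {k : ℕ} {S : Subgroup G} (h : SR k S) (f : G →* G') :
    SR k (S.map f) := by
  intro N U hU hs
  have h1 : (U.comap f ⊓ S).map f = U := by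
    refine le_antisymm (map_le_iff_le_comap.2 inf_le_left) fun x hx => ?_
    obtain ⟨y, hy, rfl⟩ := hU hx
    exact ⟨y, ⟨hx, hy⟩, rfl⟩
  rw [← h1, ← relIndex_comap]
  refine h _ _ inf_le_right ⟨fun x hx => ?_, fun x hx y hy => ?_⟩
  · rw [mem_comap, map_mul]; exact hs.sq _ hx.1
  · rw [mem_comap, map_commutatorElement]; exact hs.comm _ hx.1 _ hy.1

theorem SR.of_map {G' : Type*} [Group G'] {k : ℕ} {S : Subgroup G} {f : G →* G'}
    (hf : Function.Injective f) (h : SR k (S.map f)) : SR k S := fun N U hU hs => by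
  rw [← relIndex_map_map_of_injective N U hf]
  exact h _ _ (map_mono hU) (hs.map f)

theorem sr_top_iff {k : ℕ} {S : Subgroup G} : SR k (⊤ : Subgroup S) ↔ SR k S := by
  constructor
  · intro h
    have := h.map S.subtype
    rwa [← MonoidHom.range_eq_map, range_subtype] at this
  · intro h
    refine SR.of_map S.subtype_injective ?_
    rwa [← MonoidHom.range_eq_map, range_subtype]

theorem SR.of_equiv {G' : Type*} [Group G'] {k : ℕ} (h : SR k (⊤ : Subgroup G)) (e : G ≃* G') :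
    SR k (⊤ : Subgroup G') := by
  have := h.map (e : G →* G')
  rwa [map_top_of_surjective _ e.surjective] at this

theorem SR.sectional {n : ℕ} (h : SR (2 ^ n) (⊤ : Subgroup G)) : Cfsg.SectionalPRankLE 2 n G := by
  intro H N _ A hA hA2
  have h1 := (sr_top_iff.2 (h.of_le (le_top : H ≤ ⊤))).map (QuotientGroup.mk' N)
  rw [map_top_of_surjective _ (QuotientGroup.mk'_surjective N)] at h1
  rw [← relIndex_bot_left]
  refine h1 ⊥ A le_top ⟨fun x hx => ?_, fun x hx y hy => ?_⟩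
  · rw [mem_bot, ← sq]; exact hA2 x hx
  · rw [mem_bot, commutatorElement_eq_one_iff_mul_comm]
    exact H13.isMulCommutative_iff_forall_mem.1 hA x hx y hy

variable [Finite G]

theorem sr_card (S : Subgroup G) : SR (Nat.card S) S := fun N _ hU _ =>
  (Nat.le_of_dvd Nat.card_pos (relIndex_dvd_card N _)).trans (card_le_of_le hU)

theorem Sec.exists_pow {N U : Subgroup G} (h : Sec N U) : ∃ n, N.relIndex U = 2 ^ n := by
  have hn : ((N ⊓ U).subgroupOf U).Normal :=
    (normal_subgroupOf_iff_le_normalizer inf_le_right).2 (h.inf.le_normalizer inf_le_right)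
  rw [← inf_relIndex_right]
  refine IsPGroup.iff_card.1 (show IsPGroup 2 (U ⧸ (N ⊓ U).subgroupOf U) from fun x => ⟨1, ?_⟩)
  obtain ⟨x, rfl⟩ := QuotientGroup.mk_surjective x
  rw [pow_one, _root_.sq, ← QuotientGroup.mk_mul, QuotientGroup.eq_one_iff]
  exact h.inf.sq x x.2

theorem SR.of_sylow {k : ℕ} (P : Sylow 2 G) (h : SR k (P : Subgroup G)) :
    SR k (⊤ : Subgroup G) := by
  refine sr_of_le fun N U _ hN hs => ?_
  obtain ⟨Q, hQ, -⟩ := exists_sylIn (p := 2) (R := ⊥) (H := U) bot_le IsPGroup.of_bot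
  obtain ⟨g, hg⟩ := sylow_exists_cj_le P hQ.isPGroup
  have h1 : (Q ⊔ N).relIndex U = 1 := by
    obtain ⟨n, hn⟩ := (hs.mono (le_sup_right : N ≤ Q ⊔ N) le_rfl).exists_pow
    obtain _ | n := n
    · exact hn
    · exact absurd ((Dvd.intro_left _ ((pow_succ 2 n).symm.trans hn.symm)).trans
        (relIndex_dvd_of_le_left U le_sup_left)) hQ.not_dvd
  rw [hs.filter hN hQ.le, h1, mul_one, ← relIndex_cj g]
  exact h _ _ hg ((hs.mono le_rfl hQ.le).map _)

theorem relIndex_le_of_cover {M F : Subgroup G} (s : Finset G)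
    (h : ∀ x ∈ F, ∃ a ∈ s, a⁻¹ * x ∈ M) : M.relIndex F ≤ s.card := by
  classical
  choose! f hf using h
  refine relIndex_le_of_map f s (fun g hg => (hf g hg).1) fun g hg k hk e => ?_
  have := M.mul_mem (M.inv_mem (hf g hg).2) (hf k hk).2
  rw [e] at this
  simpa [mul_assoc] using this

theorem relIndex_le_two_of {M F : Subgroup G} (a : G) (h : ∀ x ∈ F, x ∈ M ∨ a⁻¹ * x ∈ M) :
    M.relIndex F ≤ 2 := by
  classical
  refine (relIndex_le_of_cover {1, a} fun x hx => ?_).trans Finset.card_le_two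
  rcases h x hx with e | e
  · exact ⟨1, by simp, by simpa using e⟩
  · exact ⟨a, by simp, e⟩

theorem relIndex_le_four_of {M F : Subgroup G} (a b c : G)
    (h : ∀ x ∈ F, x ∈ M ∨ a⁻¹ * x ∈ M ∨ b⁻¹ * x ∈ M ∨ c⁻¹ * x ∈ M) : M.relIndex F ≤ 4 := by
  classical
  refine (relIndex_le_of_cover {1, a, b, c} fun x hx => ?_).trans Finset.card_le_four
  rcases h x hx with e | e | e | e
  · exact ⟨1, by simp, by simpa using e⟩
  · exact ⟨a, by simp, e⟩
  · exact ⟨b, by simp, e⟩
  · exact ⟨c, by simp, e⟩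

theorem Sec.le_two_of_cyclic {Q : Type*} [Group Q] {M F : Subgroup G} (h : Sec M F) (f : G →* Q)
    (hc : IsCyclic (F.map f)) (hk : ∀ x ∈ F, f x = 1 → x ∈ M) : M.relIndex F ≤ 2 := by
  obtain ⟨⟨_, a, ha, rfl⟩, hgen⟩ := hc.exists_generator
  refine relIndex_le_two_of a fun x hx => ?_
  obtain ⟨k, hk'⟩ := hgen ⟨f x, x, hx, rfl⟩
  have e : f a ^ k = f x := congrArg Subtype.val hk'
  have h1 : (a ^ k)⁻¹ * x ∈ M := hk _ (F.mul_mem (F.inv_mem (F.zpow_mem ha k)) hx)
    (by rw [map_mul, map_inv, map_zpow, e, inv_mul_cancel])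
  have h3 : ∀ m : ℤ, a ^ (2 * m) ∈ M := fun m => by
    rw [zpow_mul, zpow_two]; exact M.zpow_mem (h.sq a ha) m
  rcases Int.even_or_odd' k with ⟨m, rfl | rfl⟩
  · exact Or.inl ((M.mul_mem_cancel_left (M.inv_mem (h3 m))).1 h1)
  · right
    have := M.mul_mem (h3 m) h1
    rwa [show a ^ (2 * m) * ((a ^ (2 * m + 1))⁻¹ * x) = a⁻¹ * x by group] at this

theorem Sec.le_two_of_zpowers {M F K : Subgroup G} [K.Normal] (h : Sec M F) {c : G}
    (hc : F ≤ zpowers c ⊔ K) (hk : F ⊓ K ≤ M) : M.relIndex F ≤ 2 := by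
  refine h.le_two_of_cyclic (QuotientGroup.mk' K)
    (H13.isCyclic_of_le (K := zpowers (QuotientGroup.mk' K c)) inferInstance ?_)
    fun x hx e => hk ⟨hx, (QuotientGroup.eq_one_iff x).1 e⟩
  refine (map_mono hc).trans ?_
  rw [Subgroup.map_sup, MonoidHom.map_zpowers, QuotientGroup.map_mk'_self, sup_bot_eq]

theorem sr_two_of_isCyclic {S : Subgroup G} (h : IsCyclic S) : SR 2 S := fun _ U hU hs =>
  hs.le_two_of_cyclic (MonoidHom.id G) (by rw [Subgroup.map_id]; exact H13.isCyclic_of_le h hU)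
    fun x _ e => by rw [show x = 1 from e]; exact one_mem _

theorem relIndex_le_card_centralizer {N F : Subgroup G} {g : G} (h : ∀ f ∈ F, ⁅f, g⁆ ∈ N ⊓ F) :
    N.relIndex F ≤ Nat.card ↥(centralizer {g} ⊓ F) := by
  have h1 := H3.relIndex_centralizer_le_card F (N ⊓ F) g h
  have h2 := H2.card_inf_mul_relIndex N F
  have h3 := H2.card_inf_mul_relIndex (centralizer {g}) F
  refine Nat.le_of_mul_le_mul_left ?_ (Nat.card_pos (α := ↥(N ⊓ F)))
  rw [h2, ← h3, mul_comm (Nat.card ↥(N ⊓ F))]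
  exact Nat.mul_le_mul_left _ h1

theorem Sec.le_card_centralizer {N U K : Subgroup G} (h : Sec N U) {g : G} (hg : g ∈ U)
    (hK : g ∈ normalizer (K : Set G)) :
    N.relIndex (U ⊓ K) ≤ Nat.card ↥(centralizer {g} ⊓ K) := by
  refine (relIndex_le_card_centralizer (g := g) fun f hf => ?_).trans
    (card_le_of_le (inf_le_inf_left _ inf_le_right))
  have h1 := h.inf.comm f hf.1 g hg
  refine ⟨h1.1, h1.2, ?_⟩
  have := K.mul_mem hf.2 (conj_mem_of_mem_normalizer hK (K.inv_mem hf.2))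
  simpa [commutatorElement_def, mul_assoc] using this

theorem SR.ext {a b : ℕ} {S K : Subgroup G} (hK : SR a K)
    (h : ∀ M U : Subgroup G, U ≤ S → Sec M U → U ⊓ K ≤ M → M.relIndex U ≤ b) : SR (a * b) S :=
  sr_of_le fun N U hU hN hs => by
    rw [hs.filter hN (inf_le_left : U ⊓ K ≤ U)]
    exact Nat.mul_le_mul (hK _ _ inf_le_right (hs.mono le_rfl inf_le_left))
      (h _ _ hU (hs.mono le_sup_right le_rfl) le_sup_left)

theorem relIndex_le_of_inf_le {M U K S : Subgroup G} (hU : U ≤ S) (h : U ⊓ K ≤ M) :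
    M.relIndex U ≤ K.relIndex S := by
  refine le_trans ?_ (relIndex_le_of_le_right hU index_ne_zero_of_finite)
  rw [← inf_relIndex_left U K]
  exact relIndex_le_of_le_left h index_ne_zero_of_finite

theorem SR.ext_index {a : ℕ} {S K : Subgroup G} (hK : SR a K) : SR (a * K.relIndex S) S :=
  hK.ext fun _ _ hU _ h => relIndex_le_of_inf_le hU h

theorem SR.ext_map {Q : Type*} [Group Q] {a b : ℕ} {S : Subgroup G} (f : G →* Q)
    (hK : SR a (S ⊓ f.ker)) (hQ : SR b (S.map f)) : SR (a * b) S := by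
  refine hK.ext fun M U hU hs hk => ?_
  have h1 := hQ _ _ (map_mono hU) (hs.inf.map f)
  rw [← relIndex_comap, comap_map_eq] at h1
  refine le_trans (le_of_eq ?_) h1
  rw [← inf_relIndex_right M, ← inf_relIndex_right (M ⊓ U ⊔ f.ker)]
  congr 1
  refine le_antisymm (le_inf le_sup_left inf_le_right) fun x hx => ⟨?_, hx.2⟩
  obtain ⟨a, ha, b, hb, rfl⟩ := mem_sup_of_normal_right.1 hx.1
  have hbU : b ∈ U := (U.mul_mem_cancel_left ha.2).1 hx.2
  exact M.mul_mem ha.1 (hk ⟨hbU, hU hbU, hb⟩)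

theorem exists_zpowers_index_two (h : (∃ m : ℕ, 2 ≤ m ∧ Nonempty (G ≃* DihedralGroup m)) ∨
    Cfsg.IsQuasiDihedral G) : ∃ r : G, (zpowers r).index = 2 := by
  rcases h with ⟨m, hm, ⟨e⟩⟩ | ⟨n, hn, hc, x, y, hx, -⟩
  · have : NeZero m := ⟨by omega⟩
    refine ⟨e.symm (DihedralGroup.r 1), Nat.eq_of_mul_eq_mul_left (show 0 < m by omega) ?_⟩
    have h1 := (zpowers (e.symm (DihedralGroup.r 1))).card_mul_index
    rwa [Nat.card_zpowers, e.symm.orderOf_eq, DihedralGroup.orderOf_r_one,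
      Nat.card_congr e.toEquiv, DihedralGroup.nat_card, mul_comm 2] at h1
  · refine ⟨x, Nat.eq_of_mul_eq_mul_left (show 0 < 2 ^ n by positivity) ?_⟩
    have h1 := (zpowers x).card_mul_index
    rwa [Nat.card_zpowers, hx, hc, pow_succ] at h1

theorem sr_four_of_index_two {r : G} (h : (zpowers r).index = 2) : SR 4 (⊤ : Subgroup G) := by
  have := (sr_two_of_isCyclic (S := zpowers r) inferInstance).ext_index (S := ⊤)
  rwa [relIndex_top_right, h] at this

end H22
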