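import Mathlib
import Cfsg.Agent.H22.SR
import Cfsg.Agent.H22.QD

/-!
# Harada's lemma on involution centralizers with Sylow 2-subgroup `D × B`
-/

set_option autoImplicit false
set_option linter.unusedSectionVars false

namespace H22

open Subgroup
open scoped commutatorElement

variable {G : Type*} [Group G] [Finite G]

theorem relIndex_eq_map {Q : Type*} [Group Q] (f : G →* Q) {M F U : Subgroup G} (hM : M ≤ U)
    (hF : F ≤ U) (hk : ∀ x ∈ U, f x = 1 → x ∈ M) :
    M.relIndex F = (M.map f).relIndex (F.map f) := by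
  rw [← relIndex_comap, comap_map_eq, ← inf_relIndex_right M, ← inf_relIndex_right (M ⊔ f.ker)]
  congr 1
  refine le_antisymm (inf_le_inf_right _ le_sup_left) fun x hx => ⟨?_, hx.2⟩
  obtain ⟨a, ha, b, hb, rfl⟩ := mem_sup_of_normal_right.1 hx.1
  exact M.mul_mem ha (hk b ((U.mul_mem_cancel_left (hM ha)).1 (hF hx.2)) hb)

theorem card_le_relIndex_of_inf {C B T : Subgroup G} (hC : C ≤ T) (h : ∀ x ∈ C, x ∈ B → x = 1) :
    Nat.card C ≤ B.relIndex T := by
  rw [← relIndex_bot_left]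
  exact relIndex_le_of_inf_le hC fun x hx => mem_bot.2 (h x hx.1 hx.2)

theorem le_or_le_of_forall {F A B : Subgroup G} (h : ∀ x ∈ F, x ∈ A ∨ x ∈ B) : F ≤ A ∨ F ≤ B := by
  by_contra hcon
  obtain ⟨h1, h2⟩ := not_or.1 hcon
  obtain ⟨a, ha, ha'⟩ := SetLike.not_le_iff_exists.1 h1
  obtain ⟨b, hb, hb'⟩ := SetLike.not_le_iff_exists.1 h2
  rcases h _ (F.mul_mem ha hb) with e | e
  · exact ha' ((A.mul_mem_cancel_right ((h b hb).resolve_right hb')).1 e)
  · exact hb' ((B.mul_mem_cancel_left ((h a ha).resolve_left ha')).1 e)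

theorem exists_pow_sq_mem (hG : IsPGroup 2 G) {H K : Subgroup G} (h : ¬ K ≤ H) :
    ∃ g ∈ K, g ∉ H ∧ g * g ∈ H := by
  obtain ⟨g, hg, hg'⟩ := SetLike.not_le_iff_exists.1 h
  obtain ⟨k, h1, h2⟩ := H3.exists_pow_not_mem_pow_mem hG hg'
  exact ⟨_, K.pow_mem hg _, h1, by rwa [sq] at h2⟩

theorem exists_central_sq (hG : IsPGroup 2 G) {K U H : Subgroup G} (hUK : U ≤ K)
    (hKU : K ≤ normalizer (U : Set G)) (hKH : K ≤ normalizer (H : Set G)) (hUH : ¬ U ≤ H) :
    ∃ x ∈ U, x ∉ H ∧ x * x ∈ H ∧ ∀ k ∈ K, ⁅x, k⁆ ∈ H := by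
  let Z : Subgroup G :=
    { carrier := {x | x ∈ U ∧ ∀ k ∈ K, ⁅x, k⁆ ∈ H}
      one_mem' := ⟨U.one_mem, fun k _ => by simp⟩
      mul_mem' := fun {a b} ha hb => ⟨U.mul_mem ha.1 hb.1, fun k hk => by
        have := H.mul_mem (conj_mem_of_mem_normalizer (hKH (hUK ha.1)) (hb.2 k hk)) (ha.2 k hk)
        simpa [commutatorElement_def, mul_assoc] using this⟩
      inv_mem' := fun {a} ha => ⟨U.inv_mem ha.1, fun k hk => by
        have := conj_mem_of_mem_normalizer' (hKH (hUK ha.1)) (H.inv_mem (ha.2 k hk))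
        simpa [commutatorElement_def, mul_assoc] using this⟩ }
  obtain ⟨x, hx, hxH, hc⟩ := H13.exists_not_mem_commutator_mem (hG.to_subgroup K).isNilpotent
    hUK hKU hUH
  obtain ⟨y, hy, h1, h2⟩ := exists_pow_sq_mem hG (H := H) (K := Z)
    fun e => hxH (e ⟨hx, fun k hk => (hc k hk).1⟩)
  exact ⟨y, hy.1, h1, h2, hy.2⟩

section E16
variable (hG : IsPGroup 2 G) {T B : Subgroup G} (hT2 : ∀ x ∈ T, x * x = 1)
  (hT : Nat.card T = 16) (hBT : B ≤ T) (hB : Nat.card B = 4)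
  (hC : ∀ b ∈ B, b ≠ 1 → ∀ g, Commute b g → g ∈ T)

include hT2 in
theorem comm_of_sq : ∀ x ∈ T, ∀ y ∈ T, Commute x y := fun x hx y hy => by
  have h1 := hT2 _ (T.mul_mem hx hy)
  show x * y = y * x
  rw [← inv_eq_of_mul_eq_one_right h1, mul_inv_rev, inv_eq_of_mul_eq_one_right (hT2 x hx),
    inv_eq_of_mul_eq_one_right (hT2 y hy)]

include hT hBT hB hC in
theorem E16_cent {g : G} (hg : g ∉ T) : Nat.card ↥(centralizer {g} ⊓ T) ≤ 4 := by
  have h1 := H2.card_mul_relIndex hBT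
  rw [hT, hB] at h1
  refine (card_le_relIndex_of_inf (B := B) inf_le_right fun x hx hxB => ?_).trans (by omega)
  by_contra h
  exact hg (hC x hxB h g (mem_centralizer_singleton_iff.1 hx.1))

include hG hT2 hT hBT hB hC in
theorem E16_index : T.relIndex (normalizer (T : Set G)) ≤ 4 := by
  set N := normalizer (T : Set G) with hN
  by_cases h : N ≤ T
  · rw [relIndex_eq_one.2 h]; omega
  obtain ⟨s, hs, hsT, hss, hsc⟩ := exists_central_sq hG (K := N) le_rfl le_normalizer le_rfl h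
  have hc := comm_of_sq hT2
  set U := centralizer {s} ⊓ T with hU
  have hU4 : Nat.card U ≤ 4 := E16_cent hT hBT hB hC hsT
  have hUn : ∀ n ∈ N, ∀ u ∈ U, n * u * n⁻¹ ∈ U := fun n hn u hu => by
    have h1 := conj_mem_of_mem_normalizer hn hu.2
    refine ⟨mem_centralizer_singleton_iff.2 ?_, h1⟩
    have h2 : Commute (n * u * n⁻¹) (n * s * n⁻¹) :=
      (show Commute u s from mem_centralizer_singleton_iff.1 hu.1).conj n
    have h3 := (hc _ h1 _ (hsc n hn)).mul_right h2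
    rwa [show ⁅s, n⁆ * (n * s * n⁻¹) = s by simp [commutatorElement_def, mul_assoc]] at h3
  obtain ⟨t, ht, htU, htc⟩ := H13.exists_not_mem_commutator_mem (hG.to_subgroup N).isNilpotent
    (le_normalizer : T ≤ N) le_rfl (H := U) (fun e => by have := card_le_of_le e; omega)
  have hU4' : 4 ≤ Nat.card U := by
    have h1 := H3.relIndex_centralizer_le_card T U s fun g hg => by
      have h1 := conj_mem_of_mem_normalizer hs (T.inv_mem hg)
      have h2 : ⁅g, s⁆ = g * (s * g⁻¹ * s⁻¹) := by simp [commutatorElement_def, mul_assoc]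
      refine ⟨mem_centralizer_singleton_iff.2 ?_, h2 ▸ T.mul_mem hg h1⟩
      rw [h2, inv_eq_of_mul_eq_one_right (hT2 g hg)] at *
      calc g * (s * g * s⁻¹) * s = s * (s⁻¹ * g * s * g) := by group
        _ = s * (g * (s⁻¹ * g * s)) := by
          rw [(hc _ (conj_mem_of_mem_normalizer' hs hg) g hg).eq]
        _ = s * (g * (s * ((s * s)⁻¹ * g * (s * s)) * s⁻¹)) := by group
        _ = _ := by rw [mul_assoc (s * s)⁻¹, ← (hc _ hss g hg).eq, inv_mul_cancel_left]
    have h2 := H2.card_inf_mul_relIndex (centralizer {s}) T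
    rw [← hU, hT] at h2
    nlinarith
  have hUB : U ⊔ B = T := by
    refine eq_of_le_of_card_ge (sup_le inf_le_right hBT) ?_
    have h1 := H2.card_mul_relIndex (le_sup_right : B ≤ U ⊔ B)
    have h2 : Nat.card U ≤ B.relIndex (U ⊔ B) :=
      card_le_relIndex_of_inf le_sup_left fun x hx hxB => by
        by_contra h
        exact hsT (hC x hxB h s (mem_centralizer_singleton_iff.1 hx.1))
    rw [hT, ← h1, hB]; omega
  obtain ⟨u, hu, b, hb, rfl⟩ := (mem_sup_of_le_normalizer (A := U) (B := B) fun u hu =>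
    centralizer_le_normalizer _ fun b hb => hc b (hBT hb) u hu.2).1 (hUB ▸ ht)
  have hb1 : b ≠ 1 := fun e => htU (by rw [e, mul_one]; exact hu)
  refine le_trans (relIndex_le_of_le_left ?_ index_ne_zero_of_finite)
    ((H3.relIndex_centralizer_le_card N U b fun n hn => ?_).trans hU4)
  · exact fun g hg => hC b hb hb1 g (mem_centralizer_singleton_iff.1 hg).symm
  · have h1 := U.mul_mem (U.mul_mem (U.inv_mem hu) (htc n hn).1) (hUn n hn u hu)
    rw [← commutatorElement_inv]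
    refine U.inv_mem ?_
    simpa [commutatorElement_def, mul_assoc] using h1

include hG hT2 hT hBT hB hC in
theorem E16_sr_normalizer : SR 16 (normalizer (T : Set G)) := by
  refine sr_of_le fun M U hU hM hs => ?_
  by_cases h : U ≤ T
  · exact hT ▸ sr_card T M U h hs
  obtain ⟨g, hg, hgT⟩ := SetLike.not_le_iff_exists.1 h
  rw [hs.filter hM (inf_le_left : U ⊓ T ≤ U)]
  exact Nat.mul_le_mul ((hs.le_card_centralizer hg (hU hg)).trans (E16_cent hT hBT hB hC hgT))
    ((relIndex_le_of_inf_le hU le_sup_left).trans (E16_index hG hT2 hT hBT hB hC))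

include hG hT2 hT hBT hB hC in
theorem E16_sr : SR 16 (⊤ : Subgroup G) := by
  have hsrN := E16_sr_normalizer hG hT2 hT hBT hB hC
  have hi := E16_index hG hT2 hT hBT hB hC
  set N := normalizer (T : Set G) with hN
  by_cases hNt : N = ⊤
  · rwa [← hNt]
  obtain ⟨g, -, hgN, hgN'⟩ := exists_mem_normalizer_not_mem (hG.to_subgroup ⊤)
    (lt_top_iff_ne_top.2 hNt)
  have hc := comm_of_sq hT2
  have hTN : T ≤ N := le_normalizer
  set T' := cj g T with hT'
  have hT'c : Nat.card T' = 16 := by rw [hT', card_cj, hT]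
  have hT'N : T' ≤ N := by rw [← cj_eq_iff.2 hgN]; exact cj_mono hTN
  have hT'2 : ∀ x ∈ T', x * x = 1 := by
    rintro _ ⟨x, hx, rfl⟩; exact conj_mul_self (hT2 x hx) g
  have hc' := comm_of_sq hT'2
  have hne : ¬ T' ≤ T := fun e => hgN' (cj_eq_iff.1 (cj_eq_of_le e))
  have hNT' : N ≤ normalizer (T' : Set G) := by rw [hT', ← cj_normalizer, cj_eq_iff.2 hgN]
  set W := T ⊓ T' with hW
  have hWC : ∀ t ∈ T', W ≤ centralizer {t} ⊓ T := fun t ht w hw =>
    ⟨mem_centralizer_singleton_iff.2 (hc' w hw.2 t ht), hw.1⟩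
  have hW4 : Nat.card W ≤ 4 := by
    obtain ⟨t, ht, htT⟩ := SetLike.not_le_iff_exists.1 hne
    exact (card_le_of_le (hWC t ht)).trans (E16_cent hT hBT hB hC htT)
  have h1 := H2.card_inf_mul_relIndex T T'
  have h2 : T.relIndex T' ≤ T.relIndex N := relIndex_le_of_le_right hT'N index_ne_zero_of_finite
  rw [← hW, hT'c] at h1
  have h3 : T.relIndex T' = 4 := by nlinarith
  have hW4' : Nat.card W = 4 := by rw [h3] at h1; omega
  have hTT : T' ⊔ T = N := by
    refine eq_of_le_of_card_ge (sup_le hT'N hTN) ?_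
    rw [← H2.card_mul_relIndex hTN, ← H2.card_mul_relIndex (le_sup_right : T ≤ T' ⊔ T),
      H2.relIndex_sup_of_le_normalizer hT'N, h3]
    exact Nat.mul_le_mul_left _ hi
  have hdec : ∀ x ∈ N, ∃ a ∈ T', ∃ b ∈ T, a * b = x := fun x hx =>
    (mem_sup_of_le_normalizer hT'N).1 (hTT ▸ hx)
  have hsq : ∀ a ∈ T', ∀ b ∈ T, a * b * (a * b) = ⁅a, b⁆ := fun a ha b hb => by
    rw [commutatorElement_def, inv_eq_of_mul_eq_one_right (hT'2 a ha),
      inv_eq_of_mul_eq_one_right (hT2 b hb), mul_assoc (a * b)]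
  have hsqW : ∀ x ∈ N, x * x ∈ W := fun x hx => by
    obtain ⟨a, ha, b, hb, rfl⟩ := hdec x hx
    refine ⟨?_, ?_⟩
    · simpa [mul_assoc, inv_eq_of_mul_eq_one_right (hT'2 a ha)] using
        T.mul_mem (conj_mem_of_mem_normalizer (hT'N ha) hb) hb
    · simpa [mul_assoc, inv_eq_of_mul_eq_one_right (hT2 b hb)] using
        T'.mul_mem ha (conj_mem_of_mem_normalizer (hNT' (hTN hb)) ha)
  have hinv : ∀ x ∈ N, x * x = 1 → x ∈ T ∨ x ∈ T' := fun x hx hxx => by
    obtain ⟨a, ha, b, hb, rfl⟩ := hdec x hx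
    by_cases haT : a ∈ T
    · exact Or.inl (T.mul_mem haT hb)
    · rw [hsq a ha b hb, commutatorElement_eq_one_iff_mul_comm] at hxx
      have := eq_of_le_of_card_ge (hWC a ha) ((E16_cent hT hBT hB hC haT).trans hW4'.ge)
      have hbW : b ∈ W := this ▸ ⟨mem_centralizer_singleton_iff.2 hxx.symm, hb⟩
      exact Or.inr (T'.mul_mem ha hbW.2)
  have hE : ∀ F : Subgroup G, F ≤ N → (∀ x ∈ F, x * x = 1) → F ≤ T ∨ F ≤ T' := fun F hF hF2 =>
    le_or_le_of_forall fun x hx => hinv x (hF hx) (hF2 x hx)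
  have hcj : ∀ k : G, cj k T ≤ N → k ∈ N ∨ cj k T = T' := fun k hk => by
    rcases hE _ hk (by rintro _ ⟨x, hx, rfl⟩; exact conj_mul_self (hT2 x hx) k) with e | e
    · exact Or.inl (cj_eq_iff.1 (cj_eq_of_le e))
    · exact Or.inr (eq_of_le_of_card_ge e (by rw [hT'c, card_cj, hT]))
  -- elements of `N(N) \ N` swap `T` and `T'`
  have hswap : ∀ k ∈ normalizer (N : Set G), k ∉ N → cj k T = T' ∧ cj k T' = T := by
    have key : ∀ k ∈ normalizer (N : Set G), k ∉ N → cj k T = T' := fun k hk hkN =>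
      (hcj k (by rw [← cj_eq_iff.2 hk]; exact cj_mono hTN)).resolve_left hkN
    intro k hk hkN
    refine ⟨key k hk hkN, ?_⟩
    rw [← key k⁻¹ (inv_mem hk) (fun e => hkN (by simpa using e)), cj_cj_inv]
  have hidx : ∀ k ∈ normalizer (N : Set G), k ∈ N ∨ g⁻¹ * k ∈ N := fun k hk => by
    by_cases hkN : k ∈ N
    · exact Or.inl hkN
    · right
      rw [hN, ← cj_eq_iff, cj_mul, (hswap k hk hkN).1, hT', cj_inv_cj]
  have hfix : ∀ k ∈ normalizer (N : Set G), k ∉ N → ∀ x ∈ N, x * x = 1 →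
      (k * x * k⁻¹ * x ∈ N ∧ k * x * k⁻¹ * x * (k * x * k⁻¹ * x) = 1) → x ∈ W := by
    intro k hk hkN x hx hxx hy
    obtain ⟨e1, e2⟩ := hswap k hk hkN
    have m1 : ∀ {y}, k * y * k⁻¹ ∈ T ↔ y ∈ T' := by rw [← e2]; exact conj_mem_cj_iff
    have m2 : ∀ {y}, k * y * k⁻¹ ∈ T' ↔ y ∈ T := by rw [← e1]; exact conj_mem_cj_iff
    rcases hinv x hx hxx with e | e <;> rcases hinv _ hy.1 hy.2 with e' | e'
    · exact ⟨e, m1.1 ((T.mul_mem_cancel_right e).1 e')⟩
    · exact ⟨e, (T'.mul_mem_cancel_left (m2.2 e)).1 e'⟩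
    · exact ⟨(T.mul_mem_cancel_left (m1.2 e)).1 e', e⟩
    · exact ⟨m2.1 ((T'.mul_mem_cancel_right e).1 e'), e⟩
  have htop : normalizer (N : Set G) = ⊤ := by
    by_contra hne'
    obtain ⟨k, -, hk, hk'⟩ := exists_mem_normalizer_not_mem (hG.to_subgroup ⊤)
      (lt_top_iff_ne_top.2 hne')
    have hkR : cj k T ≤ normalizer (N : Set G) := by
      rw [← cj_eq_iff.2 hk]; exact cj_mono (hTN.trans le_normalizer)
    have hk2 : ∀ x ∈ cj k T, x * x = 1 := by
      rintro _ ⟨x, hx, rfl⟩; exact conj_mul_self (hT2 x hx) k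
    by_cases hle : cj k T ≤ N
    · rcases hcj k hle with e | e
      · exact hk' (le_normalizer e)
      · have : g⁻¹ * k ∈ N := by rw [hN, ← cj_eq_iff, cj_mul, e, hT', cj_inv_cj]
        exact hk' (((normalizer (N : Set G)).mul_mem_cancel_left (inv_mem hgN)).1
          (le_normalizer this))
    obtain ⟨h, hh, hhN⟩ := SetLike.not_le_iff_exists.1 hle
    have h4 : N ⊓ cj k T ≤ W := fun x hx => hfix h (hkR hh) hhN x hx.1 (hk2 x hx.2) (by
      rw [← (comm_of_sq hk2 x hx.2 h hh).eq, mul_inv_cancel_right, hk2 x hx.2]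
      exact ⟨N.one_mem, mul_one 1⟩)
    have h5 := H2.card_inf_mul_relIndex N (cj k T)
    have h6 : N.relIndex (cj k T) ≤ 2 := relIndex_le_two_of g fun x hx => hidx x (hkR hx)
    have h7 := card_le_of_le h4
    rw [card_cj, hT] at h5
    nlinarith
  have hall : ∀ k, k ∈ normalizer (N : Set G) := fun k => htop ▸ mem_top k
  have hWn : W.Normal := normalizer_eq_top_iff.1 (eq_top_iff.2 fun k _ => by
    by_cases hkN : k ∈ N
    · exact mem_normalizer_inf hkN (hNT' hkN)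
    · rw [← cj_eq_iff, hW, cj_inf, (hswap k (hall k) hkN).1, (hswap k (hall k) hkN).2, inf_comm])
  refine sr_of_le fun M U _ hM hs => ?_
  by_cases hUN : U ≤ N
  · exact hsrN M U hUN hs
  obtain ⟨h, hh, hhN⟩ := SetLike.not_le_iff_exists.1 hUN
  have r1 : M.relIndex (U ⊓ W) ≤ 4 := hW4' ▸ sr_card W _ _ inf_le_right (hs.mono le_rfl inf_le_left)
  have r3 : ∀ M' : Subgroup G, (U ⊓ N ⊔ M').relIndex U ≤ 2 := fun M' =>
    (relIndex_le_of_inf_le (S := ⊤) le_top le_sup_left).trans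
      (relIndex_le_two_of g fun x _ => hidx x (hall x))
  have hs' : Sec (U ⊓ W ⊔ M) U := hs.mono le_sup_right le_rfl
  have hM' : U ⊓ W ⊔ M ≤ U := sup_le inf_le_left hM
  have hWN : W ≤ N := inf_le_left.trans hTN
  have r2 : (U ⊓ W ⊔ M).relIndex (U ⊓ N) ≤ 4 := by
    let f := QuotientGroup.mk' W
    have hk : ∀ x, f x = 1 ↔ x ∈ W := fun x => QuotientGroup.eq_one_iff x
    rw [relIndex_eq_map f hM' inf_le_left fun x hx e => mem_sup_left ⟨hx, (hk x).1 e⟩]
    refine le_trans (relIndex_le_of_le_right (map_inf_le _ _ f) index_ne_zero_of_finite) ?_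
    refine ((hs'.map f).le_card_centralizer (mem_map_of_mem f hh)
      (le_normalizer_map f (mem_map_of_mem f (hall h)))).trans ?_
    refine (card_le_relIndex_of_inf (B := T.map f) inf_le_right ?_).trans ?_
    · rintro _ hx ⟨t, ht, rfl⟩
      have e : f (h * t * h⁻¹ * t⁻¹) = 1 := by
        rw [map_mul, map_mul, map_mul, ← mem_centralizer_singleton_iff.1 hx.1]; simp
      have h8 : h * t * h⁻¹ ∈ T := (T.mul_mem_cancel_right (T.inv_mem ht)).1 ((hk _).1 e).1
      rw [← (hswap h (hall h) hhN).2, conj_mem_cj_iff] at h8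
      exact (hk t).2 ⟨ht, h8⟩
    · rw [← relIndex_eq_map f hTN le_rfl fun x _ e => ((hk x).1 e).1]
      exact hi
  by_cases r1' : M.relIndex (U ⊓ W) ≤ 2
  · rw [hs.filter hM (inf_le_left : U ⊓ W ≤ U), hs'.filter hM' (inf_le_left : U ⊓ N ≤ U)]
    exact (Nat.mul_le_mul r1' (Nat.mul_le_mul r2 (r3 _))).trans (by norm_num)
  have hMW : ∀ x ∈ M, x ∈ W → x = 1 := by
    have h4 := H2.card_inf_mul_relIndex M (U ⊓ W)
    have h5 := (card_le_of_le (inf_le_right : U ⊓ W ≤ W)).trans hW4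
    have h6 : M ⊓ (U ⊓ W) = ⊥ := card_le_one_iff_eq_bot _ |>.1 (by nlinarith)
    exact fun x hx hxW => mem_bot.1 (h6 ▸ ⟨hx, hM hx, hxW⟩)
  have hF2 : ∀ x ∈ U ⊓ N, x * x = 1 := fun x hx => hMW _ (hs.sq x hx.1) (hsqW x hx.2)
  have hFW : U ⊓ N ≤ U ⊓ W := fun x hx => by
    have h4 : h * x * h⁻¹ * x ∈ U ⊓ N := (U ⊓ N).mul_mem
      ⟨U.mul_mem (U.mul_mem hh hx.1) (U.inv_mem hh), conj_mem_of_mem_normalizer (hall h) hx.2⟩ hx
    exact ⟨hx.1, hfix h (hall h) hhN x hx.2 (hF2 x hx) ⟨h4.2, hF2 _ h4⟩⟩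
  rw [hs.filter hM (inf_le_left : U ⊓ N ≤ U)]
  exact (Nat.mul_le_mul ((relIndex_le_of_le_right hFW index_ne_zero_of_finite).trans r1)
    (r3 _)).trans (by norm_num)

end E16

theorem isKleinFour_of_comm (h : (∃ m : ℕ, 2 ≤ m ∧ Nonempty (G ≃* DihedralGroup m)) ∨
    Cfsg.IsQuasiDihedral G) (hc : ∀ x y : G, x * y = y * x) :
    Nat.card G = 4 ∧ ∀ x : G, x * x = 1 := by
  rcases h with ⟨m, hm, ⟨e⟩⟩ | ⟨n, hn, -, x, y, hx, -, hxy⟩
  · have h1 : DihedralGroup.r (1 : ZMod m) * DihedralGroup.sr 0 =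
        DihedralGroup.sr 0 * DihedralGroup.r 1 := e.symm.injective (by rw [map_mul, map_mul, hc])
    have h2 : ((2 : ℕ) : ZMod m) = 0 := by
      have := DihedralGroup.sr.inj h1
      push_cast
      linear_combination -this
    obtain rfl : m = 2 := le_antisymm (Nat.le_of_dvd two_pos ((ZMod.natCast_eq_zero_iff _ _).1 h2)) hm
    refine ⟨by rw [Nat.card_congr e.toEquiv, DihedralGroup.nat_card], fun x => e.injective ?_⟩
    rw [map_mul, map_one, IsKleinFour.mul_self]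
  · exfalso
    rw [hc y x, mul_inv_cancel_right] at hxy
    obtain ⟨k, rfl⟩ : ∃ k, n = k + 3 := ⟨n - 3, by omega⟩
    have h4 : 2 ^ (k + 3 - 1) = 4 * 2 ^ k := by rw [show k + 3 - 1 = k + 2 from rfl]; ring
    have h5 : 0 < 2 ^ k := by positivity
    have h1 : x ^ (4 * 2 ^ k - 2) = 1 := by
      refine mul_right_cancel (b := x) ?_
      rw [← pow_succ, one_mul, show 4 * 2 ^ k - 2 + 1 = 2 ^ (k + 3 - 1) - 1 by omega, ← hxy]
    have := Nat.le_of_dvd (by omega) (orderOf_dvd_of_pow_eq_one h1)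
    rw [hx, pow_add] at this
    omega

theorem central_invol_unique (hG : IsPGroup 2 G) {r : G} (hr : (zpowers r).index = 2)
    (hnc : ¬ ∀ x y : G, x * y = y * x) {a b : G} (ha : a * a = 1) (hb : b * b = 1) (ha1 : a ≠ 1)
    (hb1 : b ≠ 1) (hac : ∀ g, g * a = a * g) (hbc : ∀ g, g * b = b * g) : a = b := by
  have key : ∀ a : G, (∀ g, g * a = a * g) → a ∈ zpowers r := fun a hac => by
    by_contra h
    have hd : ∀ x : G, ∃ k : ℤ, x = r ^ k ∨ x = a * r ^ k := fun x => by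
      by_cases hx : x ∈ zpowers r
      · obtain ⟨k, rfl⟩ := hx; exact ⟨k, Or.inl rfl⟩
      · obtain ⟨k, hk⟩ := (mul_mem_iff_of_index_two hr (a := a⁻¹) (b := x)).2 (by simp [h, hx])
        exact ⟨k, Or.inr (by rw [show r ^ k = a⁻¹ * x from hk, mul_inv_cancel_left])⟩
    refine hnc fun x y => ?_
    have h1 : ∀ g, Commute a g := fun g => (hac g).symm
    obtain ⟨i, rfl | rfl⟩ := hd x <;> obtain ⟨j, rfl | rfl⟩ := hd y
    · exact (Commute.refl r).zpow_zpow i j
    · exact (h1 _).symm.mul_right ((Commute.refl r).zpow_zpow i j)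
    · exact (h1 _).mul_left ((Commute.refl r).zpow_zpow i j)
    · exact (h1 _).mul_left ((h1 _).symm.mul_right ((Commute.refl r).zpow_zpow i j))
  obtain ⟨k, hk⟩ := IsPGroup.iff_orderOf.1 hG r
  obtain _ | k := k
  · exact absurd (by simpa [orderOf_eq_one_iff.1 hk] using key a hac) ha1
  · have h1 : r ^ 2 ^ (k + 1) = 1 := hk ▸ pow_orderOf_eq_one r
    have h3 := H13.pow_two_pow_pred_ne_one hk (Nat.lt_succ_self k)
    exact (eq_pow_of_mem_zpowers h1 h3 (key a hac) ha ha1).trans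
      (eq_pow_of_mem_zpowers h1 h3 (key b hbc) hb hb1).symm

theorem harada35_pgroup (hG : IsPGroup 2 G) {T D B : Subgroup G}
    (hprod : Cfsg.IsInternalDirectProduct D B T)
    (hD : (∃ m : ℕ, 2 ≤ m ∧ Nonempty (D ≃* DihedralGroup m)) ∨ Cfsg.IsQuasiDihedral D)
    (hB : IsKleinFour B) (hC : ∀ b ∈ B, b ≠ 1 → ∀ g, Commute b g → g ∈ T) :
    SR 16 (⊤ : Subgroup G) := by
  obtain ⟨hDT, hBT, hDB, hinf, hsup⟩ := hprod
  have hB2 : ∀ b ∈ B, b * b = 1 := fun b hb =>
    congrArg Subtype.val (IsKleinFour.mul_self (⟨b, hb⟩ : B))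
  have hBc := comm_of_sq hB2
  have hDN : D ≤ normalizer (B : Set G) := fun d hd =>
    centralizer_le_normalizer _ fun b hb => (hDB d hd b hb).symm
  have hdec : ∀ t ∈ T, ∃ d ∈ D, ∃ b ∈ B, d * b = t := fun t ht =>
    (mem_sup_of_le_normalizer hDN).1 (hsup ▸ ht)
  have hBT' : ∀ b ∈ B, ∀ t ∈ T, Commute b t := fun b hb t ht => by
    obtain ⟨d, hd, c, hc, rfl⟩ := hdec t ht
    exact (show Commute b d from (hDB d hd b hb).symm).mul_right (hBc b hb c hc)
  obtain ⟨r, hr⟩ := exists_zpowers_index_two hD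
  by_cases hab : ∀ x y : D, x * y = y * x
  · obtain ⟨h4, h2⟩ := isKleinFour_of_comm hD hab
    refine E16_sr hG (fun t ht => ?_) ?_ hBT hB.card_four hC
    · obtain ⟨d, hd, c, hc, rfl⟩ := hdec t ht
      rw [← sq, (show Commute d c from hDB d hd c hc).mul_pow, sq, sq, hB2 c hc, mul_one]
      exact congrArg Subtype.val (h2 ⟨d, hd⟩)
    · have := H2.card_sup_mul_card_inf hDN
      rwa [hsup, hinf, card_bot, mul_one, h4, hB.card_four] at this
  have hT : T = ⊤ := by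
    by_contra hne
    obtain ⟨g, -, hg, hgT⟩ := exists_mem_normalizer_not_mem (hG.to_subgroup ⊤)
      (lt_top_iff_ne_top.2 hne)
    obtain ⟨s, hs, hsT, hss⟩ := exists_pow_sq_mem hG (H := T) (K := normalizer (T : Set G))
      fun e => hgT (e hg)
    have hTD : ⁅T, T⁆ ≤ D := commutator_le.2 fun x hx y hy => by
      obtain ⟨d, hd, b, hb, rfl⟩ := hdec x hx
      obtain ⟨d', hd', b', hb', rfl⟩ := hdec y hy
      have e : ⁅d * b, d' * b'⁆ = ⁅d, d'⁆ := by
        rw [comm_mul_left_of_central, commutatorElement_eq_one_iff_commute.2 (hBT' b hb _ hy),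
          mul_one, comm_mul_right_of_central,
          commutatorElement_eq_one_iff_mul_comm.2 (hDB d hd b' hb'), mul_one]
        · rw [commutatorElement_eq_one_iff_mul_comm.2 (hDB d hd b' hb')]; simp
        · rw [commutatorElement_eq_one_iff_commute.2 (hBT' b hb _ hy)]; simp
      rw [e]
      exact D.mul_mem (D.mul_mem (D.mul_mem hd hd') (D.inv_mem hd)) (D.inv_mem hd')
    have hTT : ⁅T, T⁆ ≠ ⊥ := fun e => hab fun x y => Subtype.ext
      (commutatorElement_eq_one_iff_mul_comm.1 (mem_bot.1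
        (e ▸ commutator_mem_commutator (hDT x.2) (hDT y.2))))
    have hN : normalizer (T : Set G) ≤ normalizer ((⁅T, T⁆ : Subgroup G) : Set G) :=
      H13.le_normalizer_commutator le_rfl le_rfl
    obtain ⟨z, hz, hzz, hz1⟩ := exists_invol_mem (hG.to_subgroup _) (H13.inf_centralizer_ne_bot
      (hG.to_subgroup _) (hG.to_subgroup T) (le_normalizer.trans hN) hTT)
    have hzc : ∀ t ∈ T, Commute z t := fun t ht => (hz.2 t (mem_sup_left ht)).symm
    have uniq : ∀ d ∈ D, d * d = 1 → d ≠ 1 → (∀ t ∈ T, Commute d t) → d = z :=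
      fun d hd hdd hd1 hdc => congrArg Subtype.val (central_invol_unique (hG.to_subgroup D) hr hab
        (a := ⟨d, hd⟩) (b := ⟨z, hTD hz.1⟩) (Subtype.ext hdd) (Subtype.ext hzz)
        (fun e => hd1 (congrArg Subtype.val e)) (fun e => hz1 (congrArg Subtype.val e))
        (fun g => Subtype.ext (hdc g (hDT g.2)).symm) fun g => Subtype.ext (hzc g (hDT g.2)).symm)
    have hcj : ∀ x, (∀ t ∈ T, Commute x t) → ∀ t ∈ T, Commute (s * x * s⁻¹) t := fun x hx t ht => by
      simpa [mul_assoc] using (hx _ (conj_mem_of_mem_normalizer' hs ht)).conj s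
    have hsz : s * z * s⁻¹ = z := uniq _ (hTD (conj_mem_of_mem_normalizer (hN hs) hz.1))
      (conj_mul_self hzz s) (by simpa using hz1) (hcj z hzc)
    have hne : ∀ b ∈ B, b ≠ 1 → s * b * s⁻¹ ≠ b := fun b hb hb1 e =>
      hsT (hC b hb hb1 s (mul_inv_eq_iff_eq_mul.1 e).symm)
    have key : ∀ b ∈ B, b ≠ 1 → s * b * s⁻¹ = z * b := fun b hb hb1 => by
      have h1 := conj_mem_of_mem_normalizer hs (hBT hb)
      obtain ⟨d, hd, c, hc, e⟩ := hdec _ (T.mul_mem h1 (hBT hb))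
      have e' : d = s * b * s⁻¹ * b * c := by rw [← e, mul_assoc, hB2 c hc, mul_one]
      have hdc : ∀ t ∈ T, Commute d t := fun t ht =>
        e' ▸ ((hcj b (hBT' b hb) t ht).mul_left (hBT' b hb t ht)).mul_left (hBT' c hc t ht)
      have hdd : d * d = 1 := by
        have h2 : Commute (s * b * s⁻¹) b := hcj b (hBT' b hb) b (hBT hb)
        have h3 : Commute (s * b * s⁻¹ * b) c := (hBT' c hc _ (T.mul_mem h1 (hBT hb))).symm
        rw [e', ← sq, h3.mul_pow, h2.mul_pow, sq, sq, sq, conj_mul_self (hB2 b hb), hB2 b hb,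
          hB2 c hc]; simp
      have hsd : s * d * s⁻¹ = d := by
        by_cases hd1 : d = 1
        · simp [hd1]
        · rw [uniq d hd hdd hd1 hdc, hsz]
      have hfix : s * (d * c) * s⁻¹ = d * c := by
        rw [e]
        calc s * (s * b * s⁻¹ * b) * s⁻¹ = (s * s * b) * (s * s)⁻¹ * (s * b * s⁻¹) := by group
          _ = _ := by
            rw [← (hBT' b hb _ hss).eq, mul_inv_cancel_right, (hBT' b hb _ h1).eq]
      have hc1 : c = 1 := by
        by_contra hc1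
        refine hne c hc hc1 (mul_left_cancel (a := d) ?_)
        rw [← hfix]; nth_rewrite 1 [← hsd]; group
      rw [hc1, mul_one] at e
      have hd1 : d ≠ 1 := fun h => hne b hb hb1
        (mul_right_cancel (b := b) (by rw [← e, h, hB2 b hb]))
      rw [← uniq d hd hdd hd1 hdc, e, mul_assoc _ b b, hB2 b hb, mul_one]
    obtain ⟨x, y, hx1, hy1, hxy⟩ : ∃ x y : B, x ≠ 1 ∧ y ≠ 1 ∧ x ≠ y := by
      have := Fintype.ofFinite B
      have h4 := hB.card_four
      rw [Nat.card_eq_fintype_card] at h4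
      obtain ⟨a, b, c, hab, hac, hbc⟩ := Fintype.two_lt_card_iff.1 (by omega : 2 < Fintype.card B)
      by_cases ha : a = 1
      · exact ⟨b, c, ha ▸ hab.symm, ha ▸ hac.symm, hbc⟩
      by_cases hb : b = 1
      · exact ⟨a, c, ha, hb ▸ hbc.symm, hac⟩
      · exact ⟨a, b, ha, hb, hab⟩
    refine hne _ (B.mul_mem x.2 y.2) (fun e => hxy (Subtype.ext
      (mul_left_cancel ((hB2 x x.2).trans e.symm)))) ?_
    calc s * (x * y) * s⁻¹ = (s * x * s⁻¹) * (s * y * s⁻¹) := by group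
      _ = z * (x * z) * y := by
        rw [key x x.2 fun e => hx1 (Subtype.ext e), key y y.2 fun e => hy1 (Subtype.ext e)]; group
      _ = x * y := by rw [← (hzc x (hBT x.2)).eq, ← mul_assoc, hzz, one_mul]
  have h1 := (sr_top_iff.1 (sr_four_of_index_two hr)).ext_index (S := T)
  have h2 : D.relIndex T ≤ 4 := by
    rw [← hsup, sup_comm, H2.relIndex_sup_of_le_normalizer fun b hb =>
      centralizer_le_normalizer _ fun d hd => hDB d hd b hb, ← hB.card_four]
    exact Nat.le_of_dvd Nat.card_pos (relIndex_dvd_card _ _)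
  rw [← hT]
  exact h1.mono (by omega)

theorem harada35 {T D B : Subgroup G} (hT : IsPGroup 2 T)
    (hprod : Cfsg.IsInternalDirectProduct D B T)
    (hD : (∃ m : ℕ, 2 ≤ m ∧ Nonempty (D ≃* DihedralGroup m)) ∨ Cfsg.IsQuasiDihedral D)
    (hB : IsKleinFour B)
    (hTb : ∀ b ∈ B, orderOf b = 2 → T ≤ centralizer ({b} : Set G) ∧
      Odd (T.relIndex (centralizer ({b} : Set G)))) : Cfsg.SectionalPRankLE 2 4 G := by
  obtain ⟨P, hP⟩ := hT.exists_le_sylow
  obtain ⟨hDT, hBT, hDB, hinf, hsup⟩ := hprod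
  have eD := subgroupOfEquivOfLe (hDT.trans hP)
  have eB := subgroupOfEquivOfLe (hBT.trans hP)
  refine (SR.of_sylow P (sr_top_iff.1 (harada35_pgroup P.isPGroup'
    (T := T.subgroupOf P) (D := D.subgroupOf P) (B := B.subgroupOf P)
    ⟨subgroupOf_mono _ hDT, subgroupOf_mono _ hBT, fun a ha b hb => Subtype.ext (hDB _ ha _ hb),
      ?_, ?_⟩ ?_ ?_ fun b hb hb1 g hg => ?_))).sectional
  · rw [eq_bot_iff]
    exact fun x hx => mem_bot.2 (Subtype.ext (mem_bot.1 (hinf ▸ (⟨hx.1, hx.2⟩ : (x : G) ∈ D ⊓ B))))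
  · rw [← subgroupOf_sup (hDT.trans hP) (hBT.trans hP), hsup]
  · exact hD.imp (fun ⟨m, hm, ⟨e⟩⟩ => ⟨m, hm, ⟨eD.trans e⟩⟩) (isQuasiDihedral_of_equiv eD.symm)
  · exact ⟨by rw [Nat.card_congr eB.toEquiv, hB.card_four],
      by rw [Monoid.exponent_eq_of_mulEquiv eB, hB.exponent_two]⟩
  · have hb2 : orderOf (b : G) = 2 := orderOf_eq_two_of_mul_self
      (congrArg Subtype.val (IsKleinFour.mul_self (⟨b, hb⟩ : B))) fun e => hb1 (Subtype.ext e)
    obtain ⟨h1, h2⟩ := hTb b hb hb2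
    have h3 := (sylIn_of_not_dvd h1 hT (by rw [← even_iff_two_dvd, Nat.not_even_iff_odd]; exact h2)).2.2
      ((P : Subgroup G) ⊓ centralizer {(b : G)}) inf_le_right (P.isPGroup'.to_le inf_le_left)
      (le_inf hP h1)
    rw [mem_subgroupOf, ← h3]
    exact ⟨g.2, mem_centralizer_singleton_iff.2 (congrArg Subtype.val hg.symm.eq)⟩

end H22
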