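import Mathlib
import Cfsg.Prelude.Def_SporCoxeter
import Cfsg.Agent.H16.KG1

/-! Generic lemmas for the piece COX of the quasithin project. -/

set_option autoImplicit false
set_option linter.all false

namespace H22.QT

open Cfsg Cfsg.Spor H16.QT Subgroup

section Gen

variable {G : Type*} [Group G]

theorem inv_eq_self {a : G} (ha : a * a = 1) : a⁻¹ = a := inv_eq_of_mul_eq_one_right ha

theorem mul_ne_one {a b : G} (hb : b * b = 1) (h : a ≠ b) : a * b ≠ 1 := fun e =>
  h (by rw [eq_inv_of_mul_eq_one_left e, inv_eq_self hb])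

/-- `a * c` inverts `a * b` when `c` commutes with `a` and `b`. -/
theorem inv_mul_comm {a b c : G} (ha : a * a = 1) (hb : b * b = 1) (ca : Commute c a)
    (cb : Commute c b) : (a * c) * (a * b) * (a * c)⁻¹ = (a * b)⁻¹ := by
  have : c * (a * b) = (a * b) * c := (ca.mul_right cb).eq
  rw [mul_assoc a c, this, mul_inv_rev a c, ← s3_inv ha hb]
  group

/-- three commuting dihedral groups whose even part lies in `H` -/
theorem G3_sub {p : ℕ} (hp : p.Prime) (hp2 : p ≠ 2) (H : Subgroup G) {a b c d e f : G}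
    (ha : a * a = 1)
    (hb : b * b = 1) (hc : c * c = 1) (hd : d * d = 1) (he : e * e = 1) (hf : f * f = 1)
    (hab : (a * b) ^ p = 1) (hcd : (c * d) ^ p = 1) (hef : (e * f) ^ p = 1)
    (n1 : a ≠ b) (n2 : c ≠ d) (n3 : e ≠ f)
    (ac : Commute a c) (ad : Commute a d) (bc : Commute b c) (bd : Commute b d)
    (ae : Commute a e) (af : Commute a f) (be : Commute b e) (bf : Commute b f)
    (ce : Commute c e) (cf : Commute c f) (de : Commute d e) (df : Commute d f)
    (m1 : a * b ∈ H) (m2 : c * d ∈ H) (m3 : e * f ∈ H) (m4 : a * c ∈ H) (m5 : e * a ∈ H) :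
    G3 H := by
  haveI := Fact.mk hp
  have h1 := mul_ne_one hb n1
  have h2 := mul_ne_one hd n2
  have h3 := mul_ne_one hf n3
  refine ⟨p, hp, hp2, ⟨_, m1⟩, ⟨_, m2⟩, ⟨_, m3⟩, Subtype.ext hab, Subtype.ext hcd, Subtype.ext hef,
    Subtype.ext ((ac.mul_right ad).mul_left (bc.mul_right bd)).eq,
    Subtype.ext ((ae.mul_right af).mul_left (be.mul_right bf)).eq,
    Subtype.ext ((ce.mul_right cf).mul_left (de.mul_right df)).eq,
    ⟨⟨_, m4⟩, Subtype.ext (inv_mul_comm ha hb ac.symm bc.symm)⟩,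
    ⟨⟨_, m4⟩, Subtype.ext ?_⟩, ⟨⟨_, m5⟩, Subtype.ext (inv_mul_comm he hf ae af)⟩, ?_⟩
  · have := inv_mul_comm hc hd ac ad
    rw [← ac.eq] at this
    exact this
  · intro i j k e0
    have e1 : (a * b) ^ i * (c * d) ^ j * (e * f) ^ k = 1 := congrArg Subtype.val e0
    have hi : p ∣ i := dvd_of_sep hp hp2 hab h1 (s3_inv ha hb)
      (((ac.mul_right ad).pow_right j).mul_right ((ae.mul_right af).pow_right k))
      (by rw [← mul_assoc]; exact e1)
    obtain ⟨i', rfl⟩ := hi
    rw [pow_mul, hab, one_pow, one_mul] at e1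
    have hj : p ∣ j := dvd_of_sep hp hp2 hcd h2 (s3_inv hc hd) ((ce.mul_right cf).pow_right k) e1
    obtain ⟨j', rfl⟩ := hj
    rw [pow_mul, hcd, one_pow, one_mul] at e1
    refine ⟨dvd_mul_right _ _, dvd_mul_right _ _, ?_⟩
    rw [← orderOf_eq_prime hef h3]
    exact orderOf_dvd_of_pow_eq_one e1

theorem NC3_of_ne {x y : G} (hx : x ^ 3 = 1) (hy : y ^ 3 = 1) (hc : Commute x y) (h1 : x ≠ 1)
    (h2 : y ≠ 1) (h3 : y ≠ x) (h4 : y ≠ x * x) : NC 3 G := by
  refine ⟨x, y, hx, hy, hc, h1, fun hm => ?_⟩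
  have hfin : IsOfFinOrder x := isOfFinOrder_iff_pow_eq_one.2 ⟨3, by norm_num, hx⟩
  obtain ⟨k, hk⟩ := (hfin.mem_powers_iff_mem_zpowers).2 hm
  simp only at hk
  rw [← Nat.mod_add_div k 3, pow_add, pow_mul, hx, one_pow, mul_one] at hk
  have : k % 3 < 3 := Nat.mod_lt _ (by norm_num)
  interval_cases k % 3
  · exact h2 (by rw [← hk, pow_zero])
  · exact h3 (by rw [← hk, pow_one])
  · exact h4 (by rw [← hk, pow_two])

theorem eq_of_two_three {x y : G} (hy : y * y = 1) (h2 : (x * y) ^ 2 = 1) (h3 : (x * y) ^ 3 = 1) :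
    x = y := by
  rw [pow_succ, h2, one_mul] at h3
  rw [eq_inv_of_mul_eq_one_left h3, inv_eq_self hy]

theorem commute_of_sq {x y : G} (hx : x * x = 1) (hy : y * y = 1) (h2 : (x * y) ^ 2 = 1) :
    Commute x y := by
  have : x * y = (x * y)⁻¹ := (inv_eq_self (by rw [← pow_two, h2])).symm
  rw [mul_inv_rev, inv_eq_self hx, inv_eq_self hy] at this
  exact this

end Gen

section Cox

variable {α : Type*} [DecidableEq α] (edges : List (α × ℕ × α))

/-- The Coxeter relations of the graph hold for `t`. -/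
def Rel {G : Type*} [Group G] (t : α → G) : Prop :=
  ∀ x ∈ coxNodes edges, ∀ y ∈ coxNodes edges, (t x * t y) ^ coxLabel edges x y = 1

theorem rel_of (extra : List (FreeGroup α)) :
    Rel edges (fun x => (PresentedGroup.of x : CoxPresented α edges extra)) := by
  intro x hx y hy
  have : PresentedGroup.mk (coxRelators edges ∪ {r | r ∈ extra})
      ((FreeGroup.of x * FreeGroup.of y) ^ coxLabel edges x y) = 1 :=
    PresentedGroup.one_of_mem (Or.inl ⟨x, hx, y, hy, rfl⟩)
  simpa [PresentedGroup.of] using this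

variable {edges}
variable {G : Type*} [Group G] {t : α → G}

theorem Rel.map (h : Rel edges t) {G' : Type*} [Group G'] (φ : G →* G') :
    Rel edges (fun x => φ (t x)) := by
  intro x hx y hy
  rw [← map_mul, ← map_pow, h x hx y hy, map_one]

theorem Rel.sq (h : Rel edges t) {x : α} (hx : x ∈ coxNodes edges) : t x * t x = 1 := by
  simpa [coxLabel] using h x hx x hx

theorem Rel.pow (h : Rel edges t) {x y : α} {m : ℕ}
    (hx : x ∈ coxNodes edges ∧ y ∈ coxNodes edges ∧ coxLabel edges x y = m) :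
    (t x * t y) ^ m = 1 := hx.2.2 ▸ h x hx.1 y hx.2.1

theorem Rel.comm (h : Rel edges t) {x y : α}
    (hx : x ∈ coxNodes edges ∧ y ∈ coxNodes edges ∧ coxLabel edges x y = 2) :
    Commute (t x) (t y) := commute_of_sq (h.sq hx.1) (h.sq hx.2.1) (h.pow hx)

variable (edges) in
/-- one step of the propagation of an equality along the graph -/
def grow (S : List α) : List α :=
  S ++ (coxNodes edges).filter fun z => S.any fun x => S.any fun y =>
    decide (x ∈ coxNodes edges ∧ y ∈ coxNodes edges ∧ coxLabel edges x z = 2 ∧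
      coxLabel edges y z = 3)

theorem Rel.grow_eq (h : Rel edges t) {s : G} {S : List α} (hS : ∀ v ∈ S, t v = s) :
    ∀ v ∈ grow edges S, t v = s := by
  intro v hv
  rcases List.mem_append.1 hv with hv | hv
  · exact hS v hv
  · obtain ⟨hv, h1⟩ := List.mem_filter.1 hv
    obtain ⟨x, hx, h1⟩ := List.any_eq_true.1 h1
    obtain ⟨y, hy, h1⟩ := List.any_eq_true.1 h1
    obtain ⟨h2, h3, h4, h5⟩ := of_decide_eq_true h1
    have e2 := h.pow ⟨h2, hv, h4⟩
    have e3 := h.pow ⟨h3, hv, h5⟩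
    rw [hS x hx] at e2
    rw [hS y hy] at e3
    exact (eq_of_two_three (h.sq hv) e2 e3).symm

theorem Rel.iter_eq (h : Rel edges t) {s : G} (n : ℕ) :
    ∀ {S : List α}, (∀ v ∈ S, t v = s) → ∀ v ∈ (fun S => (grow edges S).dedup)^[n] S, t v = s := by
  induction n with
  | zero => intro S hS; exact hS
  | succ n ih =>
    intro S hS
    rw [Function.iterate_succ_apply]
    exact ih fun v hv => h.grow_eq hS v (List.mem_dedup.1 hv)

variable (edges) in
/-- from the edge `x, y` everything is reached -/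
def Reach (l : List α) (x y : α) : Prop :=
  ∀ v ∈ l, v ∈ (fun S => (grow edges S).dedup)^[l.length] [x, y]

instance (l : List α) (x y : α) : Decidable (Reach edges l x y) := by
  unfold Reach; infer_instance

theorem Rel.all_eq (h : Rel edges t) {l : List α} {x y : α} (hr : Reach edges l x y)
    (e : t x = t y) : ∀ v ∈ l, t v = t x := fun v hv =>
  h.iter_eq _ (by simp [e]) v (hr v hv)

theorem comm_of_all_eq {R : Set (FreeGroup α)} {s : PresentedGroup R}
    (h : ∀ v, (PresentedGroup.of v : PresentedGroup R) ∈ zpowers s) :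
    IsMulCommutative (PresentedGroup R) := by
  have : zpowers s = ⊤ := by
    rw [eq_top_iff, ← PresentedGroup.closure_range_of, closure_le]
    rintro _ ⟨v, rfl⟩
    exact h v
  refine ⟨⟨fun a b => ?_⟩⟩
  obtain ⟨i, rfl⟩ : a ∈ zpowers s := this ▸ mem_top a
  obtain ⟨j, rfl⟩ : b ∈ zpowers s := this ▸ mem_top b
  exact zpow_mul_comm s i j

theorem ne_of_reach {extra : List (FreeGroup α)}
    (hK : ¬ IsMulCommutative (CoxPresented α edges extra)) {l : List α} (hl : ∀ v, v ∈ l)
    {x y : α} (hr : Reach edges l x y) :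
    (PresentedGroup.of x : CoxPresented α edges extra) ≠ PresentedGroup.of y := fun e =>
  hK (comm_of_all_eq (s := PresentedGroup.of x) fun v => by
    have := (rel_of edges extra).all_eq hr e v (hl v)
    rw [this]; exact mem_zpowers _)

theorem Rel.mem_commutator (h : Rel edges t) {l : List α} {x y : α} (hr : Reach edges l x y)
    (hx : x ∈ coxNodes edges ∧ y ∈ coxNodes edges ∧ coxLabel edges x y = 3) {u v : α}
    (hu : u ∈ l ∧ v ∈ l ∧ v ∈ coxNodes edges) : t u * t v ∈ commutator G := by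
  have h' := h.map (Abelianization.of : G →* Abelianization G)
  have e : Abelianization.of (t x) = Abelianization.of (t y) := by
    refine eq_of_two_three (h'.sq hx.2.1) ?_ (h'.pow hx)
    rw [mul_pow, pow_two, pow_two, h'.sq hx.1, h'.sq hx.2.1, one_mul]
  have e1 := h'.all_eq hr e u hu.1
  have e2 := h'.all_eq hr e v hu.2.1
  rw [← Abelianization.ker_of, MonoidHom.mem_ker, map_mul, e1, ← e2]
  exact h'.sq hu.2.2

variable (edges) in
/-- three pairwise non-adjacent edges -/
def Tri (a b c d e f : α) : Prop :=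
  (∀ v ∈ [a, b, c, d, e, f], v ∈ coxNodes edges) ∧ coxLabel edges a b = 3 ∧ coxLabel edges c d = 3 ∧
    coxLabel edges e f = 3 ∧ (∀ u ∈ [a, b], ∀ v ∈ [c, d, e, f], coxLabel edges u v = 2) ∧
    ∀ u ∈ [c, d], ∀ v ∈ [e, f], coxLabel edges u v = 2

instance (a b c d e f : α) : Decidable (Tri edges a b c d e f) := by
  unfold Tri; infer_instance

theorem Rel.KA_sub (h : Rel edges t) (H : Subgroup G) [Finite H] {a b c d e f : α}
    (hT : Tri edges a b c d e f) (n1 : t a ≠ t b) (n2 : t c ≠ t d) (n3 : t e ≠ t f)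
    (hm : ∀ u ∈ [a, b, c, d, e, f], ∀ v ∈ [a, b, c, d, e, f], t u * t v ∈ H) : KA H := by
  obtain ⟨h0, h1, h2, h3, h4, h5⟩ := hT
  have ha := h0 a (by simp)
  have hb := h0 b (by simp)
  have hc := h0 c (by simp)
  have hd := h0 d (by simp)
  have he := h0 e (by simp)
  have hf := h0 f (by simp)
  refine KA.of_G3 (G3_sub (p := 3) (by norm_num) (by norm_num) H (h.sq ha) (h.sq hb) (h.sq hc)
    (h.sq hd) (h.sq he) (h.sq hf) (h.pow ⟨ha, hb, h1⟩) (h.pow ⟨hc, hd, h2⟩) (h.pow ⟨he, hf, h3⟩)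
    n1 n2 n3 (h.comm ⟨ha, hc, h4 _ (by simp) _ (by simp)⟩)
    (h.comm ⟨ha, hd, h4 _ (by simp) _ (by simp)⟩) (h.comm ⟨hb, hc, h4 _ (by simp) _ (by simp)⟩)
    (h.comm ⟨hb, hd, h4 _ (by simp) _ (by simp)⟩) (h.comm ⟨ha, he, h4 _ (by simp) _ (by simp)⟩)
    (h.comm ⟨ha, hf, h4 _ (by simp) _ (by simp)⟩) (h.comm ⟨hb, he, h4 _ (by simp) _ (by simp)⟩)
    (h.comm ⟨hb, hf, h4 _ (by simp) _ (by simp)⟩) (h.comm ⟨hc, he, h5 _ (by simp) _ (by simp)⟩)
    (h.comm ⟨hc, hf, h5 _ (by simp) _ (by simp)⟩) (h.comm ⟨hd, he, h5 _ (by simp) _ (by simp)⟩)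
    (h.comm ⟨hd, hf, h5 _ (by simp) _ (by simp)⟩) (hm _ (by simp) _ (by simp))
    (hm _ (by simp) _ (by simp)) (hm _ (by simp) _ (by simp)) (hm _ (by simp) _ (by simp))
    (hm _ (by simp) _ (by simp))) ?_
  exact three_dvd_card (x := (⟨t a * t b, hm _ (by simp) _ (by simp)⟩ : H))
    (Subtype.ext (h.pow ⟨ha, hb, h1⟩)) fun e => mul_ne_one (h.sq hb) n1 (congrArg Subtype.val e)

theorem not_comm_of_equiv {K : Type*} [Group K] (hK : ¬ IsMulCommutative K) {H : Subgroup G}
    (e : K ≃* H) : ¬ IsMulCommutative G := fun h =>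
  hK ⟨⟨fun a b => e.injective (by
    rw [map_mul, map_mul]; exact Subtype.ext (h.is_comm.comm _ _))⟩⟩

/-- The general statement for a subgroup of a group with a Coxeter-type presentation. -/
theorem ka_cox {K : Type*} [Group K] [Finite K] (hK : ¬ IsMulCommutative K)
    {extra : List (FreeGroup α)} {H : Subgroup (CoxPresented α edges extra)} (φ : K ≃* H)
    {l : List α} (hl : ∀ v, v ∈ l) {a b c d e f : α} (hT : Tri edges a b c d e f)
    (r1 : Reach edges l a b) (r2 : Reach edges l c d) (r3 : Reach edges l e f)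
    (hm : ∀ u ∈ [a, b, c, d, e, f], ∀ v ∈ [a, b, c, d, e, f],
      PresentedGroup.of u * PresentedGroup.of v ∈ H) : KA K := by
  haveI : Finite H := Finite.of_equiv _ φ.toEquiv
  have hG := not_comm_of_equiv hK φ
  exact KA.of_equiv φ ((rel_of edges extra).KA_sub H hT (ne_of_reach hG hl r1)
    (ne_of_reach hG hl r2) (ne_of_reach hG hl r3) hm)

end Cox

end H22.QT
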