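import Mathlib
import Cfsg.Agent.H4.GD

/-! A generic construction of `H4.GD` for groups of `2 × 2` matrices. -/

set_option autoImplicit false

namespace H22.GDM

open Matrix H4

variable {K : Type*} [Field K] {G : Type*} [Group G]

/-- `J` has trace zero and is invertible. -/
structure Tor (J : Matrix (Fin 2) (Fin 2) K) : Prop where
  tr : J 1 1 = -J 0 0
  det : J 0 0 ^ 2 + J 0 1 * J 1 0 ≠ 0

theorem Tor.exists_eq (h2 : (2 : K) ≠ 0) {J A : Matrix (Fin 2) (Fin 2) K} (hJ : Tor J)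
    (h : A * J = J * A) : ∃ x y : K, A = x • (1 : Matrix (Fin 2) (Fin 2) K) + y • J := by
  have h00 := congrFun (congrFun h 0) 0
  have h01 := congrFun (congrFun h 0) 1
  have h10 := congrFun (congrFun h 1) 0
  obtain ⟨δ, hδ⟩ : ∃ δ, δ = J 0 0 ^ 2 + J 0 1 * J 1 0 := ⟨_, rfl⟩
  have hd : δ ≠ 0 := hδ ▸ hJ.det
  simp only [mul_apply, Fin.sum_univ_two, hJ.tr] at h00 h01 h10
  refine ⟨(A 0 0 + A 1 1) / 2, ((A 0 0 - A 1 1) * J 0 0 + A 0 1 * J 1 0 + A 1 0 * J 0 1) /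
    (2 * δ), ?_⟩
  ext i j
  fin_cases i <;> fin_cases j <;> simp [hJ.tr] <;> field_simp <;> subst hδ
  · linear_combination (J 1 0) * h01 + J 0 0 * h00
  · linear_combination (-J 0 0) * h01 + J 0 1 * h00
  · linear_combination J 0 0 * h10 - J 1 0 * h00
  · linear_combination (-J 1 0) * h01 - J 0 0 * h00

theorem Tor.det_eq {J : Matrix (Fin 2) (Fin 2) K} (hJ : Tor J) (x y : K) :
    (x • (1 : Matrix (Fin 2) (Fin 2) K) + y • J).det =
      x ^ 2 - y ^ 2 * (J 0 0 ^ 2 + J 0 1 * J 1 0) := by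
  simp [det_fin_two, hJ.tr]; ring

theorem Tor.trace_eq {J : Matrix (Fin 2) (Fin 2) K} (hJ : Tor J) (x y : K) :
    (x • (1 : Matrix (Fin 2) (Fin 2) K) + y • J).trace = 2 * x := by
  simp [trace_fin_two, hJ.tr]; ring

theorem Tor.mul_conj {J : Matrix (Fin 2) (Fin 2) K} (hJ : Tor J) (x y : K) :
    (x • (1 : Matrix (Fin 2) (Fin 2) K) + y • J) * (x • 1 - y • J) =
      (x • (1 : Matrix (Fin 2) (Fin 2) K) + y • J).det • 1 := by
  rw [hJ.det_eq]
  ext i j
  fin_cases i <;> fin_cases j <;> simp [mul_apply, Fin.sum_univ_two, hJ.tr] <;> ring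

variable (ι : G →* Matrix (Fin 2) (Fin 2) K)

theorem mul_inv_self (g : G) : ι g * ι g⁻¹ = 1 := by rw [← map_mul, mul_inv_cancel, map_one]

theorem inv_mul_self (g : G) : ι g⁻¹ * ι g = 1 := by rw [← map_mul, inv_mul_cancel, map_one]

/-- scalars -/
def Zs : Subgroup G where
  carrier := {g | ∃ c : K, ι g = c • 1}
  one_mem' := ⟨1, by simp⟩
  mul_mem' := by
    rintro a b ⟨c, hc⟩ ⟨d, hd⟩
    exact ⟨c * d, by simp [hc, hd, smul_smul, mul_comm]⟩
  inv_mem' := by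
    rintro a ⟨c, hc⟩
    have h := mul_inv_self ι a
    rw [hc, smul_mul_assoc, one_mul] at h
    have hc0 : c ≠ 0 := by rintro rfl; simp at h
    exact ⟨c⁻¹, by rw [← h, smul_smul, inv_mul_cancel₀ hc0, one_smul]⟩

/-- centraliser of a matrix -/
def Cs (J : Matrix (Fin 2) (Fin 2) K) : Subgroup G where
  carrier := {g | ι g * J = J * ι g}
  one_mem' := by simp
  mul_mem' := fun {a b} (ha : _ = _) (hb : _ = _) => by
    change _ = _
    rw [map_mul, mul_assoc, hb, ← mul_assoc, ha, mul_assoc]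
  inv_mem' := fun {a} (ha : _ = _) => by
    change _ = _
    calc ι a⁻¹ * J = ι a⁻¹ * (J * ι a) * ι a⁻¹ := by
          rw [mul_assoc, mul_assoc, mul_inv_self, mul_one]
      _ = J * ι a⁻¹ := by rw [← ha, ← mul_assoc, inv_mul_self, one_mul]

/-- unipotent elements -/
def Xs (N : Matrix (Fin 2) (Fin 2) K) (hN : N * N = 0) : Subgroup G where
  carrier := {g | ∃ c : K, ι g = 1 + c • N}
  one_mem' := ⟨0, by simp⟩
  mul_mem' := by
    rintro a b ⟨c, hc⟩ ⟨d, hd⟩
    exact ⟨c + d, by simp [hc, hd, mul_add, add_mul, hN, add_smul, add_assoc]⟩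
  inv_mem' := by
    rintro a ⟨c, hc⟩
    refine ⟨-c, ?_⟩
    have h : ι a * (1 + (-c) • N) = 1 := by simp [hc, mul_add, add_mul, hN]
    rw [← mul_one (ι a⁻¹), ← h, ← mul_assoc, inv_mul_self, one_mul, h]

variable {ι} {J : Matrix (Fin 2) (Fin 2) K}

theorem Zs_le (J : Matrix (Fin 2) (Fin 2) K) : Zs ι ≤ Cs ι J := by
  rintro g ⟨c, hc⟩
  change _ = _
  simp [hc]

theorem cent (h2 : (2 : K) ≠ 0) (hJ : Tor J) {y h : G} (hy : y ∈ Cs ι J) (hy' : y ∉ Zs ι)
    (e : h * y = y * h) : h ∈ Cs ι J := by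
  obtain ⟨a, b, hab⟩ := hJ.exists_eq h2 hy
  have hb : b ≠ 0 := by rintro rfl; exact hy' ⟨a, by simpa using hab⟩
  have := congrArg ι e
  rw [map_mul, map_mul, hab] at this
  simp only [mul_add, add_mul, mul_smul_comm, smul_mul_assoc, mul_one, one_mul,
    add_right_inj] at this
  exact smul_right_injective _ hb this

theorem norm (h2 : (2 : K) ≠ 0) (hJ : Tor J) {w y h : G} (hw : ι w * J = -(J * ι w))
    (hy : y ∈ Cs ι J) (hy' : y ∉ Zs ι) (e : h * y * h⁻¹ ∈ Cs ι J) :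
    h ∈ Cs ι J ∨ h * w ∈ Cs ι J := by
  obtain ⟨a, b, hab⟩ := hJ.exists_eq h2 hy
  obtain ⟨a', b', hab'⟩ := hJ.exists_eq h2 e
  have hb : b ≠ 0 := by rintro rfl; exact hy' ⟨a, by simpa using hab⟩
  have h1 : (ι (h * y * h⁻¹)).trace = (ι y).trace := by
    rw [map_mul, map_mul, trace_mul_cycle, inv_mul_self, one_mul]
  have h3 : (ι (h * y * h⁻¹)).det = (ι y).det := by
    rw [map_mul, map_mul, det_mul, det_mul, mul_right_comm, ← det_mul, mul_inv_self, det_one,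
      one_mul]
  rw [hab, hab', hJ.trace_eq, hJ.trace_eq] at h1
  obtain rfl := mul_left_cancel₀ h2 h1
  rw [hab, hab', hJ.det_eq, hJ.det_eq, sub_right_inj] at h3
  have h4 : ι h * ι y = ι (h * y * h⁻¹) * ι h := by
    rw [← map_mul, ← map_mul, inv_mul_cancel_right]
  rw [hab, hab'] at h4
  simp only [mul_add, add_mul, mul_smul_comm, smul_mul_assoc, mul_one, one_mul,
    add_right_inj] at h4
  rcases sq_eq_sq_iff_eq_or_eq_neg.1 (mul_right_cancel₀ hJ.det h3) with rfl | rfl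
  · exact Or.inl (smul_right_injective _ hb h4)
  · refine Or.inr ?_
    rw [neg_smul, ← smul_neg] at h4
    change _ = _
    rw [map_mul, mul_assoc, hw, mul_neg, ← mul_assoc, smul_right_injective _ hb h4, neg_mul,
      neg_neg, mul_assoc]

theorem not_mem (h2 : (2 : K) ≠ 0) (hJ : Tor J) {w : G} (hw : ι w * J = -(J * ι w)) :
    w ∉ Cs ι J := fun (h : _ = _) => by
  have h1 : (2 : K) • (J * ι w) = 0 := by
    rw [two_smul, add_eq_zero_iff_eq_neg, ← hw, h]
  have h3 : J = 0 := by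
    rw [← mul_one J, ← mul_inv_self ι w, ← mul_assoc, (smul_eq_zero.1 h1).resolve_left h2, zero_mul]
  exact hJ.det (by simp [h3])

theorem mul_conj (h2 : (2 : K) ≠ 0) (hJ : Tor J) {w y : G} (hw : ι w * J = -(J * ι w))
    (hww : w * w = 1) (hy : y ∈ Cs ι J) : ι (y * (w * y * w)) = (ι y).det • 1 := by
  obtain ⟨a, b, hab⟩ := hJ.exists_eq h2 hy
  have h1 : ι w * ι w = 1 := by rw [← map_mul, hww, map_one]
  rw [map_mul, map_mul, map_mul, hab, ← hJ.mul_conj]
  simp [mul_add, add_mul, hw, mul_assoc, h1, sub_eq_add_neg]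

theorem exists_GD (N : NP) [CharP K N.p] (hι : Function.Injective ι) (h2 : (2 : K) ≠ 0)
    {U L : Type*} [Group U] [Group L] [Finite U] [Finite L] [IsCyclic U] [IsCyclic L]
    (χ : U →* K) (hχ : Function.Injective χ) (hU : Nat.card U = N.m) {e : U} (he : χ e = -1)
    (d : U × U →* G) (hd : ∀ x, ι (d x) = !![χ x.1, 0; 0, χ x.2])
    (hT : ∀ g, ι g 0 1 = 0 → ι g 1 0 = 0 → g ∈ d.range)
    {w : G} (hw : ι w = !![0, 1; 1, 0]) {b c : K} (hbc : b * c ≠ 0)
    (ψ : L →* G) (hψ : Function.Injective ψ) (hL : Nat.card L = N.m * N.n)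
    (hW : ψ.range = Cs ι !![0, b; c, 0]) (hdet : ∀ z, ∃ l, (ι (ψ l)).det = χ z)
    {R S : Matrix (Fin 2) (Fin 2) K} (hR : R * R = 0)
    (hS : (N.ε = 1 ∧ S = !![1, 0; 0, -1]) ∨ (N.ε = -1 ∧ S = !![0, b; c, 0]))
    (hSR : S * R = R) (hRS : R * S = -R) (hR0 : R ≠ 0) (hX : Nat.card (Xs ι R hR) = N.q)
    (hB : ∀ g, R * ι g * R = 0 → ∃ s ∈ Cs ι S, ∃ γ : K, ι g = ι s + γ • R)
    (hG : Nat.card G = N.m * (N.q * N.m * N.n)) :
    ∃ D : GD G N, D.H = ⊤ ∧ D.Z = Subgroup.center G ∧ D.w = w ∧ D.X = Xs ι R hR ∧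
      D.T = d.range := by
  have tT : Tor (!![1, 0; 0, -1] : Matrix (Fin 2) (Fin 2) K) := ⟨by simp, by simp⟩
  have tW : Tor !![0, b; c, 0] := ⟨by simp, by simpa using hbc⟩
  have tS : Tor S := by rcases hS with ⟨-, rfl⟩ | ⟨-, rfl⟩ <;> assumption
  have hT' : d.range = Cs ι !![1, 0; 0, -1] := by
    refine le_antisymm ?_ fun g (hg : _ = _) => hT g ?_ ?_
    · rintro _ ⟨x, rfl⟩
      change _ = _
      simp [hd]
    · have := congrFun (congrFun hg 0) 1
      simp only [mul_apply, Fin.sum_univ_two] at this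
      simp at this
      exact (mul_eq_zero.1 (show 2 * ι g 0 1 = 0 by linear_combination -this)).resolve_left h2
    · have := congrFun (congrFun hg 1) 0
      simp only [mul_apply, Fin.sum_univ_two] at this
      simp at this
      exact (mul_eq_zero.1 (show 2 * ι g 1 0 = 0 by linear_combination this)).resolve_left h2
  have hdi : Function.Injective d := fun x y h => by
    have := congrArg ι h
    rw [hd, hd] at this
    exact Prod.ext (hχ (congrFun (congrFun this 0) 0)) (hχ (congrFun (congrFun this 1) 1))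
  have hdd : ∀ z, ι (d (z, z)) = χ z • 1 := fun z => by
    rw [hd]; ext i j; fin_cases i <;> fin_cases j <;> simp
  have hZ : ∀ g, g ∈ Zs ι ↔ ∃ z, d (z, z) = g := fun g => ⟨fun ⟨a, ha⟩ => by
    obtain ⟨⟨x, y⟩, rfl⟩ := hT' ▸ Zs_le (ι := ι) _ ⟨a, ha⟩
    rw [hd] at ha
    have h0 := congrFun (congrFun ha 0) 0
    have h1 := congrFun (congrFun ha 1) 1
    simp at h0 h1
    exact ⟨x, by rw [hχ (h0.trans h1.symm)]⟩, fun ⟨z, hz⟩ => ⟨χ z, hz ▸ hdd z⟩⟩
  have cZ : Nat.card (Zs ι) = N.m := by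
    rw [← hU]
    exact (Nat.card_congr (Equiv.ofBijective (fun z : U => (⟨d (z, z), (hZ _).2 ⟨z, rfl⟩⟩ : Zs ι))
      ⟨fun x y h => congrArg Prod.fst (hdi (congrArg Subtype.val h)),
        fun ⟨g, hg⟩ => ((hZ g).1 hg).imp fun _ => Subtype.ext⟩)).symm
  have hZc : ∀ z ∈ Zs ι, ∀ h, z * h = h * z := by
    rintro z ⟨a, ha⟩ h
    apply hι
    simp [ha]
  have hee : e * e = 1 := hχ (by simp [he])
  have hu : ι (d (e, 1)) = !![-1, 0; 0, 1] := by simp [hd, he]
  have hu' : d (e, 1) ∉ Zs ι := fun h => by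
    obtain ⟨z, hz⟩ := (hZ _).1 h
    obtain ⟨h3, h4⟩ : z = e ∧ z = 1 := Prod.ext_iff.1 (hdi hz)
    exact h2 (by linear_combination (map_one χ).symm.trans (h4 ▸ h3 ▸ he))
  have huu : d (e, 1) * d (e, 1) = 1 := by rw [← map_mul, Prod.mk_mul_mk, hee, mul_one]; exact map_one d
  have hww : w * w = 1 := hι (by simp [hw, one_fin_two])
  have hwJ : ι w * !![1, 0; 0, -1] = -(!![1, 0; 0, -1] * ι w) := by simp [hw]
  have hvJ : ι (d (e, 1)) * !![0, b; c, 0] = -(!![0, b; c, 0] * ι (d (e, 1))) := by simp [hu]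
  have hB' : ∀ g, R * ι g * R = 0 → ∃ x ∈ Xs ι R hR, ∃ s ∈ Cs ι S, g = x * s := fun g hg => by
    obtain ⟨s, hs, γ, h⟩ := hB g hg
    obtain ⟨α, β, h1⟩ := tS.exists_eq h2 (inv_mem hs)
    refine ⟨g * s⁻¹, ⟨γ * (α - β), ?_⟩, s, hs, by simp⟩
    rw [map_mul, h, add_mul, mul_inv_self, h1]
    simp [mul_add, hRS, smul_smul, sub_eq_add_neg, add_smul, mul_comm]
  have hRc : ∀ x ∈ Xs ι R hR, x ≠ 1 → ∀ h, h * x * h⁻¹ ∈ Xs ι R hR → R * ι h * R = 0 := by
    rintro x ⟨a, ha⟩ hx h ⟨a', ha'⟩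
    have h0 : a ≠ 0 := by rintro rfl; exact hx (hι (by simpa using ha))
    have h4 : ι h * ι x = ι (h * x * h⁻¹) * ι h := by
      rw [← map_mul, ← map_mul, inv_mul_cancel_right]
    rw [ha, ha'] at h4
    simp only [mul_add, add_mul, mul_smul_comm, smul_mul_assoc, mul_one, one_mul,
      add_right_inj] at h4
    apply smul_right_injective _ h0
    simp only [mul_assoc]
    rw [← mul_smul_comm, h4, mul_smul_comm, ← mul_assoc, hR, zero_mul, smul_zero, smul_zero]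
  refine ⟨{
    H := ⊤, Z := Zs ι, T := Cs ι !![1, 0; 0, -1], W := Cs ι !![0, b; c, 0], X := Xs ι R hR,
    S := Cs ι S, t := d (e, e), u := d (e, 1), w := w, v := d (e, 1)
    hS := hS.imp (fun h => ⟨h.1, by rw [h.2]⟩) fun h => ⟨h.1, by rw [h.2]⟩
    cZ := ⟨1, odd_one, by rw [cZ, one_mul]⟩
    cT := by rw [← hT', ← Nat.card_congr (d.ofInjective hdi).toEquiv, Nat.card_prod, cZ, hU]
    cW := by rw [← hW, ← Nat.card_congr (ψ.ofInjective hψ).toEquiv, hL, cZ]
    cX := hX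
    cH := by rw [Subgroup.card_top, hG, cZ]
    Z_le_T := Zs_le _
    Z_le_W := Zs_le _
    T_le := le_top
    W_le := le_top
    X_le := le_top
    Z_comm := fun z hz h _ => hZc z hz h
    t_mem := (hZ _).2 ⟨e, rfl⟩
    t_ne := fun h => h2 (by
      have : e = 1 := congrArg Prod.fst (hdi (h.trans (map_one d).symm))
      linear_combination (map_one χ).symm.trans (this ▸ he))
    t_sq := by rw [← map_mul, Prod.mk_mul_mk, hee]; exact map_one d
    cycT := by
      obtain ⟨ζ, hζ⟩ := IsCyclic.exists_monoid_generator (α := U)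
      refine ⟨d (ζ, 1), hT' ▸ ⟨_, rfl⟩, fun y hy => ?_⟩
      obtain ⟨⟨x, y⟩, rfl⟩ := hT' ▸ hy
      obtain ⟨k, hk⟩ := hζ (x * y⁻¹)
      exact ⟨k, d (y, y), (hZ _).2 ⟨y, rfl⟩, by rw [← map_pow, ← map_mul]; simp [hk]⟩
    cycW := by
      obtain ⟨ζ, hζ⟩ := IsCyclic.exists_monoid_generator (α := L)
      refine ⟨ψ ζ, hW ▸ ⟨_, rfl⟩, fun y hy => ?_⟩
      obtain ⟨x, rfl⟩ := hW ▸ hy
      obtain ⟨k, rfl⟩ := hζ x
      exact ⟨k, by simp⟩
    X_comm := by
      rintro x ⟨a, ha⟩ y ⟨a', ha'⟩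
      apply hι
      simp [ha, ha', mul_add, add_mul, hR, add_comm, add_left_comm]
    X_pow := by
      rintro x ⟨a, ha⟩
      have : ∀ k : ℕ, ι (x ^ k) = 1 + (k * a) • R := fun k => by
        induction k with
        | zero => simp
        | succ k ih =>
          rw [pow_succ, map_mul, ih, ha]
          simp [mul_add, add_mul, hR, add_assoc, add_smul]
      apply hι
      simp [this]
    cent_T := fun y hy hy' h _ => cent h2 tT hy hy'
    cent_W := fun y hy hy' h _ => cent h2 tW hy hy'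
    cent_X := fun x hx hx1 h _ eh => by
      obtain ⟨x', hx', s, hs, rfl⟩ := hB' h (hRc x hx hx1 h (by rwa [eh, mul_inv_cancel_right]))
      obtain ⟨α, β, h1⟩ := tS.exists_eq h2 hs
      obtain ⟨a, ha⟩ := hx
      obtain ⟨a', ha'⟩ := id hx'
      have h0 : a ≠ 0 := by rintro rfl; exact hx1 (hι (by simpa using ha))
      have h3 := congrArg ι eh
      simp only [map_mul, ha, ha', h1] at h3
      have h4 : (2 * a * β) • R = 0 := by
        simp only [mul_add, add_mul, mul_smul_comm, smul_mul_assoc, mul_one, one_mul, hR, hSR, hRS,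
          smul_zero, neg_mul, mul_neg, neg_zero] at h3
        linear_combination (norm := module) h3
      have h6 : β = 0 := by simpa [h2, h0, hR0] using h4
      have h5 : s ∈ Zs ι := ⟨α, by simp [h1, h6]⟩
      exact ⟨s, h5, x', hx', (hZc s h5 x').symm⟩
    u_mem := hT' ▸ ⟨_, rfl⟩
    u_not := hu'
    u_sq := huu
    w_mem := trivial
    w_not := not_mem h2 tT hwJ
    w_sq := hww
    w_inv := fun y hy => ⟨_, mul_conj h2 tT hwJ hww hy⟩
    w_onto := fun z hz => by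
      obtain ⟨z, rfl⟩ := (hZ z).1 hz
      have h : d (z, 1) ∈ Cs ι !![1, 0; 0, -1] := hT' ▸ ⟨_, rfl⟩
      exact ⟨_, h, hι (by rw [mul_conj h2 tT hwJ hww h, hdd, hd]; simp)⟩
    norm_T := fun h _ y => norm h2 tT hwJ
    v_mem := trivial
    v_not := not_mem h2 tW hvJ
    v_sq := huu
    v_inv := fun y hy => ⟨_, mul_conj h2 tW hvJ huu hy⟩
    v_onto := fun z hz => by
      obtain ⟨z, rfl⟩ := (hZ z).1 hz
      obtain ⟨l, hl⟩ := hdet z
      have h : ψ l ∈ Cs ι !![0, b; c, 0] := hW ▸ ⟨_, rfl⟩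
      exact ⟨_, h, hι (by rw [mul_conj h2 tW hvJ huu h, hdd, hl])⟩
    norm_W := fun h _ y => norm h2 tW hvJ
    S_norm := by
      rintro s hs x ⟨a, ha⟩
      obtain ⟨α, β, h1⟩ := tS.exists_eq h2 hs
      obtain ⟨α', β', h3⟩ := tS.exists_eq h2 (inv_mem hs)
      refine ⟨a * (α + β) * (α' - β'), ?_⟩
      rw [map_mul, map_mul, ha, mul_add, add_mul, mul_one, mul_inv_self, h1, h3]
      simp only [mul_add, add_mul, mul_smul_comm, smul_mul_assoc, mul_one, one_mul, hSR, hRS]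
      module
    norm_X := fun h _ x hx hx1 eh => hB' h (hRc x hx hx1 h eh) }, rfl, ?_, rfl, rfl, hT'.symm⟩
  refine le_antisymm (fun z hz => Subgroup.mem_center_iff.2 fun g => (hZc z hz g).symm)
    fun z hz => by_contra fun hz' => not_mem h2 tT hwJ (cent h2 tT ?_ hz' ?_)
  · exact cent h2 tT (hT' ▸ ⟨(e, 1), rfl⟩) hu' (Subgroup.mem_center_iff.1 hz _).symm
  · exact Subgroup.mem_center_iff.1 hz _

end H22.GDM
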