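import Mathlib
import Cfsg.Agent.S0483
import Cfsg.Agent.H7.SL

/-! The theorem of Gorenstein and Walter for simple groups. -/

set_option autoImplicit false

namespace H22

variable {G : Type*} [Group G] [IsSimpleGroup G]

theorem center_of_simple (hG : ¬ IsMulCommutative G) : Subgroup.center G = ⊥ :=
  (Subgroup.Normal.eq_bot_or_eq_top inferInstance).resolve_right fun h =>
    hG ⟨⟨fun a b => (Subgroup.mem_center_iff.1 (h ▸ Subgroup.mem_top b) a)⟩⟩

theorem perfect_of_simple (hG : ¬ IsMulCommutative G) : Group.IsPerfect G :=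
  ⟨(Subgroup.Normal.eq_bot_or_eq_top inferInstance).resolve_left fun h =>
    hG ((commutator_eq_bot_iff G).1 h)⟩

theorem gw_simple [Finite G] (hG : ¬ IsMulCommutative G) (S : Sylow 2 G) (n : ℕ) (hn : 2 ≤ n)
    (hS : Nonempty ((S : Subgroup G) ≃* DihedralGroup n)) :
    (∃ (F : Type) (_ : Field F) (_ : Fintype F), Odd (Fintype.card F) ∧ 3 < Fintype.card F ∧
        Nonempty (G ≃* Matrix.ProjectiveSpecialLinearGroup (Fin 2) F)) ∨
      Nonempty (G ≃* alternatingGroup (Fin 7)) := by
  have := perfect_of_simple hG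
  have h := Cfsg.Agent.S0483.result S n hn hS
  have hO : Cfsg.oddCore G = ⊥ := (Subgroup.Normal.eq_bot_or_eq_top inferInstance).resolve_right
    fun e => by
      have : Subsingleton (G ⧸ Cfsg.oddCore G) := e ▸ QuotientGroup.subsingleton_quotient_top
      rcases h with ⟨F, _, _, -, -, ⟨f⟩⟩ | ⟨⟨f⟩⟩
      · have h1 := H7.card_psl_two (F := F) rfl
        have h2 := Nat.gcd_le_left (Fintype.card F - 1) two_pos
        have h3 : Fintype.card F ^ 2 - 1 + 1 = Fintype.card F ^ 2 :=
          Nat.sub_add_cancel (Nat.one_le_pow _ _ Fintype.card_pos)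
        have h4 : 1 < Fintype.card F := Fintype.one_lt_card
        rw [← Nat.card_congr f.toEquiv, Nat.card_of_subsingleton 1] at h1
        nlinarith
      · have h1 := two_mul_nat_card_alternatingGroup (α := Fin 7)
        rw [← Nat.card_congr f.toEquiv, Nat.card_of_subsingleton 1, Nat.card_perm] at h1
        simp [Nat.factorial] at h1
  have e : G ≃* G ⧸ Cfsg.oddCore G :=
    ((QuotientGroup.quotientMulEquivOfEq hO).trans QuotientGroup.quotientBot).symm
  exact h.imp (fun ⟨F, _, _, h1, h2, ⟨f⟩⟩ => ⟨F, _, _, h1, h2, ⟨e.trans f⟩⟩) fun ⟨f⟩ => ⟨e.trans f⟩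

end H22
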