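import Mathlib

/-! No automorphism of `A₇` interchanges the two four-groups of a Sylow `2`-subgroup. -/

set_option autoImplicit false

namespace H22
namespace A7

open Equiv Equiv.Perm

/-- an element of order three commutes with `v` and `w` -/
def Th {G : Type*} [Group G] (v w : G) : Prop :=
  ∃ x : G, x * v = v * x ∧ x * w = w * x ∧ x * x * x = 1 ∧ x ≠ 1

theorem Th.map {G H : Type*} [Group G] [Group H] {v w : G} (h : Th v w) (f : G →* H)
    (hf : Function.Injective f) : Th (f v) (f w) := by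
  obtain ⟨x, h1, h2, h3, h4⟩ := h
  exact ⟨f x, by rw [← map_mul, h1, map_mul], by rw [← map_mul, h2, map_mul],
    by rw [← map_mul, ← map_mul, h3, map_one], fun e => h4 (hf (e.trans (map_one f).symm))⟩

theorem th_equiv {G H : Type*} [Group G] [Group H] {v w : G} (f : G ≃* H) :
    Th (f v) (f w) ↔ Th v w :=
  ⟨fun h => by simpa using h.map f.symm.toMonoidHom f.symm.injective,
    fun h => h.map f.toMonoidHom f.injective⟩

theorem th_coe {v w : alternatingGroup (Fin 7)} : Th (v : Perm (Fin 7)) w ↔ Th v w := by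
  refine ⟨fun ⟨x, h1, h2, h3, h4⟩ => ?_, fun h => h.map _ (Subgroup.subtype_injective _)⟩
  have h5 : sign x = 1 := by
    have := congrArg sign h3
    rwa [map_mul, map_mul, Int.units_mul_self, one_mul, map_one] at this
  exact ⟨⟨x, h5⟩, Subtype.ext h1, Subtype.ext h2, Subtype.ext h3,
    fun e => h4 (congrArg Subtype.val e)⟩

/-- the permutation `(0 1 2 3)(4 5)` -/
def a0 : Perm (Fin 7) := ⟨![1, 2, 3, 0, 5, 4, 6], ![3, 0, 1, 2, 5, 4, 6], by decide, by decide⟩

/-- the permutation `(4 5 6)` -/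
def t0 : Perm (Fin 7) := ⟨![0, 1, 2, 3, 5, 6, 4], ![0, 1, 2, 3, 6, 4, 5], by decide, by decide⟩

set_option synthInstance.maxSize 2000 in
theorem key1 : ∀ i0 i1 i4 i5 i6 : Fin 7, ∀ f : Fin 7 → Fin 7,
    f = ![i0, i1, a0 (a0 i0), a0 (a0 i1), i4, i5, i6] → (∀ y, f (f (f y)) = y) →
      (∀ y, f (a0 (a0 y)) = a0 (a0 (f y))) →
      (∀ y, f y = y) ∨ (∀ y, f y = t0 y) ∨ ∀ y, f y = t0⁻¹ y := by
  simp only [forall_eq]
  decide +kernel

set_option synthInstance.maxSize 2000 in
theorem key2 : ∀ i0 i4 i6 : Fin 7, ∀ f : Fin 7 → Fin 7,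
    f = ![i0, a0⁻¹ i0, a0⁻¹ (a0⁻¹ i0), a0⁻¹ (a0⁻¹ (a0⁻¹ i0)), i4, a0⁻¹ i4, i6] →
      (∀ y, f (f y) = y) → (∀ y, f (a0 y) = a0⁻¹ (f y)) →
      ¬ ((∀ y, t0 (f y) = f (t0 y)) ↔ ∀ y, t0 (a0 (f y)) = a0 (f (t0 y))) := by
  simp only [forall_eq]
  decide +kernel

theorem th_iff (w : Perm (Fin 7)) : Th (a0 * a0) w ↔ ∀ y, t0 (w y) = w (t0 y) := by
  refine ⟨fun ⟨x, h1, h2, h3, h4⟩ => ?_, fun h => ⟨t0, by decide, Equiv.ext h, by decide, by decide⟩⟩
  have h5 : ∀ y, x (a0 (a0 y)) = a0 (a0 (x y)) := fun y => Equiv.congr_fun h1 y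
  rcases key1 (x 0) (x 1) (x 4) (x 5) (x 6) x (by
    funext y
    fin_cases y
    exacts [rfl, rfl, h5 0, h5 1, rfl, rfl, rfl]) (fun y => Equiv.congr_fun h3 y) h5 with e | e | e
  · exact absurd (Equiv.ext e) h4
  · obtain rfl : x = t0 := Equiv.ext e
    exact fun y => Equiv.congr_fun h2 y
  · obtain rfl : x = t0⁻¹ := Equiv.ext e
    exact fun y => Equiv.congr_fun (Commute.inv_left_iff.mp h2).eq y

theorem key (q : Perm (Fin 7)) (h1 : q * a0 * q = a0⁻¹) (h2 : q * q = 1) :
    ¬ (Th (a0 * a0) q ↔ Th (a0 * a0) (a0 * q)) := by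
  have h3 : ∀ y, q (a0 y) = a0⁻¹ (q y) := fun y => by
    rw [← h1, Perm.mul_apply, Perm.mul_apply, ← Perm.mul_apply q q, h2, Perm.one_apply]
  rw [th_iff, th_iff]
  refine key2 (q 0) (q 4) (q 6) q ?_ (fun y => Equiv.congr_fun h2 y) h3
  funext y
  fin_cases y
  exacts [rfl, h3 0, (h3 1).trans (congrArg _ (h3 0)),
    (h3 2).trans (congrArg _ ((h3 1).trans (congrArg _ (h3 0)))), rfl, h3 4, rfl]

theorem cycleType_eq {a : Perm (Fin 7)} (h4 : a ^ 4 = 1) (h2 : a ^ 2 ≠ 1) (hs : sign a = 1) :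
    a.cycleType = {4, 2} := by
  have h1 : ∀ n ∈ a.cycleType, n = 2 ∨ n = 4 := fun n hn => by
    have h3 := (dvd_of_mem_cycleType hn).trans (orderOf_dvd_of_pow_eq_one h4)
    have h5 := two_le_of_mem_cycleType hn
    have h6 := Nat.le_of_dvd (by norm_num) h3
    interval_cases n <;> simp_all
  have h3 : 4 ∈ a.cycleType := by
    by_contra h
    apply h2
    rw [← orderOf_dvd_iff_pow_eq_one, ← lcm_cycleType, Multiset.lcm_dvd]
    intro n hn
    rcases h1 n hn with rfl | rfl
    · rfl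
    · exact absurd hn h
  obtain ⟨s, hs'⟩ := Multiset.exists_cons_of_mem h3
  have h5 : a.cycleType.sum ≤ 7 := by
    rw [sum_cycleType]
    exact (Finset.card_le_univ _).trans (by simp)
  have h6 := sign_of_cycleType a
  rw [hs'] at h1 h5 h6 ⊢
  induction s using Multiset.induction_on with
  | empty =>
    rw [hs] at h6
    exact absurd h6 (by decide)
  | cons b s _ =>
    induction s using Multiset.induction_on with
    | empty =>
      rcases h1 b (by simp) with rfl | rfl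
      · rfl
      · simp at h5
    | cons c s _ =>
      have := h1 b (by simp)
      have := h1 c (by simp)
      simp only [Multiset.sum_cons] at h5
      omega

theorem no_swap (α : MulAut (alternatingGroup (Fin 7))) {a q : alternatingGroup (Fin 7)}
    (h4 : a ^ 4 = 1) (h2 : a ^ 2 ≠ 1) (hq : q * q = 1) (hqa : q * a * q = a⁻¹) (ha : α a = a)
    (hαq : α q = a * q) : False := by
  have h1 : Th (a * a) q ↔ Th (a * a) (a * q) := by rw [← th_equiv α, map_mul, ha, hαq]
  rw [← th_coe, ← th_coe] at h1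
  obtain ⟨g, hg⟩ := isConj_iff.mp (isConj_iff_cycleType_eq.mpr ((cycleType_eq (a := a)
    (congrArg Subtype.val h4) (fun e => h2 (Subtype.ext e)) a.2).trans
      (cycleType_eq (a := a0) (by decide) (by decide) (by decide)).symm))
  refine key (g * q * g⁻¹) ?_ ?_ ?_
  · have : (q : Perm (Fin 7)) * a * q = (a : Perm (Fin 7))⁻¹ := congrArg Subtype.val hqa
    rw [← hg]
    calc _ = g * ((q : Perm (Fin 7)) * a * q) * g⁻¹ := by group
      _ = _ := by rw [this]; group
  · have : (q : Perm (Fin 7)) * q = 1 := congrArg Subtype.val hq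
    calc _ = g * ((q : Perm (Fin 7)) * q) * g⁻¹ := by group
      _ = _ := by rw [this]; group
  · rw [← th_equiv (MulAut.conj g), ← th_equiv (MulAut.conj g) (w := ((a * q : alternatingGroup (Fin 7)) : Perm (Fin 7)))] at h1
    simpa only [Subgroup.coe_mul, map_mul, MulAut.conj_apply, hg] using h1

end A7
end H22
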