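import Mathlib
import Cfsg.Agent.H7.DihQuat

/-! Uniqueness of the double cover with a unique involution of a group with dihedral Sylow
`2`-subgroups. -/

set_option autoImplicit false

namespace H22

open Subgroup

theorem even_of_sylow_dihedral {B : Type*} [Group B] [Finite B] (S : Sylow 2 B) {n : ℕ}
    (hn : 2 ≤ n) (e : (S : Subgroup B) ≃* DihedralGroup n) : Even n := by
  obtain ⟨k, hk⟩ := IsPGroup.iff_card.mp S.isPGroup'
  rw [Nat.card_congr e.toEquiv, DihedralGroup.nat_card] at hk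
  obtain ⟨j, -, rfl⟩ := (Nat.dvd_prime_pow Nat.prime_two).mp (Dvd.intro_left _ hk)
  cases j with
  | zero => omega
  | succ j => exact ⟨2 ^ j, by ring⟩

/-- A central extension by an involution in which involutions lift to involutions splits, if the
Sylow `2`-subgroups of the quotient are dihedral. -/
theorem exists_index_two_of_dihedral {E B : Type*} [Group E] [Finite E] [Group B] [Finite B]
    (π : E →* B) (hπ : Function.Surjective π) {c : E} (hc1 : c ≠ 1) (hπc : π c = 1)
    (hker : ∀ g, π g = 1 → g = 1 ∨ g = c) (hinv : ∀ g, π g * π g = 1 → g * g = 1)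
    (S : Sylow 2 B) {n : ℕ} (hn : 2 ≤ n) (e : (S : Subgroup B) ≃* DihedralGroup n) :
    ∃ M : Subgroup E, M.index = 2 ∧ c ∉ M := by
  classical
  have hc2 : c * c = 1 := hinv c (by rw [hπc, one_mul])
  have hcc : ∀ g, g * c = c * g := fun g => by
    rcases hker (g * c * g⁻¹) (by simp [hπc]) with h | h
    · exact absurd (by simpa using h) hc1
    · exact mul_inv_eq_iff_eq_mul.mp h
  obtain ⟨k, hk⟩ := even_of_sylow_dihedral S hn e
  let ι : DihedralGroup n →* B := (S : Subgroup B).subtype.comp e.symm.toMonoidHom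
  obtain ⟨ρ, hρ⟩ := hπ (ι (.r 1))
  obtain ⟨σ, hσ⟩ := hπ (ι (.sr 0))
  have h1 : ρ ^ n = 1 := by
    rw [hk, pow_add]
    apply hinv
    rw [← map_mul, ← pow_add, ← hk, map_pow, hρ, ← map_pow, DihedralGroup.r_one_pow_n, map_one]
  have h2 : σ * σ = 1 := hinv σ (by rw [hσ, ← map_mul, DihedralGroup.sr_mul_self, map_one])
  have h3 : σ * ρ * σ⁻¹ = ρ⁻¹ := by
    have := hinv (σ * ρ) (by
      rw [map_mul, hσ, hρ, ← map_mul, DihedralGroup.sr_mul_r, ← map_mul,
        DihedralGroup.sr_mul_self, map_one])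
    rw [inv_eq_of_mul_eq_one_right h2, eq_inv_iff_mul_eq_one, ← this, mul_assoc]
  let φ := H7.dihedralHom n ρ σ h1 h2 h3
  have h4 : ∀ d, π (φ d) = ι d := by
    rintro (i | i) <;> obtain ⟨i, rfl⟩ := ZMod.intCast_surjective i
    · rw [H7.dihedralHom_r, map_zpow, hρ, ← map_zpow, DihedralGroup.r_one_zpow]
    · rw [H7.dihedralHom_sr, map_mul, map_zpow, hρ, hσ, ← map_zpow, ← map_mul,
        DihedralGroup.r_one_zpow, DihedralGroup.sr_mul_r, zero_add]
  let P := (S : Subgroup B).comap π
  let ψ : P →* E := φ.comp (e.toMonoidHom.comp (π.subgroupComap S))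
  have h5 : ∀ g : P, (g : E) = ψ g ∨ (g : E) = c * ψ g := fun g => by
    have : π (g * (ψ g)⁻¹) = 1 := by
      rw [map_mul, map_inv, mul_inv_eq_one]
      change _ = π (φ _)
      rw [h4]
      simp [ι]
      rfl
    exact (hker _ this).imp mul_inv_eq_one.mp mul_inv_eq_iff_eq_mul.mp
  have h6 : ∀ g : E, c * g ≠ g := fun g h => hc1 (mul_eq_right.mp h)
  let lam : P →* ℤˣ := MonoidHom.mk' (fun g => if (g : E) = ψ g then 1 else -1) fun g h => by
    simp only [coe_mul, map_mul]
    rcases h5 g with e1 | e1 <;> rcases h5 h with e2 | e2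
    · rw [if_pos e1, if_pos e2, if_pos (by rw [← e1, ← e2]), one_mul]
    · rw [if_pos e1, if_neg fun e => h6 _ (e2.symm.trans e), if_neg, one_mul]
      rw [← e1, mul_right_inj]
      exact fun e => h6 _ (e2.symm.trans e)
    · rw [if_pos e2, if_neg (c := (g : E) = ψ g) fun e => h6 _ (e1.symm.trans e), if_neg, mul_one]
      rw [← e2, mul_left_inj]
      exact fun e => h6 _ (e1.symm.trans e)
    · rw [if_neg (c := (g : E) = ψ g) fun e => h6 _ (e1.symm.trans e),
        if_neg (c := (h : E) = ψ h) fun e => h6 _ (e2.symm.trans e), if_pos, neg_mul_neg, one_mul]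
      conv_lhs => rw [e1, e2]
      rw [mul_assoc, ← mul_assoc (ψ g), hcc (ψ g), ← mul_assoc, ← mul_assoc, hc2, one_mul]
  have hcP : c ∈ P := by
    change π c ∈ (S : Subgroup B)
    rw [hπc]; exact one_mem _
  have h7 : lam ⟨c, hcP⟩ = -1 := if_neg fun h => hc1 (by
    change c = φ (e (π.subgroupComap S ⟨c, hcP⟩)) at h
    rw [h, show π.subgroupComap S ⟨c, hcP⟩ = 1 from Subtype.ext hπc, map_one, map_one])
  have h8 : Odd P.index := by
    rw [index_comap_of_surjective _ hπ, ← Nat.not_even_iff_odd, even_iff_two_dvd]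
    exact S.not_dvd_index
  have h9 : MonoidHom.transfer lam c = -1 := by
    rw [MonoidHom.transfer_eq_pow lam c fun k g _ => by
      rw [mul_assoc, ((show Commute g c from hcc g).pow_right k).symm.eq, inv_mul_cancel_left]]
    rw [show (⟨c ^ P.index, _⟩ : P) = ⟨c, hcP⟩ ^ P.index from rfl, map_pow, h7, h8.neg_one_pow]
  refine ⟨(MonoidHom.transfer lam).ker, ?_, fun h => ?_⟩
  · rw [index_ker, MonoidHom.range_eq_top.mpr fun u => ?_, card_top]
    · simp
    · rcases Int.units_eq_one_or u with rfl | rfl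
      · exact ⟨1, map_one _⟩
      · exact ⟨c, h9⟩
  · rw [MonoidHom.mem_ker, h9] at h
    exact absurd h (by decide)

/-- `X` is a double cover of `B` whose only involution is `z`. -/
structure DCover {X B : Type*} [Group X] [Group B] (π : X →* B) (z : X) : Prop where
  surj : Function.Surjective π
  ne : z ≠ 1
  map : π z = 1
  ker : ∀ g, π g = 1 → g = 1 ∨ g = z
  uniq : ∀ g, g * g = 1 → g = 1 ∨ g = z

namespace DCover

variable {X B : Type*} [Group X] [Group B] {π : X →* B} {z : X} (h : DCover π z)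
include h

theorem sq : z * z = 1 :=
  (h.ker _ (by rw [map_mul, h.map, one_mul])).resolve_right fun e => h.ne (mul_eq_left.mp e)

theorem comm (g : X) : g * z = z * g := by
  rcases h.ker (g * z * g⁻¹) (by simp [h.map]) with e | e
  · exact absurd (by simpa using e) h.ne
  · exact mul_inv_eq_iff_eq_mul.mp e

theorem sq_eq {g : X} (h1 : π g ≠ 1) (h2 : π g * π g = 1) : g * g = z :=
  (h.ker _ (by rw [map_mul, h2])).resolve_left fun e => h1 (by
    rcases h.uniq g e with rfl | rfl
    exacts [map_one π, h.map])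

theorem sq_eq_one {g : X} (h1 : π g = 1) : g * g = 1 := by
  rcases h.ker g h1 with rfl | rfl
  exacts [one_mul 1, h.sq]

theorem trans {B' : Type*} [Group B'] (e : B ≃* B') : DCover (e.toMonoidHom.comp π) z :=
  ⟨e.surjective.comp h.surj, h.ne, by simp [h.map], fun g hg => h.ker g (by simpa using hg),
    h.uniq⟩

end DCover

theorem DCover.nonempty_equiv {X₁ X₂ B : Type*} [Group X₁] [Finite X₁] [Group X₂] [Finite X₂]
    [Group B] [Finite B] {π₁ : X₁ →* B} {π₂ : X₂ →* B} {z₁ : X₁} {z₂ : X₂} (h₁ : DCover π₁ z₁)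
    (h₂ : DCover π₂ z₂) (S : Sylow 2 B) {n : ℕ} (hn : 2 ≤ n)
    (e : (S : Subgroup B) ≃* DihedralGroup n) : Nonempty (X₁ ≃* X₂) := by
  let Y := (π₁.comp (MonoidHom.fst X₁ X₂)).eqLocus (π₂.comp (MonoidHom.snd X₁ X₂))
  have hY : ∀ y : Y, π₁ y.1.1 = π₂ y.1.2 := fun y => y.2
  let w : Y := ⟨(z₁, z₂), h₁.map.trans h₂.map.symm⟩
  let c : Y := ⟨(z₁, 1), h₁.map.trans (map_one π₂).symm⟩
  let c' : Y := ⟨(1, z₂), (map_one π₁).trans h₂.map.symm⟩
  have hcw : c' * w = c := Subtype.ext (Prod.ext (one_mul _) h₂.sq)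
  have hw2 : w * w = 1 := Subtype.ext (Prod.ext h₁.sq h₂.sq)
  have hW : ∀ y ∈ zpowers w, y = 1 ∨ y = w := fun y hy => by
    have : zpowers w ≤ { carrier := {y | y = 1 ∨ y = w}
                         one_mem' := Or.inl rfl
                         mul_mem' := by
                          rintro _ _ (rfl | rfl) (rfl | rfl) <;> simp [hw2]
                         inv_mem' := by
                          rintro _ (rfl | rfl)
                          · simp
                          · exact Or.inr (inv_eq_of_mul_eq_one_right hw2) } :=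
      zpowers_le.mpr (Or.inr rfl)
    exact this hy
  have : (zpowers w).Normal := ⟨fun y hy g => by
    rcases hW y hy with rfl | rfl
    · simp
    · rw [show g * w = w * g from Subtype.ext (Prod.ext (h₁.comm _) (h₂.comm _)),
        mul_inv_cancel_right]
      exact hy⟩
  let p : Y →* B := π₁.comp ((MonoidHom.fst X₁ X₂).comp Y.subtype)
  let π : Y ⧸ zpowers w →* B := QuotientGroup.lift _ p (zpowers_le.mpr h₁.map)
  have hwq : (w : Y ⧸ zpowers w) = 1 := (QuotientGroup.eq_one_iff w).mpr (mem_zpowers w)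
  obtain ⟨M, hM, hc⟩ := exists_index_two_of_dihedral π (c := (c : Y ⧸ zpowers w)) (fun b => by
      obtain ⟨x, rfl⟩ := h₁.surj b
      obtain ⟨y, hy⟩ := h₂.surj (π₁ x)
      exact ⟨((⟨(x, y), hy.symm⟩ : Y) : Y ⧸ zpowers w), rfl⟩)
    (fun h => by
      rcases hW c ((QuotientGroup.eq_one_iff c).mp h) with e | e
      · exact h₁.ne (congrArg (fun y : Y => y.1.1) e)
      · exact h₂.ne (congrArg (fun y : Y => y.1.2) e).symm)
    h₁.map (fun g hg => by
      obtain ⟨y, rfl⟩ := QuotientGroup.mk_surjective g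
      have h1 : π₁ y.1.1 = 1 := hg
      rcases h₁.ker _ h1 with e1 | e1 <;> rcases h₂.ker _ ((hY y).symm.trans h1) with e2 | e2
      · exact Or.inl (congrArg _ (show y = 1 from Subtype.ext (Prod.ext e1 e2)))
      · rw [show y = c' from Subtype.ext (Prod.ext e1 e2), ← hcw, QuotientGroup.mk_mul, hwq,
          mul_one]
        exact Or.inr rfl
      · exact Or.inr (congrArg _ (show y = c from Subtype.ext (Prod.ext e1 e2)))
      · rw [show y = w from Subtype.ext (Prod.ext e1 e2)]
        exact Or.inl hwq)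
    (fun g hg => by
      obtain ⟨y, rfl⟩ := QuotientGroup.mk_surjective g
      have h1 : π₁ y.1.1 * π₁ y.1.1 = 1 := hg
      rw [← QuotientGroup.mk_mul]
      by_cases h2 : π₁ y.1.1 = 1
      · exact congrArg _ (show y * y = 1 from Subtype.ext (Prod.ext (h₁.sq_eq_one h2)
          (h₂.sq_eq_one ((hY y).symm.trans h2))))
      · rw [show y * y = w from Subtype.ext (Prod.ext (h₁.sq_eq h2 h1)
          (h₂.sq_eq (hY y ▸ h2) (hY y ▸ h1)))]
        exact hwq) S hn e
  let N := M.comap (QuotientGroup.mk' (zpowers w))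
  have hN : N.index = 2 := (index_comap_of_surjective _ (QuotientGroup.mk'_surjective _)).trans hM
  have hcN : c ∉ N := hc
  have hc'N : c' ∉ N := fun h => hcN (hcw ▸ mul_mem h (show (w : Y ⧸ zpowers w) ∈ M from
    hwq ▸ one_mem _))
  let p₁ : N →* X₁ := (MonoidHom.fst X₁ X₂).comp (Y.subtype.comp N.subtype)
  let p₂ : N →* X₂ := (MonoidHom.snd X₁ X₂).comp (Y.subtype.comp N.subtype)
  have b₁ : Function.Bijective p₁ := by
    refine ⟨(injective_iff_map_eq_one _).mpr fun y hy => ?_, fun x => ?_⟩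
    · have h1 : y.1.1.1 = 1 := hy
      rcases h₂.ker _ ((hY y).symm.trans (by rw [h1, map_one])) with e2 | e2
      · exact Subtype.ext (Subtype.ext (Prod.ext h1 e2))
      · exact absurd ((show y.1 = c' from Subtype.ext (Prod.ext h1 e2)) ▸ y.2) hc'N
    · obtain ⟨y, hy⟩ := h₂.surj (π₁ x)
      by_cases h : (⟨(x, y), hy.symm⟩ : Y) ∈ N
      · exact ⟨⟨_, h⟩, rfl⟩
      · exact ⟨⟨_, (mul_mem_iff_of_index_two hN).mpr (iff_of_false h hc'N)⟩, mul_one x⟩
  have b₂ : Function.Bijective p₂ := by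
    refine ⟨(injective_iff_map_eq_one _).mpr fun y hy => ?_, fun x => ?_⟩
    · have h1 : y.1.1.2 = 1 := hy
      rcases h₁.ker _ ((hY y).trans (by rw [h1, map_one])) with e2 | e2
      · exact Subtype.ext (Subtype.ext (Prod.ext e2 h1))
      · exact absurd ((show y.1 = c from Subtype.ext (Prod.ext e2 h1)) ▸ y.2) hcN
    · obtain ⟨y, hy⟩ := h₁.surj (π₂ x)
      by_cases h : (⟨(y, x), hy⟩ : Y) ∈ N
      · exact ⟨⟨_, h⟩, rfl⟩
      · exact ⟨⟨_, (mul_mem_iff_of_index_two hN).mpr (iff_of_false h hcN)⟩, mul_one x⟩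
  exact ⟨(MulEquiv.ofBijective p₁ b₁).symm.trans (MulEquiv.ofBijective p₂ b₂)⟩

end H22
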