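import Mathlib
import Cfsg.Agent.H7.GL2Sylow
import Cfsg.Agent.H7.ProjLine
import Cfsg.Agent.H16.AutGen

/-! The outer automorphism group of `SL₂(q)`, `q` odd, is abelian. -/

set_option autoImplicit false

namespace H22
namespace SL2Aut

open Subgroup Matrix
open scoped MatrixGroups Pointwise

variable {F : Type*} [Field F]

/-- upper unitriangular matrix -/
def uu (x : F) : SL(2, F) := ⟨!![1, x; 0, 1], by simp [det_fin_two]⟩
/-- lower unitriangular matrix -/
def ll (x : F) : SL(2, F) := ⟨!![1, 0; x, 1], by simp [det_fin_two]⟩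
/-- diagonal matrix -/
def dd (a : F) (ha : a ≠ 0) : SL(2, F) := ⟨!![a, 0; 0, a⁻¹], by simp [det_fin_two, ha]⟩
/-- the Weyl element -/
def ww : SL(2, F) := ⟨!![0, -1; 1, 0], by simp [det_fin_two]⟩

theorem uu_val (x : F) : (uu x).1 = !![1, x; 0, 1] := rfl
theorem ll_val (x : F) : (ll x).1 = !![1, 0; x, 1] := rfl
theorem dd_val (a : F) (ha : a ≠ 0) : (dd a ha).1 = !![a, 0; 0, a⁻¹] := rfl
theorem ww_val : (ww : SL(2, F)).1 = !![0, -1; 1, 0] := rfl
theorem mul_val (g h : SL(2, F)) : (g * h).1 = g.1 * h.1 := rfl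
theorem ent (g h : SL(2, F)) (i j : Fin 2) :
    (g * h).1 i j = g.1 i 0 * h.1 0 j + g.1 i 1 * h.1 1 j := by
  rw [mul_val, Matrix.mul_apply, Fin.sum_univ_two]

theorem uu_inj {x y : F} (h : uu x = uu y) : x = y := congrArg (fun g : SL(2, F) => g.1 0 1) h

theorem uu_add (x y : F) : uu (x + y) = uu x * uu y := by
  ext i j; fin_cases i <;> fin_cases j <;> simp [ent, uu_val, add_comm]

theorem uu_zero : uu (0 : F) = 1 := by
  ext i j; fin_cases i <;> fin_cases j <;> simp [uu]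

theorem ll_zero : ll (0 : F) = 1 := by
  ext i j; fin_cases i <;> fin_cases j <;> simp [ll]

theorem ww_uu (x : F) : ww * uu x = ll (-x) * ww := by
  ext i j; fin_cases i <;> fin_cases j <;> simp [ent, uu_val, ll_val, ww_val]

theorem dd_uu (a : F) (ha : a ≠ 0) (x : F) : dd a ha * uu x = uu (a ^ 2 * x) * dd a ha := by
  ext i j; fin_cases i <;> fin_cases j <;> simp [ent, uu_val, dd_val]
  field_simp

theorem dd_ll (a : F) (ha : a ≠ 0) (x : F) : dd a ha * ll x = ll (x / a ^ 2) * dd a ha := by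
  ext i j; fin_cases i <;> fin_cases j <;> simp [ent, ll_val, dd_val]
  field_simp

theorem mem_unip {g : SL(2, F)} : g ∈ H7.unip2 (H7.sl2Mat F) ↔ ∃ x, g = uu x := by
  refine ⟨fun ⟨h1, h2, h3⟩ => ⟨g.1 0 1, ?_⟩, by rintro ⟨x, rfl⟩; exact ⟨rfl, rfl, rfl⟩⟩
  ext i j
  fin_cases i <;> fin_cases j
  exacts [h1, rfl, h2, h3]

theorem hom_ext {G : Type*} [Group G] {f g : SL(2, F) →* G} (h1 : ∀ x, f (uu x) = g (uu x))
    (h2 : ∀ x, f (ll x) = g (ll x)) : f = g := by
  refine MonoidHom.ext (H7.sl_transvection_induction (fun A => f A = g A) (by simp)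
    (fun i j h c => ?_) fun A B hA hB => by rw [map_mul, map_mul, hA, hB])
  fin_cases i <;> fin_cases j
  · exact absurd rfl h
  · convert h1 c <;> ext i j <;> fin_cases i <;> fin_cases j <;>
      simp [uu, SpecialLinearGroup.transvection, Matrix.transvection]
  · convert h2 c <;> ext i j <;> fin_cases i <;> fin_cases j <;>
      simp [ll, SpecialLinearGroup.transvection, Matrix.transvection]
  · exact absurd rfl h

theorem sq_eq_iff (x y : F) : (uu x * ll y * (uu x * ll y)).1 = -1 ↔ x * y = -2 := by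
  constructor
  · intro h
    have := congrFun (congrFun h 1) 1
    simp [-SpecialLinearGroup.coe_mul, ent, uu_val, ll_val] at this
    linear_combination this
  · intro h
    ext i j
    fin_cases i <;> fin_cases j <;> simp [-SpecialLinearGroup.coe_mul, ent, uu_val, ll_val]
    · linear_combination (x * y + 1) * h
    · linear_combination x * h
    · linear_combination y * h
    · linear_combination h

variable [Fintype F]

theorem exists_stab (α : MulAut SL(2, F)) : ∃ g : SL(2, F),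
    (∀ x, ∃ y, (MulAut.conj g * α) (uu x) = uu y) ∧ ∀ x, ∃ y, (MulAut.conj g * α) (ll x) = ll y := by
  obtain ⟨p, hp⟩ := CharP.exists F
  have : Fact p.Prime := ⟨CharP.char_is_prime F p⟩
  obtain ⟨P, hP⟩ := H7.exists_sylow_sl2 (F := F) p
  have key : ∀ β : MulAut SL(2, F), ∃ k : SL(2, F), ∀ x, ∃ y, β (uu x) = k * uu y * k⁻¹ := by
    intro β
    obtain ⟨k, hk⟩ := H7.sylow_eq_conj P (β • P)
    refine ⟨k, fun x => ?_⟩
    have : β (uu x) ∈ MulAut.conj k • (P : Subgroup SL(2, F)) := by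
      rw [← hk]
      exact smul_mem_pointwise_smul _ β _ (hP ▸ mem_unip.mpr ⟨x, rfl⟩)
    obtain ⟨u, hu, e⟩ := this
    obtain ⟨y, rfl⟩ := mem_unip.mp (hP ▸ hu)
    exact ⟨y, e.symm⟩
  obtain ⟨k, hk⟩ := key α
  obtain ⟨β, hβ⟩ : ∃ β, β = MulAut.conj k⁻¹ * α := ⟨_, rfl⟩
  have h1 : ∀ x, ∃ y, β (uu x) = uu y := fun x => by
    obtain ⟨y, hy⟩ := hk x
    exact ⟨y, by rw [hβ, MulAut.mul_apply, hy, MulAut.conj_apply]; group⟩
  obtain ⟨m, hm⟩ := key (β * MulAut.conj ww)
  have h2 : ∀ x, ∃ y, β (ll x) = m * uu y * m⁻¹ := fun x => by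
    obtain ⟨y, hy⟩ := hm (-x)
    exact ⟨y, by rw [← hy, MulAut.mul_apply, MulAut.conj_apply, ww_uu, neg_neg,
      mul_inv_cancel_right]⟩
  have h3 : m.1 1 0 ≠ 0 := fun h0 => by
    choose φ hφ using h1
    have hinj : Function.Injective φ := fun x y e => uu_inj (β.injective (by rw [hφ, hφ, e]))
    obtain ⟨y, hy⟩ := h2 1
    obtain ⟨z, hz⟩ := mem_unip.mp (H7.conj_mem_unip2 (φ := H7.sl2Mat F) (g := m) h0
      (mem_unip.mpr ⟨y, rfl⟩))
    obtain ⟨z, rfl⟩ := Finite.injective_iff_surjective.mp hinj z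
    have := congrArg (fun g : SL(2, F) => g.1 1 0) (β.injective (hy.trans (hz.trans (hφ z).symm)))
    simp [uu, ll] at this
  obtain ⟨c, hc⟩ : ∃ c, c = m.1 0 0 / m.1 1 0 := ⟨_, rfl⟩
  have h4 : ww⁻¹ * (uu (-c) * m) ∈ H7.borel2 (H7.sl2Mat F) := by
    change (ww⁻¹ * (uu (-c) * m)).1 1 0 = 0
    have e : (ww⁻¹ : SL(2, F)).1 = !![0, 1; -1, 0] := by
      change adjugate (ww : SL(2, F)).1 = _
      rw [ww_val, adjugate_fin_two]; simp
    simp [-SpecialLinearGroup.coe_mul, -SpecialLinearGroup.coe_inv, e, ent, uu_val, hc]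
    field_simp
    ring
  refine ⟨uu (-c) * k⁻¹, fun x => ?_, fun x => ?_⟩
  · obtain ⟨y, hy⟩ := h1 x
    refine ⟨y, ?_⟩
    rw [map_mul, mul_assoc, ← hβ, MulAut.mul_apply, hy, MulAut.conj_apply, ← uu_add, add_comm,
      uu_add, mul_inv_cancel_right]
  · obtain ⟨y, hy⟩ := h2 x
    obtain ⟨z, hz⟩ := mem_unip.mp (H7.conj_mem_unip2 _ h4 (mem_unip.mpr ⟨y, rfl⟩))
    refine ⟨-z, ?_⟩
    rw [map_mul, mul_assoc, ← hβ, MulAut.mul_apply, hy, MulAut.conj_apply,
      ← mul_inv_cancel_right (ll (-z)) ww, ← ww_uu, ← hz]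
    group

theorem exists_std (h2 : (2 : F) ≠ 0) (γ : MulAut SL(2, F)) (h1 : ∀ x, ∃ y, γ (uu x) = uu y)
    (h1' : ∀ x, ∃ y, γ (ll x) = ll y) : ∃ (c : F) (σ : F ≃+* F), c ≠ 0 ∧
      (∀ x, γ (uu x) = uu (c * σ x)) ∧ ∀ x, γ (ll x) = ll (σ x / c) := by
  choose φ hφ using h1
  choose ψ hψ using h1'
  have hinj : Function.Injective φ := fun x y e => uu_inj (γ.injective (by rw [hφ, hφ, e]))
  have hadd : ∀ x y, φ (x + y) = φ x + φ y := fun x y =>
    uu_inj (by rw [← hφ, uu_add, map_mul, hφ, hφ, uu_add])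
  have h0 : φ 0 = 0 := uu_inj (by rw [← hφ, uu_zero, map_one])
  have hc : φ 1 ≠ 0 := fun e => one_ne_zero (hinj (e.trans h0.symm))
  have hsq : ∀ a x, φ (a ^ 2 * x) * φ 1 = φ (a ^ 2) * φ x := fun a x => by
    by_cases ha : a = 0
    · simp [ha, h0]
    have h3 : ∀ x, γ (dd a ha) * uu (φ x) = uu (φ (a ^ 2 * x)) * γ (dd a ha) := fun x => by
      rw [← hφ, ← hφ, ← map_mul, ← map_mul, dd_uu]
    generalize γ (dd a ha) = t at h3
    have h4 : t.1 1 0 = 0 := by
      have := congrArg (fun g : SL(2, F) => g.1 1 1) (h3 1)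
      simpa [-SpecialLinearGroup.coe_mul, ent, uu_val, hc] using this
    have h5 : ∀ x, t.1 0 0 * φ x = φ (a ^ 2 * x) * t.1 1 1 := fun x => by
      have := congrArg (fun g : SL(2, F) => g.1 0 1) (h3 x)
      simp [-SpecialLinearGroup.coe_mul, ent, uu_val] at this
      linear_combination this
    have h6 : t.1 0 0 * t.1 1 1 = 1 := by
      have := t.2
      rw [det_fin_two, h4] at this
      linear_combination this
    have h7 := h5 1
    rw [mul_one] at h7
    have h8 := h5 x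
    linear_combination (t.1 0 0 * φ x) * h7 - (t.1 0 0 * φ 1) * h8 +
      (φ (a ^ 2) * φ x - φ (a ^ 2 * x) * φ 1) * h6
  have hsub : ∀ x y, φ (x - y) = φ x - φ y := fun x y => by
    rw [eq_sub_iff_add_eq, ← hadd, sub_add_cancel]
  have hmul : ∀ y x, φ (y * x) * φ 1 = φ y * φ x := fun y x => by
    have e : y = ((y + 1) / 2) ^ 2 - ((y - 1) / 2) ^ 2 := by field_simp; ring
    rw [e, sub_mul, hsub, hsub, sub_mul, hsq, hsq, sub_mul]
  let σ₀ : F →+* F :=
    { toFun := fun x => φ x / φ 1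
      map_one' := div_self hc
      map_mul' := fun x y => by
        rw [eq_div_of_mul_eq hc (hmul x y)]
        field_simp
      map_zero' := by rw [h0, zero_div]
      map_add' := fun x y => by rw [hadd, add_div] }
  let σ := RingEquiv.ofBijective σ₀ (Finite.injective_iff_bijective.mp σ₀.injective)
  have h3 : ∀ x, φ x = φ 1 * σ x := fun x => (mul_div_cancel₀ _ hc).symm
  refine ⟨φ 1, σ, hc, fun x => by rw [hφ, ← h3], fun y => ?_⟩
  by_cases hy : y = 0
  · rw [hy, map_zero, zero_div, ll_zero, map_one]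
  have h4 := (sq_eq_iff (-2 / y) y).mpr (by field_simp)
  have h5 : (γ (uu (-2 / y) * ll y * (uu (-2 / y) * ll y))).1 = -1 := by
    refine H7.sl2_involution_eq_neg_one h2 _ (fun e => ?_) ?_
    · rw [map_eq_one_iff _ γ.injective] at e
      rw [e] at h4
      have := congrFun (congrFun h4 0) 0
      simp at this
      exact h2 (by linear_combination this)
    · rw [← map_mul, map_eq_one_iff _ γ.injective]
      exact Subtype.ext (by rw [mul_val, h4]; simp)
  simp only [map_mul, hφ, hψ, sq_eq_iff] at h5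
  rw [h3, map_div₀, map_neg, map_ofNat] at h5
  have h6 : σ y ≠ 0 := by simpa using hy
  rw [hψ]
  congr 1
  field_simp at h5 ⊢
  linear_combination -h5

theorem isSquare_mul (σ : F ≃+* F) (c : F) : IsSquare (c * σ c) := by
  classical
  by_cases hc : c = 0
  · simp [hc]
  have h1 : σ c ≠ 0 := by simpa using hc
  have h2 : IsSquare (σ c) ↔ IsSquare c :=
    ⟨fun h => by simpa using h.map σ.symm, fun h => h.map σ⟩
  rw [← quadraticChar_one_iff_isSquare (mul_ne_zero hc h1), map_mul]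
  by_cases h : IsSquare c
  · rw [(quadraticChar_one_iff_isSquare hc).mpr h,
      (quadraticChar_one_iff_isSquare h1).mpr (h2.mpr h), one_mul]
  · rw [quadraticChar_neg_one_iff_not_isSquare.mpr h,
      quadraticChar_neg_one_iff_not_isSquare.mpr (h2.not.mpr h)]
    norm_num

/-- commutators of automorphisms of `SL₂(q)` are inner -/
theorem exists_conj_eq (h2 : (2 : F) ≠ 0) (α β : MulAut SL(2, F)) :
    ∃ g : SL(2, F), α * β * α⁻¹ * β⁻¹ = MulAut.conj g := by
  let I := (MulAut.conj : SL(2, F) →* MulAut SL(2, F)).range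
  have : I.Normal := ⟨by
    rintro _ ⟨g, rfl⟩ α
    exact ⟨α g, by ext1 x; simp⟩⟩
  obtain ⟨g, h3, h4⟩ := exists_stab α
  obtain ⟨g', h3', h4'⟩ := exists_stab β
  obtain ⟨c, σ, hc, h5, h6⟩ := exists_std h2 _ h3 h4
  obtain ⟨c', σ', hc', h5', h6'⟩ := exists_std h2 _ h3' h4'
  obtain ⟨f, hf⟩ := (isSquare_mul σ' c).mul (isSquare_mul σ c')
  have h7 : σ' c ≠ 0 := by simpa using hc
  have h8 : σ c' ≠ 0 := by simpa using hc'
  have hf0 : f ≠ 0 := fun e => by simp [e, hc, hc', h7, h8] at hf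
  have he : f / (c' * σ' c) ≠ 0 := by simp [hf0, hc', h7]
  have h9 : (f / (c' * σ' c)) ^ 2 = c * σ c' / (c' * σ' c) := by
    rw [div_pow, pow_two f, ← hf]; field_simp
  have key : MulAut.conj g * α * (MulAut.conj g' * β) =
      MulAut.conj (dd _ he) * (MulAut.conj g' * β * (MulAut.conj g * α)) := by
    generalize MulAut.conj g * α = γ at h5 h6
    generalize MulAut.conj g' * β = γ' at h5' h6'
    apply MulEquiv.toMonoidHom_injective
    refine hom_ext (fun x => ?_) fun x => ?_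
    · simp only [MulEquiv.toMonoidHom_eq_coe, MonoidHom.coe_coe, MulAut.mul_apply, h5, h5',
        MulAut.conj_apply, dd_uu, mul_inv_cancel_right, map_mul, h9]
      rw [H16.ringAut_comm σ σ']
      congr 1
      field_simp
    · simp only [MulEquiv.toMonoidHom_eq_coe, MonoidHom.coe_coe, MulAut.mul_apply, h6, h6',
        MulAut.conj_apply, dd_ll, mul_inv_cancel_right, map_div₀, h9]
      rw [H16.ringAut_comm σ σ']
      congr 1
      field_simp
  have h10 : ∀ g : SL(2, F), ((MulAut.conj g : MulAut SL(2, F)) : MulAut SL(2, F) ⧸ I) = 1 :=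
    fun g => (QuotientGroup.eq_one_iff _).mpr ⟨g, rfl⟩
  have h11 := congrArg (fun x : MulAut SL(2, F) => (x : MulAut SL(2, F) ⧸ I)) key
  simp only [QuotientGroup.mk_mul, h10, one_mul] at h11
  obtain ⟨k, hk⟩ := (QuotientGroup.eq_one_iff (N := I) (α * β * α⁻¹ * β⁻¹)).mp (by
    simp only [QuotientGroup.mk_mul, QuotientGroup.mk_inv, h11]
    group)
  exact ⟨k, hk.symm⟩

end SL2Aut
end H22
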