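import Mathlib
import Cfsg.Agent.H6.SmallSylow
import Cfsg.Agent.H14.SmallAut
import Cfsg.Agent.H17.ZStar
import Cfsg.Agent.H21.QuatAut
import Cfsg.Agent.H22.QD
import Cfsg.Agent.H22.Cov1
import Cfsg.Agent.H22.Cov2

/-! Groups with a unique involution. -/

set_option autoImplicit false

namespace H22

open Subgroup Cfsg
open scoped MatrixGroups

namespace DCover

variable {X B : Type*} [Group X] [Group B] {π : X →* B} {z : X} (h : DCover π z)
include h

theorem nonempty_dihedral [Finite X] (P : Sylow 2 X) {n : ℕ} (hn : 2 ≤ n)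
    (e : (P : Subgroup X) ≃* QuaternionGroup n) :
    Nonempty ((P.mapSurjective h.surj : Subgroup B) ≃* DihedralGroup n) := by
  have : NeZero n := ⟨by omega⟩
  let φ : QuaternionGroup n →* (P.mapSurjective h.surj : Subgroup B) :=
    (π.subgroupMap P).comp e.symm.toMonoidHom
  have hφ : Function.Surjective φ := (π.subgroupMap_surjective P).comp e.symm.surjective
  have h1 : ∀ g, φ g = 1 → g * g = 1 := fun g hg =>
    e.symm.injective (Subtype.ext (by
      simpa using h.sq_eq_one (g := (e.symm g : X)) (congrArg Subtype.val hg)))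
  have h2 : ∀ g, g * g = 1 → φ g = 1 := fun g hg => Subtype.ext (by
    change π (e.symm g) = 1
    rcases h.uniq (e.symm g) (by rw [← coe_mul, ← map_mul, hg, map_one, coe_one]) with e' | e'
    · rw [e', map_one]
    · rw [e', h.map])
  have h3 : (QuaternionGroup.a 1 : QuaternionGroup n) ^ n * QuaternionGroup.a 1 ^ n = 1 := by
    rw [← pow_add, ← two_mul, QuaternionGroup.a_one_pow_n]
  have h4 : ∀ i, (QuaternionGroup.xa i : QuaternionGroup n) * QuaternionGroup.xa i ≠ 1 :=
    fun i e' => by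
      have := orderOf_dvd_of_pow_eq_one ((pow_two _).trans e')
      rw [QuaternionGroup.orderOf_xa] at this
      omega
  refine H7.nonempty_equiv_dihedral n (φ (.a 1)) (φ (.xa 0)) ?_ ?_ ?_ ?_ fun g => ?_
  · refine Nat.dvd_antisymm (orderOf_dvd_of_pow_eq_one (by rw [← map_pow, h2 _ h3])) ?_
    have := h1 _ ((map_pow φ _ _).trans (pow_orderOf_eq_one (φ (.a 1))))
    rw [← pow_add, ← two_mul, ← orderOf_dvd_iff_pow_eq_one, QuaternionGroup.orderOf_a_one] at this
    exact Nat.dvd_of_mul_dvd_mul_left two_pos this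
  · rw [← map_mul]
    refine h2 _ ?_
    rw [← pow_two, ← pow_two, ← pow_mul, QuaternionGroup.xa_pow_four]
  · rw [← map_inv, ← map_inv, ← map_mul, ← map_mul]
    congr 1
    rw [mul_inv_eq_iff_eq_mul, eq_inv_mul_iff_mul_eq]
    simp
  · rintro ⟨k, hk⟩
    have := h1 (QuaternionGroup.xa 0 * (QuaternionGroup.a 1 ^ k)⁻¹) (by
      rw [map_mul, map_inv, map_zpow, show φ (.a 1) ^ k = _ from hk, mul_inv_cancel])
    rw [quaternion_a_zpow, ← zpow_neg_one, quaternion_a_zpow, QuaternionGroup.xa_mul_a] at this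
    exact h4 _ this
  · obtain ⟨g, rfl⟩ := hφ g
    have key : ∀ i, φ (.a i) ∈ zpowers (φ (.a 1)) := fun i =>
      ⟨i.val, by simp only [zpow_natCast]; rw [← map_pow, QuaternionGroup.a_one_pow]; simp⟩
    cases g with
    | a i => exact Or.inl (key i)
    | xa i =>
      refine Or.inr ?_
      rw [show (QuaternionGroup.xa i : QuaternionGroup n) = .xa 0 * .a i by simp, map_mul,
        inv_mul_cancel_left]
      exact key i

theorem mem_zpowers_iff {g : X} : g ∈ zpowers z ↔ g = 1 ∨ g = z :=
  ⟨fun hg => h.ker g ((zpowers_le.mpr (show z ∈ π.ker from h.map)) hg),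
    by rintro (rfl | rfl); exacts [one_mem _, mem_zpowers _]⟩

theorem card_zpowers : Nat.card (zpowers z) = 2 := by
  rw [Nat.card_zpowers, orderOf_eq_prime ((pow_two z).trans h.sq) h.ne]

/-- a normal subgroup without elements of order four -/
theorem eq_of_normal [Finite X] (hO : pPrimeCore 2 X = ⊥) (C : Subgroup X) [C.Normal]
    (hC : ∀ y ∈ C, y * y ≠ z) {y : X} (hy : y ∈ C) : y = 1 ∨ y = z := by
  have := Finite.of_surjective π h.surj
  let N := (C.map π).comap π
  have : (C.map π).Normal := Normal.map inferInstance π h.surj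
  have hz : z ∈ N := show π z ∈ C.map π from h.map ▸ one_mem _
  have hodd : Odd (Nat.card (C.map π)) := by
    by_contra ho
    obtain ⟨_, ⟨y, hy, rfl⟩, h2⟩ := exists_involution_of_not_odd ho
    obtain ⟨h3, h4⟩ := orderOf_eq_prime_iff.mp h2
    exact hC y hy (h.sq_eq h4 ((pow_two _).symm.trans h3))
  have hZ : ((zpowers z).subgroupOf N).Normal := ⟨fun g hg k => by
    rcases h.mem_zpowers_iff.mp hg with e | e
    · rw [show g = 1 from Subtype.ext e]; simp
    · change (k : X) * g * (k : X)⁻¹ ∈ zpowers z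
      rw [show (g : X) = z from e, h.comm, mul_inv_cancel_right]
      exact mem_zpowers z⟩
  have hc : Nat.card ((zpowers z).subgroupOf N) = 2 := by
    rw [Nat.card_congr (subgroupOfEquivOfLe (zpowers_le.mpr hz)).toEquiv, h.card_zpowers]
  have hi : ((zpowers z).subgroupOf N).index = Nat.card (C.map π) := by
    have : (zpowers z).subgroupOf N = (π.subgroupComap (C.map π)).ker := by
      ext g
      rw [mem_subgroupOf, h.mem_zpowers_iff, MonoidHom.mem_ker, Subtype.ext_iff]
      change _ ↔ π g = 1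
      exact ⟨by rintro (e | e) <;> simp [e, h.map], h.ker g⟩
    rw [this, index_ker, MonoidHom.range_eq_top.mpr, card_top]
    rintro ⟨b, hb⟩
    obtain ⟨g, rfl⟩ := h.surj b
    exact ⟨⟨g, hb⟩, rfl⟩
  obtain ⟨M, hM⟩ := exists_right_complement'_of_coprime (N := (zpowers z).subgroupOf N) (by
    rw [hc, hi]; exact Nat.coprime_two_left.mpr hodd)
  have hMn : M.Normal := ⟨fun m hm g => by
    obtain ⟨⟨c, k⟩, rfl⟩ := hM.2 g
    have : (c : N) * k * m * ((c : N) * k)⁻¹ = k * m * (k : N)⁻¹ := by
      rcases h.mem_zpowers_iff.mp c.2 with e | e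
      · rw [show (c : N) = 1 from Subtype.ext e, one_mul]
      · apply Subtype.ext
        simp only [coe_mul, coe_inv, show ((c : N) : X) = z from e]
        calc z * k * m * (z * k)⁻¹ = z * ((k : N) * m * ((k : N) : X)⁻¹) * z⁻¹ := by group
          _ = _ := by rw [← h.comm, mul_inv_cancel_right]
    change (c : N) * k * m * ((c : N) * k)⁻¹ ∈ M
    rw [this]
    exact mul_mem (mul_mem k.2 hm) (inv_mem k.2)⟩
  have hM1 : M = ⊥ := by
    have h1 : M ≤ pPrimeCore 2 N := H2.le_pPrimeCore hMn (by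
      rw [← hM.symm.index_eq_card, hi]; exact Nat.coprime_two_right.mpr hodd)
    have h2 := (map_mono h1).trans (H2.map_subtype_pPrimeCore_le 2 N)
    rwa [hO, le_bot_iff, map_eq_bot_iff_of_injective _ N.subtype_injective] at h2
  have h1 := hM.sup_eq_top
  rw [hM1, sup_bot_eq] at h1
  exact h.mem_zpowers_iff.mp (h1.ge (mem_top (⟨y, mem_map_of_mem π hy⟩ : N)))

theorem pPrimeCore_eq_bot [Finite X] (hO : pPrimeCore 2 X = ⊥) : pPrimeCore 2 B = ⊥ := by
  have := Finite.of_surjective π h.surj
  refine eq_bot_iff.mpr fun b hb => ?_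
  obtain ⟨g, rfl⟩ := h.surj b
  rcases h.eq_of_normal hO ((pPrimeCore 2 B).comap π) (fun y hy e => h.ne (e.symm.trans
    (h.sq_eq_one (H21.eq_one_of_sq_of_mem_odd H17.odd_card_pPrimeCore hy
      (by rw [← map_mul, e, h.map]))))) hb with rfl | rfl
  · exact map_one π
  · exact h.map

end DCover

/-- `z` is the only involution of `X` -/
structure UInv {X : Type*} [Group X] (z : X) : Prop where
  ne : z ≠ 1
  sq : z * z = 1
  uniq : ∀ g : X, g * g = 1 → g = 1 ∨ g = z

namespace UInv

variable {X : Type*} [Group X] {z : X} (h : UInv z)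
include h

theorem comm (g : X) : g * z = z * g := by
  rcases h.uniq (g * z * g⁻¹) (by rw [conj_mul, h.sq, mul_one, mul_inv_cancel]) with e | e
  · exact absurd (by simpa using e) h.ne
  · exact mul_inv_eq_iff_eq_mul.mp e

theorem normal : (zpowers z).Normal := ⟨fun y ⟨k, hk⟩ g => by
  rw [← show z ^ k = y from hk, ((show Commute g z from h.comm g).zpow_right k).eq,
    mul_inv_cancel_right]
  exact zpow_mem (mem_zpowers z) k⟩

theorem dcover [(zpowers z).Normal] : DCover (QuotientGroup.mk' (zpowers z)) z :=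
  ⟨QuotientGroup.mk'_surjective _, h.ne, (QuotientGroup.eq_one_iff z).mpr (mem_zpowers z),
    fun g hg => h.uniq g (by
      obtain ⟨k, rfl⟩ := (QuotientGroup.eq_one_iff g).mp hg
      rw [← (Commute.refl z).mul_zpow, h.sq, one_zpow]), h.uniq⟩

theorem subgroup {Y : Subgroup X} (hz : z ∈ Y) : UInv (⟨z, hz⟩ : Y) :=
  ⟨fun e => h.ne (congrArg Subtype.val e), Subtype.ext h.sq, fun g hg =>
    (h.uniq g (congrArg Subtype.val hg)).imp Subtype.ext Subtype.ext⟩

theorem uniqueOrderP (Y : Subgroup X) : H2.UniqueOrderP 2 Y := fun x y hx hx2 hy2 => by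
  rcases h.uniq y (by simpa [pow_two] using congrArg Subtype.val hy2) with e | e
  · rw [show y = 1 from Subtype.ext e]; exact one_mem _
  · rw [show y = x from Subtype.ext (e.trans ((h.uniq x (by
      simpa [pow_two] using congrArg Subtype.val hx2)).resolve_left
        fun e => hx (Subtype.ext e)).symm)]
    exact mem_zpowers x

end UInv

theorem exists_uInv {K : Type*} [Group K] [Finite K] (hO : pPrimeCore 2 K = ⊥) (P : Sylow 2 K)
    {m : ℕ} (hm : 1 ≤ m) (e : (P : Subgroup K) ≃* QuaternionGroup (2 ^ m)) : ∃ z : K, UInv z := by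
  obtain ⟨m, rfl⟩ := Nat.exists_eq_add_of_le' hm
  obtain ⟨z, -, hz⟩ := exists_involution_of_not_odd (N := (P : Subgroup K)) (by
    rw [Nat.card_congr e.toEquiv, Nat.card_eq_fintype_card, QuaternionGroup.card,
      Nat.not_odd_iff_even]
    exact ⟨2 * 2 ^ (m + 1), by ring⟩)
  obtain ⟨h1, h2⟩ := orderOf_eq_prime_iff.mp hz
  refine ⟨z, h2, (pow_two z).symm.trans h1, fun g hg => or_iff_not_imp_left.mpr fun h3 => ?_⟩
  have h4 : g ∈ zpowers z := by
    rw [← H17.center_eq_of_quaternion P e hO hz,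
      H17.center_eq_of_quaternion P e hO (orderOf_eq_prime ((pow_two g).trans hg) h3)]
    exact mem_zpowers g
  obtain ⟨k, rfl⟩ := h4
  rcases Int.even_or_odd' k with ⟨k, rfl | rfl⟩
  · exact absurd (by simp only [zpow_mul, zpow_ofNat, h1, one_zpow]) h3
  · simp only [zpow_add, zpow_mul, zpow_ofNat, h1, one_zpow, one_mul, pow_one]

section SL2

variable {F : Type*} [Field F]

theorem sl2_dcover (h2 : (2 : F) ≠ 0) :
    ∃ z : SL(2, F), DCover (QuotientGroup.mk' (center SL(2, F))) z := by
  have key : ∀ g : SL(2, F), g * g = 1 → g = 1 ∨ g = -1 := fun g hg =>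
    or_iff_not_imp_left.mpr fun h1 => Subtype.ext (H7.sl2_involution_eq_neg_one h2 g h1 hg)
  refine ⟨-1, QuotientGroup.mk'_surjective _, fun e => ?_,
    (QuotientGroup.eq_one_iff _).mpr (mem_center_iff.mpr fun g => by simp), fun g hg => key g ?_,
    key⟩
  · have := congrArg (fun g : SL(2, F) => g.1 0 0) e
    simp at this
    exact h2 (by linear_combination -this)
  · obtain ⟨r, h3, h4⟩ := Matrix.SpecialLinearGroup.mem_center_iff.mp
      ((QuotientGroup.eq_one_iff g).mp hg)
    apply Subtype.ext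
    rw [SL2Aut.mul_val, ← h4, ← map_mul, ← pow_two, show r ^ 2 = 1 by simpa using h3, map_one]
    rfl

theorem sl2_no_index_two [Fintype F] (hF : Odd (Fintype.card F)) (M : Subgroup SL(2, F)) :
    M.index ≠ 2 := fun hM => by
  have h2 := H7.two_ne_zero_of_odd_card hF
  have : M = ⊤ := eq_top_iff.mpr fun g _ => Matrix.SL2.transvection_induction (· ∈ M)
    (fun i j hij c => by
      rw [show c = c / 2 + c / 2 by field_simp; ring, Matrix.SpecialLinearGroup.transvection_add]
      exact mul_self_mem_of_index_two hM _) (fun _ _ => mul_mem) g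
  rw [this, index_top] at hM
  exact absurd hM (by decide)

theorem sl2_perfect [Fintype F] (hF : 3 < Fintype.card F) : commutator SL(2, F) = ⊤ := by
  obtain ⟨x, hx⟩ : IsCyclic Fˣ := inferInstance
  refine Matrix.SL2.commutator_eq_top (Units.ne_zero x) fun h => ?_
  have h1 := orderOf_le_of_pow_eq_one zero_lt_two (show x ^ 2 = 1 from Units.ext (by simpa using h))
  rw [orderOf_eq_card_of_forall_mem_zpowers hx, Nat.card_units, Nat.card_eq_fintype_card] at h1
  omega

theorem sl2_card_cases [Fintype F] (hF : Odd (Fintype.card F)) :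
    (Fintype.card F = 3 ∧ Nat.card SL(2, F) = 24) ∨
      (3 < Fintype.card F ∧ 24 < Nat.card SL(2, F)) := by
  rw [H7.card_sl_two rfl]
  have h1 : 1 < Fintype.card F := Fintype.one_lt_card
  obtain ⟨k, hk⟩ := hF
  by_cases h : Fintype.card F = 3
  · exact Or.inl ⟨h, by rw [h]; rfl⟩
  · refine Or.inr ⟨by omega, ?_⟩
    have h2 : 5 ≤ Fintype.card F := by omega
    have h3 : 5 ^ 2 ≤ Fintype.card F ^ 2 := Nat.pow_le_pow_left h2 2
    calc 24 < 5 * 24 := by norm_num
      _ ≤ _ := Nat.mul_le_mul h2 (by omega)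

end SL2

theorem le_of_no_index_two {H : Type*} [Group H] [Finite H] {K L : Subgroup H} [K.Normal] {a : ℕ}
    (hK : K.index = 2 ^ a) (hL : ∀ M : Subgroup L, M.index ≠ 2) : L ≤ K := by
  have h1 : pResidual 2 L ≤ K.subgroupOf L :=
    H3.pResidual_le_of_index_dvd_pow _ (hK ▸ relIndex_dvd_index_of_normal K L)
  rw [pResidual_two_eq_top_iff.mpr hL, top_le_iff] at h1
  exact subgroupOf_eq_top.mp h1

theorem no_index_two_of_equiv {A B : Type*} [Group A] [Group B] (e : A ≃* B)
    (h : ∀ M : Subgroup B, M.index ≠ 2) (M : Subgroup A) : M.index ≠ 2 := by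
  rw [← index_comap_of_surjective M (f := e.symm.toMonoidHom) e.symm.surjective]
  exact h _

/-- the solvable case -/
theorem equiv_sl23 {K : Type*} [Group K] [Finite K] [Group.IsSolvable K] {z : K} (hz : UInv z)
    (hO : pPrimeCore 2 K = ⊥) (h2 : ∀ M : Subgroup K, M.index ≠ 2) (P : Sylow 2 K) {m : ℕ}
    (e : (P : Subgroup K) ≃* QuaternionGroup (2 ^ m)) : Nonempty (K ≃* SL(2, ZMod 3)) := by
  have hC := H2.centralizer_pCore_le hO
  have h3 : ¬ IsPGroup 2 K := fun hp => by
    have := le_of_no_index_two (K := (⊥ : Subgroup K)) (L := ⊤)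
      (index_bot.trans (IsPGroup.iff_card.mp hp).choose_spec)
      (no_index_two_of_equiv topEquiv h2)
    exact hz.ne (this (mem_top z))
  obtain ⟨Q, -, ⟨f⟩, hQ⟩ := (quaternion_sylow P e).resolve_left (by
    rintro ⟨P', N, hN, hc⟩
    have h4 : N ≤ pPrimeCore 2 K := H2.le_pPrimeCore hN (by
      rw [← hc.index_eq_card]
      exact ((Nat.Prime.coprime_iff_not_dvd Nat.prime_two).mpr P'.not_dvd_index).symm)
    have h5 := hc.sup_eq_top
    rw [hO, le_bot_iff] at h4
    rw [h4, bot_sup_eq] at h5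
    exact h3 (IsPGroup.of_equiv (h5 ▸ P'.isPGroup') topEquiv))
  obtain ⟨A, B, hB, ⟨g⟩⟩ := exists_sl23_section f hQ
  have h24 : Nat.card SL(2, ZMod 3) = 24 := H7.card_sl_two (q := 3) (by simp)
  have h4 := card_eq_card_quotient_mul_card_subgroup (B.subgroupOf A)
  rw [Nat.card_congr g.toEquiv, h24] at h4
  have h5 : Nat.card (pCore 2 K) = 8 := by
    by_contra hne
    refine h3 fun y => ?_
    obtain ⟨k, j, hj, e'⟩ := Nat.exists_eq_two_pow_mul_odd (orderOf_pos y).ne'
    refine ⟨k, ?_⟩
    have ho : Odd (orderOf (y ^ 2 ^ k)) := hj.of_dvd_nat (orderOf_dvd_of_pow_eq_one (by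
      rw [← pow_mul, ← e', pow_orderOf_eq_one]))
    have h6 := (H21.odd_aut_of_unique_invol (H2.pCore_isPGroup 2 K) (hz.uniqueOrderP _)
      (le_normalizer_of_normal (mem_top _)) ho).resolve_right fun h => hne h.1
    exact H3.eq_one_of_mem_of_coprime (H2.pCore_isPGroup 2 K) (hC h6)
      (Nat.coprime_two_right.mpr ho)
  have h6 : Nat.card K ∣ 48 := by
    rcases (hz.uniqueOrderP (pCore 2 K)).isCyclic_or_quaternion (H2.pCore_isPGroup 2 K) with
      hc | ⟨-, n, ⟨e'⟩⟩
    · exfalso
      refine h3 fun y => ?_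
      obtain ⟨k, j, hj, e'⟩ := Nat.exists_eq_two_pow_mul_odd (orderOf_pos y).ne'
      refine ⟨k, ?_⟩
      have ho : Odd (orderOf (y ^ 2 ^ k)) := hj.of_dvd_nat (orderOf_dvd_of_pow_eq_one (by
        rw [← pow_mul, ← e', pow_orderOf_eq_one]))
      by_contra hne
      refine not_hasOdd_of_isCyclic (H2.pCore_isPGroup 2 K) ⟨_, le_normalizer_of_normal
        (mem_top _), Nat.coprime_two_right.mpr ho, fun h6 => hne ?_⟩
      exact H3.eq_one_of_mem_of_coprime (H2.pCore_isPGroup 2 K) (hC h6)
        (Nat.coprime_two_right.mpr ho)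
    · have h7 : 2 ^ (n + 1) = 2 := by
        rw [Nat.card_congr e'.toEquiv, Nat.card_eq_fintype_card, QuaternionGroup.card] at h5
        omega
      have h8 := H14.index_centralizer_dvd e'
      have h9 : ∀ y ∈ centralizer (pCore 2 K : Set K), y = 1 ∨ y = z := fun y hy =>
        hz.uniq y ((quaternion_facts (by omega) e').1 y (hC hy) hy)
      have h10 : centralizer (pCore 2 K : Set K) ≤ zpowers z := fun y hy => by
        rcases h9 y hy with rfl | rfl
        exacts [one_mem _, mem_zpowers _]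
      have h11 := card_dvd_of_le h10
      rw [Nat.card_zpowers, orderOf_eq_prime ((pow_two z).trans hz.sq) hz.ne] at h11
      rw [h7] at h8
      rw [← card_mul_index (centralizer (pCore 2 K : Set K))]
      exact mul_dvd_mul h11 (h8.trans H14.q8_card_aut)
  have h7 : Nat.card K ≠ 48 := fun h => by
    have h8 := card_eq_card_quotient_mul_card_subgroup (pCore 2 K)
    rw [h, h5] at h8
    obtain ⟨M, hM⟩ := H6.exists_index_two_of_not_four_dvd (G := K ⧸ pCore 2 K)
      (by rw [show Nat.card (K ⧸ pCore 2 K) = 6 by omega]; decide)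
      (by rw [show Nat.card (K ⧸ pCore 2 K) = 6 by omega]; decide)
    exact no_index_two_quotient _ h2 M hM
  have h8 := card_subgroup_dvd_card A
  have h9 : Nat.card K = 24 := by
    obtain ⟨c, hc⟩ := (Dvd.intro _ h4.symm).trans h8
    rw [hc] at h6 h7 ⊢
    have := Nat.le_of_dvd (by norm_num) h6
    have : c ≠ 0 := by rintro rfl; simp at h6
    omega
  have h10 : Nat.card (B.subgroupOf A) = 1 := by
    have := Nat.le_of_dvd Nat.card_pos h8
    have := Nat.card_pos (α := B.subgroupOf A)
    omega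
  have h11 : A = ⊤ := eq_top_of_card_eq _ (by rw [h4, h10, h9])
  exact ⟨((MulEquiv.subgroupCongr h11).trans topEquiv).symm.trans
    (((QuotientGroup.quotientMulEquivOfEq (card_eq_one.mp h10)).trans
      QuotientGroup.quotientBot).symm.trans g)⟩

end H22
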