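import Mathlib
import Cfsg.Agent.H25.Std0
import Cfsg.Agent.H22.Cov3
import Cfsg.Agent.H22.Cov4

/-! `Q`-groups with quasi-dihedral or wreathed Sylow `2`-subgroups, assuming the
Gorenstein–Walter theorem. -/

set_option autoImplicit false

namespace H22

open Subgroup Cfsg
open scoped MatrixGroups commutatorElement

universe u

/-- The Gorenstein–Walter theorem for perfect groups. -/
def GW : Prop := ∀ {X : Type u} [Group X] [Finite X] [Group.IsPerfect X]
  (S : Sylow 2 X) (n : ℕ) (_ : 2 ≤ n) (_ : Nonempty ((S : Subgroup X) ≃* DihedralGroup n)),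
  (∃ (F : Type) (_ : Field F) (_ : Fintype F), Odd (Fintype.card F) ∧ 3 < Fintype.card F ∧
      Nonempty (X ⧸ Cfsg.oddCore X ≃* Matrix.ProjectiveSpecialLinearGroup (Fin 2) F)) ∨
    Nonempty (X ⧸ Cfsg.oddCore X ≃* alternatingGroup (Fin 7))

/-- An abelian subgroup of index two of `S` which moves `q` to `a q` if `q` inverts `a`. -/
structure Swap {G : Type*} [Group G] (S U : Subgroup G) : Prop where
  le : U ≤ S
  comm : ∀ x ∈ U, ∀ y ∈ U, x * y = y * x
  mul : ∀ x ∈ S, ∀ y ∈ S, x ∉ U → y ∉ U → x * y ∈ U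
  swap : ∀ a ∈ U, ∀ q ∈ S, q ∉ U → q * a * q⁻¹ = a⁻¹ → ∃ u ∈ U, u * q * u⁻¹ = a * q

theorem Ext2.swap {G : Type*} [Group G] {S : Subgroup G} {A : Type} [AddCommGroup A]
    {σ : A →+ A} {c : A} (E : Ext2 S A σ c) (h : ∀ a, σ a = -a → ∃ b, b - σ b = a) :
    ∃ U, Swap S U := by
  have hr : ∀ a, E.r a ∈ E.rsub ⊤ := fun a => ⟨a, trivial, rfl⟩
  refine ⟨E.rsub ⊤, ?_, ?_, fun x hx y hy h1 h2 => ?_, ?_⟩
  · rintro _ ⟨a, -, rfl⟩
    exact E.r_mem a
  · rintro _ ⟨a, -, rfl⟩ _ ⟨b, -, rfl⟩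
    exact E.r_comm_r a b
  · obtain ⟨a, rfl⟩ := (E.cases hx).resolve_left fun ⟨a, e⟩ => h1 (e ▸ hr a)
    obtain ⟨b, rfl⟩ := (E.cases hy).resolve_left fun ⟨a, e⟩ => h2 (e ▸ hr a)
    rw [E.s_mul_s]
    exact hr _
  · rintro _ ⟨a, -, rfl⟩ q hq h1 h2
    obtain ⟨d, rfl⟩ := (E.cases hq).resolve_left fun ⟨a, e⟩ => h1 (e ▸ hr a)
    rw [E.s_conj_r, E.r_inv, E.r_inj] at h2
    obtain ⟨b, hb⟩ := h a h2
    exact ⟨_, hr b, by rw [E.r_conj_s, hb, E.r_mul_s, add_comm]⟩

theorem exists_swap {G : Type*} [Group G] [Finite G] {S : Subgroup G}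
    (hS : IsQuasiDihedral S ∨ IsWreathed S) : ∃ U, Swap S U := by
  rcases hS with hS | hS
  · obtain ⟨n, hn, ⟨E⟩⟩ := exists_MC_of_isQuasiDihedral hS
    refine E.swap fun a ha => ?_
    have hn1 : 1 ≤ n := by omega
    rw [sig_apply] at ha
    obtain ⟨b, rfl⟩ := (mem_K_pred hn1).mp
      (hh_mul_eq_zero_iff.mp (show hh n * a = 0 by linear_combination ha))
    rcases even_or_odd b with ⟨d, rfl⟩ | ⟨d, rfl⟩
    · exact ⟨2 * d, by rw [sig_apply]; linear_combination -hh_mul_two_mul hn1 d⟩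
    · have h1 : hh n * qq n = 0 := hh_mul_eq_zero_iff.mpr (qq_mem_K (by omega))
      exact ⟨2 * d + 1 + qq n, by
        rw [sig_apply]
        linear_combination two_mul_qq (n := n) (by omega) - hh_mul_odd hn1 d - h1⟩
  · obtain ⟨n, hn, ⟨E⟩⟩ := exists_WR hS
    refine E.swap fun a ha => ⟨(a.1, 0), Prod.ext (sub_zero _) ?_⟩
    have : a.1 = -a.2 := congrArg Prod.snd ha
    change 0 - a.1 = a.2
    rw [this, zero_sub, neg_neg]

namespace Swap

variable {G : Type*} [Group G] {S U : Subgroup G} (h : Swap S U)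
include h

theorem mem_or {q g : G} (hq : q ∈ S) (hqU : q ∉ U) (hg : g ∈ S) : g ∈ U ∨ g * q⁻¹ ∈ U :=
  or_iff_not_imp_left.mpr fun hgU =>
    h.mul g hg _ (inv_mem hq) hgU fun e => hqU (inv_mem_iff.mp e)

/-- an element of order at least eight inverted in `S` -/
theorem swap_of_eight {a q : G} (ha : a ∈ S) (hq : q ∈ S) (h4 : a ^ 4 ≠ 1)
    (hqa : q * a * q⁻¹ = a⁻¹) : ∃ u ∈ S, u * a * u⁻¹ = a ∧ u * q * u⁻¹ = a * q := by
  have key : q * (a * a) ≠ a * a * q := fun e => h4 (by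
    have : q * (a * a) * q⁻¹ = a⁻¹ * a⁻¹ := by rw [← hqa]; group
    rw [e, mul_inv_cancel_right] at this
    calc a ^ 4 = a * a * (a * a) := by simp only [pow_succ, pow_zero, one_mul, mul_assoc]
      _ = 1 := by nth_rw 1 [this]; group)
  have haU : a ∈ U := by
    by_contra haU
    have h2 := h.mul a ha a ha haU haU
    rcases h.mem_or ha haU hq with e | e
    · exact key (h.comm _ e _ h2)
    · have := h.comm _ e _ h2
      refine key ?_
      calc q * (a * a) = q * a⁻¹ * (a * a) * a := by group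
        _ = _ := by rw [this]; group
  have hqU : q ∉ U := fun e => key (h.comm _ e _ (mul_mem haU haU))
  obtain ⟨u, hu, e⟩ := h.swap a haU q hq hqU hqa
  exact ⟨u, h.le hu, by rw [h.comm u hu a haU, mul_inv_cancel_right], e⟩

/-- a quaternion subgroup of order eight -/
theorem swap_of_q8 {i j z : G} (hi : i ∈ S) (hj : j ∈ S) (hz : z * z = 1) (hz1 : z ≠ 1)
    (h1 : i * i = z) (h2 : j * j = z) (h3 : i * j * (i * j) = z) :
    ∃ a q, a ∈ closure {i, j} ∧ q ∈ closure {i, j} ∧ a * a = z ∧ q * q = z ∧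
      a * q * (a * q) = z ∧ ∃ u, u * a * u⁻¹ = a ∧ u * q * u⁻¹ = a * q := by
  have key : ∀ a q : G, a ∈ U → q ∈ S → a * a = z → q * q = z → a * q * (a * q) = z →
      ∃ u, u * a * u⁻¹ = a ∧ u * q * u⁻¹ = a * q := fun a q ha hq e1 e2 e3 => by
    have e4 : q * a * q⁻¹ = a⁻¹ := by
      have : q * a * q = a := by
        rw [← e1, mul_assoc a q, mul_right_inj, ← mul_assoc] at e3
        exact e3
      calc q * a * q⁻¹ = q * a * q * (q * q)⁻¹ := by group
        _ = a * (a * a)⁻¹ := by rw [this, e2, e1]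
        _ = _ := by group
    obtain ⟨u, hu, e⟩ := h.swap a ha q hq (fun hqU => hz1 (by
      rw [h.comm q hqU a ha, mul_inv_cancel_right] at e4
      rw [← e1]
      nth_rw 1 [e4]
      exact inv_mul_cancel a)) e4
    exact ⟨u, by rw [h.comm u hu a ha, mul_inv_cancel_right], e⟩
  have hi' : i ∈ closure ({i, j} : Set G) := subset_closure (by simp)
  have hj' : j ∈ closure ({i, j} : Set G) := subset_closure (by simp)
  have h4 : j * i * (j * i) = z := by
    calc j * i * (j * i) = j * (i * j * (i * j)) * j⁻¹ := by group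
      _ = z := by rw [h3, ← h2]; group
  by_cases hiU : i ∈ U
  · exact ⟨i, j, hi', hj', h1, h2, h3, key i j hiU hj h1 h2 h3⟩
  by_cases hjU : j ∈ U
  · exact ⟨j, i, hj', hi', h2, h1, h4, key j i hjU hi h2 h1 h4⟩
  have h5 : i * j * j * (i * j * j) = z := by
    rw [mul_assoc i j j, h2]
    calc i * z * (i * z) = i * (i * i) * (i * z) := by rw [h1]
      _ = i * i * (i * i) * z := by group
      _ = z := by rw [h1, hz, one_mul]
  exact ⟨i * j, j, mul_mem hi' hj', hj', h3, h2, h5,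
    key _ j (h.mul i hi j hj hiU hjU) hj h3 h2 h5⟩

end Swap

theorem Swap.commutator_le_of {G : Type*} [Group G] [Finite G] {P : Sylow 2 G} {U : Subgroup G}
    (h : Swap (P : Subgroup G) U) {K : Subgroup G} [K.Normal] {a : ℕ} (hK : K.index = 2 ^ a) {i j : G} (hi : i ∈ K ⊓ P) (hj : j ∈ K ⊓ P)
    (hij : i * j ≠ j * i) : commutator G ≤ K := by
  obtain ⟨q, hq, hqU⟩ : ∃ q ∈ K ⊓ (P : Subgroup G), q ∉ U := by
    by_contra! hc
    exact hij (h.comm i (hc i hi) j (hc j hj))
  have h1 : K ⊔ P = ⊤ := by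
    rw [← index_eq_one]
    exact Nat.eq_one_of_dvd_coprimes (Nat.Coprime.pow_left a
      ((Nat.Prime.coprime_iff_not_dvd Nat.prime_two).mpr P.not_dvd_index))
      (hK ▸ index_dvd_of_le le_sup_left) (index_dvd_of_le le_sup_right)
  have h2 : ∀ g : G, ∃ u ∈ U, (g : G ⧸ K) = u := fun g => by
    obtain ⟨k, hk, s, hs, rfl⟩ := mem_sup_of_normal_left.mp (h1.ge (mem_top g))
    rw [QuotientGroup.mk_mul, (QuotientGroup.eq_one_iff k).mpr hk, one_mul]
    rcases h.mem_or hq.2 hqU hs with e | e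
    · exact ⟨s, e, rfl⟩
    · exact ⟨_, e, by
        rw [QuotientGroup.mk_mul, (QuotientGroup.eq_one_iff _).mpr (inv_mem hq.1), mul_one]⟩
  refine commutator_le.mpr fun x _ y _ => (QuotientGroup.eq_one_iff _).mp ?_
  obtain ⟨u, hu, e⟩ := h2 x
  obtain ⟨v, hv, e'⟩ := h2 y
  simp only [commutatorElement_def, QuotientGroup.mk_mul, QuotientGroup.mk_inv, e, e']
  rw [← QuotientGroup.mk_mul, h.comm u hu v hv, QuotientGroup.mk_mul]
  group

theorem exists_perfect_core (H : Type*) [Group H] [Finite H] :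
    ∃ X : Subgroup H, X.Normal ∧ ⁅X, X⁆ = X ∧ (∀ Y : Subgroup H, ⁅Y, Y⁆ = Y → Y ≤ X) ∧
      (X = ⊥ → Group.IsSolvable H) := by
  obtain ⟨n, hn⟩ := WellFoundedLT.antitone_chain_condition (derivedSeries_antitone H)
  refine ⟨derivedSeries H n, inferInstance, (hn (n + 1) (by omega)).symm, fun Y hY => ?_,
    fun h => ⟨n, h⟩⟩
  clear hn
  induction n with
  | zero => exact le_top
  | succ n ih => exact hY.ge.trans (commutator_mono ih ih)

/-- quaternion generators in a subgroup -/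
theorem exists_q8_gens {G : Type*} [Group G] {T : Subgroup G} {m : ℕ} (hm : 1 ≤ m)
    (e : T ≃* QuaternionGroup (2 ^ m)) :
    ∃ i ∈ T, ∃ j ∈ T, i * i ≠ 1 ∧ i * i * (i * i) = 1 ∧ j * j = i * i ∧
      i * j * (i * j) = i * i := by
  obtain ⟨m, rfl⟩ := Nat.exists_eq_add_of_le' hm
  let f := T.subtype.comp e.symm.toMonoidHom
  have hf : Function.Injective f := T.subtype_injective.comp e.symm.injective
  have h4 := QuaternionGroup.orderOf_xa (n := 2 ^ (m + 1)) 0
  refine ⟨f (.xa 0), (e.symm _).2, f (.xa (2 ^ m : ℕ)), (e.symm _).2, ?_, ?_, ?_, ?_⟩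
  · rw [← map_mul, ← pow_two, Ne, map_eq_one_iff f hf, ← orderOf_dvd_iff_pow_eq_one, h4]
    decide
  · rw [← map_mul, ← map_mul, ← pow_two, ← pow_two, ← pow_mul, QuaternionGroup.xa_pow_four,
      map_one]
  · simp only [← map_mul, QuaternionGroup.xa_mul_xa, add_sub_cancel_right]
  · simp only [← map_mul, QuaternionGroup.xa_mul_xa, QuaternionGroup.a_mul_a]
    congr 2
    have : ((2 * 2 ^ (m + 1) : ℕ) : ZMod (2 * 2 ^ (m + 1))) = 0 := ZMod.natCast_self _
    push_cast at this ⊢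
    linear_combination this

namespace DCover

variable {X B : Type*} [Group X] [Group B] {π : X →* B} {z : X} (h : DCover π z)
include h

theorem exists_aut [Finite X] (α : MulAut X) : ∃ β : MulAut B, ∀ x, β (π x) = π (α x) := by
  have := Finite.of_surjective π h.surj
  have h1 : ∀ g, π g = 1 → π (α g) = 1 := fun g hg => by
    rcases h.uniq (α g) (by rw [← map_mul, h.sq_eq_one hg, map_one]) with e | e
    · rw [e, map_one]
    · rw [e, h.map]
  let β := π.liftOfSurjective h.surj ⟨π.comp α.toMonoidHom, h1⟩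
  have h2 : ∀ x, β (π x) = π (α x) := fun x => π.liftOfRightInverse_comp_apply _ _ _ x
  refine ⟨MulEquiv.ofBijective β (Finite.surjective_iff_bijective.mp fun b => ?_), h2⟩
  obtain ⟨x, rfl⟩ := h.surj b
  exact ⟨π (α.symm x), by rw [h2, MulEquiv.apply_symm_apply]⟩

theorem normal_cases [IsSimpleGroup B] (hX : commutator X = ⊤) (N : Subgroup X) [N.Normal] :
    N = ⊤ ∨ ∀ g ∈ N, g = 1 ∨ g = z := by
  rcases (Normal.map (H := N) inferInstance π h.surj).eq_bot_or_eq_top with e | e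
  · exact Or.inr fun g hg => h.ker g (e.le (mem_map_of_mem π hg))
  · refine Or.inl (top_le_iff.mp (hX.ge.trans (commutator_le.mpr fun x _ y _ => ?_)))
    have key : ∀ x : X, ∃ n ∈ N, ∃ c, (∀ g, g * c = c * g) ∧ x = n * c := fun x => by
      obtain ⟨n, hn, e'⟩ := e.ge (mem_top (π x))
      rcases h.ker (n⁻¹ * x) (by rw [map_mul, map_inv, e', inv_mul_cancel]) with e1 | e1
      · exact ⟨n, hn, 1, by simp, by rw [← e1, mul_inv_cancel_left]⟩
      · exact ⟨n, hn, z, h.comm, by rw [← e1, mul_inv_cancel_left]⟩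
    obtain ⟨n, hn, c, hc, rfl⟩ := key x
    obtain ⟨m, hm, d, hd, rfl⟩ := key y
    have : ⁅n * c, m * d⁆ = n * m * n⁻¹ * m⁻¹ := by
      calc ⁅n * c, m * d⁆ = n * (c * (m * d)) * c⁻¹ * n⁻¹ * d⁻¹ * m⁻¹ := by
            rw [commutatorElement_def]; group
        _ = n * m * (d * n⁻¹) * d⁻¹ * m⁻¹ := by rw [← hc]; group
        _ = _ := by rw [← hd]; group
    rw [this]
    exact mul_mem (mul_mem (mul_mem hn hm) (inv_mem hn)) (inv_mem hm)

end DCover

theorem perfect_cases (hGW : GW.{u}) {X : Type u} [Group X] [Finite X] (hX : commutator X = ⊤)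
    {z : X} (hz : UInv z) (hO : pPrimeCore 2 X = ⊥) (P : Sylow 2 X) {n : ℕ}
    (e : (P : Subgroup X) ≃* QuaternionGroup (2 ^ (n + 1))) :
    (∃ (F : Type) (_ : Field F) (_ : Fintype F), Odd (Fintype.card F) ∧ 3 < Fintype.card F ∧
      Nonempty (X ≃* SL(2, F)) ∧ ∃ π : X →* PSL(2, F), DCover π z) ∨
      ∃ π : X →* alternatingGroup (Fin 7), DCover π z := by
  have hn : 2 ≤ 2 ^ (n + 1) := Nat.le_self_pow (by omega) 2
  have := hz.normal
  have : Group.IsPerfect X := ⟨hX⟩
  have d := hz.dcover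
  let e0 : X ⧸ zpowers z ≃* (X ⧸ zpowers z) ⧸ oddCore (X ⧸ zpowers z) :=
    ((QuotientGroup.quotientMulEquivOfEq (d.pPrimeCore_eq_bot hO)).trans
      QuotientGroup.quotientBot).symm
  rcases hGW _ _ hn (d.nonempty_dihedral P hn e) with ⟨F, _, _, h1, h2, ⟨g⟩⟩ | ⟨⟨g⟩⟩
  · have d' := d.trans (e0.trans g)
    obtain ⟨z', d''⟩ := sl2_dcover (H7.two_ne_zero_of_odd_card h1)
    obtain ⟨f⟩ := d'.nonempty_dihedral P hn e
    exact Or.inl ⟨F, _, _, h1, h2, d'.nonempty_equiv d'' _ hn f, _, d'⟩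
  · exact Or.inr ⟨_, d.trans (e0.trans g)⟩

theorem Swap.not_a7 {H : Type*} [Group H] [Finite H] {S : Sylow 2 H} {U : Subgroup H}
    (h : Swap (S : Subgroup H) U) {X : Subgroup H} [X.Normal]
    {π : X →* alternatingGroup (Fin 7)} {z : X} (d : DCover π z) (P : Sylow 2 X) {n : ℕ}
    (e : (P : Subgroup X) ≃* QuaternionGroup (2 ^ (n + 1))) : False := by
  obtain ⟨f⟩ := d.nonempty_dihedral P (Nat.le_self_pow (by omega) 2) e
  obtain rfl : n = 1 := by
    have h1 := card_mul_index (P.mapSurjective d.surj : Subgroup (alternatingGroup (Fin 7)))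
    have h2 := (P.mapSurjective d.surj).not_dvd_index
    rw [Nat.card_congr f.toEquiv, DihedralGroup.nat_card, nat_card_alternatingGroup] at h1
    simp only [Nat.card_eq_fintype_card, Fintype.card_fin, Nat.factorial] at h1
    rcases n with _ | _ | n
    · omega
    · rfl
    · rw [show 2 * 2 ^ (n + 1 + 1 + 1) = 16 * 2 ^ n by ring, mul_assoc] at h1
      omega
  obtain ⟨e'⟩ := sylow_normal_equiv S X P
  let φ : QuaternionGroup (2 ^ (1 + 1)) →* X :=
    (inclusion inf_le_left).comp (e.symm.trans e').toMonoidHom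
  have hφ : Function.Injective φ :=
    (inclusion_injective inf_le_left).comp (e.symm.trans e').injective
  have hS : ∀ g, (φ g : H) ∈ (S : Subgroup H) := fun g => ((e.symm.trans e') g).2.2
  have h1 : ∀ g, π (φ g) = 1 ↔ g * g = 1 := fun g =>
    ⟨fun e => hφ (by rw [map_mul, d.sq_eq_one e, map_one]), fun e => by
      rcases d.uniq (φ g) (by rw [← map_mul, e, map_one]) with e' | e'
      · rw [e', map_one]
      · rw [e', d.map]⟩
  obtain ⟨u, -, h2, h3⟩ := h.swap_of_eight (hS (.a 1)) (hS (.xa 0)) (by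
      rw [← coe_pow, Ne, OneMemClass.coe_eq_one, ← map_pow, map_eq_one_iff φ hφ]
      decide) (by
      rw [← coe_inv, ← coe_inv, ← coe_mul, ← coe_mul, ← map_inv, ← map_inv, ← map_mul, ← map_mul]
      congr 2)
  obtain ⟨β, hβ⟩ := d.exists_aut (MulAut.conjNormal u)
  refine A7.no_swap β (a := π (φ (.a 1))) (q := π (φ (.xa 0))) ?_ ?_ ?_ ?_ ?_ ?_
  · rw [← map_pow, ← map_pow, h1]
    decide
  · rw [← map_pow, ← map_pow, Ne, h1]
    decide
  · rw [← map_mul, ← map_mul, h1]
    decide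
  · rw [eq_inv_iff_mul_eq_one]
    simp only [← map_mul, h1]
    decide
  · rw [hβ]
    exact congrArg π (Subtype.ext h2)
  · rw [hβ, ← map_mul]
    exact congrArg π (Subtype.ext h3)

set_option synthInstance.maxSize 1000 in
theorem sl23_fact : ∀ a q : SL(2, ZMod 3), a * a ≠ 1 → q * q = a * a →
    a * q * (a * q) = a * a → a * a * (a * a) = 1 →
    (∃ g, g * a = q * g) ∧ ∀ w, w * q = a * q * w → w ^ 8 ≠ 1 := by
  decide +kernel

theorem pPrimeCore_eq_bot_of_normal {H : Type*} [Group H] [Finite H] (hO : pPrimeCore 2 H = ⊥)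
    (K : Subgroup H) [K.Normal] : pPrimeCore 2 K = ⊥ := by
  have h := H2.map_subtype_pPrimeCore_le 2 K
  rwa [hO, le_bot_iff, map_eq_bot_iff_of_injective _ K.subtype_injective] at h

theorem q8_gens_not_comm {G : Type*} [Group G] {i j : G} (h1 : i * i ≠ 1)
    (h2 : i * i * (i * i) = 1) (h3 : j * j = i * i) (h4 : i * j * (i * j) = i * i) :
    i * j ≠ j * i := fun e => h1 (by
  rw [← h4, ← h2]
  calc i * j * (i * j) = i * (j * i) * j := by group
    _ = i * i * (j * j) := by rw [← e]; group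
    _ = _ := by rw [h3])

theorem qgroup_main (hGW : GW.{u}) {H : Type u} [Group H] [Finite H] (S : Sylow 2 H)
    (hS : IsQuasiDihedral (S : Subgroup H) ∨ IsWreathed (S : Subgroup H))
    (hO : pPrimeCore 2 H = ⊥) (K : Subgroup H) [K.Normal] {a : ℕ} (hK : K.index = 2 ^ a)
    (hK2 : ∀ M : Subgroup K, M.index ≠ 2)
    (hP : ∀ P : Sylow 2 K, ∃ m : ℕ, 1 ≤ m ∧
      Nonempty ((P : Subgroup K) ≃* QuaternionGroup (2 ^ m))) :
    (∃ (F : Type) (_ : Field F) (_ : Fintype F), Odd (Fintype.card F) ∧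
      Nonempty (commutator H ≃* SL(2, F))) ∧
    ∀ L : Subgroup H, L.Normal → (∃ (F : Type) (_ : Field F) (_ : Fintype F),
      Odd (Fintype.card F) ∧ Nonempty (L ≃* SL(2, F))) → L = commutator H := by
  obtain ⟨U, hU⟩ := exists_swap hS
  let P : Sylow 2 K := default
  obtain ⟨m, hm, ⟨e⟩⟩ := hP P
  have hOK := pPrimeCore_eq_bot_of_normal hO K
  obtain ⟨z, hz⟩ := exists_uInv hOK P hm e
  have hz' : ∀ g ∈ K, g * g = 1 → g = 1 ∨ g = z := fun g hg h =>
    (hz.uniq ⟨g, hg⟩ (Subtype.ext h)).imp (congrArg Subtype.val) (congrArg Subtype.val)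
  have hz1 : (z : H) ≠ 1 := fun h => hz.ne (Subtype.ext h)
  have hz2 : (z : H) * z = 1 := congrArg Subtype.val hz.sq
  obtain ⟨e'⟩ := sylow_normal_equiv S K P
  obtain ⟨i, hi, j, hj, h1, h2, h3, h4⟩ := exists_q8_gens hm (e'.symm.trans e)
  have hHK : commutator H ≤ K := hU.commutator_le_of hK hi hj (q8_gens_not_comm h1 h2 h3 h4)
  have hL : ∀ (L : Subgroup H) (F : Type) [Field F] [Fintype F], Odd (Fintype.card F) →
      (L ≃* SL(2, F)) → L ≤ K := fun L F _ _ hF f =>
    le_of_no_index_two hK (no_index_two_of_equiv f (sl2_no_index_two hF))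
  obtain ⟨X, _, hX, hXm, hXs⟩ := exists_perfect_core H
  by_cases hX1 : X = ⊥
  · have := hXs hX1
    obtain ⟨g⟩ := equiv_sl23 hz hOK hK2 P e
    have h24 : Nat.card K = 24 :=
      (Nat.card_congr g.toEquiv).trans (H7.card_sl_two (q := 3) (by simp))
    have h5 := (hz' _ (mul_mem hi.1 hi.1) h2).resolve_left h1
    obtain ⟨b, q, hb, hq, e1, e2, e3, u, hu1, hu2⟩ :=
      hU.swap_of_q8 hi.2 hj.2 hz2 hz1 h5 (h3.trans h5) (h4.trans h5)
    have hcl : closure {i, j} ≤ K := (closure_le _).mpr (by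
      rintro _ (rfl | rfl)
      exacts [hi.1, hj.1])
    have e1' : (⟨b, hcl hb⟩ : K) * ⟨b, hcl hb⟩ = z := Subtype.ext e1
    have e2' : (⟨q, hcl hq⟩ : K) * ⟨q, hcl hq⟩ = z := Subtype.ext e2
    have e3' : (⟨b, hcl hb⟩ : K) * ⟨q, hcl hq⟩ * (⟨b, hcl hb⟩ * ⟨q, hcl hq⟩) = z := Subtype.ext e3
    obtain ⟨⟨x, hx⟩, hw⟩ := sl23_fact (g ⟨b, hcl hb⟩) (g ⟨q, hcl hq⟩)
      (by rw [← map_mul, e1', Ne, map_eq_one_iff g g.injective]; exact hz.ne)
      (by rw [← map_mul, ← map_mul, e1', e2']) (by simp only [← map_mul, e1', e3'])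
      (by rw [← map_mul, e1', ← map_mul, hz.sq, map_one])
    obtain ⟨y, rfl⟩ := g.surjective x
    have hy : (y : H) * b = q * y := by
      rw [← map_mul, ← map_mul] at hx
      exact congrArg Subtype.val (g.injective hx)
    have hw1 : ⁅u, (y : H)⁆ ∈ commutator H := commutator_mem_commutator (mem_top _) (mem_top _)
    have hw2 := hw (g ⟨_, hHK hw1⟩) (by
      simp only [← map_mul]
      refine congrArg g (Subtype.ext ?_)
      change ⁅u, (y : H)⁆ * q = b * q * ⁅u, (y : H)⁆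
      rw [← hu2, ← mul_inv_eq_iff_eq_mul.mpr hy]
      nth_rw 1 [← hu1]
      rw [commutatorElement_def]
      group)
    have h6 : (P : Subgroup K) ≤ (commutator H).subgroupOf K :=
      (sylow_le_commutator_of_no_index_two P hK2).trans (commutator_le.mpr fun x _ y _ =>
        commutator_mem_commutator (mem_top (x : H)) (mem_top (y : H)))
    have h7 := card_dvd_of_le h6
    have h8 := card_subgroup_dvd_card ((commutator H).subgroupOf K)
    have h9 : Nat.card ((commutator H).subgroupOf K) ≠ 8 := fun h => hw2 (by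
      rw [← map_pow, ← h, map_eq_one_iff g g.injective]
      exact congrArg Subtype.val (pow_card_eq_one' (G := (commutator H).subgroupOf K)
        (x := ⟨⟨_, hHK hw1⟩, hw1⟩)))
    have h10 : commutator H = K := by
      refine le_antisymm hHK (subgroupOf_eq_top.mp (eq_top_of_card_eq _ ?_))
      obtain ⟨m, rfl⟩ := Nat.exists_eq_add_of_le' hm
      rw [Nat.card_congr e.toEquiv, Nat.card_eq_fintype_card, QuaternionGroup.card,
        show 4 * 2 ^ (m + 1) = 8 * 2 ^ m by ring] at h7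
      obtain ⟨c, hc⟩ := (Dvd.intro _ rfl).trans h7
      rw [h24, hc] at h8 ⊢
      rw [hc] at h9
      have := Nat.le_of_dvd (by norm_num) h8
      have : c ≠ 0 := by rintro rfl; simp at h8
      have : c ≠ 2 := by rintro rfl; simp at h8
      omega
    refine ⟨⟨ZMod 3, inferInstance, inferInstance, by decide,
      ⟨(MulEquiv.subgroupCongr h10).trans g⟩⟩, ?_⟩
    rintro L - ⟨F, _, _, hF, ⟨f⟩⟩
    rw [h10]
    refine eq_of_le_of_card_ge (hL L F hF f) ?_
    rw [Nat.card_congr f.toEquiv, h24]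
    rcases sl2_card_cases hF with h | h <;> omega
  have hXH : X ≤ commutator H := hX.ge.trans (commutator_mono le_top le_top)
  have hXp := (isPerfect_iff.mpr hX).commutator_eq_top
  have hXe : ¬ Odd (Nat.card X) := fun h => hX1 (le_bot_iff.mp (hO ▸
    H2.le_pPrimeCore inferInstance (Nat.coprime_two_right.mpr h)))
  have hzX : (z : H) ∈ X := by
    obtain ⟨t, ht, h5⟩ := exists_involution_of_not_odd hXe
    obtain ⟨h6, h7⟩ := orderOf_eq_prime_iff.mp h5
    rwa [← (hz' t (hHK (hXH ht)) ((pow_two t).symm.trans h6)).resolve_left h7]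
  have hzX' : UInv (⟨z, hzX⟩ : X) := ⟨fun h => hz1 (congrArg Subtype.val h), Subtype.ext hz2,
    fun g hg => (hz' g (hHK (hXH g.2)) (congrArg Subtype.val hg)).imp Subtype.ext Subtype.ext⟩
  let R : Sylow 2 X := default
  obtain ⟨n, ⟨f⟩⟩ := H25.LB.sylow_quaternion_of_perfect hXp
    (even_iff_two_dvd.mp (Nat.not_odd_iff_even.mp hXe)) R (hzX'.uniqueOrderP _)
  obtain ⟨F, _, _, hF1, hF2, ⟨g⟩, π, d⟩ := (perfect_cases hGW hXp hzX'
    (pPrimeCore_eq_bot_of_normal hO X) R f).resolve_right fun ⟨π, d⟩ => hU.not_a7 d R f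
  have hC : ∀ y ∈ K, y ∈ centralizer (X : Set H) → y = 1 ∨ y = z := fun y hy hy' => by
    obtain ⟨i, -, j, -, h1, h2, h3, h4⟩ := exists_q8_gens (by omega) f
    have := hz.normal
    refine (hz.dcover.eq_of_normal hOK ((centralizer (X : Set H)).subgroupOf K)
      (fun y hy h5 => q8_gens_not_comm h1 h2 h3 h4 (Subtype.ext ?_)) (y := ⟨y, hy⟩) hy').imp
      (congrArg Subtype.val) (congrArg Subtype.val)
    have h6 : (i : H) * i = z := congrArg Subtype.val ((hzX'.uniq _ h2).resolve_left h1)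
    have h7 : ∀ x : X, (x : H) * y = y * x := fun x => mem_centralizer_iff.mp hy x x.2
    have h8 : ∀ x : X, (x : H) * z = z * x := fun x => congrArg Subtype.val (hzX'.comm x)
    change (i : H) * j = j * i
    rcases hz' (y * i) (mul_mem y.2 (hHK (hXH i.2))) (by
      calc (y : H) * i * (y * i) = y * (i * y) * i := by group
        _ = y * y * (i * i) := by rw [h7]; group
        _ = 1 := by rw [h6, show (y : H) * y = z from congrArg Subtype.val h5, hz2]) with h9 | h9
    · rw [eq_inv_of_mul_eq_one_right h9, inv_mul_eq_iff_eq_mul, ← mul_assoc, ← h7,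
        mul_inv_cancel_right]
    · rw [eq_inv_mul_of_mul_eq h9, mul_assoc, ← h8, inv_mul_eq_iff_eq_mul, ← mul_assoc,
        ← h7, mul_assoc, mul_inv_cancel_left]
  have hXe : commutator H = X := by
    refine le_antisymm (commutator_le.mpr fun x _ y _ => ?_) hXH
    let A : H →* MulAut SL(2, F) := (MulAut.congr g).toMonoidHom.comp MulAut.conjNormal
    obtain ⟨k, hk⟩ := SL2Aut.exists_conj_eq (H7.two_ne_zero_of_odd_card hF1) (A x) (A y)
    obtain ⟨k, rfl⟩ := g.surjective k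
    have h5 : A (⁅x, y⁆ * (k : H)⁻¹) = 1 := by
      rw [commutatorElement_def]
      simp only [map_mul, map_inv, hk, mul_inv_eq_one]
      ext1 w
      obtain ⟨w, rfl⟩ := g.surjective w
      rw [MulAut.conj_apply, ← map_inv, ← map_mul, ← map_mul]
      exact congrArg g (Subtype.ext (by simp))
    have h6 : ⁅x, y⁆ * (k : H)⁻¹ ∈ centralizer (X : Set H) := mem_centralizer_iff.mpr fun w hw => by
      have h7 : MulAut.conjNormal (H := X) (⁅x, y⁆ * (k : H)⁻¹) = 1 :=
        (map_eq_one_iff _ (MulAut.congr g).injective).mp h5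
      have h8 := congrArg (fun φ : MulAut X => (φ ⟨w, hw⟩ : H)) h7
      exact (mul_inv_eq_iff_eq_mul.mp h8).symm
    rcases hC _ (mul_mem (hHK (commutator_mem_commutator (mem_top x) (mem_top y)))
      (inv_mem (hHK (hXH k.2)))) h6 with h7 | h7
    · rw [mul_inv_eq_one.mp h7]
      exact k.2
    · rw [mul_inv_eq_iff_eq_mul.mp h7]
      exact mul_mem hzX k.2
  refine ⟨⟨F, _, _, hF1, ⟨(MulEquiv.subgroupCongr hXe).trans g⟩⟩, ?_⟩
  rintro L _ ⟨F', _, _, hF', ⟨f'⟩⟩
  rw [hXe]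
  have h24 : 24 ≤ Nat.card L := by
    rw [Nat.card_congr f'.toEquiv]
    rcases sl2_card_cases hF' with h | h <;> omega
  have := Matrix.ProjectiveSpecialLinearGroup.rank_two_simple (F := F) (by
    rw [Nat.card_eq_fintype_card]; omega)
  have hXL : X ≤ L := subgroupOf_eq_top.mp ((d.normal_cases hXp (L.subgroupOf X)).resolve_right
    fun h5 => by
      have h6 : L ⊓ X ≤ centralizer (X : Set H) := fun w hw => mem_centralizer_iff.mpr fun x hx => by
        rcases h5 ⟨w, hw.2⟩ hw.1 with h | h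
        · rw [show w = 1 from congrArg Subtype.val h, mul_one, one_mul]
        · rw [show w = z from congrArg Subtype.val h]
          exact congrArg Subtype.val (hzX'.comm ⟨x, hx⟩)
      have h7 : ⁅⁅L, X⁆, X⁆ = ⊥ :=
        commutator_eq_bot_iff_le_centralizer.mpr ((commutator_le_inf L X).trans h6)
      have h8 := commutator_commutator_eq_bot_of_rotate (by rwa [commutator_comm X L]) h7
      rw [hX, commutator_comm, commutator_eq_bot_iff_le_centralizer] at h8
      have h9 : L ≤ zpowers (z : H) := fun w hw => by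
        rcases hC w (hL L F' hF' f' hw) (h8 hw) with rfl | rfl
        exacts [one_mem _, mem_zpowers _]
      have h10 := card_le_of_le h9
      rw [Nat.card_zpowers, orderOf_eq_prime ((pow_two _).trans hz2) hz1] at h10
      omega)
  rcases sl2_card_cases hF' with h | h
  · have h5 := card_le_of_le hXL
    rw [Nat.card_congr f'.toEquiv, Nat.card_congr g.toEquiv] at h5
    rcases sl2_card_cases hF1 with h' | h' <;> omega
  · have : Group.IsPerfect SL(2, F') := ⟨sl2_perfect h.1⟩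
    have : Group.IsPerfect L :=
      Group.IsPerfect.ofSurjective (f := f'.symm.toMonoidHom) f'.symm.surjective
    exact le_antisymm (hXm L commutator_eq_self) hXL

theorem qgroup_unique (hGW : GW.{u}) {H : Type u} [Group H] [Finite H] (S : Sylow 2 H)
    (hS : IsQuasiDihedral (S : Subgroup H) ∨ IsWreathed (S : Subgroup H))
    (hO : oddCore H = ⊥) (hQ : ∃ K : Subgroup H, K.Normal ∧ (∃ a : ℕ, K.index = 2 ^ a) ∧
      (∀ M : Subgroup K, M.index ≠ 2) ∧ ∀ P : Sylow 2 K, ∃ m : ℕ, 1 ≤ m ∧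
        Nonempty ((P : Subgroup K) ≃* QuaternionGroup (2 ^ m))) :
    ∃ L₀ : Subgroup H, L₀.Normal ∧ (∃ (F : Type) (_ : Field F) (_ : Fintype F),
      Odd (Fintype.card F) ∧ Nonempty (L₀ ≃* SL(2, F))) ∧
    ∀ L : Subgroup H, L.Normal → (∃ (F : Type) (_ : Field F) (_ : Fintype F),
      Odd (Fintype.card F) ∧ Nonempty (L ≃* SL(2, F))) → L = L₀ := by
  obtain ⟨K, _, ⟨a, h1⟩, h2, h3⟩ := hQ
  exact ⟨_, inferInstance, qgroup_main hGW S hS hO K h1 h2 h3⟩

theorem qgroup_quotient (hGW : GW.{u}) {H : Type u} [Group H] [Finite H] (S : Sylow 2 H)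
    (hS : IsQuasiDihedral (S : Subgroup H) ∨ IsWreathed (S : Subgroup H))
    (hQ : ∃ K : Subgroup H, K.Normal ∧ (∃ a : ℕ, K.index = 2 ^ a) ∧
      (∀ M : Subgroup K, M.index ≠ 2) ∧ ∀ P : Sylow 2 K, ∃ m : ℕ, 1 ≤ m ∧
        Nonempty ((P : Subgroup K) ≃* QuaternionGroup (2 ^ m))) :
    ∃ (F : Type) (_ : Field F) (_ : Fintype F), Odd (Fintype.card F) ∧
      Nonempty (commutator (H ⧸ oddCore H) ≃* SL(2, F)) := by
  obtain ⟨K, _, ⟨a, h1⟩, h2, h3⟩ := hQ
  let π := QuotientGroup.mk' (oddCore H)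
  have hπ : Function.Surjective π := QuotientGroup.mk'_surjective _
  have hc := H2.pPrimeCore_coprime 2 H
  obtain ⟨e⟩ := sylow_equiv_mapSurjective S (oddCore H) hc
  have : (K.map π).Normal := Normal.map inferInstance π hπ
  obtain ⟨b, -, hb⟩ := (Nat.dvd_prime_pow Nat.prime_two).mp (h1 ▸ index_map_dvd K hπ)
  have hφ := π.subgroupMap_surjective K
  refine (qgroup_main hGW _ (qd_of_equiv e hS) (H2.pPrimeCore_quotient_pPrimeCore 2 H) (K.map π) hb
    (fun M => ?_) fun P => ?_).1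
  · rw [← index_comap_of_surjective M hφ]
    exact h2 _
  · obtain ⟨R, rfl⟩ := Sylow.mapSurjective_surjective hφ 2 P
    obtain ⟨m, hm, ⟨f⟩⟩ := h3 R
    refine ⟨m, hm, ⟨(MulEquiv.ofBijective ((π.subgroupMap K).subgroupMap R)
      ⟨(injective_iff_map_eq_one _).2 fun x hx => ?_,
        MonoidHom.subgroupMap_surjective _ _⟩).symm.trans f⟩⟩
    have h4 : ((x : K) : H) ∈ oddCore H :=
      (QuotientGroup.eq_one_iff _).1 (congrArg Subtype.val (congrArg Subtype.val hx))
    refine Subtype.ext (H3.eq_one_of_mem_of_coprime R.isPGroup' x.2 ?_)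
    rw [← orderOf_coe]
    exact H3.orderOf_coprime_of_mem hc h4

theorem qd_centralizer_commutator (hGW : GW.{u}) {G : Type u} [Group G] [Finite G]
    (S : Sylow 2 G) (hS : IsQuasiDihedral (S : Subgroup G) ∨ IsWreathed (S : Subgroup G))
    (hG : ∀ H : Subgroup G, H.index ≠ 2) {t : G} (ht : orderOf t = 2) :
    ∃ (F : Type) (_ : Field F) (_ : Fintype F), Odd (Fintype.card F) ∧
      Nonempty (commutator (centralizer ({t} : Set G) ⧸ oddCore (centralizer ({t} : Set G))) ≃*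
        SL(2, F)) := by
  obtain ⟨P, h1, -, h3⟩ := qd_exists_central hS hG ht
  obtain ⟨-, -, h4, -⟩ := qd_central h1 hG ht h3
  have hP : (P : Subgroup G) ≤ centralizer ({t} : Set G) := fun g hg =>
    mem_centralizer_singleton_iff.2 (mem_centralizer_iff.1 h3.2 g hg)
  exact qgroup_quotient hGW (P.subtype hP) (qd_of_equiv (subgroupOfEquivOfLe hP).symm h1) h4

end H22
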