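import Mathlib
import Cfsg.Agent.H13.K3L0
import Cfsg.Agent.H4.K3SD
import Cfsg.Agent.H2.Quaternion
import Cfsg.Agent.H26.Coprime

/-!
# The power map on the second centre
-/

set_option autoImplicit false
set_option linter.unusedSectionVars false
set_option linter.unusedVariables false

open Cfsg H24 H26 H26.Gold H23.TC Subgroup H13.K3

namespace H22.K3L

universe u

variable {G : Type u} [Group G] [Finite G] {A Q : Subgroup G} {a b c d y : G}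

/-- an element of order three centralises no four-group -/
def Rk (G : Type u) [Group G] : Prop :=
  ∀ x : G, orderOf x = 3 → ∀ a ∈ C{x}, ∀ b ∈ C{x}, a ≠ 1 → a * a = 1 → b ≠ 1 → b * b = 1 →
    a * b = b * a → a = b

theorem cyc (rk : Rk G) (y3 : orderOf y = 3) (h2 : TwoG A) (ha : Abl A) (hc : A ≤ C{y}) :
    Cyc A := by
  haveI : Fact (Nat.Prime 2) := ⟨p2⟩
  haveI : IsMulCommutative A := ha
  refine H2.UniqueOrderP.isCyclic_of_comm (h2.isPGroup p2) fun x z hx x2 z2 => ?_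
  by_cases hz : z = 1
  · exact hz ▸ one_mem _
  have : x = z := Subtype.ext (rk y y3 x (hc x.2) z (hc z.2) (fun e => hx (Subtype.ext e))
    (by simpa [pow_two] using congrArg Subtype.val x2) (fun e => hz (Subtype.ext e))
    (by simpa [pow_two] using congrArg Subtype.val z2) (ha.comm x.2 z.2))
  exact this ▸ mem_zpowers _

theorem zc (hz : a ∈ Zq Q) (hq : b ∈ Q) : Commute a b := ((mem_Zq.1 hz).2 b hq).symm

theorem memC0 (rk : Rk G) (hQ : TwoG Q) (y3 : orderOf y = 3) (hd : d ∈ Q) (hc : d ∈ C{y})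
    (he : d ^ ♯(Zq Q ⊓ C{y}) = 1) : d ∈ Zq Q := by
  have h1 : zpowers d ≤ C[Zq Q ⊓ C{y}] :=
    zpowers_le.2 (mem_C.2 fun z hz => (zc hz.1 hd).eq)
  have hab : Abl (Zq Q ⊓ C{y} ⊔ zpowers d) := abl_iff.2 (sup_le
    (cents_symm (sup_le (cents_symm fun z hz => mem_C.2 fun w hw => (zc hw.1 hz.1.1).eq) h1))
    (cents_symm (sup_le (cents_symm h1) (abl_iff.1 (abl_zpowers d)))))
  exact (H25.cyc_mem_of_pow_card (cyc rk y3
    (hQ.of_le (sup_le (inf_le_left.trans inf_le_left) (zpowers_le.2 hd))) hab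
    (sup_le inf_le_right (zpowers_le.2 hc))) le_sup_left (mem_sup_right (mem_zpowers d)) he).1

theorem expo (hQ : TwoG Q) (y3 : orderOf y = 3) (hy : y ∈ N[Q])
    (wl : ∀ X, X ≤ Q → N[Q] ≤ N[X] → X ⊓ C{y} = ⊥ → X = ⊥) (hz : a ∈ Zq Q) :
    a ^ ♯(Zq Q ⊓ C{y}) = 1 := by
  generalize he : ♯(Zq Q ⊓ C{y}) = e
  let X : Subgroup G :=
    { carrier := {x | ∃ z ∈ Zq Q, z ^ e = x}
      one_mem' := ⟨1, one_mem _, one_pow _⟩
      mul_mem' := by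
        rintro _ _ ⟨z, hz, rfl⟩ ⟨w, hw, rfl⟩
        exact ⟨z * w, mul_mem hz hw, (zc hz hw.1).mul_pow e⟩
      inv_mem' := by
        rintro _ ⟨z, hz, rfl⟩
        exact ⟨z⁻¹, inv_mem hz, inv_pow z e⟩ }
  have hX : X = ⊥ := by
    refine wl X ?_ (norm_of_conj ?_) (eq_bot_iff.2 ?_)
    · rintro _ ⟨z, hz, rfl⟩
      exact pow_mem hz.1 e
    · rintro m hm _ ⟨z, hz, rfl⟩
      exact ⟨_, conj_Zq hm hz, by rw [conj_pow]⟩
    · rintro _ ⟨⟨z, hz, rfl⟩, hc⟩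
      have h3 : y * y * y = 1 := by rw [← pow_three', ← y3, pow_orderOf_eq_one]
      have z1 := conj_Zq hy hz
      have z2 := conj_Zq hy z1
      have f : y * z ^ e * y⁻¹ = z ^ e := conj_of_comm (mem_C1.1 hc).symm
      have hw : z * (y * z * y⁻¹) * (y * (y * z * y⁻¹) * y⁻¹) ∈ Zq Q ⊓ C{y} := by
        refine ⟨mul_mem (mul_mem hz z1) z2, mem_C1.2 (comm_of_conj ?_).symm⟩
        calc y * (z * (y * z * y⁻¹) * (y * (y * z * y⁻¹) * y⁻¹)) * y⁻¹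
            = y * z * y⁻¹ * (y * (y * z * y⁻¹) * y⁻¹) * (y * y * y * z * (y * y * y)⁻¹) := by group
          _ = _ := by
            rw [h3, one_mul, inv_one, mul_one, ← (zc hz (mul_mem z1 z2).1).eq, mul_assoc z]
      have h4 := congrArg Subtype.val (pow_card_eq_one' (x := (⟨_, hw⟩ : ↥(Zq Q ⊓ C{y}))))
      simp only [SubmonoidClass.mk_pow, OneMemClass.coe_one] at h4
      rw [he, (zc (mul_mem hz z1) z2.1).mul_pow, (zc hz z1.1).mul_pow, conj_pow, conj_pow, conj_pow,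
        f, f, ← pow_three'] at h4
      exact mem_bot.2 ((piElt_of_pow_eq_one (piNat_self Nat.prime_three) h4).eq_one
        ((hQ.piElt (pow_mem hz.1 e)).of_mem (by simp)))
  exact mem_bot.1 (hX ▸ (⟨a, hz, rfl⟩ : a ^ e ∈ X))

theorem pi (rk : ∀ x : G, orderOf x = 3 → ∀ a ∈ C{x}, ∀ b ∈ C{x}, a ≠ 1 → a * a = 1 → b ≠ 1 →
      b * b = 1 → a * b = b * a → a = b)
    (hQ : IsPi {2} Q) {y : G} (y3 : orderOf y = 3) (hy : y ∈ N[Q]) (h1 : Q ≠ ⊥)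
    (wl : ∀ X, X ≤ Q → N[Q] ≤ N[X] → X ⊓ C{y} = ⊥ → X = ⊥) :
    ∃ e : ℕ, (∀ z ∈ Zq Q, z ^ e = 1) ∧ (∀ b ∈ Bq Q, b ^ e ∈ Zq Q ∧ b ^ e * b ^ e = 1) ∧
      (∀ b ∈ Bq Q, y * b * y⁻¹ * b⁻¹ ∈ Zq Q → b ∉ Zq Q → b ^ e ≠ 1) ∧
      ♯(Bq Q ⊓ C{y} : Subgroup G) ≤ 4 * ♯(Zq Q ⊓ C{y} : Subgroup G) := by
  have hZ : TwoG (Zq Q) := hQ.inf_left _
  have h0 : Zq Q ⊓ C{y} ≠ ⊥ := fun e =>
    (hQ.nil p2).center_ne_bot h1 (wl _ inf_le_left (norm_Zq Q) e)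
  obtain ⟨k, hk⟩ := (hZ.inf_left C{y}).dvd_card h0
  have f1 : ∀ z ∈ Zq Q, z ^ ♯(Zq Q ⊓ C{y}) = 1 := fun z hz => expo hQ y3 hy wl hz
  have f2 : ∀ b ∈ Bq Q, b ^ ♯(Zq Q ⊓ C{y}) ∈ Zq Q ∧
      b ^ ♯(Zq Q ⊓ C{y}) * b ^ ♯(Zq Q ⊓ C{y}) = 1 := fun b hb =>
    ⟨by rw [hk, pow_mul, pow_two]; exact pow_mem hb.2.1 k,
      by rw [← (Commute.refl b).mul_pow]; exact f1 _ hb.2.1⟩
  have f0 : ∀ d ∈ Q, d ∈ C{y} → d ^ ♯(Zq Q ⊓ C{y}) = 1 → d ∈ Zq Q :=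
    fun d hd hc he => memC0 rk hQ y3 hd hc he
  refine ⟨_, f1, f2, fun b hb hc hn he => ?_, ?_⟩
  · obtain ⟨v, hv, hd⟩ := coprime_lift_cent (A := zpowers y) (V := Zq Q) (g := b)
      (zpowers_le.2 (norm_Zq Q hy)) (hZ.coprime_of_ne (H4.K3.pi3 y3).isPi (by norm_num))
      (.inl (hZ.nil p2).sol) fun a ha => by
        rcases H4.K3.mem_zp3 y3 ha with rfl | rfl | rfl
        · simp
        · exact hc
        · have := conj_Zq (inv_mem hy) (inv_mem hc)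
          rwa [show y⁻¹ * (y * b * y⁻¹ * b⁻¹)⁻¹ * y⁻¹⁻¹ = y⁻¹ * b * y⁻¹⁻¹ * b⁻¹ by group] at this
    have := f0 _ (mul_mem hv.1 hb.1) (mem_C1.2 (mem_C'.1 hd y (mem_zpowers y)))
      (by rw [(zc hv hb.1).mul_pow, f1 v hv, he, one_mul])
    exact hn ((mul_mem_cancel_left hv).1 this)
  by_cases hD : Bq Q ⊓ C{y} ≤ Zq Q
  · have := card_le_of_le (le_inf hD inf_le_right)
    omega
  obtain ⟨a, ha, haZ⟩ := SetLike.not_le_iff_exists.1 hD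
  have i1 : Ix2 C{a} (Bq Q ⊓ C{y}) := by
    have k1 : ∀ c ∈ Bq Q ⊓ C{y}, c * a * c⁻¹ * a⁻¹ ∈ C{y} := fun c hc =>
      mul_mem (cmem hc.2 ha.2) (inv_mem ha.2)
    have k2 : ∀ c ∈ Q, c * a * c⁻¹ * a⁻¹ * (c * a * c⁻¹ * a⁻¹) = 1 := fun c hc => by
      have e1 := (zc (ha.1.2.2 c hc) ha.1.1).eq
      have e2 := (zc ha.1.2.1 hc).eq
      calc c * a * c⁻¹ * a⁻¹ * (c * a * c⁻¹ * a⁻¹)
          = c * a * c⁻¹ * a⁻¹ * (c * a * c⁻¹ * a⁻¹ * a) * a⁻¹ := by group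
        _ = c * (a * a) * c⁻¹ * (a * a)⁻¹ := by rw [e1]; group
        _ = 1 := by rw [← e2]; group
    have k3 : ∀ c, c ∉ C{a} → c * a * c⁻¹ * a⁻¹ ≠ 1 := fun c hc e =>
      hc (mem_C1.2 (comm_of_conj (mul_inv_eq_one.1 e)))
    intro c hc d hd hc1 hd1
    have e := rk y y3 _ (k1 c hc) _ (k1 d hd) (k3 c hc1) (k2 c hc.1.1) (k3 d hd1) (k2 d hd.1.1)
      (zc (ha.1.2.2 c hc.1.1) (ha.1.2.2 d hd.1.1).1).eq
    refine mem_C1.2 (comm_of_conj (mul_inv_eq_one.1 ?_))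
    calc c * d * a * (c * d)⁻¹ * a⁻¹ = c * (d * a * d⁻¹ * a⁻¹) * a * c⁻¹ * a⁻¹ := by group
      _ = d * a * d⁻¹ * a⁻¹ * (c * a * c⁻¹ * a⁻¹) := by
        rw [← (zc (ha.1.2.2 d hd.1.1) hc.1.1).eq]; group
      _ = 1 := by rw [e]; exact k2 d hd.1.1
  have i2 : Ix2 (Zq Q) (C{a} ⊓ (Bq Q ⊓ C{y})) := by
    have k : ∀ d ∈ C{a} ⊓ (Bq Q ⊓ C{y}), d ∉ Zq Q → a * d ∈ Zq Q := fun d hd hn => by
      refine f0 _ (mul_mem ha.1.1 hd.2.1.1) (mul_mem ha.2 hd.2.2) ?_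
      have e := rk y y3 _ (pow_mem ha.2 _) _ (pow_mem hd.2.2 _)
        (fun e => haZ (f0 a ha.1.1 ha.2 e)) (f2 a ha.1).2 (fun e => hn (f0 d hd.2.1.1 hd.2.2 e))
        (f2 d hd.2.1).2 (zc (f2 a ha.1).1 (pow_mem hd.2.1.1 _)).eq
      rw [Commute.mul_pow (mem_C1.1 hd.1).symm, e]
      exact (f2 d hd.2.1).2
    intro c hc d hd hc1 hd1
    have e : c * d = (a * a)⁻¹ * (a * c) * (a * d) := by
      calc c * d = a⁻¹ * (a⁻¹ * (a * c * a)) * d * 1 := by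
            rw [mul_assoc a c a, mem_C1.1 hc.1]; group
        _ = _ := by group
    rw [e]
    exact mul_mem (mul_mem (inv_mem ha.1.2.1) (k c hc hc1)) (k d hd hd1)
  have c1 := i1.card_le
  have c2 := i2.card_le
  have c3 : ♯(Zq Q ⊓ (C{a} ⊓ (Bq Q ⊓ C{y}))) ≤ ♯(Zq Q ⊓ C{y}) :=
    card_le_of_le fun x hx => ⟨hx.1, hx.2.2.2⟩
  omega

end H22.K3L
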