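import Mathlib
import Cfsg.Agent.H22.Cov5
import Cfsg.Agent.H0.WM2

/-! Groups with wreathed Sylow 2-subgroups and central involution, mapped into `PΓL₂(q)`. -/

set_option autoImplicit false

namespace H22

open Subgroup Cfsg SemidirectProduct H16
open scoped MatrixGroups commutatorElement

universe u

theorem WR.isWreathed {G : Type*} [Group G] {S : Subgroup G} {n : ℕ} (E : WR S n) (hn : 2 ≤ n) :
    IsWreathed S := by
  refine ⟨n, hn, E.card, ⟨_, E.r_mem (1, 0)⟩, ⟨_, E.r_mem (0, 1)⟩, ⟨_, E.s_mem 0⟩, ?_,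
    Subtype.ext (E.r_comm_r _ _), ?_, ?_, Subtype.ext (E.s_conj_r _ _)⟩
  · rw [← orderOf_coe]
    exact (E.orderOf_r _).trans (by simp [Prod.addOrderOf])
  · refine eq_bot_iff.2 ?_
    rintro x ⟨⟨i, hi⟩, ⟨j, hj⟩⟩
    have h1 : E.r (1, 0) ^ i = x := congrArg Subtype.val hi
    have h2 : E.r (0, 1) ^ j = x := congrArg Subtype.val hj
    rw [E.r_zpow] at h1 h2
    have h3 := congrArg Prod.fst (E.r_inj.1 (h1.trans h2.symm))
    refine Subtype.ext (h1.symm.trans (E.r_eq_one.2 ?_))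
    ext
    · simpa using h3
    · simp
  · rw [← orderOf_coe]; exact E.orderOf_s_zero

/-- transport of coordinates along a homomorphism which is injective on `S` -/
def Ext2.mapOn {G : Type*} [Group G] {S : Subgroup G} {A : Type} [AddCommGroup A] {σ : A →+ A}
    {c : A} (E : Ext2 S A σ c) {G' : Type*} [Group G'] (f : G →* G')
    (hf : ∀ x ∈ S, f x = 1 → x = 1) : Ext2 (S.map f) A σ c where
  r a := f (E.r a)
  s a := f (E.s a)
  r_mul_r a b := by rw [← map_mul, E.r_mul_r]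
  r_mul_s a b := by rw [← map_mul, E.r_mul_s]
  s_mul_r a b := by rw [← map_mul, E.s_mul_r]
  s_mul_s a b := by rw [← map_mul, E.s_mul_s]
  r_injective a b e := E.r_injective (inv_mul_eq_one.1 (hf _
    (mul_mem (inv_mem (E.r_mem a)) (E.r_mem b)) (by rw [map_mul, map_inv, inv_mul_eq_one]; exact e)))
  r_ne_s a b e := E.r_ne_s a b (inv_mul_eq_one.1 (hf _
    (mul_mem (inv_mem (E.r_mem a)) (E.s_mem b)) (by rw [map_mul, map_inv, inv_mul_eq_one]; exact e)))
  mem_iff g := by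
    constructor
    · rintro ⟨x, hx, rfl⟩
      rcases E.cases hx with ⟨a, rfl⟩ | ⟨a, rfl⟩
      · exact Or.inl ⟨a, rfl⟩
      · exact Or.inr ⟨a, rfl⟩
    · rintro (⟨a, rfl⟩ | ⟨a, rfl⟩)
      · exact mem_map_of_mem f (E.r_mem a)
      · exact mem_map_of_mem f (E.s_mem a)
  σσ := E.σσ
  σc := E.σc

theorem exists_pga {X : Type*} [Group X] (L : Subgroup X) [L.Normal] {F : Type} [Field F]
    [Fintype F] (hF : Odd (Fintype.card F)) (g : L ≃* SL(2, F)) : ∃ ρ : X →* PGa F,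
    (∀ x, ρ x = 1 ↔ x ∈ centralizer (L : Set X)) ∧ (∀ x ∈ L, ρ x ∈ PH F) ∧
      ∀ y ∈ PB F, ∃ x ∈ L, ρ x = inl y := by
  let e' : L ⧸ center L ≃* PH F := (H7.quotCenterCongr g).trans (pslPH F)
  let c := MulEquiv.ofBijective _ (conjNormal_bijective (F := F))
  let ρ : X →* PGa F := c.symm.toMonoidHom.comp ((MulAut.congr e').toMonoidHom.comp
    ((autQuot L).comp MulAut.conjNormal))
  have key : ∀ (n : X) (x : L), ρ n * e' x * (ρ n)⁻¹ = e' (MulAut.conjNormal n x) :=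
    fun n x => by
      have := congrArg (fun a : MulAut (PH F) => (a (e' x)).1) (c.apply_symm_apply
        (MulAut.congr e' (autQuot L (MulAut.conjNormal n))))
      simp only [MulAut.congr_apply, MulEquiv.trans_apply, MulEquiv.symm_apply_apply] at this
      exact this
  have h1 : ∀ x : L, ρ x = e' x := fun x => by
    refine (conjNormal_bijective (F := F)).1 (MulEquiv.ext fun y => Subtype.ext ?_)
    obtain ⟨z, rfl⟩ := e'.surjective y
    obtain ⟨z, rfl⟩ := QuotientGroup.mk_surjective z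
    refine (key _ z).trans ?_
    rw [show MulAut.conjNormal (x : X) z = x * z * x⁻¹ from rfl]
    simp
  refine ⟨ρ, fun a => ⟨fun h => ?_, fun h => ?_⟩, fun x hx => h1 ⟨x, hx⟩ ▸ (e' _).2,
    fun y hy => ?_⟩
  · have h2 : ∀ z : L, z⁻¹ * MulAut.conjNormal a z ∈ center L := fun z => by
      have h3 := key a z
      rw [h, one_mul, inv_one, mul_one] at h3
      exact QuotientGroup.eq.1 (e'.injective (Subtype.ext h3))
    let φ : L →* center L := MonoidHom.mk' (fun z => ⟨_, h2 z⟩) fun y z => Subtype.ext (by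
      have := mem_center_iff.1 (h2 y) z⁻¹
      simp only [mul_inv_rev, map_mul, coe_mul]
      rw [mul_assoc z⁻¹, ← mul_assoc y⁻¹, ← mul_assoc z⁻¹, this, mul_assoc])
    have h3 : Nat.card (center L) ≤ 2 := by
      rw [Nat.card_congr (Subgroup.centerCongr g).toEquiv, H7.card_center_sl rfl 2 (by norm_num)]
      exact Nat.gcd_le_left _ (by norm_num)
    have h4 : φ.ker = ⊤ := by
      have h5 := no_index_two_of_equiv g (sl2_no_index_two hF) φ.ker
      have : Finite (center L) := by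
        have : Finite L := Finite.of_equiv _ g.symm.toEquiv
        infer_instance
      have h6 : φ.ker.index ≤ 2 := by
        rw [index_ker]; exact (card_le_card_group _).trans h3
      have h7 : φ.ker.index ≠ 0 := by
        rw [index_ker]; exact Nat.card_pos.ne'
      exact index_eq_one.1 (by omega)
    refine mem_centralizer_iff.2 fun z hz => ?_
    have h5 : φ ⟨z, hz⟩ = 1 := MonoidHom.mem_ker.1 (h4 ▸ mem_top _)
    have h6 : z⁻¹ * (a * z * a⁻¹) = 1 := congrArg (fun t : center L => ((t : L) : X)) h5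
    rw [inv_mul_eq_one, eq_mul_inv_iff_mul_eq] at h6
    exact h6
  · have h2 : MulAut.conjNormal (H := L) a = 1 := MulEquiv.ext fun z => Subtype.ext (by
      change a * z * a⁻¹ = z
      rw [← mem_centralizer_iff.1 h z z.2, mul_inv_cancel_right])
    simp only [ρ, MonoidHom.comp_apply, h2, map_one]
  · obtain ⟨z, hz⟩ := e'.surjective ⟨inl y, inl_mem_PH.2 hy⟩
    obtain ⟨z, rfl⟩ := QuotientGroup.mk_surjective z
    exact ⟨z, z.2, (h1 z).trans (congrArg Subtype.val hz)⟩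

/-- a normal subgroup with central Sylow 2-subgroup in a group with trivial odd core -/
theorem le_of_central_sylow {X : Type*} [Group X] [Finite X] (hO : oddCore X = ⊥) (P : Sylow 2 X)
    (N : Subgroup X) [N.Normal] (h : ∀ z ∈ N, z ∈ P → z ∈ center X) : N ≤ P := by
  let R : Sylow 2 N := default
  have hR : ∀ x ∈ (R : Subgroup N), (x : X) ∈ center X ∧ (x : X) ∈ P := fun x hx => by
    obtain ⟨Q, hQ⟩ := R.exists_comap_subtype_eq
    obtain ⟨g, rfl⟩ := MulAction.exists_smul_eq X P Q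
    rw [← hQ] at hx
    obtain ⟨y, hy, e⟩ := hx
    have e' : g * y * g⁻¹ = x := e
    have h1 := h y (by simpa [← e', mul_assoc] using Normal.conj_mem' inferInstance _ x.2 g) hy
    rw [mem_center_iff.1 h1 g, mul_inv_cancel_right] at e'
    exact e' ▸ ⟨h1, hy⟩
  have hc : normalizer ((R : Subgroup N) : Set N) ≤ centralizer ((R : Subgroup N) : Set N) :=
    fun g _ => mem_centralizer_iff.2 fun x hx => Subtype.ext (mem_center_iff.1 (hR x hx).1 g).symm
  have hK := MonoidHom.ker_transferSylow_isComplement' R hc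
  have h1 : (MonoidHom.transferSylow R hc).ker = ⊥ := le_bot_iff.1
    (pPrimeCore_eq_bot_of_normal hO N ▸ H2.le_pPrimeCore inferInstance
      ((Nat.Prime.coprime_iff_not_dvd Nat.prime_two).2
        (MonoidHom.not_dvd_card_ker_transferSylow R hc)).symm)
  rw [h1] at hK
  have h2 : (R : Subgroup N) = ⊤ := isComplement'_bot_left.1 hK
  exact fun x hx => (hR ⟨x, hx⟩ (h2 ▸ mem_top _)).2

theorem rho_main (hGW : GW.{u}) (hZ : ZStar.{u}) {X : Type u} [Group X] [Finite X]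
    (P : Sylow 2 X) {n : ℕ} (hn : 2 ≤ n) (E : WR (P : Subgroup X) n) (hO : oddCore X = ⊥)
    (ht : E.r (hh n, hh n) ∈ center X) (hf : IsConj (E.r (hh n, 0)) (E.s 0)) :
    ∃ (F : Type) (_ : Field F) (_ : Finite F) (_ : DecidableEq F)
    (_ : (2 : F) ≠ 0) (D : H0.WM.Dih F n) (ρ : X →* PGa F),
    (∀ y, inl y ∈ ρ.range) ∧ Odd ((inl : _ →* PGa F).range.relIndex ρ.range) ∧
    (∀ x, ρ x = 1 ↔ x ∈ E.rsub (Bj n 0)) ∧
    (∀ a : WA n, ρ (E.r a) = inl (D.e ^ (a.1 - a.2).val)) ∧ ρ (E.s 0) = inl D.s := by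
  classical
  have hn1 : 1 ≤ n := by omega
  obtain ⟨V, hV⟩ := E.exists_V (j := 1) 0
  let D : WR.Data P (E.rsub ⊤) V := ⟨n, hn, E, 0, E.isR_rsub ⊤, hV, by simp⟩
  have hU : ¬ HasOdd (E.rsub ⊤) := fun h => D.z_ne_u (by
    obtain ⟨g, hg⟩ := isConj_iff.1 (D.isConj_U h)
    rw [← hg, mem_center_iff.1 ht g, mul_inv_cancel_right])
  have hV' : HasOdd V := by_contra fun h => D.not_isConj_rs h _ _ hf
  obtain ⟨Y, hY⟩ := E.exists_Y hn1
  have h3 : commutator X ⊓ P = Y := le_antisymm (D.focal_le (fun b => (hY.r_mem b).2)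
    (fun h' => absurd h' hU) fun _ => hY.self_mem)
    (le_inf (hY.le_of (fun a => E.r_mem_commutator) (D.s_mem hV')) hY.le)
  have hYL : Y ≤ commutator X := h3.ge.trans inf_le_left
  obtain ⟨K, _, k1, k2, k3⟩ := D.quat_case hU hV'
  obtain ⟨⟨F, _, _, hF, ⟨g⟩⟩, -⟩ := qgroup_main hGW P (Or.inr (E.isWreathed hn)) hO K k1 k3 k2
  have h2 := H7.two_ne_zero_of_odd_card hF
  obtain ⟨ρ, r1, r2, r3⟩ := exists_pga _ hF g
  have hZZ := E.isR_rsub (Bj n 0)
  have hc := E.isR_center' hn1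
  have hcen : ∀ a ∈ Bj n 0, E.r a ∈ center X := fun a ha => mem_center_iff.2 fun x => by
    obtain ⟨o, ho, c, hc', rfl⟩ := core_mul_centralizer hZ P ((hc.r_mem _).2 (diag_mem_Bj 1))
      (fun Z₀ h => D.weaklyClosed hU Z₀ (by
        rw [map_center_eq]; exact h.trans (E.isR_zpowers_diag.unique hc).le)) x
    rw [hO, mem_bot] at ho
    rw [ho, one_mul]
    exact (mem_centralizer_iff.1 hc' _ ((E.isR_zpowers_diag.r_mem a).2 ha)).symm
  have hP : ∀ z ∈ centralizer (commutator X : Set X), z ∈ P → z ∈ E.rsub (Bj n 0) :=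
    fun z hz hzP => by
    rcases E.cases hzP with ⟨a, rfl⟩ | ⟨a, rfl⟩
    · exact (hZZ.r_mem a).2 (sw_eq_self.1 (E.r_comm_s.1
        (mem_centralizer_iff.1 hz _ (hYL hY.self_mem)).symm))
    · have h4 := mem_Bj_zero.1 (sw_eq_self.1 (E.r_comm_s.1
        (mem_centralizer_iff.1 hz _ (hYL ((hY.r_mem _).2 (anti_mem_Cj 1))))))
      exact absurd (mem_K_one'.2 (eq_neg_iff_add_eq_zero.1 h4)) (one_not_mem_K (by omega))
  have hker : ∀ x, ρ x = 1 ↔ x ∈ E.rsub (Bj n 0) := fun x => by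
    rw [r1]
    refine ⟨fun h => hP x h (le_of_central_sylow hO P _ (fun z hz hz' => ?_) h), ?_⟩
    · obtain ⟨a, ha, rfl⟩ := hP z hz hz'
      exact hcen a ha
    · rintro ⟨a, ha, rfl⟩
      exact center_le_centralizer _ (hcen a ha)
  have hr1 : ∀ a, ρ (E.r a) = 1 ↔ a.1 = a.2 := fun a => by rw [hker, hZZ.r_mem, mem_Bj_zero]
  have hre : ∀ a b : WA n, a.1 - a.2 = b.1 - b.2 → ρ (E.r a) = ρ (E.r b) := fun a b h => by
    rw [← inv_mul_eq_one, ← map_inv, ← map_mul, E.r_inv_mul_r, hr1]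
    simp only [Prod.fst_sub, Prod.snd_sub]
    linear_combination -h
  have hpow : ∀ k : ℕ, ρ (E.r (1, 0)) ^ k = ρ (E.r (k, 0)) := fun k => by
    rw [← map_pow, E.r_pow]; simp
  have hs : ρ (E.s 0) ∈ PH F := by
    have h4 : E.s 0 = E.r (-qq n, -qq n) * E.s (qq n, qq n) := by rw [E.r_mul_s]; simp; rfl
    rw [h4, map_mul, (hr1 _).2 rfl, one_mul]
    refine r2 _ (hYL ((hY.s_mem _).2 ?_))
    rw [mem_Cj_zero]
    simp only [Prod.fst_sub, Prod.snd_sub]
    linear_combination qq_add_qq hn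
  have hPH : ∀ x ∈ PH F, x.right = 1 := by rintro _ ⟨y, -, rfl⟩; rfl
  have hinv : ∀ a, ρ (E.r a) * ρ (E.r a) = 1 → ρ (E.r a) = 1 ∨ ρ (E.r a) = ρ (E.r (hh n, 0)) :=
    fun a h => by
    rw [← map_mul, E.r_mul_r, hr1] at h
    simp only [Prod.fst_add, Prod.snd_add] at h
    refine ((add_self_eq_zero_iff hn1).1 (show a.1 - a.2 + (a.1 - a.2) = 0 by
      linear_combination h)).imp (fun e => (hr1 a).2 (sub_eq_zero.1 e)) fun e => hre _ _ ?_
    simpa using e
  have hω : (ρ (E.r (hh n, 0))).right = 1 := by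
    rw [hre _ (qq n, -qq n) (by simpa using (qq_add_qq hn).symm)]
    exact hPH _ (r2 _ (hYL ((hY.r_mem _).2 (anti_mem_Cj _))))
  have hZ2 : IsPGroup 2 ρ.ker := E.isPGroup.to_le fun x hx => hZZ.le ((hker x).1 hx)
  have hw : (ρ (E.s (1, 0))).right = 1 := by
    by_contra hw
    have w2 : ρ (E.s (1, 0)) * ρ (E.s (1, 0)) = 1 := by rw [← map_mul, E.s_mul_self, hr1]
    obtain ⟨t, ht, s, hs, t1, t2, s1, s2, st, ts, wt, ws⟩ := exists_four_of_fld h2 w2 hw
    obtain ⟨x, -, hx⟩ := r3 t ht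
    obtain ⟨y, -, hy⟩ := r3 s hs
    generalize E.s (1, 0) = w at hw w2 wt ws
    have c1 : Commute (ρ w) (ρ x) := by
      rw [hx]; exact mul_inv_eq_iff_eq_mul.1 ((conj_inl _ _).trans (by rw [wt]))
    have c2 : Commute (ρ w) (ρ y) := by
      rw [hy]; exact mul_inv_eq_iff_eq_mul.1 ((conj_inl _ _).trans (by rw [ws]))
    have c3 : Commute (ρ x) (ρ y) := by
      rw [hx, hy]; exact (Commute.map ts inl).symm
    have x2 : ρ x * ρ x = 1 := by rw [hx, ← map_mul, t1, map_one]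
    have y2 : ρ y * ρ y = 1 := by rw [hy, ← map_mul, s1, map_one]
    have hA : IsPGroup 2 (closure {ρ w, ρ x, ρ y}) := by
      have hcm : ∀ a ∈ ({ρ w, ρ x, ρ y} : Set _), ∀ b ∈ ({ρ w, ρ x, ρ y} : Set _),
          Commute a b := by
        rintro _ (rfl | rfl | rfl) _ (rfl | rfl | rfl)
        exacts [rfl, c1, c2, c1.symm, rfl, c3, c2.symm, c3.symm, rfl]
      have hcm' : ∀ a ∈ closure {ρ w, ρ x, ρ y}, ∀ b ∈ closure {ρ w, ρ x, ρ y}, Commute a b :=
        fun a ha b hb => closure_induction₂ (fun _ _ ha hb => hcm _ ha _ hb)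
          (fun _ _ => Commute.one_left _) (fun _ _ => Commute.one_right _)
          (fun _ _ _ _ _ _ => Commute.mul_left) (fun _ _ _ _ _ _ => Commute.mul_right)
          (fun _ _ _ _ => Commute.inv_left) (fun _ _ _ _ => Commute.inv_right) ha hb
      rintro ⟨a, ha⟩
      refine ⟨1, Subtype.ext ?_⟩
      change a ^ 2 ^ 1 = 1
      rw [pow_one]
      induction ha using closure_induction with
      | mem a ha => rcases ha with rfl | rfl | rfl <;> rwa [sq]
      | one => simp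
      | mul a b ha hb h1 h2 => rw [(hcm' a ha b hb).mul_pow, h1, h2, one_mul]
      | inv a _ h => rw [inv_pow, h, inv_one]
    obtain ⟨Q, hQ⟩ := (hA.comap_of_ker_isPGroup ρ hZ2).exists_le_sylow
    obtain ⟨c, rfl⟩ := MulAction.exists_smul_eq X Q P
    have hm : ∀ z, ρ z ∈ ({ρ w, ρ x, ρ y} : Set _) → c * z * c⁻¹ ∈ (c • Q : Sylow 2 X) :=
      fun z hz => ⟨z, hQ (subset_closure hz), rfl⟩
    have hnot : ∀ z a, ρ z * ρ z = 1 → c * z * c⁻¹ = E.r a →
        (ρ z).right = 1 ∧ (ρ z = 1 ∨ ρ c * ρ z * (ρ c)⁻¹ = ρ (E.r (hh n, 0))) := fun z a h e => by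
      have h5 : ρ c * ρ z * (ρ c)⁻¹ = ρ (E.r a) := by rw [← e, map_mul, map_mul, map_inv]
      rcases hinv a (by rw [← h5, conj_mul, h, mul_one, mul_inv_cancel]) with h6 | h6
      · rw [← h5, conj_eq_one_iff] at h6
        exact ⟨by rw [h6]; rfl, Or.inl h6⟩
      · refine ⟨?_, Or.inr (h5.trans h6)⟩
        rw [← h6, ← h5, ← rightHom_eq_right, map_mul, map_mul, map_inv, conj_eq_one_iff] at hω
        exact hω
    obtain ⟨a, ha⟩ := (E.cases (hm w (by simp))).resolve_left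
      fun ⟨a, ha⟩ => hw (hnot w a w2 ha).1
    have hr : ∀ z, ρ z ∈ ({ρ w, ρ x, ρ y} : Set _) → ρ z * ρ z = 1 → Commute (ρ w) (ρ z) →
        (ρ z).right = 1 → ρ z ≠ 1 → ρ c * ρ z * (ρ c)⁻¹ = ρ (E.r (hh n, 0)) :=
      fun z hz z2 cz hz1 hz2 => by
      rcases E.cases (hm z hz) with ⟨b, hb⟩ | ⟨b, hb⟩
      · exact (hnot z b z2 hb).2.resolve_left hz2
      · refine (hw ?_).elim
        have := (hnot (w * z) _ (by rw [map_mul, ← sq, cz.mul_pow, sq, sq, w2, z2, one_mul])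
          (by rw [← conj_mul, ha, hb, E.s_mul_s])).1
        rwa [map_mul, mul_right, hz1, mul_one] at this
    have e1 := hr x (by simp) x2 c1 (by rw [hx]; rfl)
      (by rw [hx, Ne, map_eq_one_iff _ inl_injective]; exact t2)
    have e2 := hr y (by simp) y2 c2 (by rw [hy]; rfl)
      (by rw [hy, Ne, map_eq_one_iff _ inl_injective]; exact s2)
    have e3 : ρ y = ρ x := by simpa using e2.trans e1.symm
    rw [hx, hy] at e3
    exact st (inl_injective e3)
  have hε : (ρ (E.r (1, 0))).right = 1 := by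
    have h4 : E.s (1, 0) = E.r (1, 0) * E.s 0 := by rw [E.r_mul_s, add_zero]
    rwa [h4, map_mul, mul_right, hPH _ hs, mul_one] at hw
  obtain ⟨s, hs1, hs2⟩ := hs
  have he := eq_inl hε
  generalize (ρ (E.r (1, 0))).left = e at he
  have hra : ∀ a : WA n, ρ (E.r a) = inl (e ^ (a.1 - a.2).val) := fun a => by
    rw [map_pow, ← he, hpow]
    exact hre _ _ (by simp)
  have hen : e ∉ PB F := fun h => by
    obtain ⟨x, hx, h4⟩ := r3 e h
    obtain ⟨b, hb, h5⟩ := (hker (E.r (1, 0) * x⁻¹)).1 (by rw [map_mul, map_inv, h4, he]; simp)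
    have h6 : x = E.r ((1, 0) - b) := by rw [← E.r_inv_mul_r, h5]; group
    have h7 := mem_Cj_zero.1 ((hY.r_mem _).1 (h3.le ⟨h6 ▸ hx, E.r_mem _⟩))
    simp only [Prod.fst_sub, Prod.snd_sub, mem_Bj_zero.1 hb] at h7
    refine odd_not_mem_K_pred hn1 (-b.2) ?_
    rw [show 2 * -b.2 + 1 = 0 by linear_combination h7]
    exact zero_mem _
  have hrange : ∀ y, inl y ∈ ρ.range := fun y => by
    by_cases hy : y ∈ PB F
    · obtain ⟨x, -, h4⟩ := r3 y hy
      exact ⟨x, h4⟩
    · obtain ⟨x, -, h4⟩ := r3 _ (mul_mem_PB hy hen)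
      exact ⟨x * (E.r (1, 0))⁻¹, by rw [map_mul, map_inv, h4, he]; simp⟩
  have hkc : Nat.card ρ.ker = 2 ^ n := by
    rw [show ρ.ker = E.rsub (Bj n 0) from Subgroup.ext hker, hZZ.card, card_Bj (Nat.zero_le _),
      add_zero]
  have hPc : Nat.card ((P : Subgroup X).map ρ) = 2 ^ (n + 1) := by
    have h4 := (ρ.ker.subgroupOf P).card_mul_index
    rw [H2.card_subgroupOf_of_le (fun x hx => hZZ.le ((hker x).1 hx)), hkc, E.card,
      show 2 ^ (2 * n + 1) = 2 ^ n * 2 ^ (n + 1) by ring] at h4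
    rw [← relIndex_ker]
    exact Nat.eq_of_mul_eq_mul_left (by positivity) h4
  have hle : (P : Subgroup X).map ρ ≤ (inl : _ →* PGa F).range := by
    rintro _ ⟨x, hx, rfl⟩
    rcases E.cases hx with ⟨a, rfl⟩ | ⟨a, rfl⟩
    · exact ⟨_, (hra a).symm⟩
    · rw [← add_zero a, ← E.r_mul_s, map_mul]
      exact mul_mem ⟨_, (hra a).symm⟩ ⟨s, hs2⟩
  have hle' : (inl : _ →* PGa F).range ≤ ρ.range := by rintro _ ⟨y, rfl⟩; exact hrange y
  obtain ⟨k, hk⟩ := hPc ▸ card_dvd_of_le hle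
  have hodd : Odd (k * (inl : _ →* PGa F).range.relIndex ρ.range) := by
    have h4 := ((inl : _ →* PGa F).range.subgroupOf ρ.range).card_mul_index
    have h5 := ρ.ker.card_mul_index
    have h6 := (P : Subgroup X).card_mul_index
    rw [H2.card_subgroupOf_of_le hle', hk] at h4
    rw [index_ker, hkc, ← h4, ← h6, E.card, show 2 ^ (2 * n + 1) = 2 ^ n * 2 ^ (n + 1) by ring,
      mul_assoc, mul_assoc] at h5
    have h7 := Nat.eq_of_mul_eq_mul_left (by positivity)
      (Nat.eq_of_mul_eq_mul_left (by positivity) h5)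
    rw [relIndex, h7, ← Nat.not_even_iff_odd, even_iff_two_dvd]
    exact P.not_dvd_index
  have hinj := inl_injective (φ := fldAut F)
  refine ⟨F, _, inferInstance, inferInstance, h2, ⟨e, s, hn, ?_, hen, hs1, hinj ?_, hinj ?_, k,
    (Nat.odd_mul.1 hodd).1, ?_⟩, ρ, hrange, (Nat.odd_mul.1 hodd).2, hker, hra, hs2.symm⟩
  · refine (orderOf_eq_iff (by positivity)).2 ⟨hinj ?_, fun m h4 h5 h6 => ?_⟩
    · rw [map_pow, ← he, hpow, map_one, hr1]; simp
    · have h7 := congrArg (inl (φ := fldAut F)) h6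
      rw [map_pow, ← he, hpow, map_one, hr1] at h7
      exact absurd (Nat.le_of_dvd h5 ((ZMod.natCast_eq_zero_iff _ _).1 h7)) (by omega)
  · rw [map_mul, hs2, ← map_mul, E.s_mul_self, map_one, hr1]
  · rw [map_mul, map_mul, map_inv, map_inv, hs2, ← he, ← map_inv, ← map_inv, ← map_mul, ← map_mul,
      E.s_conj_r, E.r_inv]
    exact hre _ _ (by simp)
  · rw [← hk]
    exact Nat.card_congr (MonoidHom.ofInjective hinj).toEquiv

end H22
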