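import Mathlib
import Cfsg.Agent.H22.WRho0
import Cfsg.Agent.H13.WGen

/-! Groups with quasi-dihedral Sylow 2-subgroups and central involution, mapped into `PΓL₂(q)`. -/

set_option autoImplicit false

namespace H22

open Subgroup Cfsg SemidirectProduct H16
open scoped MatrixGroups commutatorElement

universe u

theorem SD.isQD {G : Type*} [Group G] {S : Subgroup G} {n : ℕ} (E : MC S n (hh n) 0) (hn : 3 ≤ n) :
    IsQuasiDihedral S := by
  refine ⟨n, hn, E.card, ⟨_, E.r_mem 1⟩, ⟨_, E.s_mem 0⟩, ?_, ?_, Subtype.ext ?_⟩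
  · rw [← orderOf_coe]; simpa using E.orderOf_r_gen le_rfl
  · rw [← orderOf_coe]; exact SD.orderOf_s_zero E
  · simp only [coe_mul, coe_inv, SubgroupClass.coe_pow]
    rw [E.r_pow, nsmul_one, E.s_conj_r, Nat.cast_sub Nat.one_le_two_pow, natCast_two_pow,
      sig_apply, mul_one, Nat.cast_one]
    rfl

theorem exists_pga' {X : Type*} [Group X] (L : Subgroup X) [L.Normal] {F : Type} [Field F]
    [Fintype F] (hF : Odd (Fintype.card F)) (g : L ≃* SL(2, F)) : ∃ ρ : X →* PGa F,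
    (∀ x, ρ x = 1 ↔ x ∈ centralizer (L : Set X)) ∧
      ∀ x : L, ρ x = inl (Matrix.ProjGenLinGroup.mk (Matrix.SpecialLinearGroup.toGL (g x))) := by
  let e' : L ⧸ center L ≃* PH F := (H7.quotCenterCongr g).trans (pslPH F)
  let c := MulEquiv.ofBijective _ (conjNormal_bijective (F := F))
  let ρ : X →* PGa F := c.symm.toMonoidHom.comp ((MulAut.congr e').toMonoidHom.comp
    ((autQuot L).comp MulAut.conjNormal))
  have key : ∀ (n : X) (x : L), ρ n * e' x * (ρ n)⁻¹ = e' (MulAut.conjNormal n x) :=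
    fun n x => by
      have := congrArg (fun a : MulAut (PH F) => (a (e' x)).1) (c.apply_symm_apply
        (MulAut.congr e' (autQuot L (MulAut.conjNormal n))))
      simp only [MulAut.congr_apply, MulEquiv.trans_apply, MulEquiv.symm_apply_apply] at this
      exact this
  have h1 : ∀ x : L, ρ x = e' x := fun x => by
    refine (conjNormal_bijective (F := F)).1 (MulEquiv.ext fun y => Subtype.ext ?_)
    obtain ⟨z, rfl⟩ := e'.surjective y
    obtain ⟨z, rfl⟩ := QuotientGroup.mk_surjective z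
    refine (key _ z).trans ?_
    rw [show MulAut.conjNormal (x : X) z = x * z * x⁻¹ from rfl]
    simp
  refine ⟨ρ, fun a => ⟨fun h => ?_, fun h => ?_⟩, fun x => (h1 x).trans rfl⟩
  · have h2 : ∀ z : L, z⁻¹ * MulAut.conjNormal a z ∈ center L := fun z => by
      have h3 := key a z
      rw [h, one_mul, inv_one, mul_one] at h3
      exact QuotientGroup.eq.1 (e'.injective (Subtype.ext h3))
    let φ : L →* center L := MonoidHom.mk' (fun z => ⟨_, h2 z⟩) fun y z => Subtype.ext (by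
      have := mem_center_iff.1 (h2 y) z⁻¹
      simp only [mul_inv_rev, map_mul, coe_mul]
      rw [mul_assoc z⁻¹, ← mul_assoc y⁻¹, ← mul_assoc z⁻¹, this, mul_assoc])
    have h3 : Nat.card (center L) ≤ 2 := by
      rw [Nat.card_congr (Subgroup.centerCongr g).toEquiv, H7.card_center_sl rfl 2 (by norm_num)]
      exact Nat.gcd_le_left _ (by norm_num)
    have h4 : φ.ker = ⊤ := by
      have h5 := no_index_two_of_equiv g (sl2_no_index_two hF) φ.ker
      have : Finite (center L) := by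
        have : Finite L := Finite.of_equiv _ g.symm.toEquiv
        infer_instance
      have h6 : φ.ker.index ≤ 2 := by
        rw [index_ker]; exact (card_le_card_group _).trans h3
      have h7 : φ.ker.index ≠ 0 := by
        rw [index_ker]; exact Nat.card_pos.ne'
      exact index_eq_one.1 (by omega)
    refine mem_centralizer_iff.2 fun z hz => ?_
    have h5 : φ ⟨z, hz⟩ = 1 := MonoidHom.mem_ker.1 (h4 ▸ mem_top _)
    have h6 : z⁻¹ * (a * z * a⁻¹) = 1 := congrArg (fun t : center L => ((t : L) : X)) h5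
    rw [inv_mul_eq_one, eq_mul_inv_iff_mul_eq] at h6
    exact h6
  · have h2 : MulAut.conjNormal (H := L) a = 1 := MulEquiv.ext fun z => Subtype.ext (by
      change a * z * a⁻¹ = z
      rw [← mem_centralizer_iff.1 h z z.2, mul_inv_cancel_right])
    simp only [ρ, MonoidHom.comp_apply, h2, map_one]

theorem rho_sd (hGW : GW.{u}) {X : Type u} [Group X] [Finite X]
    (P : Sylow 2 X) {n : ℕ} (hn : 3 ≤ n) (E : MC (P : Subgroup X) n (hh n) 0) (hO : oddCore X = ⊥)
    (ht : E.r (hh n) ∈ center X) (hf : IsConj (E.r (qq n)) (E.s 1)) :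
    ∃ (F : Type) (_ : Field F) (_ : Finite F) (_ : (2 : F) ≠ 0) (ρ : X →* PGa F)
      (g : commutator X ≃* SL(2, F)),
    (∀ y, inl y ∈ ρ.range) ∧ Odd ((inl : _ →* PGa F).range.relIndex ρ.range) ∧
    (∀ x, ρ x = 1 ↔ x ∈ zpowers (E.r (hh n))) ∧
    (∀ x ∈ (P : Subgroup X), (ρ x).right = 1) ∧ ρ (E.s 0) ∉ PH F ∧
    (∀ x, ρ x ∈ PH F ↔ x ∈ commutator X) ∧
    (∀ x : commutator X,
      ρ x = inl (Matrix.ProjGenLinGroup.mk (Matrix.SpecialLinearGroup.toGL (g x)))) ∧
    ∃ k, Odd k ∧ Nat.card PGL(2, F) = 2 ^ n * k := by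
  classical
  have hn1 : 1 ≤ n := by omega
  have he := tw_hh hn
  obtain ⟨T, hT⟩ := E.exists_isS_K (j := 1) 0 (by simp)
  obtain ⟨Q, hQ⟩ := E.exists_isS_K (j := 2) 1 (by simpa using hh_mem_K (by decide))
  let D : SD.Data P T Q := ⟨n, hn, E, 0, 1, hT, hQ, by simp, by simp⟩
  have hU : ¬ HasOdd T := fun h => by
    obtain ⟨g, hg⟩ := isConj_iff.1 (D.isConj_two h)
    change g * E.r (hh n) * g⁻¹ = E.s 0 at hg
    rw [mem_center_iff.1 ht g, mul_inv_cancel_right] at hg
    exact E.r_ne_s _ _ hg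
  have hV' : HasOdd Q := by_contra fun h => D.not_isConj_four h hf
  obtain ⟨Y, hY⟩ := SD.exists_quat E hn
  have h3 : commutator X ⊓ P = Y := (D.residual_of_focal hY (D.focal_le (fun b => (hY.r_mem b).2)
    (fun h' => absurd h' hU) fun _ => hY.self_mem) (D.s_one_mem hV')).1
  have hYL : Y ≤ commutator X := h3.ge.trans inf_le_left
  obtain ⟨K, _, k1, k2, k3⟩ := D.quat_case hU hV'
  obtain ⟨⟨F, _, _, hF, ⟨g⟩⟩, -⟩ :=
    qgroup_main hGW P (Or.inl (SD.isQD E hn)) hO K (a := 1) k1 k3 k2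
  have h2 := H7.two_ne_zero_of_odd_card hF
  obtain ⟨ρ, r1, r4⟩ := exists_pga' _ hF g
  have r2 : ∀ x ∈ commutator X, ρ x ∈ PH F := fun x hx =>
    r4 ⟨x, hx⟩ ▸ inl_mem_PH.2 ⟨g ⟨x, hx⟩, rfl⟩
  have r3 : ∀ y ∈ PB F, ∃ x ∈ commutator X, ρ x = inl y := by
    rintro _ ⟨k, rfl⟩
    obtain ⟨k, rfl⟩ := QuotientGroup.mk_surjective k
    obtain ⟨x, rfl⟩ := g.surjective k
    exact ⟨x, x.2, r4 x⟩
  have hZZ : E.IsR (zpowers (E.r (hh n))) (H22.K n 1) := E.isR_zpowers_K hn1
  have hP : ∀ z ∈ centralizer (commutator X : Set X), z ∈ P → z ∈ zpowers (E.r (hh n)) :=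
    fun z hz hzP => ((MC.isR_inf_centralizer he hY (by omega) (by omega)).unique hZZ).le
      ⟨hzP, centralizer_le hYL hz⟩
  have hker : ∀ x, ρ x = 1 ↔ x ∈ zpowers (E.r (hh n)) := fun x => by
    rw [r1]
    exact ⟨fun h => hP x h (le_of_central_sylow hO P _
      (fun z hz hz' => zpowers_le.2 ht (hP z hz hz')) h),
      fun h => center_le_centralizer _ (zpowers_le.2 ht h)⟩
  have hr1 : ∀ a, ρ (E.r a) = 1 ↔ a ∈ H22.K n 1 := fun a => by rw [hker, hZZ.r_mem]
  have hPH : ∀ x ∈ PH F, x.right = 1 := by rintro _ ⟨y, -, rfl⟩; rfl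
  have hL : ∀ x, ρ x ∈ PH F ↔ x ∈ commutator X := fun x => ⟨fun ⟨y, hy, e⟩ => by
    obtain ⟨z, hz, e'⟩ := r3 y hy
    have := (hker (x * z⁻¹)).1 (by rw [map_mul, map_inv, e', e, mul_inv_cancel])
    exact (mul_mem_cancel_right (inv_mem hz)).1
      (zpowers_le.2 (hYL ((hY.r_mem _).2 D.hh_mem)) this), r2 x⟩
  have hs : ρ (E.s 0) ∉ PH F := fun h => D.one_not_mem (by
    simpa using (hY.s_mem 0).1 (h3.le ⟨(hL _).1 h, E.s_mem _⟩))
  have hcd : H13.Dih.CD ρ.range := by
    have h4 := (H24.syl_top_of_sylow Nat.prime_two P).map ρ.rangeRestrict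
    rw [map_top_of_surjective _ ρ.rangeRestrict_surjective] at h4
    have h5 : ∀ a, ρ.rangeRestrict (E.r a) ∈ zpowers (ρ.rangeRestrict (E.r 1)) := fun a => by
      obtain ⟨a, rfl⟩ := ZMod.natCast_zmod_surjective a
      rw [← nsmul_one, ← E.r_pow, map_pow]
      exact pow_mem (mem_zpowers _) _
    have h6 : ∀ x ∈ (P : Subgroup X), ρ.rangeRestrict x ∉ zpowers (ρ.rangeRestrict (E.r 1)) →
        ∃ b, x = E.s b := fun x hx h => (E.cases hx).resolve_left fun ⟨a, e⟩ => h (e ▸ h5 a)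
    refine H13.W.cd_of_syl h4 (a := ρ.rangeRestrict (E.r 1)) ?_
    rintro _ ⟨x, hx, rfl⟩ h
    obtain ⟨b, rfl⟩ := h6 x hx h
    refine ⟨?_, ?_, ?_⟩
    · rw [← map_mul, E.s_mul_self]
      exact Subtype.ext ((hr1 _).2 (by simpa using he.mul_mem_K_one b))
    · rw [← map_inv, ← map_mul, ← map_mul, E.s_conj_r, eq_inv_iff_mul_eq_one, ← map_mul, E.r_mul_r]
      exact Subtype.ext ((hr1 _).2 (by simpa [sig_apply] using hh_mem_K (n := n) le_rfl))
    · rintro _ ⟨y, hy, rfl⟩ h'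
      obtain ⟨d, rfl⟩ := h6 y hy h'
      rw [← map_mul, E.s_mul_s]
      exact h5 _
  have hw : (ρ (E.s 0)).right = 1 := by
    by_contra hw
    have w2 : ρ (E.s 0) * ρ (E.s 0) = 1 := by
      rw [← map_mul, E.s_mul_self, hr1]; simp
    obtain ⟨t, ht, s, hs, t1, t2, s1, s2, st, ts, wt, ws⟩ := exists_four_of_fld h2 w2 hw
    obtain ⟨x, -, hx⟩ := r3 t ht
    obtain ⟨y, -, hy⟩ := r3 s hs
    have i : ∀ {a b : PGL(2, F)}, (inl a : PGa F) = inl b → a = b := fun h => inl_injective h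
    have hf : H13.Dih.Four (ρ.rangeRestrict x) (ρ.rangeRestrict y) :=
      ⟨H13.Dih.two_of (Subtype.ext (show ρ x * ρ x = 1 by rw [hx, ← map_mul, t1, map_one]))
        (fun e => t2 (i ((hx.symm.trans (congrArg Subtype.val e)).trans (map_one _).symm))),
       H13.Dih.two_of (Subtype.ext (show ρ y * ρ y = 1 by rw [hy, ← map_mul, s1, map_one]))
        (fun e => s2 (i ((hy.symm.trans (congrArg Subtype.val e)).trans (map_one _).symm))),
       fun e => st (i ((hy.symm.trans (congrArg Subtype.val e)).trans hx)),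
       Subtype.ext (show ρ y * ρ x = ρ x * ρ y by rw [hx, hy, ← map_mul, ts, map_mul])⟩
    have h4 := hcd.mem_V hf (y := ρ.rangeRestrict (E.s 0))
      (H13.Dih.pi_two (H13.Dih.two_of (Subtype.ext w2) fun e => hw (by
        rw [show ρ (E.s 0) = 1 from congrArg Subtype.val e]; rfl)))
      (H24.mem_C1_iff_conj.2 (Subtype.ext (by
        simpa [hx] using (conj_inl _ _).trans (congrArg inl wt))))
      (H24.mem_C1_iff_conj.2 (Subtype.ext (by
        simpa [hy] using (conj_inl _ _).trans (congrArg inl ws))))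
    have h5 : H13.Dih.V4 (ρ.rangeRestrict x) (ρ.rangeRestrict y) ≤ (PH F).comap ρ.range.subtype :=
      H13.Dih.Four.V_le.2 ⟨⟨t, ht, hx.symm⟩, ⟨s, hs, hy.symm⟩⟩
    exact hw (hPH _ (h5 h4))
  have hS : ∀ x ∈ (P : Subgroup X), (ρ x).right = 1 := fun x hx =>
    E.le_of_s_zero_one (F := (rightHom.comp ρ).ker) hw (hPH _ (r2 _ (hYL hY.self_mem))) hx
  have he := eq_inl hw
  have hrange : ∀ y, inl y ∈ ρ.range := fun y => by
    by_cases hy : y ∈ PB F
    · obtain ⟨x, -, h4⟩ := r3 y hy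
      exact ⟨x, h4⟩
    · obtain ⟨x, -, h4⟩ := r3 _ (mul_mem_PB hy fun h => hs (he ▸ inl_mem_PH.2 h))
      exact ⟨x * (E.s 0)⁻¹, by rw [map_mul, map_inv, h4, map_mul, ← he]; simp⟩
  have hkc : Nat.card ρ.ker = 2 := by
    rw [show ρ.ker = _ from Subgroup.ext hker, MC.isR_card hZZ hn1, pow_one]
  have hPc : Nat.card ((P : Subgroup X).map ρ) = 2 ^ n := by
    have h4 := (ρ.ker.subgroupOf P).card_mul_index
    rw [H2.card_subgroupOf_of_le (fun x hx => hZZ.le ((hker x).1 hx)), hkc, E.card,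
      pow_succ'] at h4
    rw [← relIndex_ker]
    exact Nat.eq_of_mul_eq_mul_left (by positivity) h4
  have hle : (P : Subgroup X).map ρ ≤ (inl : _ →* PGa F).range := by
    rintro _ ⟨x, hx, rfl⟩
    exact ⟨_, (eq_inl (hS x hx)).symm⟩
  have hle' : (inl : _ →* PGa F).range ≤ ρ.range := by rintro _ ⟨y, rfl⟩; exact hrange y
  obtain ⟨k, hk⟩ := hPc ▸ card_dvd_of_le hle
  have hodd : Odd (k * (inl : _ →* PGa F).range.relIndex ρ.range) := by
    have h4 := ((inl : _ →* PGa F).range.subgroupOf ρ.range).card_mul_index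
    have h5 := ρ.ker.card_mul_index
    have h6 := (P : Subgroup X).card_mul_index
    rw [H2.card_subgroupOf_of_le hle', hk] at h4
    rw [index_ker, hkc, ← h4, ← h6, E.card, pow_succ', mul_assoc, mul_assoc] at h5
    have h7 := Nat.eq_of_mul_eq_mul_left (by positivity)
      (Nat.eq_of_mul_eq_mul_left (by positivity) h5)
    rw [relIndex, h7, ← Nat.not_even_iff_odd, even_iff_two_dvd]
    exact P.not_dvd_index
  refine ⟨F, _, inferInstance, h2, ρ, g, hrange, (Nat.odd_mul.1 hodd).2, hker, hS, hs, hL, r4, k,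
    (Nat.odd_mul.1 hodd).1, ?_⟩
  rw [← hk]
  exact Nat.card_congr (MonoidHom.ofInjective (inl_injective (φ := fldAut F))).toEquiv

/-- numerical parameters of a field of odd order -/
theorem exists_np {F : Type} [Field F] [Finite F] (h2 : (2 : F) ≠ 0) {a k : ℕ} (ha : 1 ≤ a)
    (hk : Odd k) (h : Nat.card PGL(2, F) = 2 ^ a * k) :
    ∃ N : H4.NP, N.q = Nat.card F ∧ ∃ n', Odd n' ∧ N.n = 2 ^ (a - 1) * n' := by
  classical
  have := Fintype.ofFinite F
  obtain ⟨f, hp, hf⟩ := FiniteField.card F (ringChar F)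
  have ho := H0.WM.odd_card h2
  rw [← Nat.card_eq_fintype_card] at hf
  rw [card_pgl_two] at h
  generalize Nat.card F = q at *
  have key : ∀ m n : ℕ, m % 4 = 2 → q ^ 2 - 1 = m * n → ∃ n', Odd n' ∧ n = 2 ^ (a - 1) * n' := by
    intro m n h1 h3
    obtain ⟨m', rfl⟩ : ∃ m', m = 2 * (2 * m' + 1) := ⟨m / 4, by omega⟩
    obtain ⟨b, rfl⟩ : ∃ b, a = b + 1 := ⟨a - 1, by omega⟩
    have h4 : q * (2 * m' + 1) * n = 2 ^ b * k :=
      Nat.eq_of_mul_eq_mul_left two_pos (by rw [h3] at h; linear_combination h)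
    obtain ⟨n', rfl⟩ : 2 ^ b ∣ n := (Nat.Coprime.pow_left b (Nat.coprime_two_left.2
      (ho.mul (odd_two_mul_add_one m')))).dvd_of_dvd_mul_left ⟨k, h4⟩
    refine ⟨n', ?_, rfl⟩
    have h5 : q * (2 * m' + 1) * n' = k :=
      Nat.eq_of_mul_eq_mul_left (show 0 < 2 ^ b by positivity) (by linear_combination h4)
    exact (Nat.odd_mul.1 (h5 ▸ hk)).2
  have h5 : q ^ 2 - 1 = (q - 1) * (q + 1) := by rw [mul_comm, ← Nat.sq_sub_sq, one_pow]
  rw [Nat.odd_iff] at ho
  by_cases h4 : q % 4 = 1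
  · exact ⟨⟨q, _, f, q + 1, q - 1, -1, hp, ringChar_ne_two h2, f.2, hf, Or.inr rfl, by omega,
      by omega⟩, rfl, key (q + 1) _ (by omega) (by rw [h5, mul_comm])⟩
  · exact ⟨⟨q, _, f, q - 1, q + 1, 1, hp, ringChar_ne_two h2, f.2, hf, Or.inl rfl, by omega,
      by omega⟩, rfl, key (q - 1) _ (by omega) h5⟩

end H22
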