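import Mathlib
import Cfsg.Agent.H13.WDefs
import Cfsg.Agent.H22.WRho0
import Cfsg.Agent.S0483
import Cfsg.Agent.S0215

/-! The action of `C(t)` on the projective line (wreathed Sylow 2-subgroups). -/

set_option autoImplicit false

namespace H13.W

open H24 Cfsg Subgroup
open H22 (WR WA Bj hh)

universe u

variable {G : Type u} [Group G] [Finite G]

theorem WC.exists_rho (c : WC G) : ∃ (F : Type) (_ : Field F) (_ : Finite F) (_ : DecidableEq F)
    (_ : (2 : F) ≠ 0) (D : H0.WM.Dih F c.n) (ρ : c.H →* H16.PGa F),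
    (∀ y, SemidirectProduct.inl y ∈ ρ.range) ∧
    Odd ((SemidirectProduct.inl : _ →* H16.PGa F).range.relIndex ρ.range) ∧
    (∀ x : c.H, ρ x = 1 ↔ (x : G) ∈ c.O ⊔ c.Z) ∧
    (∀ a : WA c.n, ap ρ (c.E.r a) = SemidirectProduct.inl (D.e ^ (a.1 - a.2).val)) ∧
    ap ρ c.σ = SemidirectProduct.inl D.s := by
  have hP : (c.P : Subgroup G) ≤ c.H := fun g hg =>
    mem_centralizer_singleton_iff.2 (mul_inv_eq_iff_eq_mul.1 (c.E.r_diag_comm (H22.diag_mem_Bj _) hg))
  let π := QuotientGroup.mk' (oddCore c.H)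
  have hπ : Function.Surjective π := QuotientGroup.mk'_surjective _
  let E : WR ((c.P.subtype hP).mapSurjective hπ : Subgroup (c.H ⧸ oddCore c.H)) c.n :=
    H22.Ext2.mapOn (c.E.subgroupOf hP) π fun x hx h =>
      H3.eq_one_of_mem_of_coprime (c.P.subtype hP).isPGroup' hx (H3.orderOf_coprime_of_mem
        (H2.pPrimeCore_coprime 2 _) ((QuotientGroup.eq_one_iff _).1 h))
  obtain ⟨h, h1, h2⟩ := c.fus
  obtain ⟨F, _, _, _, h3, D, ρ, r1, r2, r3, r4, r5⟩ := H22.rho_main (@Cfsg.Agent.S0483.result)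
    (fun P u => Cfsg.Agent.S0215.result P u) _ c.hn E (H2.pPrimeCore_quotient_pPrimeCore 2 _)
    (mem_center_iff.2 fun g => by
      obtain ⟨g, rfl⟩ := hπ g
      exact (map_mul π _ _).symm.trans ((congrArg π (Subtype.ext
        (mem_centralizer_singleton_iff.1 g.2))).trans (map_mul π _ _)))
    (π.map_isConj (isConj_iff.2 ⟨⟨h, mem_centralizer_singleton_iff.2 (h1 _)⟩,
      Subtype.ext h2⟩).symm)
  have hr : (ρ.comp π).range = ρ.range := by
    rw [MonoidHom.range_comp, MonoidHom.range_eq_top.2 hπ, ← MonoidHom.range_eq_map]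
  have hO : c.O = (oddCore c.H).map c.H.subtype := pcore_compl_singleton Nat.prime_two _
  refine ⟨F, _, inferInstance, inferInstance, h3, D, ρ.comp π, hr ▸ r1, hr ▸ r2, fun x => ?_,
    fun a => (ap_of_mem _ (hP (c.E.r_mem a))).trans (r4 a),
    (ap_of_mem _ (hP (c.E.s_mem 0))).trans r5⟩
  rw [MonoidHom.comp_apply, r3]
  constructor
  · rintro ⟨a, ha, e⟩
    have h4 := QuotientGroup.eq.1 e
    rw [← mul_inv_cancel_left (c.E.r a) (x : G)]
    exact mul_mem (mem_sup_right ⟨a, ha, rfl⟩) (mem_sup_left (hO ▸ ⟨_, h4, rfl⟩))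
  · intro hx
    have h4 : c.O ⊔ c.Z ≤ ((E.rsub (Bj c.n 0)).comap π).map c.H.subtype := by
      refine sup_le ?_ ?_
      · rw [hO]
        refine map_mono fun y hy => ?_
        rw [mem_comap, show π y = 1 from (QuotientGroup.eq_one_iff _).2 hy]
        exact one_mem _
      · rintro _ ⟨a, ha, rfl⟩
        exact ⟨⟨_, hP (c.E.r_mem a)⟩, ⟨a, ha, rfl⟩, rfl⟩
    obtain ⟨y, hy, e⟩ := h4 hx
    rwa [← show y = x from Subtype.ext e]

end H13.W

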