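import Mathlib
import Cfsg.Agent.H24.Defs

/-!
# Elementary abelian subgroups of an extension of a subgroup of `S₅`
-/

set_option autoImplicit false
set_option linter.unusedSectionVars false

open Cfsg H24 Subgroup

namespace H22.K3

universe u

variable {G : Type u} [Group G] [Finite G]

theorem ea_le4 (A : Subgroup (Equiv.Perm (Fin 5))) (h : ∀ a ∈ A, a * a = 1) :
    Nat.card A ≤ 4 := by
  have hp : IsPGroup 2 A := fun a => ⟨1, Subtype.ext (by simpa [pow_two] using h a a.2)⟩
  obtain ⟨P, hP⟩ := hp.exists_le_sylow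
  have c8 : Nat.card P = 8 := by
    rw [P.card_eq_multiplicity, Nat.card_perm, Nat.card_fin]
    have : Nat.factorization (Nat.factorial 5) 2 = 3 := by
      rw [show Nat.factorial 5 = 2 ^ 3 * 15 by decide, Nat.factorization_mul (by decide) (by decide),
        Nat.prime_two.factorization_pow, Finsupp.add_apply, Finsupp.single_eq_same,
        Nat.factorization_eq_zero_of_not_dvd (show ¬ 2 ∣ 15 by decide)]
    rw [this]; rfl
  have hd : Nat.card A ∣ 2 ^ 3 := (card_dvd_of_le hP).trans (by rw [c8]; rfl)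
  obtain ⟨k, hk, e⟩ := (Nat.dvd_prime_pow Nat.prime_two).1 hd
  by_contra hn
  have k3 : k = 3 := by
    by_contra h3
    have : k ≤ 2 := by omega
    interval_cases k <;> omega
  have eP : A = P := eq_of_le_of_card_ge hP (by rw [c8, e, k3]; rfl)
  let c : Equiv.Perm (Fin 5) := Equiv.swap 0 1 * Equiv.swap 1 2 * Equiv.swap 2 3
  have hc : IsPGroup 2 (zpowers c) := by
    refine IsPGroup.of_card (n := 2) ?_
    rw [Nat.card_zpowers]
    exact orderOf_eq_prime_pow (p := 2) (n := 1) (by decide) (by decide)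
  obtain ⟨R, hR⟩ := hc.exists_le_sylow
  obtain ⟨g, rfl⟩ := MulAction.exists_smul_eq (Equiv.Perm (Fin 5)) P R
  have m : g⁻¹ * c * g ∈ A := by
    have := hR (mem_zpowers c)
    rw [Sylow.coe_subgroup_smul, mem_pointwise_smul_iff_inv_smul_mem] at this
    rw [eP]; simpa using this
  have := h _ m
  have e2 : c * c = 1 := by
    calc c * c = g * (g⁻¹ * c * g * (g⁻¹ * c * g)) * g⁻¹ := by group
      _ = 1 := by rw [this]; group
  exact absurd e2 (by decide)

theorem rk_of_hom {M Q E : Subgroup G} (ψ : M →* Equiv.Perm (Fin 5))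
    (hk : ψ.ker = Q.subgroupOf M) (hE : E ≤ M) (h2 : ∀ x ∈ E, x * x = 1) :
    ♯E ≤ 4 * ♯(E ⊓ Q) := by
  let f : E →* Equiv.Perm (Fin 5) := ψ.comp (inclusion hE)
  have h1 := Subgroup.card_eq_card_quotient_mul_card_subgroup f.ker
  rw [Nat.card_congr (QuotientGroup.quotientKerEquivRange f).toEquiv] at h1
  have k : f.ker = (E ⊓ Q).subgroupOf E := by
    ext x
    have : x ∈ f.ker ↔ inclusion hE x ∈ ψ.ker := Iff.rfl
    rw [this, hk, mem_subgroupOf, mem_subgroupOf, mem_inf]
    exact ⟨fun h => ⟨x.2, h⟩, fun h => h.2⟩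
  rw [k, Nat.card_congr (subgroupOfEquivOfLe inf_le_left).toEquiv] at h1
  rw [h1]
  refine Nat.mul_le_mul_right _ (ea_le4 _ ?_)
  rintro _ ⟨x, rfl⟩
  rw [← map_mul, show x * x = 1 from Subtype.ext (h2 x x.2), map_one]

end H22.K3
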