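import Mathlib
import Cfsg.Agent.H22.QTCox0
import Cfsg.Prelude.Def_Spor_Fi22
import Cfsg.Prelude.Def_Spor_Fi23
import Cfsg.Prelude.Def_Spor_Fi24
import Cfsg.Prelude.Def_Spor_B
import Cfsg.Prelude.Def_Spor_M
import Cfsg.Prelude.Def_Spor_ON

/-! Piece COX of the quasithin project (without the order of O'N). -/

set_option autoImplicit false
set_option linter.all false
set_option maxRecDepth 100000

namespace H16.QT

open Cfsg Cfsg.Spor H22.QT Subgroup

variable {K : Type*} [Group K] [Finite K] [IsSimpleGroup K]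

theorem ka_Fi22 (hK : ¬ IsMulCommutative K) (h : Spor.IsoFi22 K) : KA K := by
  obtain ⟨φ⟩ := h
  exact ka_cox (H := ⊤) hK (φ.trans topEquiv.symm) (l := [.a, .b, .c, .d, .e, .f, .g, .h, .i])
    (fun v => by cases v <;> decide) (a := .a) (b := .b) (c := .f) (d := .g) (e := .h) (f := .i)
    (by decide +kernel) (by decide +kernel) (by decide +kernel) (by decide +kernel)
    (fun _ _ _ _ => mem_top _)

theorem ka_Fi23 (hK : ¬ IsMulCommutative K) (h : Spor.IsoFi23 K) : KA K := by
  obtain ⟨φ⟩ := h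
  exact ka_cox (H := ⊤) hK (φ.trans topEquiv.symm) (l := [.a, .b, .c, .d, .e, .f, .g, .j, .h, .i])
    (fun v => by cases v <;> decide) (a := .a) (b := .b) (c := .f) (d := .g) (e := .h) (f := .i)
    (by decide +kernel) (by decide +kernel) (by decide +kernel) (by decide +kernel)
    (fun _ _ _ _ => mem_top _)

theorem ka_B (hK : ¬ IsMulCommutative K) (h : Spor.IsoB K) : KA K := by
  obtain ⟨φ⟩ := h
  exact ka_cox (H := ⊤) hK (φ.trans topEquiv.symm)
    (l := [.t1, .t2, .t3, .t4, .t5, .t6, .t7, .t8, .t9, .t10, .t11])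
    (fun v => by cases v <;> decide) (a := .t1) (b := .t2) (c := .t7) (d := .t8) (e := .t10)
    (f := .t11)
    (by decide +kernel) (by decide +kernel) (by decide +kernel) (by decide +kernel)
    (fun _ _ _ _ => mem_top _)

theorem ka_Fi24 (hK : ¬ IsMulCommutative K) (h : Spor.IsoFi24' K) : KA K := by
  obtain ⟨φ⟩ := h
  have hl : ∀ v : Fi24.Gen, v ∈ ([.l, .k, .a, .b, .c, .d, .e, .f, .g, .j, .h, .i] : List Fi24.Gen) :=
    fun v => by cases v <;> decide
  have hn : ∀ v : Fi24.Gen, v ∈ coxNodes Fi24.edges := fun v => by cases v <;> decide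
  have r1 : Reach Fi24.edges [.l, .k, .a, .b, .c, .d, .e, .f, .g, .j, .h, .i] .a .b := by
    decide +kernel
  exact ka_cox hK φ hl (a := .a) (b := .b) (c := .f) (d := .g) (e := .h) (f := .i)
    (by decide +kernel) r1 (by decide +kernel) (by decide +kernel)
    (fun u _ v _ => (rel_of Fi24.edges Fi24.extra).mem_commutator r1 (by decide +kernel)
      ⟨hl u, hl v, hn v⟩)

theorem ka_M (hK : ¬ IsMulCommutative K) (h : Spor.IsoM K) : KA K := by
  obtain ⟨φ⟩ := h
  have hl : ∀ v : Bimonster.Gen, v ∈ ([.a, .b1, .c1, .d1, .e1, .f1, .b2, .c2, .d2, .e2, .f2, .b3,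
      .c3, .d3, .e3, .f3] : List Bimonster.Gen) :=
    fun v => by cases v <;> decide
  have hn : ∀ v : Bimonster.Gen, v ∈ coxNodes Bimonster.edges := fun v => by cases v <;> decide
  have r1 : Reach Bimonster.edges [.a, .b1, .c1, .d1, .e1, .f1, .b2, .c2, .d2, .e2, .f2, .b3,
      .c3, .d3, .e3, .f3] .c1 .d1 := by
    decide +kernel
  have hc : ∀ u ∈ ([.c1, .d1, .c2, .d2, .c3, .d3] : List Bimonster.Gen),
      coxLabel Bimonster.edges .a u = 2 := by decide +kernel
  have hR := rel_of Bimonster.edges Bimonster.extra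
  refine ka_cox hK φ hl (a := .c1) (b := .d1) (c := .c2) (d := .d2) (e := .c3) (f := .d3)
    (by decide +kernel) r1 (by decide +kernel) (by decide +kernel)
    (fun u hu v hv => ⟨?_, hR.mem_commutator r1 (by decide +kernel) ⟨hl u, hl v, hn v⟩⟩)
  exact mem_centralizer_singleton_iff.2
    ((hR.comm ⟨hn _, hn _, hc u hu⟩).mul_right (hR.comm ⟨hn _, hn _, hc v hv⟩)).symm.eq

end H16.QT

namespace H22.QT

open Cfsg Cfsg.Spor H16.QT Subgroup

theorem ON_comm (h : ∀ v : ON.Gen, v ≠ .g → (PresentedGroup.of v : ON) = PresentedGroup.of .a) :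
    IsMulCommutative ON := by
  have hR := rel_of ON.edges ON.extra
  have hx : ∀ r ∈ ON.extra, PresentedGroup.mk (coxRelators ON.edges ∪ {r | r ∈ ON.extra}) r = 1 :=
    fun r hr => PresentedGroup.one_of_mem (Or.inr hr)
  have h1 := hx _ (List.getElem_mem (n := 0) (by decide))
  have h6 := hx _ (List.getElem_mem (n := 5) (by decide))
  simp only [ON.extra, List.getElem_cons_zero, List.getElem_cons_succ, map_mul, map_inv,
    map_pow] at h1 h6
  change (PresentedGroup.of .a : ON) * PresentedGroup.of .f * (PresentedGroup.of .g ^ 2)⁻¹ = 1 at h1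
  change (PresentedGroup.of .g : ON) * PresentedGroup.of .b *
    ((PresentedGroup.of .c)⁻¹ * PresentedGroup.of .g * PresentedGroup.of .c) *
    ((PresentedGroup.of .b)⁻¹ * PresentedGroup.of .g * PresentedGroup.of .b) *
    ((PresentedGroup.of .c)⁻¹ * PresentedGroup.of .g * PresentedGroup.of .c) = 1 at h6
  have hs : (PresentedGroup.of .a : ON) * PresentedGroup.of .a = 1 := hR.sq (by decide)
  rw [h .f (by decide), hs, one_mul, inv_eq_one] at h1
  rw [h .b (by decide), h .c (by decide)] at h6
  have h7 : (PresentedGroup.of .a : ON) = 1 := by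
    generalize (PresentedGroup.of .a : ON) = s at *
    generalize (PresentedGroup.of .g : ON) = g at *
    have : g * s * (s⁻¹ * g * s) * (s⁻¹ * g * s) * (s⁻¹ * g * s) = g ^ 2 * g ^ 2 * s := by
      simp only [pow_two]; group
    rwa [this, h1, one_mul, one_mul] at h6
  refine comm_of_all_eq (s := PresentedGroup.of .g) fun v => ?_
  by_cases hv : v = .g
  · rw [hv]; exact mem_zpowers _
  · rw [h v hv, h7]; exact one_mem _

theorem ON_af (h : (PresentedGroup.of .c * PresentedGroup.of .d : ON) ^ 2 = 1) :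
    (PresentedGroup.of .a : ON) = PresentedGroup.of .f := by
  have hR := rel_of ON.edges ON.extra
  have hx : ∀ r ∈ ON.extra, PresentedGroup.mk (coxRelators ON.edges ∪ {r | r ∈ ON.extra}) r = 1 :=
    fun r hr => PresentedGroup.one_of_mem (Or.inr hr)
  have h1 := hx _ (List.getElem_mem (n := 1) (by decide))
  simp only [ON.extra, List.getElem_cons_zero, List.getElem_cons_succ, map_mul, map_inv,
    map_pow] at h1
  change (PresentedGroup.of .a : ON) * PresentedGroup.of .f *
    ((PresentedGroup.of .c * PresentedGroup.of .d) ^ (2 * 2))⁻¹ = 1 at h1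
  rw [pow_mul, h, one_pow, inv_one, mul_one] at h1
  rw [eq_inv_of_mul_eq_one_left h1, inv_eq_self (hR.sq (x := .f) (by decide))]

theorem ON_NC (hK : ¬ IsMulCommutative ON) : NC 3 ON := by
  have hR := rel_of ON.edges ON.extra
  have fin : ∀ S : List ON.Gen, (∀ v ∈ S, (PresentedGroup.of v : ON) = PresentedGroup.of .a) →
      (∀ v ∈ ([.a, .b, .c, .d, .e, .f] : List ON.Gen),
        v ∈ (fun S => (grow ON.edges S).dedup)^[3] S) → False := by
    intro S hS hr
    refine hK (ON_comm fun v hv => hR.iter_eq 3 hS v (hr v ?_))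
    cases v <;> first | exact absurd rfl hv | decide
  refine NC.of_dih (p := 3) (by norm_num) (by norm_num) (hR.sq (x := .a) (by decide))
    (hR.sq (x := .b) (by decide)) (hR.pow (by decide)) (hR.pow (x := .e) (y := .f) (by decide)) ?_ ?_
    (hR.sq (by decide)) (hR.comm (by decide)) (hR.comm (by decide)) (hR.comm (by decide))
    (hR.comm (by decide))
  · intro e
    have e1 : (PresentedGroup.of .c : ON) = PresentedGroup.of .a :=
      hR.all_eq (l := [.c]) (x := .a) (y := .b) (by decide) e _ (by simp)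
    have e2 := ON_af (by rw [e1]; exact hR.pow (x := .a) (y := .d) (by decide))
    refine fin [.a, .b, .f] ?_ (by decide)
    simp only [List.mem_cons, List.not_mem_nil, or_false, forall_eq_or_imp, forall_eq, true_and]
    exact ⟨e.symm, e2.symm⟩
  · intro e
    have e1 : (PresentedGroup.of .d : ON) = PresentedGroup.of .e :=
      hR.all_eq (l := [.d]) (x := .e) (y := .f) (by decide) e _ (by simp)
    have e2 := ON_af (by rw [e1]; exact hR.pow (x := .c) (y := .e) (by decide))
    refine fin [.a, .e, .f] ?_ (by decide)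
    simp only [List.mem_cons, List.not_mem_nil, or_false, forall_eq_or_imp, forall_eq, true_and]
    exact ⟨e.trans e2.symm, e2.symm⟩

theorem ka_ON_of_card {K : Type*} [Group K] [Finite K] (hK : ¬ IsMulCommutative K)
    (h : Spor.IsoON K) (hc : Nat.card ON = 460815505920) : KA K := by
  obtain ⟨φ⟩ := h
  haveI : Finite ON := Finite.of_equiv _ φ.toEquiv
  refine KA.of_equiv φ (KA.of_NUM ⟨?_, ON_NC (not_comm_of_equiv hK (φ.trans topEquiv.symm)), ?_⟩)
  · rw [hc]
    exact N1.of_list [2, 3, 5, 7, 11, 19, 31] (by decide +kernel) (by simp; norm_num)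
      (by decide +kernel)
  · exact NoSz.of_list hc [2, 3, 5, 7, 11, 19, 31] (by decide +kernel) (by simp; norm_num)
      (by decide +kernel)

end H22.QT

namespace H16.QT

open Cfsg H22.QT Subgroup Equiv

variable {K : Type*} [Group K] [Finite K] [IsSimpleGroup K]

theorem ka_A7 (h : Nonempty (K ≃* alternatingGroup (Fin 7))) : KA K := by
  obtain ⟨φ⟩ := h
  have hc : Nat.card (alternatingGroup (Fin 7)) = 2520 := by
    have := two_mul_nat_card_alternatingGroup (α := Fin 7)
    rw [Nat.card_perm, Nat.card_eq_fintype_card (α := Fin 7), Fintype.card_fin] at this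
    norm_num [Nat.factorial] at this ⊢
    omega
  refine KA.of_equiv φ (KA.of_NUM ⟨?_, ?_, ?_⟩)
  · rw [hc]
    exact N1.of_list [2, 3, 5, 7] (by decide +kernel) (by simp; norm_num) (by decide +kernel)
  · refine NC3_of_ne (x := ⟨swap 0 1 * swap 1 2, by simp⟩) (y := ⟨swap 3 4 * swap 4 5, by simp⟩)
      (Subtype.ext ?_) (Subtype.ext ?_) (Subtype.ext ?_) (Subtype.coe_ne_coe.1 ?_)
      (Subtype.coe_ne_coe.1 ?_) (Subtype.coe_ne_coe.1 ?_) (Subtype.coe_ne_coe.1 ?_) <;>
    decide +kernel
  · exact NoSz.of_list hc [2, 3, 5, 7] (by decide +kernel) (by simp; norm_num) (by decide +kernel)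

theorem ka_An {n : ℕ} (hn : 9 ≤ n) (h : Nonempty (K ≃* alternatingGroup (Fin n))) : KA K := by
  obtain ⟨φ⟩ := h
  set ι := Perm.viaEmbeddingHom (Fin.castLEEmb hn) with hι
  have inj : Function.Injective ι := Perm.viaEmbeddingHom_injective _
  have sg : ∀ x, Perm.sign (ι x) = Perm.sign x := fun x => by
    rw [hι, Perm.viaEmbeddingHom_apply, Perm.viaEmbedding]
    convert Perm.sign_extendDomain x _
  let ψ : alternatingGroup (Fin 9) →* alternatingGroup (Fin n) :=
    (ι.comp (alternatingGroup (Fin 9)).subtype).codRestrict _ fun x => by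
      rw [Perm.mem_alternatingGroup]; exact (sg _).trans x.2
  have inj' : Function.Injective ψ := fun x y e =>
    Subtype.ext (inj (congrArg Subtype.val e))
  have h3 : G3 (alternatingGroup (Fin 9)) := by
    refine G3_sub (p := 3) (by norm_num) (by norm_num) _ (a := swap 0 1) (b := swap 1 2)
      (c := swap 3 4) (d := swap 4 5) (e := swap 6 7) (f := swap 7 8)
      ?_ ?_ ?_ ?_ ?_ ?_ ?_ ?_ ?_ ?_ ?_ ?_ ?_ ?_ ?_ ?_ ?_ ?_ ?_ ?_ ?_ ?_ ?_ ?_
      (by simp) (by simp) (by simp) (by simp) (by simp) <;>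
    first | decide +kernel | (unfold Commute SemiconjBy; decide +kernel)
  refine KA.of_equiv φ (KA.of_G3 (h3.map ψ inj') ?_)
  refine Dvd.dvd.trans ?_ (card_dvd_of_injective ψ inj')
  exact three_dvd_card (x := ⟨swap 0 1 * swap 1 2, by simp⟩) (Subtype.ext (by decide +kernel))
    (Subtype.coe_ne_coe.1 (by decide +kernel))

end H16.QT
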