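import Mathlib
import Cfsg.Agent.H22.QTCox
import Cfsg.Agent.H29.ON

/-! Piece COX of the quasithin project: O'N. -/

set_option autoImplicit false
set_option linter.all false

namespace H16.QT

open Cfsg

variable {K : Type*} [Group K] [Finite K] [IsSimpleGroup K]

theorem ka_ON (hK : ¬ IsMulCommutative K) (h : Spor.IsoON K) : KA K :=
  H22.QT.ka_ON_of_card hK h H29.ON.card.1

end H16.QT
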