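import Mathlib
import Cfsg.Agent.H16.KG1
import Cfsg.Agent.H20.TwH

/-! Root group lemmas for the pieces EX3 and TOR of the quasithin project. -/

set_option autoImplicit false
set_option linter.all false

namespace H22.QT

open H20 H16.QT Subgroup

section Gen

variable {G : Type*} [Group G]

/-- an elementary abelian group of order greater than `p ^ 2` consisting of real elements -/
theorem G3_of_add {V : Type*} [AddCommGroup V] [Finite V] {p : ℕ} (hp : p.Prime) (hp2 : p ≠ 2)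
    (hV : ∀ v : V, p • v = 0) (hc : p ^ 2 < Nat.card V) (ψ : V → G)
    (add : ∀ a b, ψ (a + b) = ψ a * ψ b) (inj : ∀ v, ψ v = 1 → v = 0) (real : ∀ v, Rl (ψ v)) :
    G3 G := by
  haveI := Fact.mk hp
  letI : Module (ZMod p) V := AddCommGroup.zmodModule hV
  have h0 : ψ 0 = 1 := by
    have := add 0 0
    rw [add_zero] at this
    exact left_eq_mul.1 this
  have hpow : ∀ (n : ℕ) v, ψ v ^ n = ψ (n • v) := by
    intro n v
    induction n with
    | zero => simp [h0]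
    | succ n ih => rw [pow_succ, ih, succ_nsmul, add]
  have hcomm : ∀ a b, Commute (ψ a) (ψ b) := fun a b => by
    rw [Commute, SemiconjBy, ← add, ← add, add_comm]
  have h3 : 3 ≤ Module.finrank (ZMod p) V := by
    have hfin : Module.Finite (ZMod p) V := Module.Finite.of_finite
    have := @Module.natCard_eq_pow_finrank (ZMod p) V _ _ _ hfin
    rw [this, Nat.card_zmod] at hc
    exact (Nat.pow_lt_pow_iff_right hp.one_lt).1 hc
  obtain ⟨f, hf⟩ := exists_linearIndependent_of_le_finrank h3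
  refine ⟨p, hp, hp2, ψ (f 0), ψ (f 1), ψ (f 2), by rw [hpow, hV, h0], by rw [hpow, hV, h0],
    by rw [hpow, hV, h0], hcomm _ _, hcomm _ _, hcomm _ _, real _, real _, real _, ?_⟩
  intro a b c e
  rw [hpow, hpow, hpow, ← add, ← add] at e
  have := Fintype.linearIndependent_iff.1 hf ![(a : ZMod p), b, c] (by
    simpa [Fin.sum_univ_three, Nat.cast_smul_eq_nsmul] using inj _ e)
  exact ⟨(ZMod.natCast_eq_zero_iff _ _).1 (this 0), (ZMod.natCast_eq_zero_iff _ _).1 (this 1),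
    (ZMod.natCast_eq_zero_iff _ _).1 (this 2)⟩

theorem braid_three {a b : G} (ha : a * a = 1) (hb : b * b = 1) (h : a * b * a = b * a * b) :
    (a * b) ^ 3 = 1 := by
  calc (a * b) ^ 3 = (a * b * a) * (b * a * b) := by simp only [pow_succ]; group
    _ = a * b * (a * a) * b * a := by rw [← h]; group
    _ = 1 := by rw [ha, mul_one, mul_assoc a b b, hb, mul_one, ha]

end Gen

variable {ι Λ : Type} [LinearOrder ι] [Fintype Λ] [DecidableEq Λ] [Fintype ι] {R : RS ι Λ}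
  {K : Type*} [Field K] {G : Type*} [Group G] (X : RG R K G)

theorem x_pow (r : ι) (t : K) (n : ℕ) : X.x r t ^ n = X.x r (n * t) := by
  induction n with
  | zero => simp
  | succ n ih => rw [pow_succ, ih, X.x_mul_x]; congr 1; push_cast; ring

theorem ab_six (r : ι) : (X.x r 1 * X.x (R.neg r) (-1)) ^ 6 = 1 := by
  have h1 := X.n_neg r (t := 1) one_ne_zero
  have h2 : X.n r 1 * X.n r 1 = X.h r (-1) := by simpa using X.n_mul_n r one_ne_zero one_ne_zero
  have h3 : X.h r (-1) * X.h r (-1) = 1 := by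
    rw [X.h_mul r _ _ (by simp) (by simp)]; simpa using X.h_one r
  have e : (X.x r 1 * X.x (R.neg r) (-1)) ^ 3 =
      X.n r 1 * (X.x (R.neg r) (-1) * X.x r 1 * X.x (R.neg r) (-1)) := by
    simp only [WRG.n, inv_one, pow_succ]; group
  rw [show 6 = 3 * 2 from rfl, pow_mul, e]
  rcases mul_self_eq_one_iff.1 (X.η_sq r r) with h | h
  · rw [h1, h]
    simp only [WRG.n, inv_one, mul_one, R.neg_neg, ← X.x_inv]
    group
  · have : X.x (R.neg r) (-1) * X.x r 1 * X.x (R.neg r) (-1) = X.n r 1 := by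
      rw [h1, h]; simp [WRG.n, R.neg_neg]
    rw [this, h2, pow_two, h3]

theorem ab_sq_ne {r : ι} (hr : R.Pos r) : (X.x r 1 * X.x (R.neg r) (-1)) ^ 2 ≠ 1 := by
  intro e
  have h1 : X.n r 1 = X.x (R.neg r) 1 := by
    rw [← mul_inv_eq_one, X.x_inv, ← e]
    simp only [WRG.n, inv_one, pow_succ]; group
  have h2 := X.conj_n r r 1 1 one_ne_zero
  rw [h1, RS.rf_self] at h2
  have h3 : X.x r 1 ∈ X.V := by
    have : X.x r 1 = (X.x (R.neg r) 1)⁻¹ * (X.x (R.neg r) 1 * X.x r 1 * (X.x (R.neg r) 1)⁻¹) *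
        X.x (R.neg r) 1 := by group
    have hn : R.neg r ∈ {r | ¬R.Pos r} := by simpa [R.pos_neg_iff] using hr
    rw [this, h2]
    exact mul_mem (mul_mem (inv_mem (X.x_mem_XS hn _)) (X.x_mem_XS hn _)) (X.x_mem_XS hn _)
  exact one_ne_zero (X.x_eq_one (X.eq_one_of_mem_B_V (X.U_le_B (X.x_mem_XS hr _)) h3))

theorem three_dvd {Γ : Subgroup G} [Finite Γ] {r : ι} (hr : R.Pos r) (h1 : X.x r 1 ∈ Γ)
    (h2 : X.x (R.neg r) 1 ∈ Γ) : 3 ∣ Nat.card Γ := by
  have h3 : X.x (R.neg r) (-1) ∈ Γ := X.x_inv _ _ ▸ inv_mem h2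
  refine three_dvd_card (x := (⟨_, mul_mem h1 h3⟩ : Γ) ^ 2) (Subtype.ext ?_) fun e =>
    ab_sq_ne X hr (congrArg Subtype.val e)
  rw [← pow_mul]
  exact ab_six X r

theorem h_neg_one_mem {Γ : Subgroup G} {r : ι} (h1 : X.x r 1 ∈ Γ) (h2 : X.x (R.neg r) 1 ∈ Γ) :
    X.h r (-1) ∈ Γ := by
  have h3 : X.x r (-1) ∈ Γ := X.x_inv _ _ ▸ inv_mem h1
  have : X.n r (-1) ∈ Γ := mul_mem (mul_mem h3 (by simpa using h2)) h3
  exact mul_mem this this

theorem h_neg_one_conj {s r : ι} (h : Odd (R.A s r)) (t : K) :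
    X.h s (-1) * X.x r t * (X.h s (-1))⁻¹ = X.x r (-t) := by
  rw [X.h_conj_x s r (by simp), h.neg_one_zpow, neg_one_mul]

theorem P_add {L : List ι} (hc : ∀ r ∈ L, ∀ s ∈ L, ∀ t u, Commute (X.x r t) (X.x s u))
    (t t' : ι → K) : X.P L (t + t') = X.P L t * X.P L t' := by
  induction L with
  | nil => simp
  | cons r L ih =>
    have h : Commute (X.x r (t' r)) (X.P L t) := by
      refine Commute.list_prod_right _ _ fun a ha => ?_
      obtain ⟨s, hs, rfl⟩ := List.mem_map.1 ha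
      exact hc r (by simp) s (by simp [hs]) _ _
    simp only [WRG.P_cons, Pi.add_apply, X.x_add,
      ih fun r hr s hs => hc r (by simp [hr]) s (by simp [hs])]
    rw [mul_assoc, mul_assoc, ← mul_assoc (X.x r (t' r)), h.eq, mul_assoc]

theorem P_conj {L : List ι} {h : G} (hh : ∀ r ∈ L, ∀ t, h * X.x r t * h⁻¹ = X.x r (-t))
    (t : ι → K) : h * X.P L t * h⁻¹ = X.P L (-t) := by
  induction L with
  | nil => simp
  | cons r L ih =>
    simp only [WRG.P_cons, Pi.neg_apply, ← hh r (by simp), ← ih fun r hr => hh r (by simp [hr])]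
    group

/-- odd characteristic: three independent elements of an abelian unipotent group which is inverted -/
theorem G3_odd {p : ℕ} (hp : p.Prime) (hp2 : p ≠ 2) [CharP K p] {Γ : Subgroup G} {L : List ι}
    (hL : L.Nodup) (hpos : ∀ r ∈ L, R.Pos r)
    (hc : ∀ r ∈ L, ∀ s ∈ L, ∀ t u, Commute (X.x r t) (X.x s u)) {h : G} (hΓ : h ∈ Γ)
    (hh : ∀ r ∈ L, ∀ t, h * X.x r t * h⁻¹ = X.x r (-t)) (τ : Fin 3 → ι → K)
    (mem : ∀ i, X.P L (τ i) ∈ Γ) (ρ : Fin 3 → ι) (hρ : ∀ i, ρ i ∈ L)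
    (hτ : ∀ i j, τ i (ρ j) = if i = j then 1 else 0) : G3 Γ := by
  have hpow : ∀ (n : ℕ) v, X.P L v ^ n = X.P L (n • v) := by
    intro n v
    induction n with
    | zero => simp [X.P_zero]
    | succ n ih => rw [pow_succ, ih, succ_nsmul, P_add X hc]
  have hcomm : ∀ a b, Commute (X.P L a) (X.P L b) := fun a b => by
    rw [Commute, SemiconjBy, ← P_add X hc, ← P_add X hc, add_comm]
  have h1 : ∀ i, (⟨_, mem i⟩ : Γ) ^ p = 1 := fun i => Subtype.ext (by
    have : p • τ i = 0 := by ext r; simp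
    rw [coe_pow, hpow, this, X.P_zero]; rfl)
  have h2 : ∀ i, Rl (⟨_, mem i⟩ : Γ) := fun i => ⟨⟨h, hΓ⟩, Subtype.ext (by
    change h * X.P L (τ i) * h⁻¹ = (X.P L (τ i))⁻¹
    rw [P_conj X hh, eq_inv_iff_mul_eq_one, ← P_add X hc, neg_add_cancel, X.P_zero])⟩
  refine ⟨p, hp, hp2, _, _, _, h1 0, h1 1, h1 2, Subtype.ext (hcomm _ _).eq,
    Subtype.ext (hcomm _ _).eq, Subtype.ext (hcomm _ _).eq, h2 0, h2 1, h2 2, ?_⟩
  intro a b c e
  have e1 : X.P L (τ 0) ^ a * X.P L (τ 1) ^ b * X.P L (τ 2) ^ c = 1 := congrArg Subtype.val e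
  rw [hpow, hpow, hpow, ← P_add X hc, ← P_add X hc, ← X.P_zero L] at e1
  have e2 := fun i => X.P_injective X.nd1 R.closed_pos (fun _ h => h) hL hpos e1 _ (hρ i)
  have e3 := e2 0
  have e4 := e2 1
  have e5 := e2 2
  simp [hτ] at e3 e4 e5
  exact ⟨(CharP.cast_eq_zero_iff K p a).1 e3, (CharP.cast_eq_zero_iff K p b).1 e4,
    (CharP.cast_eq_zero_iff K p c).1 e5⟩

section Two

variable (h2 : (2 : K) = 0)

include h2

theorem neg_eq (t : K) : -t = t := by linear_combination -t * h2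

theorem x_sq (r : ι) (t : K) : X.x r t * X.x r t = 1 := by
  rw [X.x_mul_x, ← two_mul, h2, zero_mul, X.x_zero]

theorem braid (r : ι) :
    X.x r 1 * X.x (R.neg r) 1 * X.x r 1 = X.x (R.neg r) 1 * X.x r 1 * X.x (R.neg r) 1 := by
  have h1 := X.n_neg r (t := 1) one_ne_zero
  have h : X.η r r = 1 := by
    rcases mul_self_eq_one_iff.1 (X.η_sq r r) with h | h
    · exact h
    · rw [h, neg_eq h2]
  rw [h] at h1
  simpa [WRG.n, R.neg_neg, neg_eq h2] using h1

theorem ab_three (r : ι) : (X.x r 1 * X.x (R.neg r) 1) ^ 3 = 1 :=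
  braid_three (x_sq X h2 _ _) (x_sq X h2 _ _) (braid X h2 r)

omit h2 in
theorem ne_of_U_V {a b : G} (ha : a ∈ X.U) (hb : b ∈ X.V) (h1 : a ≠ 1) : a ≠ b := fun e =>
  h1 (X.eq_one_of_mem_B_V (X.U_le_B ha) (e ▸ hb))

omit h2 in
theorem x_ne {r : ι} (hr : R.Pos r) {t : K} (ht : t ≠ 0) (u : K) : X.x r t ≠ X.x (R.neg r) u :=
  ne_of_U_V X (X.x_mem_XS hr _) (X.x_mem_XS (by simpa [R.pos_neg_iff] using hr) _)
    fun e => ht (X.x_eq_one e)

/-- characteristic two: three commuting copies of `SL₂(2)` -/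
theorem G3_even {Γ : Subgroup G} {r s k : ι} (hr : R.Pos r) (hs : R.Pos s) (hk : R.Pos k)
    (hc : ∀ a ∈ [r, R.neg r], ∀ b ∈ [s, R.neg s, k, R.neg k], Commute (X.x a 1) (X.x b 1))
    (hc' : ∀ a ∈ [s, R.neg s], ∀ b ∈ [k, R.neg k], Commute (X.x a 1) (X.x b 1))
    (mem : ∀ a ∈ [r, R.neg r, s, R.neg s, k, R.neg k], X.x a 1 ∈ Γ) : G3 Γ := by
  simp only [List.forall_mem_cons, List.not_mem_nil, false_imp_iff, implies_true, and_true]
    at hc hc' mem
  obtain ⟨m1, m2, m3, m4, m5, m6⟩ := mem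
  exact G3.of_dih (p := 3) (by norm_num) (by norm_num) (a := ⟨_, m1⟩) (b := ⟨_, m2⟩) (c := ⟨_, m3⟩)
    (d := ⟨_, m4⟩) (e := ⟨_, m5⟩) (f := ⟨_, m6⟩) (Subtype.ext (x_sq X h2 _ _))
    (Subtype.ext (x_sq X h2 _ _)) (Subtype.ext (x_sq X h2 _ _)) (Subtype.ext (x_sq X h2 _ _))
    (Subtype.ext (x_sq X h2 _ _)) (Subtype.ext (x_sq X h2 _ _)) (Subtype.ext (ab_three X h2 _))
    (Subtype.ext (ab_three X h2 _)) (Subtype.ext (ab_three X h2 _))
    (Subtype.coe_ne_coe.1 (x_ne X hr one_ne_zero _)) (Subtype.coe_ne_coe.1 (x_ne X hs one_ne_zero _))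
    (Subtype.coe_ne_coe.1 (x_ne X hk one_ne_zero _)) (Subtype.ext hc.1.1.eq)
    (Subtype.ext hc.1.2.1.eq) (Subtype.ext hc.2.1.eq) (Subtype.ext hc.2.2.1.eq)
    (Subtype.ext hc.1.2.2.1.eq) (Subtype.ext hc.1.2.2.2.eq) (Subtype.ext hc.2.2.2.1.eq)
    (Subtype.ext hc.2.2.2.2.eq) (Subtype.ext hc'.1.1.eq) (Subtype.ext hc'.1.2.eq)
    (Subtype.ext hc'.2.1.eq) (Subtype.ext hc'.2.2.eq)

end Two

end H22.QT
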