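import Mathlib
import Cfsg.Agent.H22.QTLie0
import Cfsg.Agent.H20.TwE6
import Cfsg.Agent.H20.TwD4
import Cfsg.Agent.H19.CertG2
import Cfsg.Agent.H19.CertF4
import Cfsg.Agent.H19.CertE7
import Cfsg.Agent.H19.CertE8
import Cfsg.Agent.H8.ReeBridge
import Cfsg.Prelude.Def_LieChev

/-! Piece EX3 of the quasithin project. -/

set_option autoImplicit false
set_option linter.all false
set_option maxRecDepth 100000

namespace H22.QT

open H20 H16.QT Subgroup Cfsg.Lie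

variable {D : ChevalleyDatum} {g : Good D} {F : Type*} [Field F] (M : MatRG g F)

/-- the root groups commute in characteristic `p` (in every characteristic if `p = 0`) -/
def cB (D : ChevalleyDatum) (p r s : ℕ) : Bool := (⟨p, 0, 0, 0⟩ : HomD).commB (H19.recOf D) r s

theorem commute_cB {p : ℕ} (hp : (p : F) = 0) {r s : Fin D.nroots} (h : cB D p r s = true)
    (t u : F) : Commute (M.X.x r t) (M.X.x s u) := by
  rw [M.x_eq, M.x_eq]
  exact M.Y.commute_of_commB g (h := ⟨p, 0, 0, 0⟩) hp r.2 s.2 h t u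

theorem odd_A {j : Fin D.rank} {r : Fin D.nroots} (h : D.cartan j r % 2 = 1) :
    Odd (g.rs.A (g.rs.sim j) r) := by
  rw [RS.A_sim, g.rs_ca, Int.odd_iff, h]

theorem exists_char (F : Type*) [Field F] [Finite F] :
    (2 : F) = 0 ∨ ∃ p : ℕ, p.Prime ∧ p ≠ 2 ∧ CharP F p := by
  obtain ⟨p, hp⟩ := CharP.exists F
  have := CharP.char_is_prime F p
  by_cases h : p = 2
  · subst h; exact Or.inl (CharP.cast_eq_zero F 2)
  · exact Or.inr ⟨p, this, h, hp⟩

/-- three commuting root groups inverted by `h_j(-1)` -/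
def Chk3 (D : ChevalleyDatum) (j : ℕ) (L : List ℕ) : Prop :=
  L.Nodup ∧ (∀ r ∈ L, D.IsPosRoot r ∧ D.cartan j r % 2 = 1) ∧ ∀ r ∈ L, ∀ s ∈ L, cB D 0 r s = true

instance (D : ChevalleyDatum) (j : ℕ) (L : List ℕ) : Decidable (Chk3 D j L) := by
  unfold Chk3; infer_instance

theorem G3_odd' {p : ℕ} (hp : p.Prime) (hp2 : p ≠ 2) [CharP F p] {Γ : Subgroup (GL D.Idx F)}
    (j : Fin D.rank) (L : List (Fin D.nroots)) (hL : Chk3 D j (L.map Fin.val))
    (m1 : M.X.x (g.rs.sim j) 1 ∈ Γ) (m2 : M.X.x (g.rs.neg (g.rs.sim j)) 1 ∈ Γ)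
    (τ : Fin 3 → Fin D.nroots → F) (mem : ∀ i, M.X.P L (τ i) ∈ Γ) (ρ : Fin 3 → Fin D.nroots)
    (hρ : ∀ i, ρ i ∈ L) (hτ : ∀ i j, τ i (ρ j) = if i = j then 1 else 0) : G3 Γ :=
  G3_odd M.X hp hp2 (hL.1.of_map _)
    (fun r hr => (g.isPosRoot_iff r).1 (hL.2.1 _ (List.mem_map_of_mem hr)).1)
    (fun r hr s hs => commute_cB M (p := 0) Nat.cast_zero
      (hL.2.2 _ (List.mem_map_of_mem hr) _ (List.mem_map_of_mem hs)))
    (h_neg_one_mem M.X m1 m2)
    (fun r hr => h_neg_one_conj M.X (odd_A (hL.2.1 _ (List.mem_map_of_mem hr)).2)) τ mem ρ hρ hτ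

theorem ka_odd [Finite F] {p : ℕ} (hp : p.Prime) (hp2 : p ≠ 2) [CharP F p]
    {Γ : Subgroup (GL D.Idx F)} (j : Fin D.rank) (r s k : Fin D.nroots)
    (hL : Chk3 D j [r, s, k])
    (m1 : M.X.x (g.rs.sim j) 1 ∈ Γ) (m2 : M.X.x (g.rs.neg (g.rs.sim j)) 1 ∈ Γ)
    (mem : ∀ a ∈ [r, s, k], M.X.x a 1 ∈ Γ) : KA Γ := by
  have hn : [r, s, k].Nodup := List.Nodup.of_map Fin.val hL.1
  simp only [List.nodup_cons, List.mem_cons, List.not_mem_nil, or_false, not_or] at hn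
  obtain ⟨⟨h1, h2⟩, h3, -⟩ := hn
  refine KA.of_G3 (G3_odd' M hp hp2 j [r, s, k] hL m1 m2
    (fun i a => if a = ![r, s, k] i then 1 else 0) ?_ ![r, s, k] ?_ ?_)
    (three_dvd M.X (g.rs.pos_sim j) m1 m2)
  · intro i
    fin_cases i <;> simp [h1, h2, h3, Ne.symm h1, Ne.symm h2, Ne.symm h3, mem]
  · intro i
    fin_cases i <;> simp
  · intro i j
    fin_cases i <;> fin_cases j <;> simp [h1, h2, h3, Ne.symm h1, Ne.symm h2, Ne.symm h3]

/-- three pairwise strongly orthogonal roots -/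
def ChkO (D : ChevalleyDatum) (r s k : ℕ) : Prop :=
  (∀ a ∈ [r, D.neg r], ∀ b ∈ [s, D.neg s, k, D.neg k], cB D 0 a b = true) ∧
    ∀ a ∈ [s, D.neg s], ∀ b ∈ [k, D.neg k], cB D 0 a b = true

instance (D : ChevalleyDatum) (r s k : ℕ) : Decidable (ChkO D r s k) := by
  unfold ChkO; infer_instance

theorem ka_cfg [Finite F] {Γ : Subgroup (GL D.Idx F)} (j : Fin D.rank) (r s k : Fin D.nroots)
    (hL : Chk3 D j [r, s, k]) (hO : ChkO D r s k)
    (mem : ∀ a ∈ [g.rs.sim j, g.rs.neg (g.rs.sim j), r, g.rs.neg r, s, g.rs.neg s, k, g.rs.neg k],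
      M.X.x a 1 ∈ Γ) : KA Γ := by
  rcases exists_char F with h2 | ⟨p, hp, hp2, hc⟩
  · have hp : ∀ a ∈ [r, s, k], g.rs.Pos a := fun a ha =>
      (g.isPosRoot_iff a).1 (hL.2.1 _ (List.mem_map_of_mem (f := Fin.val) ha)).1
    refine KA.of_G3 (G3_even M.X h2 (hp r (by simp)) (hp s (by simp)) (hp k (by simp)) ?_ ?_ ?_)
      (three_dvd M.X (g.rs.pos_sim j) (mem _ (by simp)) (mem _ (by simp)))
    · exact fun a ha b hb => commute_cB M (p := 0) Nat.cast_zero
        (hO.1 _ (List.mem_map_of_mem (f := Fin.val) ha) _ (List.mem_map_of_mem (f := Fin.val) hb)) _ _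
    · exact fun a ha b hb => commute_cB M (p := 0) Nat.cast_zero
        (hO.2 _ (List.mem_map_of_mem (f := Fin.val) ha) _ (List.mem_map_of_mem (f := Fin.val) hb)) _ _
    · exact fun a ha => mem a (List.mem_cons_of_mem _ (List.mem_cons_of_mem _ ha))
  · refine ka_odd M hp hp2 j r s k hL (mem _ (by simp)) (mem _ (by simp)) fun a ha => mem a ?_
    simp only [List.mem_cons, List.not_mem_nil, or_false] at ha
    rcases ha with rfl | rfl | rfl <;> simp

theorem x_mem_group (r : Fin D.nroots) (t : F) : M.X.x r t ∈ D.group F := by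
  rw [M.isMat.grp_eq]; exact M.X.x_mem_grp r t

theorem map_mem {W : Set (List (ℕ × F))} {a : D.SteinbergGroup F} (h : a ∈ stSub D W) :
    M.θ a ∈ D.genSubgroup F W := M.map_stSub W ▸ mem_map_of_mem _ h

theorem not_two_of_odd {F : Type*} [Field F] [Fintype F] (h : Odd (Fintype.card F)) :
    (2 : F) ≠ 0 := by
  intro h2
  obtain ⟨k, hk⟩ := h
  have := FiniteField.cast_card_eq_zero F
  rw [hk] at this
  push_cast at this
  rw [h2, zero_mul, zero_add] at this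
  exact one_ne_zero this

end H22.QT

namespace H16.QT

open Cfsg Cfsg.Lie H20 H19 H22.QT

variable {K : Type*} [Group K] [Finite K] [IsSimpleGroup K]

theorem ka_F4 (h : Lie.IsoF4 K) : KA K := by
  obtain ⟨F, _, _, ⟨φ⟩⟩ := h
  exact KA.of_equiv φ (ka_cfg (matF4 F) ⟨3, by decide⟩ ⟨25, by decide⟩ ⟨30, by decide⟩
    ⟨41, by decide⟩ (by decide +kernel) (by decide +kernel) fun a _ => x_mem_group _ a 1)

theorem ka_E6 (h : Lie.IsoChevE6 K) : KA K := by
  obtain ⟨F, _, _, ⟨φ⟩⟩ := h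
  exact KA.of_equiv φ (ka_cfg (matE6 F) ⟨3, by decide⟩ ⟨46, by decide⟩ ⟨42, by decide⟩
    ⟨37, by decide⟩ (by decide +kernel) (by decide +kernel) fun a _ => x_mem_group _ a 1)

theorem ka_E7 (h : Lie.IsoE7 K) : KA K := by
  obtain ⟨F, _, _, ⟨φ⟩⟩ := h
  exact KA.of_equiv φ (ka_cfg (matE7 F) ⟨3, by decide⟩ ⟨78, by decide⟩ ⟨73, by decide⟩
    ⟨66, by decide⟩ (by decide +kernel) (by decide +kernel) fun a _ => x_mem_group _ a 1)

theorem ka_E8 (h : Lie.IsoE8 K) : KA K := by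
  obtain ⟨F, _, _, ⟨φ⟩⟩ := h
  exact KA.of_equiv φ (ka_cfg (matE8 F) ⟨3, by decide⟩ ⟨141, by decide⟩ ⟨135, by decide⟩
    ⟨126, by decide⟩ (by decide +kernel) (by decide +kernel) fun a _ => x_mem_group _ a 1)

theorem ka_2E6 (h : Lie.Iso2E6 K) : KA K := by
  obtain ⟨F, _, _, q, hq, hF, ⟨φ⟩⟩ := h
  obtain ⟨f, hf⟩ := exists_frob hq hF
  have hff : ∀ t, f (f t) = t := fun t => by
    rw [hf, hf, ← pow_mul, ← pow_two, ← hF, FiniteField.pow_card]
  refine KA.of_equiv φ (ka_cfg (matE6 F) ⟨1, by decide⟩ ⟨39, by decide⟩ ⟨44, by decide⟩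
    ⟨60, by decide⟩ (by decide +kernel) (by decide +kernel) fun a ha => ?_)
  rw [← (matE6 F).θ_gen]
  refine map_mem _ (MatRG.gen_mem (E6.gen hf hff) ⟨a.2, ?_⟩ (map_one f))
  revert a
  decide +kernel

theorem ka_G2_odd (F : Type) [Field F] [Fintype F] (hF : Odd (Fintype.card F)) :
    KA (Lie.chevG2.group F) := by
  obtain ⟨p, hp, hp2, hc⟩ := (exists_char F).resolve_left (not_two_of_odd hF)
  exact ka_odd (matG2 F) hp hp2 ⟨1, by decide⟩ ⟨7, by decide⟩ ⟨10, by decide⟩ ⟨11, by decide⟩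
    (by decide +kernel) (x_mem_group _ _ _) (x_mem_group _ _ _) fun a _ => x_mem_group _ a 1

theorem ka_3D4_odd (F : Type) [Field F] [Fintype F] (q : ℕ) (hq : IsPrimePow q)
    (hF : Fintype.card F = q ^ 3) (ho : Odd q) : KA (Lie.twistedD4 F q) := by
  obtain ⟨p, hp, hp2, hc⟩ := (exists_char F).resolve_left (not_two_of_odd (hF ▸ ho.pow))
  obtain ⟨f, hf⟩ := exists_frob hq hF
  have hff : ∀ t, f (f (f t)) = t := fun t => by
    rw [hf, D4.hf2 hf, ← pow_mul, ← pow_succ, ← hF, FiniteField.pow_card]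
  have key : ∀ a : Fin chevD4.nroots, (a : ℕ) ∈ [14, 9, 22, 23] →
      (matD4 F).X.x a 1 ∈ twistedD4 F q := fun a ha => by
    rw [← (matD4 F).θ_gen]
    refine map_mem _ (MatRG.gen_mem (D4.gen hf hff) ⟨a.2, ?_⟩ (map_one f))
    revert a
    decide +kernel
  have m1 := key (goodD4.rs.sim ⟨1, by decide⟩) (by decide +kernel)
  have m2 := key (goodD4.rs.neg (goodD4.rs.sim ⟨1, by decide⟩)) (by decide +kernel)
  refine KA.of_G3 (G3_odd' (matD4 F) hp hp2 ⟨1, by decide⟩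
    [⟨22, by decide⟩, ⟨23, by decide⟩, ⟨18, by decide⟩, ⟨13, by decide⟩, ⟨12, by decide⟩]
    (by decide +kernel) m1 m2
    (fun i a => if (a : ℕ) ∈ ![[22], [23], [18, 13, 12]] i then 1 else 0) ?_
    ![⟨22, by decide⟩, ⟨23, by decide⟩, ⟨18, by decide⟩] ?_ ?_)
    (three_dvd _ (goodD4.rs.pos_sim _) m1 m2)
  · intro i
    fin_cases i
    · simpa using key ⟨22, by decide⟩ (by simp)
    · simpa using key ⟨23, by decide⟩ (by simp)
    · have := map_mem (matD4 F) (stw_mem (D := chevD4)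
        (D4.mem2 (r := d4p1) (s := d4p3) (k := d4p4) (q := q) (by simp) (1 : F)))
      simp only [stw, List.map_cons, List.map_nil, List.prod_cons, List.prod_nil, map_mul, one_pow,
        mul_one] at this
      erw [(matD4 F).θ_gen ⟨18, by decide⟩, (matD4 F).θ_gen ⟨13, by decide⟩,
        (matD4 F).θ_gen ⟨12, by decide⟩] at this
      simpa [twistedD4] using this
  · intro i
    fin_cases i <;> simp
  · intro i j
    fin_cases i <;> fin_cases j <;> simp

theorem ka_Ree (h : Lie.IsoRee K) : KA K := by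
  obtain ⟨F, _, _, m, hm, hF, ⟨φ⟩⟩ := h
  obtain ⟨T⟩ := H8.Ree.nonempty_tctx hF
  refine KA.of_equiv (φ.trans T.equiv) (KA.of_G3 (G3_of_add (V := F) (p := 3) (by norm_num)
    (by norm_num) (fun v => by simp [T.three]) ?_ (fun c => T.u 0 0 c)
    (fun a b => by simp [T.u_mul]) (fun v hv => (T.u_eq_one.1 hv).2.2) fun v => ⟨T.h (-1), ?_⟩) ?_)
  · rw [Nat.card_eq_fintype_card, hF]
    exact Nat.pow_lt_pow_right (by norm_num) (by omega)
  · simp [T.h_conj_u, T.u_inv]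
  · exact three_dvd_card (x := T.u 0 0 1) (by simp [T.u_cube, T.u_zero]) (T.u_ne_one (by simp))

end H16.QT
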