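import Mathlib
import Cfsg.Agent.H22.QTLie0
import Cfsg.Agent.H20.BT

/-! The general torus argument for the piece TOR of the quasithin project. -/

set_option autoImplicit false
set_option linter.all false

namespace H22.QT

open H20 H16.QT Subgroup

section Gen

variable {G : Type*} [Group G]

theorem fix_of_norm [Finite G] {a : MulAut G} (ha : (orderOf a).Coprime (Nat.card G))
    {R : Subgroup G} (hR : ∀ r ∈ R, a r = r) {g : G} (hg : ∀ r ∈ R, g * r * g⁻¹ ∈ R)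
    (hc : ∀ c, (∀ r ∈ R, Commute c r) → a c = c) : a g = g := by
  have h1 : a (g⁻¹ * a g) = g⁻¹ * a g := hc _ fun r hr => by
    have := hR _ (hg r hr)
    rw [map_mul, map_mul, map_inv, hR r hr] at this
    calc g⁻¹ * a g * r = g⁻¹ * (a g * r * (a g)⁻¹) * a g := by group
      _ = _ := by rw [this]; group
  have h2 : ∀ n : ℕ, (a ^ n) g = g * (g⁻¹ * a g) ^ n := by
    intro n
    induction n with
    | zero => simp
    | succ n ih =>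
      rw [pow_succ', MulAut.mul_apply, ih, map_mul, map_pow, h1, pow_succ', ← mul_assoc,
        mul_inv_cancel_left]
  have h3 := h2 (orderOf a)
  rw [pow_orderOf_eq_one, MulAut.one_apply, left_eq_mul] at h3
  have h4 := pow_gcd_eq_one.2 ⟨h3, pow_card_eq_one' (x := g⁻¹ * a g)⟩
  rw [ha.gcd_eq_one, pow_one, inv_mul_eq_one] at h4
  exact h4.symm

theorem le_sylow {p : ℕ} [Fact p.Prime] (S : Sylow p G) {Q : Subgroup G} (hQ : IsPGroup p Q)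
    (h : ∀ s ∈ S, ∀ r ∈ Q, s * r * s⁻¹ ∈ Q) : Q ≤ S := by
  have h1 : (S : Subgroup G) ≤ normalizer (Q : Set G) := fun s hs =>
    mem_normalizer_iff.2 fun r => ⟨h s hs r, fun hr => by
      simpa [mul_assoc] using h _ (S.inv_mem hs) _ hr⟩
  have := S.is_maximal' (IsPGroup.to_sup_of_normal_right' S.isPGroup' hQ h1) le_sup_left
  exact this ▸ le_sup_right

/-- the conclusion of the theorem of Borel and Tits -/
def BT (p : ℕ) (G : Type*) [Group G] : Prop :=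
  ∀ P : Subgroup G, IsPGroup p P → P ≠ ⊥ → ∃ Q : Subgroup G, IsPGroup p Q ∧ P ≤ Q ∧
    (∀ c, (∀ y ∈ P, c⁻¹ * y * c ∈ P) → ∀ r ∈ Q, c * r * c⁻¹ ∈ Q) ∧
    ∀ y, (orderOf y).Coprime p → (∀ r ∈ Q, Commute y r) → y = 1

theorem BT.fix [Finite G] {p : ℕ} [Fact p.Prime] (h : BT p G) (S : Sylow p G) {a : MulAut G}
    (ha : (orderOf a).Coprime (Nat.card G)) (hS : ∀ s ∈ S, a s = s) {P : Subgroup G}
    (hP : P ≤ S) (h1 : P ≠ ⊥) (hn : ∀ s ∈ S, ∀ y ∈ P, s⁻¹ * y * s ∈ P) {g : G}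
    (hg : ∀ y ∈ P, g⁻¹ * y * g ∈ P) : a g = g := by
  have hp : p.Prime := Fact.out
  obtain ⟨Q, h2, -, h3, h4⟩ := h P (S.isPGroup'.to_le hP) h1
  have h5 : ∀ s ∈ S, ∀ r ∈ Q, s * r * s⁻¹ ∈ Q := fun s hs => h3 s (hn s hs)
  have h6 : centralizer (Q : Set G) ≤ S := by
    refine le_sylow S (fun c => ?_) fun s hs c hc r hr => ?_
    · refine ⟨(orderOf (c : G)).factorization p, Subtype.ext ?_⟩
      refine h4 _ ?_ fun r hr => Commute.pow_left (c.2 r hr).symm _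
      rw [coe_pow, orderOf_pow' _ (pow_ne_zero _ hp.ne_zero),
        Nat.gcd_eq_right (Nat.ordProj_dvd _ _)]
      exact (Nat.coprime_ordCompl hp (orderOf_pos _).ne').symm
    · have := hc _ (h5 _ (S.inv_mem hs) r hr)
      calc r * (s * c * s⁻¹) = s * (s⁻¹ * r * s⁻¹⁻¹ * c) * s⁻¹ := by group
        _ = _ := by rw [this]; group
  exact fix_of_norm ha (fun r hr => hS r (le_sylow S h2 h5 hr)) (h3 g hg)
    fun c hc => hS c (h6 fun r hr => (hc r hr).eq.symm)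

theorem sqs_mono {P Q : Subgroup G} (h : P ≤ Q) : sqs P ≤ sqs Q :=
  closure_mono fun _ ⟨s, hs, e⟩ => ⟨s, h hs, e⟩

theorem sq_mem_sqs {P : Subgroup G} {s : G} (h : s ∈ P) : s * s ∈ sqs P :=
  subset_closure ⟨s, h, (pow_two s).symm⟩

theorem conj_sqs {P Q : Subgroup G} {n : G} (h : ∀ s ∈ P, n * s * n⁻¹ ∈ Q) {y : G}
    (hy : y ∈ sqs P) : n * y * n⁻¹ ∈ sqs Q := by
  have h1 := mem_map_of_mem (MulAut.conj n).toMonoidHom hy
  rw [map_sqs] at h1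
  refine sqs_mono ?_ h1
  rintro _ ⟨s, hs, rfl⟩
  exact h s hs

/-- the condition on a generator in `TOR0` -/
def Gd (S H : Subgroup G) (x : G) : Prop :=
  x ∈ S ∧ ∃ h ∈ H, Commute h x ∧ ∀ y ∈ S, Commute h y →
    y ∈ sqs S ∨ ∃ k ∈ H, y⁻¹ * (k * x * k⁻¹) ∈ sqs S

theorem TOR0_sub {Γ S H : Subgroup G} (hS : S ≤ Γ) (hH : H ≤ Γ)
    (h1 : ∀ k ∈ H, ∀ s ∈ S, k * s * k⁻¹ ∈ S) (h2 : ∀ a ∈ H, ∀ b ∈ H, a * b = b * a)
    (h3 : Odd (Nat.card H)) (h4 : S ≤ closure {x | Gd S H x})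
    (h5 : ∀ a : MulAut Γ, (orderOf a).Coprime (Nat.card Γ) → (∀ s ∈ S.subgroupOf Γ, a s = s) →
      a = 1) : TOR0 (S.subgroupOf Γ) := by
  have hm : (S.subgroupOf Γ).map Γ.subtype = S := by
    rw [subgroupOf_map_subtype, inf_eq_left.2 hS]
  have hq : ∀ y : Γ, (y : G) ∈ sqs S → y ∈ sqs (S.subgroupOf Γ) := fun y hy => by
    rw [← hm, ← map_sqs] at hy
    exact (mem_map_iff_mem Γ.subtype_injective).1 hy
  refine ⟨⟨H.subgroupOf Γ, {x | Gd S H x}, fun k hk => ?_, ⟨⟨fun a b => ?_⟩⟩, ?_, ?_, ?_⟩, h5⟩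
  · exact mem_normalizer_iff.2 fun r => ⟨h1 k hk r, fun hr => by
      simpa [mul_assoc, mem_subgroupOf] using h1 _ (H.inv_mem hk) _ hr⟩
  · exact Subtype.ext (Subtype.ext (h2 _ a.2 _ b.2))
  · rwa [Nat.card_congr (subgroupOfEquivOfLe hH).toEquiv]
  · apply map_injective Γ.subtype_injective
    rw [hm, MonoidHom.map_closure]
    refine le_antisymm ((closure_le _).2 ?_) (h4.trans (closure_mono fun x hx => ?_))
    · rintro _ ⟨x, hx, rfl⟩; exact hx.1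
    · exact ⟨⟨x, hS hx.1⟩, hx, rfl⟩
  · rintro x ⟨-, h, hh, hc, h6⟩
    refine ⟨⟨h, hH hh⟩, hh, Subtype.ext hc.eq, fun y hy hc' => ?_⟩
    rcases h6 y hy (hc'.map Γ.subtype) with h7 | ⟨k, hk, h7⟩
    · exact Or.inl (hq y h7)
    · exact Or.inr ⟨⟨k, hH hk⟩, hk, hq _ h7⟩

/-- `H` is transitive on the non-trivial elements of `P / Φ(P)` -/
def HB (P H : Subgroup G) : Prop :=
  ∀ x ∈ P, ∀ y ∈ P, x ∈ sqs P ∨ y ∈ sqs P ∨ ∃ k ∈ H, y⁻¹ * (k * x * k⁻¹) ∈ sqs P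

theorem HB.map {G' : Type*} [Group G'] {P H : Subgroup G} (h : HB P H) (f : G →* G') :
    HB (P.map f) (H.map f) := by
  rintro _ ⟨x, hx, rfl⟩ _ ⟨y, hy, rfl⟩
  rw [← map_sqs]
  rcases h x hx y hy with h1 | h1 | ⟨k, hk, h1⟩
  · exact Or.inl (mem_map_of_mem f h1)
  · exact Or.inr (Or.inl (mem_map_of_mem f h1))
  · exact Or.inr (Or.inr ⟨f k, mem_map_of_mem f hk, by simpa using mem_map_of_mem f h1⟩)

theorem HB.le_closure {P H : Subgroup G} (h : HB P H) :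
    P ≤ closure {x | x ∈ P ∧ ∀ y ∈ P, y ∈ sqs P ∨ ∃ k ∈ H, y⁻¹ * (k * x * k⁻¹) ∈ sqs P} := by
  have key : ∀ x ∈ P, x ∉ sqs P → x ∈
      closure {x | x ∈ P ∧ ∀ y ∈ P, y ∈ sqs P ∨ ∃ k ∈ H, y⁻¹ * (k * x * k⁻¹) ∈ sqs P} :=
    fun x hx h1 => subset_closure ⟨hx, fun y hy => (h x hx y hy).resolve_left h1⟩
  intro x hx
  by_cases h1 : ∀ y ∈ P, y ∈ sqs P
  · exact subset_closure ⟨hx, fun y hy => Or.inl (h1 y hy)⟩
  push Not at h1
  obtain ⟨y, hy, h1⟩ := h1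
  by_cases h2 : x ∈ sqs P
  · have := mul_mem (key _ (mul_mem hx hy) fun h3 => h1 ((mul_mem_cancel_left h2).1 h3))
      (inv_mem (key y hy h1))
    simpa using this
  · exact key x hx h2

end Gen

variable {ι Λ : Type} [LinearOrder ι] [Fintype Λ] [DecidableEq Λ] [Fintype ι] {R : RS ι Λ}
  {K : Type*} [Field K] {G : Type*} [Group G] {X : RG R K G}

theorem mem_XS_of_commute {c : Λ → Kˣ} {u : G} (hu : u ∈ X.U) (h : Commute (X.hmap c) u) :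
    u ∈ X.XS {r | R.Pos r ∧ R.chi r c = 1} := by
  obtain ⟨t, rfl⟩ := X.exists_P R.closed_pos (fun _ h => h) WRG.nodup_posList
    (fun r => WRG.mem_posList) hu
  have h1 := (X.actsBy_hmap c).conj_P (WRG.posList R) t
  rw [h.eq, mul_inv_cancel_right] at h1
  simp only [Equiv.Perm.coe_one, List.map_id_fun, id_eq, inv_one] at h1
  have h2 := X.P_injective X.nd1 R.closed_pos (fun _ h => h) WRG.nodup_posList
    (fun r => WRG.mem_posList.1) h1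
  refine X.P_mem_of fun r hr => ?_
  rcases mul_left_eq_self₀.1 (h2 r hr).symm with h3 | h3
  · exact Or.inl ⟨WRG.mem_posList.1 hr, Units.ext h3⟩
  · exact Or.inr h3

theorem commute_of_mem_XS {c : Λ → Kˣ} {A : Set ι} (hA : ∀ r ∈ A, R.chi r c = 1) {u : G}
    (hu : u ∈ X.XS A) : Commute (X.hmap c) u :=
  X.XS_induction (Commute.one_right _)
    (fun r hr t _ _ ih => Commute.mul_right (X.hmap_commute_x (hA r hr) t) ih) u hu

theorem chi_conj {n : G} {w : Equiv.Perm ι} (hn : X.Acts n w) {c c' : Λ → Kˣ}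
    (h : X.hmap c' = n * X.hmap c * n⁻¹) (r : ι) : R.chi (w r) c' = R.chi r c := by
  obtain ⟨t, ht, h3⟩ := hn.conj_x r
  have h4 := (X.actsBy_hmap c).conj r 1
  have h5 := (X.actsBy_hmap c').conj (w r) (t * 1)
  simp only [Equiv.Perm.coe_one, id_eq] at h4 h5
  have h6 : X.hmap c' * X.x (w r) (t * 1) * (X.hmap c')⁻¹ = X.x (w r) (t * (R.chi r c * 1)) := by
    rw [← h3, ← h3, ← h4, h]; group
  have h7 := X.x_injective _ (h5.symm.trans h6)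
  rw [mul_one, mul_one, mul_comm t] at h7
  exact Units.ext (mul_right_cancel₀ ht h7)

theorem chi_Phi {J : Set Λ} {c : Λ → Kˣ} (h : ∀ j ∈ J, R.chi (R.sim j) c = 1) {r : ι}
    (hr : r ∈ R.Phi J) : R.chi r c = 1 := by
  rw [RS.chi_eq_prod]
  refine Finset.prod_eq_one fun j _ => ?_
  by_cases hj : j ∈ J
  · simp [h j hj]
  · simp [hr j hj]

variable {Γ : Subgroup G} {I : Type} (T : Tw X Γ I)

/-- an element of the torus whose centralizer in the root system is `Φ_J` -/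
def HA (X : RG R K G) (Γ : Subgroup G) (J : Set Λ) : Prop :=
  ∃ c, X.hmap c ∈ Γ ∧ (∀ j ∈ J, R.chi (R.sim j) c = 1) ∧ ∀ r, R.Pos r → r ∉ R.Phi J → R.chi r c ≠ 1

theorem gd_conj {J : Set Λ} (ha : HA X Γ J) {n : G} (hΓ : n ∈ Γ) (hn : n ∈ X.N) {w : Equiv.Perm ι}
    (hw : X.Acts n w) (hp : ∀ r, R.Pos r → r ∈ R.Phi J → R.Pos (w r)) {x : G}
    (hx : x ∈ X.XS {r | R.Pos r ∧ r ∈ R.Phi J} ⊓ Γ)
    (h : ∀ y ∈ X.XS {r | R.Pos r ∧ r ∈ R.Phi J} ⊓ Γ,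
      y ∈ sqs (X.XS {r | R.Pos r ∧ r ∈ R.Phi J} ⊓ Γ) ∨
      ∃ k ∈ X.H ⊓ Γ, y⁻¹ * (k * x * k⁻¹) ∈ sqs (X.XS {r | R.Pos r ∧ r ∈ R.Phi J} ⊓ Γ)) :
    Gd (X.U ⊓ Γ) (X.H ⊓ Γ) (n * x * n⁻¹) := by
  obtain ⟨c, hc, h1, h2⟩ := ha
  have hΓ' : ∀ g ∈ Γ, n * g * n⁻¹ ∈ Γ := fun g hg => Γ.mul_mem (Γ.mul_mem hΓ hg) (Γ.inv_mem hΓ)
  have h3 : ∀ s ∈ X.XS {r | R.Pos r ∧ r ∈ R.Phi J} ⊓ Γ, n * s * n⁻¹ ∈ X.U ⊓ Γ := fun s hs =>
    ⟨hw.conj_mem (fun r hr => hp r hr.1 hr.2) hs.1, hΓ' s hs.2⟩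
  have h4 := X.N_conj_H hn (X.hmap_mem_H c)
  refine ⟨h3 x hx, n * X.hmap c * n⁻¹, ⟨h4, hΓ' _ hc⟩, ?_, fun y hy hy' => ?_⟩
  · exact (commute_of_mem_XS (fun r hr => chi_Phi h1 hr.2) hx.1).map (MulAut.conj n)
  obtain ⟨c', hc'⟩ := X.mem_H_iff.1 h4
  have h5 : n⁻¹ * y * n ∈ X.XS {r | R.Pos r ∧ r ∈ R.Phi J} ⊓ Γ := by
    refine ⟨hw.conj_mem' (fun r hr => ?_) (mem_XS_of_commute hy.1 (hc' ▸ hy')),
      Γ.mul_mem (Γ.mul_mem (Γ.inv_mem hΓ) hy.2) hΓ⟩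
    obtain ⟨r, rfl⟩ := w.surjective r
    have h6 : R.chi r c = 1 := (chi_conj hw hc' r).symm.trans hr.2
    have h7 : r ∈ R.Phi J := by
      by_contra h7
      by_cases h8 : R.Pos r
      · exact h2 r h8 h7 h6
      · exact h2 _ (R.pos_neg_iff.2 h8) (mt RS.neg_mem_Phi.1 h7) (by rw [RS.chi_neg, h6, inv_one])
    simp only [Equiv.Perm.coe_inv, Equiv.symm_apply_apply]
    refine ⟨?_, h7⟩
    by_contra h8
    have := hp _ (R.pos_neg_iff.2 h8) (RS.neg_mem_Phi.2 h7)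
    rw [RS.W_neg hw.mem, RS.pos_neg_iff] at this
    exact this hr.1
  rcases h _ h5 with h6 | ⟨k, hk, h6⟩
  · left
    simpa [mul_assoc] using conj_sqs h3 h6
  · refine Or.inr ⟨n * k * n⁻¹, ⟨X.N_conj_H hn hk.1, hΓ' k hk.2⟩, ?_⟩
    convert conj_sqs h3 h6 using 1
    group

theorem U_le_closure (ha : ∀ i, HA X Γ (T.J i))
    (hb : ∀ i, HB (X.XS {r | R.Pos r ∧ r ∈ R.Phi (T.J i)} ⊓ Γ) (X.H ⊓ Γ)) :
    X.U ⊓ Γ ≤ closure {x | Gd (X.U ⊓ Γ) (X.H ⊓ Γ) x} := by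
  have key := T.W1_induction T.sat_univ (P := fun w => ∀ m ∈ Γ, m ∈ X.N → ∀ v, X.Acts m v →
      (∀ r ∈ R.inv w, R.Pos (v r)) → ∀ u ∈ X.XS (R.inv w) ⊓ Γ,
      m * u * m⁻¹ ∈ closure {x | Gd (X.U ⊓ Γ) (X.H ⊓ Γ) x}) (by
      intro m _ _ v _ _ u hu
      rw [RS.inv_one, Finset.coe_empty, WRG.XS_empty, bot_inf_eq, mem_bot] at hu
      simp [hu]) (by
      intro i _ w hw _ hp ih m hm hN v hv hpos u hu
      have h0 := RS.len_mul_of_simple_pos (T.W1_le_W hw) hp (R.w0_mem (T.J i))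
      obtain ⟨a, ha', b, hb', rfl⟩ := Tw.exists_mul_of_len_add (T.W1_le_W hw) (T.nJ_mem i)
        (T.nJ_N i) (T.nJ_acts i) h0 hu T
      have h1 := RS.mem_inv_mul (T.W1_le_W hw) (R.w0_mem_W (T.J i)) h0
      have h2 := ih (m * (T.nJ i)⁻¹) (Γ.mul_mem hm (Γ.inv_mem (T.nJ_mem i)))
        (mul_mem hN (inv_mem (T.nJ_N i))) _ (hv.mul (T.nJ_acts i).inv)
        (fun r hr => hpos _ ((h1 _).2 (Or.inr (by simpa using hr)))) a ha'
      rw [RS.inv_w0] at hb'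
      have h3 : m * b * m⁻¹ ∈ closure {x | Gd (X.U ⊓ Γ) (X.H ⊓ Γ) x} := by
        have h4 := mem_map_of_mem (MulAut.conj m).toMonoidHom ((hb i).le_closure hb')
        rw [MonoidHom.map_closure] at h4
        refine closure_mono ?_ h4
        rintro _ ⟨x, hx, rfl⟩
        exact gd_conj (ha i) hm hN hv
          (fun r h5 h6 => hpos r ((h1 r).2 (Or.inl (RS.mem_inv_w0.2 ⟨h5, h6⟩)))) hx.1 hx.2
      convert mul_mem h2 h3 using 1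
      group) _ (T.w0_mem_W1 T.sat_univ) (R.w0_mem _) 1 (one_mem _) (one_mem _) 1 WRG.acts_one
    (fun r hr => (RS.mem_inv.1 hr).1)
  rw [RS.inv_w0_univ] at key
  intro u hu
  simpa using key u hu

theorem tor0 [Finite G] [Finite K] [CharP K 2] {μ : Λ → ℝ} (h : T.Rel μ)
    (conn : ∀ i j, i ≠ j → ∃ r, 0 < R.rt r i ∧ R.ca j r = -1)
    (adj : ∀ c : Λ → Kˣ, (∀ s, R.chi s c = 1) → X.hmap c = 1)
    (hd : ∀ i, ∃ i', ∀ j ∈ T.J i', j ∉ T.J i) (ha : ∀ i, HA X Γ (T.J i))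
    (hb : ∀ i, HB (X.XS {r | R.Pos r ∧ r ∈ R.Phi (T.J i)} ⊓ Γ) (X.H ⊓ Γ)) [Nonempty I] :
    ∃ S : Sylow 2 Γ, TOR0 (S : Subgroup Γ) := by
  have hP : IsPGroup 2 ((X.U ⊓ Γ).subgroupOf Γ) := (X.isPGroup_U.to_le inf_le_left).comap_subtype
  refine ⟨hP.toSylow T.not_dvd_index_U, TOR0_sub inf_le_right inf_le_right
    (fun k hk s hs => ⟨X.H_conj_mem hk.1 hs.1, Γ.mul_mem (Γ.mul_mem hk.2 hs.2) (Γ.inv_mem hk.2)⟩)
    (fun a ha b hb => X.H_comm ha.1 hb.1) ?_ (U_le_closure T ha hb) fun a ho hS => ?_⟩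
  · exact Nat.coprime_two_right.1 (X.coprime_card_H.coprime_dvd_left (card_dvd_of_le inf_le_left))
  have bt : BT 2 Γ := fun P h1 h2 => h.borel_tits conn adj h1 h2
  have fix := fun P h1 h2 h3 g h4 => bt.fix (hP.toSylow T.not_dvd_index_U) ho hS (P := P) h1 h2 h3
    (g := g) h4
  have hne : ∀ i', ∀ A : Set ι, (∀ r, R.Pos r → r ∈ R.Phi (T.J i') → r ∈ A) →
      (X.XS A ⊓ Γ).subgroupOf Γ ≠ ⊥ := by
    intro i' A hA e
    obtain ⟨j, hj⟩ := T.J_nonempty i'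
    obtain ⟨u, h1, h2, h3⟩ := T.coord i' j hj
    have : (⟨u, h1⟩ : Γ) ∈ (X.XS A ⊓ Γ).subgroupOf Γ := ⟨X.XS_mono (fun r hr => hA r hr.1 hr.2) h2, h1⟩
    rw [e, mem_bot, Subtype.ext_iff] at this
    exact h3 ((show u = 1 from this) ▸ one_mem _)
  let M : Subgroup G := (a.toMonoidHom.eqLocus (MonoidHom.id Γ)).map Γ.subtype
  have hM : ∀ g (hg : g ∈ Γ), a ⟨g, hg⟩ = ⟨g, hg⟩ → g ∈ M := fun g hg e => ⟨⟨g, hg⟩, e, rfl⟩
  have hU : ∀ g ∈ X.U ⊓ Γ, g ∈ M := fun g hg => hM g hg.2 (hS _ hg)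
  have hH : ∀ g ∈ X.H ⊓ Γ, g ∈ M := fun g hg => hM g hg.2 (fix _ le_rfl
    (hne (Classical.arbitrary I) _ fun r h _ => h)
    (fun s hs y hy => mul_mem (mul_mem (inv_mem hs) hy) hs) _
    fun y hy => Tw.mem_sub.2 (X.H_conj_mem' hg.1 hy.1))
  have hN : ∀ i, T.nJ i ∈ M := fun i => by
    obtain ⟨i', hi'⟩ := hd i
    refine hM _ (T.nJ_mem i) (fix ((X.XS {r | R.Pos r ∧ r ∉ R.Phi (T.J i)} ⊓ Γ).subgroupOf Γ)
      (fun y hy => Tw.mem_sub.2 (X.XS_mono (fun r hr => hr.1) hy.1))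
      (hne i' _ fun r h1 h2 => ⟨h1, fun h3 => R.rt_ne_zero r (funext fun j => ?_)⟩)
      (fun s hs y hy => Tw.mem_sub.2 ?_) _ fun y hy => Tw.mem_sub.2 ?_)
    · by_cases hj : j ∈ T.J i'
      · exact h3 j (hi' j hj)
      · exact h2 j hj
    · have := X.conj_mem_XS (S := {r | R.Pos r}) (T := {r | R.Pos r ∧ r ∉ R.Phi (T.J i)})
        (fun r hr s hs => R.ne_neg_of_pos hr hs.1) (fun r hr s hs k hk => by
          by_cases h1 : r ∈ R.Phi (T.J i)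
          · exact hk.pos_not_Phi h1 hs.1 hs.2
          · exact RS.closed_pos_not_Phi _ r ⟨hr, h1⟩ s hs k hk) (inv_mem hs.1) hy.1
      simpa using this
    · refine (T.nJ_acts i).conj_mem' (fun r hr => ?_) hy.1
      rw [RS.w0_inv]
      exact ⟨(RS.WJ_pos_of_not_mem (R.w0_mem _) hr.2).2 hr.1,
        mt (RS.WJ_mem_Phi subset_rfl (R.w0_mem _)).1 hr.2⟩
  ext g
  obtain ⟨w, b, hb, n, hn, b', hb', -, e⟩ := T.exists_bruhat g.2
  obtain ⟨m, h1, h2, -, h3⟩ := T.exists_nJ_word hn.2 hn.1 hN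
  have h4 : n ∈ M := by
    simpa using mul_mem h1 (hH _ ⟨h3, Γ.mul_mem (Γ.inv_mem h2) hn.2⟩)
  have h5 : (g : G) ∈ M :=
    e ▸ mul_mem (mul_mem (hU b hb) h4) (hU b' ⟨SRG.XS_inv_le_U w hb'.1, hb'.2⟩)
  obtain ⟨g', h6, h7⟩ := h5
  obtain rfl : g' = g := Subtype.ext h7
  exact congrArg Subtype.val h6

theorem HA.map {G' : Type*} [Group G'] {Y : RG R K G'} {θ : G →* G'}
    (hθ : ∀ r t, θ (X.x r t) = Y.x r t) {J : Set Λ} (h : HA X Γ J) : HA Y (Γ.map θ) J := by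
  obtain ⟨c, h1, h2⟩ := h
  exact ⟨c, ⟨_, h1, RG.map_hmap hθ c⟩, h2⟩

end H22.QT
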