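import Mathlib
import Cfsg.Agent.H22.QTTor0
import Cfsg.Agent.H22.QTEx3
import Cfsg.Agent.H20.BTApp
import Cfsg.Agent.H19.SL2
import Cfsg.Agent.S1059

/-! Piece TOR of the quasithin project: tools and the groups `G₂(2 ^ n)`. -/

set_option autoImplicit false
set_option linter.all false
set_option maxRecDepth 100000
set_option backward.isDefEq.respectTransparency false

namespace H22.QT

open H20 H16.QT Subgroup Cfsg.Lie

section

variable {ι Λ : Type} [LinearOrder ι] [Fintype Λ] [DecidableEq Λ] [Fintype ι] {R : RS ι Λ}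
  {K : Type*} [Field K] {G : Type*} [Group G] (X : RG R K G)

/-- the rank one groups commute -/
def Or1 (r s : ι) : Prop := ∀ a ∈ [r, R.neg r], ∀ b ∈ [s, R.neg s], Commute (X.x a 1) (X.x b 1)

theorem commute_P {g : G} {L : List ι} (h : ∀ s ∈ L, Commute g (X.x s 1)) :
    Commute g (X.P L fun _ => 1) := by
  refine Commute.list_prod_right _ _ fun a ha => ?_
  obtain ⟨s, hs, rfl⟩ := List.mem_map.1 ha
  exact h s hs

theorem P3 (h2 : (2 : K) = 0) {L : List ι} (h : L.Pairwise (Or1 X)) :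
    X.P L (fun _ => 1) * X.P L (fun _ => 1) = 1 ∧
      X.P (L.map R.neg) (fun _ => 1) * X.P (L.map R.neg) (fun _ => 1) = 1 ∧
      (X.P L (fun _ => 1) * X.P (L.map R.neg) fun _ => 1) ^ 3 = 1 := by
  induction L with
  | nil => simp
  | cons r L ih =>
    rw [List.pairwise_cons] at h
    obtain ⟨h1, h3, h4⟩ := ih h.2
    have c1 : ∀ a ∈ [r, R.neg r], Commute (X.x a 1) (X.P L fun _ => 1) := fun a ha =>
      commute_P X fun s hs => h.1 s hs a ha s (by simp)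
    have c2 : ∀ a ∈ [r, R.neg r], Commute (X.x a 1) (X.P (L.map R.neg) fun _ => 1) := fun a ha =>
      commute_P X fun s hs => by
        obtain ⟨k, hk, rfl⟩ := List.mem_map.1 hs
        exact h.1 k hk a ha _ (by simp)
    have d1 := c1 r (by simp)
    have d2 := c1 (R.neg r) (by simp)
    have d3 := c2 r (by simp)
    have d4 := c2 (R.neg r) (by simp)
    simp only [List.map_cons, WRG.P_cons]
    refine ⟨?_, ?_, ?_⟩
    · rw [d1.symm.mul_mul_mul_comm, h1, x_sq X h2, mul_one]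
    · rw [d4.symm.mul_mul_mul_comm, h3, x_sq X h2, mul_one]
    · rw [d2.symm.mul_mul_mul_comm, ((d1.mul_right d3).mul_left (d2.mul_right d4)).mul_pow, h4,
        ab_three X h2, mul_one]

theorem P_ne {L : List ι} (hL : L.Nodup) (hp : ∀ r ∈ L, R.Pos r) (h0 : L ≠ []) :
    X.P L (fun _ => 1) ≠ X.P (L.map R.neg) fun _ => 1 := by
  refine ne_of_U_V X (X.P_mem hp _) (X.P_mem (fun r hr => ?_) _) fun e => ?_
  · obtain ⟨s, hs, rfl⟩ := List.mem_map.1 hr
    simpa [R.pos_neg_iff] using hp s hs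
  · obtain ⟨r, hr⟩ := List.exists_mem_of_ne_nil L h0
    exact one_ne_zero (X.P_injective X.nd1 R.closed_pos (fun _ h => h) hL hp
      (e.trans (X.P_zero L).symm) r hr)

theorem NC3_P (h2 : (2 : K) = 0) {Γ : Subgroup G} {L M : List ι} (h : (L ++ M).Pairwise (Or1 X))
    (hn : (L ++ M).Nodup) (hp : ∀ r ∈ L ++ M, R.Pos r) (hL : L ≠ []) (hM : M ≠ [])
    (m1 : X.P L (fun _ => 1) ∈ Γ) (m2 : X.P (L.map R.neg) (fun _ => 1) ∈ Γ)
    (m3 : X.P M (fun _ => 1) ∈ Γ) (m4 : X.P (M.map R.neg) (fun _ => 1) ∈ Γ) : NC 3 Γ := by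
  rw [List.pairwise_append] at h
  obtain ⟨h1, h3, h4⟩ := h
  have c : ∀ L' M' : List ι, (∀ a ∈ L', ∃ r ∈ L, a ∈ [r, R.neg r]) →
      (∀ a ∈ M', ∃ r ∈ M, a ∈ [r, R.neg r]) →
      Commute (X.P L' fun _ => 1) (X.P M' fun _ => 1) := fun L' M' hL' hM' =>
    commute_P X fun b hb => (commute_P X fun a ha => by
      obtain ⟨r, hr, h5⟩ := hL' a ha
      obtain ⟨s, hs, h6⟩ := hM' b hb
      exact (h4 r hr s hs a h5 b h6).symm).symm
  have p : ∀ L : List ι, ∀ a ∈ L, ∃ r ∈ L, a ∈ [r, R.neg r] := fun L a ha => ⟨a, ha, by simp⟩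
  have q : ∀ L : List ι, ∀ a ∈ L.map R.neg, ∃ r ∈ L, a ∈ [r, R.neg r] := fun L a ha => by
    obtain ⟨s, hs, rfl⟩ := List.mem_map.1 ha
    exact ⟨s, hs, by simp⟩
  exact NC.of_dih (p := 3) (by norm_num) (by norm_num) (a := ⟨_, m1⟩) (b := ⟨_, m2⟩) (c := ⟨_, m3⟩)
    (d := ⟨_, m4⟩) (Subtype.ext (P3 X h2 h1).1) (Subtype.ext (P3 X h2 h1).2.1)
    (Subtype.ext (P3 X h2 h1).2.2) (Subtype.ext (P3 X h2 h3).2.2)
    (Subtype.coe_ne_coe.1 (P_ne X hn.of_append_left (fun r hr => hp r (by simp [hr])) hL))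
    (Subtype.coe_ne_coe.1 (P_ne X hn.of_append_right (fun r hr => hp r (by simp [hr])) hM))
    (Subtype.ext (P3 X h2 h3).2.1) (Subtype.ext (c _ _ (p L) (p M)).eq)
    (Subtype.ext (c _ _ (p L) (q M)).eq) (Subtype.ext (c _ _ (q L) (p M)).eq)
    (Subtype.ext (c _ _ (q L) (q M)).eq)

theorem ab_five (h2 : (2 : K) = 0) {ω : K} (hω : ω ^ 2 = ω + 1) (r : ι) :
    (X.x r 1 * X.x (R.neg r) ω) ^ 5 = 1 := by
  have h : X.η r r = -1 := by
    rcases mul_self_eq_one_iff.1 (X.η_sq r r) with h | h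
    · rw [h, neg_eq h2]
    · exact h
  rw [← H19.sl2Hom_U X.toSRG r h, ← H19.sl2Hom_L X.toSRG r h, ← map_mul, ← map_pow]
  refine (congrArg _ ?_).trans (map_one _)
  apply Subtype.ext
  simp only [pow_succ, pow_zero, one_mul, H19.sl_mul, H19.coe_slL, H19.coe_slU, H19.sl_one]
  ext i j
  fin_cases i <;> fin_cases j <;> simp <;> grind

theorem HB.of_trans {P H : Subgroup G}
    (h : ∀ x ∈ P, ∀ y ∈ P, x ≠ 1 → y ≠ 1 → ∃ k ∈ H, k * x * k⁻¹ = y) : HB P H := by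
  intro x hx y hy
  by_cases h1 : x = 1
  · exact Or.inl (h1 ▸ one_mem _)
  by_cases h2 : y = 1
  · exact Or.inr (Or.inl (h2 ▸ one_mem _))
  obtain ⟨k, hk, e⟩ := h x hx y hy h1 h2
  exact Or.inr (Or.inr ⟨k, hk, by simp [e]⟩)

theorem exists_sq_mul [Finite K] (h2 : (2 : K) = 0) {t u : K} (ht : t ≠ 0) (hu : u ≠ 0) :
    ∃ s : Kˣ, (s : K) ^ 2 * t = u := by
  haveI : CharP K 2 := (CharP.charP_iff_prime_eq_zero Nat.prime_two).2 h2
  obtain ⟨s, hs⟩ := Finite.surjective_of_injective (frobenius K 2).injective (u / t)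
  rw [frobenius_def] at hs
  have h0 : s ≠ 0 := by
    rintro rfl
    exact div_ne_zero hu ht (by simpa using hs.symm)
  exact ⟨Units.mk0 s h0, by rw [Units.val_mk0, hs, div_mul_cancel₀ _ ht]⟩

theorem sq_eq_one (h2 : (2 : K) = 0) {e : Kˣ} (h : e ^ 2 = 1) : e = 1 := by
  have h1 : (e : K) ^ 2 = 1 := by rw [← Units.val_pow_eq_pow_val, h, Units.val_one]
  refine Units.ext ?_
  rcases sq_eq_one_iff.1 h1 with h3 | h3
  · exact h3
  · rw [h3, neg_eq h2, Units.val_one]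

theorem zpow_eq_one (h2 : (2 : K) = 0) {e : Kˣ} {n : ℤ} (hn : n ∣ 8) (h : e ^ n = 1) : e = 1 := by
  obtain ⟨k, hk⟩ := hn
  have : e ^ (8 : ℤ) = 1 := by rw [hk, zpow_mul, h, one_zpow]
  refine sq_eq_one h2 (sq_eq_one h2 (sq_eq_one h2 ?_))
  rw [← pow_mul, ← pow_mul]
  exact_mod_cast this

/-- untwisted groups -/
theorem HB_tw [Finite K] (h2 : (2 : K) = 0) (i : Λ) :
    HB (X.XS {r | R.Pos r ∧ r ∈ R.Phi (X.tw.J i)} ⊓ X.grp) (X.H ⊓ X.grp) := by
  have : {r | R.Pos r ∧ r ∈ R.Phi (X.tw.J i)} = {R.sim i} := by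
    rw [← RS.inv_w0, show X.tw.J i = {i} from rfl, RS.w0_singleton, RS.inv_s, Finset.coe_singleton]
  rw [this]
  refine HB.of_trans fun x hx y hy h3 h4 => ?_
  obtain ⟨t, rfl⟩ := X.mem_XS_singleton.1 hx.1
  obtain ⟨u, rfl⟩ := X.mem_XS_singleton.1 hy.1
  obtain ⟨s, rfl⟩ := exists_sq_mul h2 (t := t) (u := u) (by rintro rfl; simp at h3)
    (by rintro rfl; simp at h4)
  refine ⟨X.h (R.sim i) s, ⟨X.h_mem_H _ s.ne_zero, X.H_le_grp (X.h_mem_H _ s.ne_zero)⟩, ?_⟩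
  rw [X.h_conj_x _ _ s.ne_zero, RS.A_self, zpow_ofNat]

end

theorem exists_pow_ne {K : Type*} [Field K] [Fintype K] {n : ℕ} (hn : 0 < n)
    (h : n + 1 < Fintype.card K) : ∃ a : Kˣ, a ^ n ≠ 1 := by
  by_contra! h0
  have h1 : Monoid.exponent Kˣ ∣ n := Monoid.exponent_dvd_of_forall_pow_eq_one h0
  rw [IsCyclic.exponent_eq_card, Nat.card_units, Nat.card_eq_fintype_card] at h1
  have := Nat.le_of_dvd hn h1
  omega

variable {D : ChevalleyDatum} {g : Good D} {F : Type*} [Field F] (M : MatRG g F)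

/-- pairwise strongly orthogonal positive roots in characteristic two -/
def ChkN (D : ChevalleyDatum) (L : List ℕ) : Prop :=
  L.Nodup ∧ (∀ r ∈ L, D.IsPosRoot r) ∧
    L.Pairwise fun r s => ∀ a ∈ [r, D.neg r], ∀ b ∈ [s, D.neg s], cB D 2 a b = true

instance (D : ChevalleyDatum) (L : List ℕ) : Decidable (ChkN D L) := by
  unfold ChkN; infer_instance

theorem NC3_mat (h2 : (2 : F) = 0) {Γ : Subgroup (GL D.Idx F)} (L L' : List (Fin D.nroots))
    (h : ChkN D ((L ++ L').map Fin.val)) (hL : L ≠ []) (hL' : L' ≠ [])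
    (m1 : M.X.P L (fun _ => 1) ∈ Γ) (m2 : M.X.P (L.map g.rs.neg) (fun _ => 1) ∈ Γ)
    (m3 : M.X.P L' (fun _ => 1) ∈ Γ) (m4 : M.X.P (L'.map g.rs.neg) (fun _ => 1) ∈ Γ) : NC 3 Γ :=
  NC3_P M.X h2 ((List.pairwise_map.1 h.2.2).imp fun h1 a ha b hb => commute_cB M (p := 2) h2
      (h1 _ (List.mem_map_of_mem (f := Fin.val) ha) _ (List.mem_map_of_mem (f := Fin.val) hb)) _ _)
    (h.1.of_map _) (fun r hr => (g.isPosRoot_iff r).1 (h.2.1 _ (List.mem_map_of_mem hr))) hL hL'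
    m1 m2 m3 m4

theorem two_of_even {F : Type*} [Field F] [Fintype F] (h : Even (Fintype.card F)) :
    (2 : F) = 0 := by
  rcases exists_char F with h2 | ⟨p, hp, hp2, hc⟩
  · exact h2
  obtain ⟨n, -, hn⟩ := FiniteField.card F p
  exact absurd (hn ▸ h) (Nat.not_even_iff_odd.2 (hp.odd_of_ne_two hp2).pow)

theorem chi_G2 (r : Fin chevG2.nroots) (e : Fˣ) (k : Fin 2 → ℤ) :
    goodG2.rs.chi r (fun i : Fin 2 => e ^ k i) = e ^ (k 0 * chevG2.cartan 0 r + k 1 * chevG2.cartan 1 r) := by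
  rw [RS.chi_apply]
  change ∏ i : Fin 2, (e ^ k i) ^ chevG2.cartan i r = _
  rw [Fin.prod_univ_two, ← zpow_mul, ← zpow_mul, ← zpow_add]
  rfl

theorem HA_G2 (h2 : (2 : F) = 0) {e : Fˣ} (he : e ^ 3 ≠ 1) (i : Fin 2) :
    HA (H19.matG2 F).X (H19.matG2 F).X.grp {i} := by
  have f1 : ∀ i : Fin 2, (i + 1 : ℤ) * chevG2.cartan 0 (chevG2.simple i) +
      (i + 2 : ℤ) * chevG2.cartan 1 (chevG2.simple i) = 0 := by decide +kernel
  have f2 : ∀ i : Fin 2, ∀ r : Fin chevG2.nroots, (∀ j : Fin 2, j ≠ i → (auxG2.row r).getD j 0 = 0) ∨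
      (i + 1 : ℤ) * chevG2.cartan 0 r + (i + 2 : ℤ) * chevG2.cartan 1 r ∣ 6 := by decide +kernel
  refine ⟨fun j : Fin 2 => e ^ (![(i + 1 : ℤ), i + 2] j), (H19.matG2 F).X.H_le_grp
    ((H19.matG2 F).X.hmap_mem_H _), ?_, fun r _ h1 h3 => ?_⟩
  · rintro _ rfl
    rw [chi_G2]
    exact (congrArg (e ^ ·) (f1 _)).trans (zpow_zero e)
  · obtain ⟨k, hk⟩ := (f2 i r).resolve_left h1
    rw [chi_G2] at h3
    refine he (sq_eq_one h2 ?_)
    rw [← pow_mul, ← zpow_natCast]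
    change e ^ (6 : ℤ) = 1
    rw [hk, zpow_mul]
    exact (congrArg (· ^ k) h3).trans (one_zpow k)

end H22.QT

namespace H16.QT

open Cfsg Cfsg.Lie H20 H19 H22.QT

theorem ka_G2_even (F : Type) [Field F] [Fintype F] (hF : Even (Fintype.card F))
    (h4 : 4 ≤ Fintype.card F) : KA (Lie.chevG2.group F) := by
  have h2 := two_of_even hF
  haveI : CharP F 2 := (CharP.charP_iff_prime_eq_zero Nat.prime_two).2 h2
  have h3 : NC 3 (chevG2.group F) := NC3_mat (matG2 F) h2 [⟨7, by decide⟩] [⟨11, by decide⟩]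
    (by decide +kernel) (by simp) (by simp) (by simpa using x_mem_group _ _ _)
    (by simpa using x_mem_group _ _ _) (by simpa using x_mem_group _ _ _)
    (by simpa using x_mem_group _ _ _)
  rcases h4.eq_or_lt with h4 | h4
  · have hc := Cfsg.Agent.S1059.result h4.symm
    refine KA.of_NUM ⟨hc ▸ N1.of_list [2, 3, 5, 7, 13] (by decide +kernel) (by simp; norm_num)
      (by decide +kernel), h3, NoSz.of_five ?_⟩
    obtain ⟨ω, hω⟩ := exists_pow_ne (K := F) one_pos (by omega)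
    have h5 : (ω : F) ^ 2 = ω + 1 := by
      have h6 : (ω : F) ^ 3 = 1 := by
        simpa [← h4] using FiniteField.pow_card_sub_one_eq_one (ω : F) ω.ne_zero
      have h7 : (ω : F) - 1 ≠ 0 := sub_ne_zero.2 fun e => hω (Units.ext (by simpa using e))
      apply mul_left_cancel₀ h7
      linear_combination h6 + (1 - ω ^ 2 : F) * h2
    have c : ∀ a ∈ [7, 4], ∀ b ∈ [11, 0], ∀ (ha : a < 12) (hb : b < 12) t u,
        Commute ((matG2 F).X.x ⟨a, ha⟩ t) ((matG2 F).X.x ⟨b, hb⟩ u) := fun a ha b hb _ _ t u =>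
      commute_cB _ (p := 2) h2 (by revert b; revert a; decide +kernel) t u
    exact NC.of_dih (p := 5) (by norm_num) (by norm_num)
      (a := ⟨_, x_mem_group (matG2 F) ⟨7, by decide⟩ 1⟩)
      (b := ⟨_, x_mem_group (matG2 F) ⟨4, by decide⟩ ω⟩)
      (c := ⟨_, x_mem_group (matG2 F) ⟨11, by decide⟩ 1⟩)
      (d := ⟨_, x_mem_group (matG2 F) ⟨0, by decide⟩ ω⟩)
      (Subtype.ext (x_sq (matG2 F).X h2 _ _)) (Subtype.ext (x_sq (matG2 F).X h2 _ _))
      (Subtype.ext (ab_five (matG2 F).X h2 h5 ⟨7, by decide⟩))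
      (Subtype.ext (ab_five (matG2 F).X h2 h5 ⟨11, by decide⟩))
      (Subtype.coe_ne_coe.1 (x_ne (matG2 F).X (r := ⟨7, by decide⟩)
        ((goodG2.isPosRoot_iff _).1 (by decide +kernel)) one_ne_zero _))
      (Subtype.coe_ne_coe.1 (x_ne (matG2 F).X (r := ⟨11, by decide⟩)
        ((goodG2.isPosRoot_iff _).1 (by decide +kernel)) one_ne_zero _))
      (Subtype.ext (x_sq (matG2 F).X h2 _ _)) (Subtype.ext (c 7 (by simp) 11 (by simp) _ _ _ _).eq)
      (Subtype.ext (c 7 (by simp) 0 (by simp) _ _ _ _).eq)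
      (Subtype.ext (c 4 (by simp) 11 (by simp) _ _ _ _).eq)
      (Subtype.ext (c 4 (by simp) 0 (by simp) _ _ _ _).eq)
  · obtain ⟨e, he⟩ := exists_pow_ne (K := F) three_pos h4
    haveI : Nonempty (Fin chevG2.rank) := ⟨⟨0, by decide⟩⟩
    obtain ⟨S, hS⟩ := tor0 (matG2 F).X.tw (matG2 F).X.tw_rel (goodG2.conn connG2) (matG2 F).adj
      (fun i : Fin 2 => ⟨(i + 1 : Fin 2), by
        rintro _ rfl h
        revert i
        change ∀ i : Fin 2, i + 1 = i → False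
        decide⟩) (HA_G2 h2 he) (HB_tw _ h2)
    revert h3
    rw [(matG2 F).isMat.grp_eq]
    exact KA.of_TOR0 S hS

end H16.QT
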