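import Mathlib
import Cfsg.Agent.H22.QTTor1
import Cfsg.Agent.S1067

/-! Piece TOR of the quasithin project: the groups `³D₄(2 ^ n)`. -/

set_option autoImplicit false
set_option linter.all false
set_option maxRecDepth 100000
set_option backward.isDefEq.respectTransparency false

namespace H22.QT

open H20 H19 H16.QT Subgroup Cfsg.Lie

section

variable {D : ChevalleyDatum} {g : Good D} {F : Type*} [Field F] (M : MatRG g F)

theorem tor0_map [Finite F] [CharP F 2] {Γ : Subgroup (D.SteinbergGroup F)} {I : Type} [Nonempty I]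
    (T : Tw M.St Γ I) {μ : Fin D.rank → ℝ} (h : (T.map M.θ_x).Rel μ)
    (conn : connChk g.aux D.rank D.nroots) (hd : ∀ i, ∃ i', ∀ j ∈ T.J i', j ∉ T.J i)
    (ha : ∀ i, HA M.St Γ (T.J i))
    (hb : ∀ i, HB (M.St.XS {r | g.rs.Pos r ∧ r ∈ g.rs.Phi (T.J i)} ⊓ Γ) (M.St.H ⊓ Γ)) :
    ∃ S : Sylow 2 (Γ.map M.θ), TOR0 (S : Subgroup (Γ.map M.θ)) :=
  tor0 (T.map M.θ_x) h (g.conn conn) M.adj hd (fun i => (ha i).map M.θ_x) fun i => by
    rw [T.map_XS_inf M.θ_x (fun _ h => h.1), T.map_H_inf M.θ_x]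
    exact (hb i).map _

theorem conj_gen (c : Fin D.rank → Fˣ) (r : Fin D.nroots) (t : F) :
    M.St.hmap c * D.stGen F r t = D.stGen F r (g.rs.chi r c * t) * M.St.hmap c :=
  mul_inv_eq_iff_eq_mul.1 ((M.St.actsBy_hmap c).conj r t)

include M in
theorem gen_zero (r : Fin D.nroots) : D.stGen F r 0 = 1 := M.St.x_zero r

theorem θ_stw_one (L : List (Fin D.nroots)) :
    M.θ (stw D (L.map fun r => ((r : ℕ), (1 : F)))) = M.X.P L fun _ => 1 := by
  induction L with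
  | nil => simp [stw]
  | cons r L ih =>
    rw [WRG.P_cons, ← ih, ← M.θ_gen, ← map_mul]
    rfl

end

theorem aux3 {A : Type*} [CommGroup A] {x y z : A} {a b c : ℤ} (h0 : x ^ a * y ^ b * z ^ c = 1)
    (h1 : y ^ a * z ^ b * x ^ c = 1) (h2 : z ^ a * x ^ b * y ^ c = 1) :
    (x * y * z) ^ (a + b + c) = 1 := by
  calc _ = (x ^ a * y ^ b * z ^ c) * (y ^ a * z ^ b * x ^ c) * (z ^ a * x ^ b * y ^ c) := by
        simp only [mul_zpow, zpow_add]; ac_rfl
    _ = 1 := by rw [h0, h1, h2, mul_one, mul_one]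

theorem NoSz.of_not_five {K : Type*} [Group K] (h : ¬5 ∣ Nat.card K) : NoSz K := by
  intro m _
  refine ⟨5, by norm_num, ?_, Or.inl h⟩
  unfold szOrd
  refine Dvd.dvd.mul_right (Dvd.dvd.mul_left ?_ _) _
  have e : (2 ^ (2 * m + 1)) ^ 2 = 16 ^ m * 4 := by
    rw [← pow_mul, show (2 * m + 1) * 2 = 4 * m + 2 by ring, pow_add, pow_mul]; norm_num
  rw [e]
  have : 16 ^ m ≡ 1 ^ m [MOD 5] := Nat.ModEq.pow m (by decide)
  rw [one_pow] at this
  exact (Nat.modEq_zero_iff_dvd).1 (((this.mul_right 4).add_right 1).trans (by decide))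

namespace D4

variable {F : Type*} [Field F] {q : ℕ} {f : F →+* F}

theorem chi_sim (a : Fin 4 → Fˣ) :
    goodD4.rs.chi ⟨18, by decide⟩ a = a 0 ^ 2 * (a 1)⁻¹ ∧
    goodD4.rs.chi ⟨14, by decide⟩ a = a 1 ^ 2 * (a 0 * a 2 * a 3)⁻¹ ∧
    goodD4.rs.chi ⟨13, by decide⟩ a = a 2 ^ 2 * (a 1)⁻¹ ∧
    goodD4.rs.chi ⟨12, by decide⟩ a = a 3 ^ 2 * (a 1)⁻¹ := by
  have key : ∀ r : Fin chevD4.nroots, goodD4.rs.chi r a =
      ∏ i : Fin 4, a i ^ dot (auxD4.row r) (auxD4.CL.getD i []) := fun r => Good.chi_eq _ _ _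
  simp only [key, Fin.prod_univ_four]
  simp [dot, auxD4, Aux.row, mul_comm, mul_left_comm, mul_assoc, zpow_ofNat]

theorem chi_eq (r : Fin chevD4.nroots) (a : Fin 4 → Fˣ) : goodD4.rs.chi r a =
    (a 0 ^ 2 * (a 1)⁻¹) ^ (auxD4.row r).getD 0 0 * (a 1 ^ 2 * (a 0 * a 2 * a 3)⁻¹) ^ (auxD4.row r).getD 1 0 *
    (a 2 ^ 2 * (a 1)⁻¹) ^ (auxD4.row r).getD 2 0 * (a 3 ^ 2 * (a 1)⁻¹) ^ (auxD4.row r).getD 3 0 := by
  obtain ⟨h0, h1, h2, h3⟩ := chi_sim a
  rw [RS.chi_eq_prod, ← h0, ← h1, ← h2, ← h3]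
  exact Fin.prod_univ_four _

variable (h2 : (2 : F) = 0) (hf : ∀ t, f t = t ^ q) (hff : ∀ t, f (f (f t)) = t)

include h2 hf hff

theorem ha {u : Fˣ} (hu : u * u ^ q * (u ^ q) ^ q ≠ 1) (i : Fin 2) :
    HA (matD4 F).St (stSub chevD4 (d4Words F q)) (Good.JS chevD4 (JLD4.getD i [])) := by
  have hqq : ∀ a : Fˣ, ((a ^ q) ^ q) ^ q = a := fun a => Units.ext (by simpa [hf] using hff a)
  have hN : (u * u ^ q * (u ^ q) ^ q) ^ q = u * u ^ q * (u ^ q) ^ q := by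
    simp only [mul_pow, hqq]; ac_rfl
  obtain ⟨e, he⟩ : ∃ e, e = u * u ^ q * (u ^ q) ^ q := ⟨_, rfl⟩
  rw [← he] at hu hN
  fin_cases i
  · have f1 : ∀ r : Fin chevD4.nroots,
        (∀ j : Fin 4, (j : ℕ) ∉ [1] → (auxD4.row r).getD j 0 = 0) ∨
        (auxD4.row r).getD 0 0 + (auxD4.row r).getD 2 0 + (auxD4.row r).getD 3 0 ∣ 8 ∨
        ((auxD4.row r).getD 0 0 ∣ 8 ∧ (auxD4.row r).getD 2 0 = (auxD4.row r).getD 0 0 ∧
          (auxD4.row r).getD 3 0 = (auxD4.row r).getD 0 0) := by decide +kernel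
    have h1 : e ^ 2 * (u ^ 2 * (u ^ 2) ^ q * ((u ^ 2) ^ q) ^ q)⁻¹ = 1 := by
      rw [mul_inv_eq_one, he, mul_pow, mul_pow, pow_right_comm u 2, pow_right_comm _ 2]
    refine ⟨![u ^ 2, e, (u ^ 2) ^ q, ((u ^ 2) ^ q) ^ q],
      H20.D4.hmap_mem hf hff _ ((H20.D4.mem_Fix hf).2 (by simp [hqq, hN])), fun j hj => ?_,
      fun r _ h3 h4 => hu ?_⟩
    · obtain rfl : j = (1 : Fin 4) := Fin.ext (List.mem_singleton.1 hj)
      exact (chi_sim _).2.1.trans h1
    obtain ⟨v, hv⟩ : ∃ v, v = (u ^ 2) ^ 2 * e⁻¹ := ⟨_, rfl⟩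
    have h5 : ((u ^ 2) ^ q) ^ 2 * e⁻¹ = v ^ q := by
      rw [hv, mul_pow, inv_pow, hN, pow_right_comm _ q]
    have h6 : (((u ^ 2) ^ q) ^ q) ^ 2 * e⁻¹ = (v ^ q) ^ q := by
      rw [← h5, mul_pow, inv_pow, hN, pow_right_comm _ q]
    have h7 : v * v ^ q * (v ^ q) ^ q = e := by
      rw [← h6, ← h5, hv, pow_right_comm u 2, pow_right_comm _ 2 q, he]
      ext
      simp only [Units.val_mul, Units.val_pow_eq_pow_val, Units.val_inv_eq_inv_val]
      field_simp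
      ring
    rw [chi_eq] at h4
    simp only [Matrix.cons_val] at h4
    rw [h1, ← hv, h5, h6, one_zpow, mul_one] at h4
    rcases (f1 r).resolve_left h3 with h8 | ⟨h8, h9, h10⟩
    · have h11 := congrArg (powMonoidHom q) h4
      have h12 := congrArg (powMonoidHom q) h11
      simp only [map_mul, map_zpow, map_one, powMonoidHom_apply, hqq] at h11 h12
      exact zpow_eq_one h2 h8 (h7 ▸ aux3 h4 h11 h12)
    · rw [h9, h10, ← mul_zpow, ← mul_zpow, h7] at h4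
      exact zpow_eq_one h2 h8 h4
  · have f1 : ∀ r : Fin chevD4.nroots,
        (∀ j : Fin 4, (j : ℕ) ∉ [0, 2, 3] → (auxD4.row r).getD j 0 = 0) ∨
        (auxD4.row r).getD 1 0 ∣ 8 := by decide +kernel
    refine ⟨![e, e ^ 2, e, e], H20.D4.hmap_mem hf hff _
      ((H20.D4.mem_Fix hf).2 (by simp [hN, pow_right_comm e 2])), fun j hj => ?_,
      fun r _ h3 h4 => hu ?_⟩
    · obtain rfl | rfl | rfl : j = (0 : Fin 4) ∨ j = (2 : Fin 4) ∨ j = (3 : Fin 4) := by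
        revert j
        change ∀ j : Fin 4, (j : ℕ) ∈ [0, 2, 3] → _
        decide
      · exact (chi_sim _).1.trans (by simp)
      · exact (chi_sim _).2.2.1.trans (by simp)
      · exact (chi_sim _).2.2.2.trans (by simp)
    · rw [chi_eq] at h4
      simp only [Matrix.cons_val] at h4
      rw [mul_inv_cancel, show (e ^ 2) ^ 2 * (e * e * e)⁻¹ = e by group] at h4
      exact zpow_eq_one h2 ((f1 r).resolve_left h3) (by simpa using h4)

theorem hb [Finite F] (i : Fin 2) :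
    HB ((matD4 F).St.XS (LS chevD4 (PLD4.getD i [])) ⊓ stSub chevD4 (d4Words F q))
      ((matD4 F).St.H ⊓ stSub chevD4 (d4Words F q)) := by
  have hqq : ∀ a : Fˣ, ((a ^ q) ^ q) ^ q = a := fun a => Units.ext (by simpa [hf] using hff a)
  have hq : q ≠ 0 := by rintro rfl; simpa using hf 0
  refine HB.of_trans fun x hx y hy h3 h4 => ?_
  fin_cases i
  · obtain ⟨⟨t, ht⟩, rfl⟩ := (H20.D4.mem_iff1 hf hff x).1 hx
    obtain ⟨⟨u, hu⟩, rfl⟩ := (H20.D4.mem_iff1 hf hff y).1 hy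
    have z := gen_zero (matD4 F) ⟨14, by decide⟩
    have ht0 : t ≠ 0 := by rintro rfl; exact h3 (by simpa [stw, d4p2] using z)
    obtain ⟨s, rfl⟩ := exists_sq_mul h2 (t := t) (u := u) ht0
      (by rintro rfl; exact h4 (by simpa [stw, d4p2] using z))
    have hs : s ^ q = s := by
      rw [mul_pow, ht, mul_left_inj' ht0, pow_right_comm] at hu
      rw [← mul_inv_eq_one]
      refine sq_eq_one h2 (Units.ext ?_)
      simp [mul_pow, hu]
    refine ⟨_, ⟨(matD4 F).St.hmap_mem_H _, H20.D4.hmap_mem hf hff ![1, s, 1, 1]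
      ((H20.D4.mem_Fix hf).2 (by simp [hs]))⟩, ?_⟩
    have := conj_gen (matD4 F) ![1, s, 1, 1] ⟨14, by decide⟩ t
    rw [(chi_sim _).2.1] at this
    simpa [stw, mul_inv_eq_iff_eq_mul, d4p2] using this
  · obtain ⟨t, rfl⟩ := (H20.D4.mem_iff2 hf hff x).1 hx
    obtain ⟨u, rfl⟩ := (H20.D4.mem_iff2 hf hff y).1 hy
    have z : stw chevD4 [(d4p1, (0 : F)), (d4p3, 0 ^ q), (d4p4, 0 ^ q ^ 2)] = 1 := by
      have z1 : chevD4.stGen F d4p1 0 = 1 := gen_zero (matD4 F) ⟨18, by decide⟩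
      have z2 : chevD4.stGen F d4p3 0 = 1 := gen_zero (matD4 F) ⟨13, by decide⟩
      have z3 : chevD4.stGen F d4p4 0 = 1 := gen_zero (matD4 F) ⟨12, by decide⟩
      simp [stw, hq, z1, z2, z3]
    obtain ⟨s, rfl⟩ := exists_sq_mul h2 (t := t) (u := u) (by rintro rfl; exact h3 z)
      (by rintro rfl; exact h4 z)
    refine ⟨_, ⟨(matD4 F).St.hmap_mem_H _, H20.D4.hmap_mem hf hff ![s, 1, s ^ q, (s ^ q) ^ q]
      ((H20.D4.mem_Fix hf).2 (by simp [hqq]))⟩, ?_⟩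
    have e1 := conj_gen (matD4 F) ![s, 1, s ^ q, (s ^ q) ^ q] ⟨18, by decide⟩
    have e2 := conj_gen (matD4 F) ![s, 1, s ^ q, (s ^ q) ^ q] ⟨13, by decide⟩
    have e3 := conj_gen (matD4 F) ![s, 1, s ^ q, (s ^ q) ^ q] ⟨12, by decide⟩
    rw [(chi_sim _).1] at e1
    rw [(chi_sim _).2.2.1] at e2
    rw [(chi_sim _).2.2.2] at e3
    simp only [stw, List.map_cons, List.map_nil, List.prod_cons, List.prod_nil, mul_one,
      mul_inv_eq_iff_eq_mul, d4p1, d4p3, d4p4, ← mul_assoc]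
    rw [e1, mul_assoc _ _ (chevD4.stGen F 13 _), e2, ← mul_assoc, mul_assoc _ _ (chevD4.stGen F 12 _),
      e3, ← mul_assoc]
    simp [mul_pow, pow_two q, pow_mul, pow_right_comm _ 2 q]

theorem nc3 : NC 3 (twistedD4 F q) := by
  have key : ∀ a : Fin chevD4.nroots, (a : ℕ) ∈ [23, 0] → (matD4 F).X.x a 1 ∈ twistedD4 F q :=
    fun a ha => by
      rw [← (matD4 F).θ_gen]
      refine map_mem _ (MatRG.gen_mem (H20.D4.gen hf hff) ⟨a.2, ?_⟩ (map_one f))
      revert a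
      decide +kernel
  refine NC3_mat (matD4 F) h2 [⟨23, by decide⟩] [⟨18, by decide⟩, ⟨13, by decide⟩, ⟨12, by decide⟩]
    (by decide +kernel) (by simp) (by simp) (by simpa using key _ (by simp))
    (by simpa using key _ (by decide +kernel)) ?_ ?_
  · rw [← θ_stw_one]
    have := map_mem (matD4 F) (stw_mem (D := chevD4)
      (H20.D4.mem2 (r := d4p1) (s := d4p3) (k := d4p4) (q := q) (by simp) (1 : F)))
    rw [one_pow, one_pow] at this
    exact this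
  · rw [← θ_stw_one]
    have := map_mem (matD4 F) (stw_mem (D := chevD4)
      (H20.D4.mem2 (r := d4m1) (s := d4m3) (k := d4m4) (q := q) (by simp) (1 : F)))
    rw [one_pow, one_pow] at this
    exact this

end D4

end H22.QT

namespace H16.QT

open Cfsg Cfsg.Lie H20 H19 H22.QT

theorem ka_3D4_even (F : Type) [Field F] [Fintype F] (q : ℕ) (hq : IsPrimePow q)
    (hF : Fintype.card F = q ^ 3) (he : Even q) : KA (Lie.twistedD4 F q) := by
  have h2 := two_of_even (hF ▸ he.pow_of_ne_zero three_ne_zero)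
  haveI : CharP F 2 := (CharP.charP_iff_prime_eq_zero Nat.prime_two).2 h2
  obtain ⟨f, hf⟩ := exists_frob hq hF
  have hff : ∀ t, f (f (f t)) = t := fun t => by
    rw [hf, D4.hf2 hf, ← pow_mul, ← pow_succ, ← hF, FiniteField.pow_card]
  have h3 := H22.QT.D4.nc3 h2 hf hff
  rcases hq.two_le.eq_or_lt with rfl | h4
  · have hc := Cfsg.Agent.S1067.result hq hF
    exact KA.of_NUM ⟨hc ▸ N1.of_list [2, 3, 7, 13] (by decide +kernel) (by simp; norm_num)
      (by decide +kernel), h3, NoSz.of_not_five (by rw [hc]; decide +kernel)⟩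
  · obtain ⟨u, hu⟩ := exists_pow_ne (K := F) (n := 1 + q + q * q) (by omega)
      (by rw [hF]; nlinarith)
    rw [pow_add, pow_add, pow_one, pow_mul] at hu
    obtain ⟨S, hS⟩ := tor0_map (matD4 F) (D4.gen hf hff).tw (relD4 _ fun _ => rfl) connD4
      (fun i => ⟨i + 1, by
        change ∀ j : Fin 4, (j : ℕ) ∈ JLD4.getD (i + 1 : Fin 2) [] → (j : ℕ) ∉ JLD4.getD i []
        revert i
        decide +kernel⟩) (H22.QT.D4.ha h2 hf hff hu) fun i => by
        rw [tsetD4 _ fun _ => rfl]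
        exact H22.QT.D4.hb h2 hf hff i
    revert h3
    rw [twistedD4, ← (matD4 F).map_stSub]
    exact KA.of_TOR0 S hS

end H16.QT
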