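import Mathlib
import Cfsg.Agent.H22.QTTor2
import Cfsg.Agent.S1074

/-! Piece TOR of the quasithin project: the groups `²F₄(2 ^ n)` and the Tits group. -/

set_option autoImplicit false
set_option linter.all false
set_option maxRecDepth 100000
set_option backward.isDefEq.respectTransparency false

namespace H22.QT

open H20 H19 H16.QT Subgroup Cfsg.Lie

theorem tw_pow {A : Type*} [CommGroup A] {φ : A →* A} (h : ∀ c, φ (φ c) ^ 2 = c) {v : A} {m n : ℤ}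
    (e : φ v ^ m * v ^ n = 1) : v ^ (2 * n ^ 2 - m ^ 2) = 1 := by
  have e1 : (φ (φ v) ^ m * φ v ^ n) ^ 2 = 1 := by
    rw [← map_zpow φ (φ v), ← map_zpow φ v n, ← map_mul, e, map_one, one_pow]
  rw [mul_pow, ← zpow_natCast, ← zpow_mul, mul_comm m, zpow_mul, zpow_natCast, h] at e1
  calc v ^ (2 * n ^ 2 - m ^ 2) = (φ v ^ m * v ^ n) ^ (2 * n) * (v ^ m * (φ v ^ n) ^ 2) ^ (-m) := by
        simp only [mul_zpow, ← zpow_natCast, ← zpow_mul]
        rw [mul_comm (v ^ (m * -m)), mul_mul_mul_comm, ← zpow_add, ← zpow_add,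
          show m * (2 * n) + n * ((2 : ℕ) : ℤ) * -m = 0 by push_cast; ring, zpow_zero, one_mul]
        congr 1
        push_cast
        ring
    _ = 1 := by rw [e, e1, one_zpow, one_zpow, one_mul]

theorem NC3_index {G : Type*} [Group G] {N : Subgroup G} (hi : N.index = 2) (h : NC 3 G) :
    NC 3 N := by
  obtain ⟨x, y, hx, hy, hc, h1, h2⟩ := h
  have key : ∀ z : G, z ^ 3 = 1 → z ∈ N := fun z hz => by
    have : z = (z ^ 2) ^ 2 := by rw [← pow_mul, show 2 * 2 = 3 + 1 from rfl, pow_succ, hz, one_mul]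
    rw [this]
    exact sq_mem_of_index_two hi _
  refine ⟨⟨x, key x hx⟩, ⟨y, key y hy⟩, Subtype.ext hx, Subtype.ext hy, Subtype.ext hc.eq,
    fun e => h1 (congrArg Subtype.val e), fun ⟨k, hk⟩ => h2 ⟨k, congrArg Subtype.val hk⟩⟩

namespace F4

variable {F : Type*} [Field F] {e : ℕ} {f : F →+* F}

theorem chi_sim (a : Fin 4 → Fˣ) :
    goodF4.rs.chi ⟨33, by decide⟩ a = a 0 ^ 2 * (a 1)⁻¹ ∧
    goodF4.rs.chi ⟨27, by decide⟩ a = (a 2)⁻¹ * a 1 ^ 2 * (a 0)⁻¹ ∧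
    goodF4.rs.chi ⟨25, by decide⟩ a = (a 1 ^ 2)⁻¹ * a 2 ^ 2 * (a 3)⁻¹ ∧
    goodF4.rs.chi ⟨24, by decide⟩ a = a 3 ^ 2 * (a 2)⁻¹ := by
  have key : ∀ r : Fin chevF4.nroots, goodF4.rs.chi r a =
      ∏ i : Fin 4, a i ^ dot (auxF4.row r) (auxF4.CL.getD i []) := fun r => Good.chi_eq _ _ _
  simp only [key, Fin.prod_univ_four]
  simp [dot, auxF4, Aux.row, mul_comm, mul_left_comm, mul_assoc, zpow_ofNat]

theorem chi_eq {φ : Fˣ →* Fˣ} (h : ∀ c, φ (φ c) ^ 2 = c) (r : Fin chevF4.nroots) (c d : Fˣ) :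
    goodF4.rs.chi r ![φ d, φ c, c, d] =
    φ (d ^ 2 * c⁻¹) ^ (auxF4.row r).getD 0 0 * φ ((φ c ^ 2)⁻¹ * c ^ 2 * d⁻¹) ^ (auxF4.row r).getD 1 0 *
    ((φ c ^ 2)⁻¹ * c ^ 2 * d⁻¹) ^ (auxF4.row r).getD 2 0 * (d ^ 2 * c⁻¹) ^ (auxF4.row r).getD 3 0 := by
  obtain ⟨h0, h1, h2, h3⟩ := chi_sim ![φ d, φ c, c, d]
  simp only [Matrix.cons_val] at h0 h1 h2 h3
  simp only [map_mul, map_inv, map_pow, h]
  rw [RS.chi_eq_prod, ← h0, ← h1, ← h2, ← h3]
  exact Fin.prod_univ_four _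

variable (h2 : (2 : F) = 0) (hf : ∀ t, f t = t ^ e) (hff : ∀ t, f (f t) ^ 2 = t)

variable (f) in
/-- the elements of the relative root group of type `B₂` -/
def xx (t u : F) : chevF4.SteinbergGroup F :=
  chevF4.stGen F 27 (f t) * chevF4.stGen F 25 t * chevF4.stGen F 28 (f t * t + u) *
    chevF4.stGen F 30 (f u ^ 2)

include h2

theorem comm {r s : ℕ} (h : (r, s) ∈ [(27, 28), (25, 28), (27, 30), (25, 30), (28, 30), (39, 45), (8, 2)])
    (t u : F) : Commute (chevF4.stGen F r t) (chevF4.stGen F s u) := by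
  have : ∀ p ∈ [(27, 28), (25, 28), (27, 30), (25, 30), (28, 30), (39, 45), (8, 2)],
      p.1 < chevF4.nroots ∧ p.2 < chevF4.nroots ∧ homF4g.commB (recOf chevF4) p.1 p.2 = true := by
    decide +kernel
  obtain ⟨h3, h4, h5⟩ := this _ h
  exact (stRel chevF4 F).commute_of_commB goodF4 (h := homF4g) h2 h3 h4 h5 t u

omit h2 in
theorem gen_add (r : Fin chevF4.nroots) (t u : F) :
    chevF4.stGen F r t * chevF4.stGen F r u = chevF4.stGen F r (t + u) :=
  (matF4 F).St.x_mul_x r t u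

omit h2 in
theorem xx_zero (u : F) : xx f 0 u = chevF4.stGen F 28 u * chevF4.stGen F 30 (f u ^ 2) := by
  have z1 : chevF4.stGen F 27 0 = 1 := gen_zero (matF4 F) ⟨27, by decide⟩
  have z2 : chevF4.stGen F 25 0 = 1 := gen_zero (matF4 F) ⟨25, by decide⟩
  simp [xx, z1, z2]

theorem xx_mul (t u w : F) : xx f t u * xx f 0 w = xx f t (u + w) := by
  have : f (u + w) ^ 2 = f u ^ 2 + f w ^ 2 := by
    rw [map_add]; linear_combination f u * f w * h2
  rw [xx_zero, xx, xx, this, ← add_assoc, ← gen_add ⟨28, by decide⟩ _ w, ← gen_add ⟨30, by decide⟩]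
  simp only [mul_assoc]
  rw [(comm h2 (r := 28) (s := 30) (by simp) w _).left_comm]

include hff in
theorem xx_sq (t : F) : xx f t 0 * xx f t 0 = xx f 0 (f t * t) := by
  obtain ⟨h1, -, h4, h5, h6, -⟩ := H20.F4.fact2 (f4a, f4b, f4ab, f4aab) (by simp)
  have h8 := (stRel chevF4 F).comm' h1.1 h1.2.1 h4 h5 (f t) t
  rw [← (stRel chevF4 F).ev_redT (p := 2) h2 _ _ fun c hc =>
    (goodF4.commTerms_cone (r := ⟨f4a, h1.1⟩) (s := ⟨f4b, h1.2.1⟩) hc).1, h6] at h8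
  simp only [stRel, Rel.ev, neg_eq h2, List.map_cons, List.map_nil, List.prod_cons, List.prod_nil,
    Int.cast_one, one_mul, pow_one, mul_one, f4a, f4b, f4ab, f4aab] at h8
  have z : chevF4.stGen F 30 0 = 1 := gen_zero (matF4 F) ⟨30, by decide⟩
  have s1 : chevF4.stGen F 27 (f t) * chevF4.stGen F 27 (f t) = 1 := x_sq (matF4 F).St h2 ⟨27, by decide⟩ _
  have s2 : chevF4.stGen F 25 t * chevF4.stGen F 25 t = 1 := x_sq (matF4 F).St h2 ⟨25, by decide⟩ _
  have s3 : chevF4.stGen F 28 (f t * t) * chevF4.stGen F 28 (f t * t) = 1 :=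
    x_sq (matF4 F).St h2 ⟨28, by decide⟩ _
  have c1 := comm h2 (r := 27) (s := 28) (by simp) (f t) (f t * t)
  have c2 := comm h2 (r := 25) (s := 28) (by simp) t (f t * t)
  have c3 := comm h2 (r := 25) (s := 30) (by simp) t (f t ^ 2 * t)
  rw [xx_zero, xx, map_zero, zero_pow two_ne_zero, z, mul_one, add_zero, map_mul, mul_pow, hff,
    mul_comm t, (c1.mul_left c2).symm.mul_mul_mul_comm, s3, mul_one, mul_assoc, ← mul_assoc _ _
    (chevF4.stGen F 25 t), h8, mul_assoc, (c2.mul_right c3).symm.eq]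
  simp only [← mul_assoc]
  rw [s1, one_mul, s2, one_mul]

include hf hff

theorem mem_xx (a : chevF4.SteinbergGroup F) :
    a ∈ (matF4 F).St.XS (LS chevF4 (PLF4.getD 1 [])) ⊓ stSub chevF4 (f4Words F e) ↔
      ∃ t u, a = xx f t u := by
  rw [H20.F4.mem_iff2 h2 hf hff]
  simp only [stw, List.map_cons, List.map_nil, List.prod_cons, List.prod_nil, mul_one, xx, hf,
    ← mul_assoc, pow_succ _ e, mul_comm 2 e, pow_mul, Prod.exists]
  rfl

theorem hmap_mem (c d : Fˣ) : (matF4 F).St.hmap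
    ![Units.map f.toMonoidHom d, Units.map f.toMonoidHom c, c, d] ∈ stSub chevF4 (f4Words F e) :=
  H20.F4.hmap_mem h2 hf hff _ ((H20.F4.mem_Fix h2 hff).2 (by simp))

theorem ha {u : Fˣ} (hu : u ≠ 1) (i : Fin 2) :
    HA (matF4 F).St (stSub chevF4 (f4Words F e)) (Good.JS chevF4 (JLF4.getD i [])) := by
  have hm := hmap_mem h2 hf hff
  have hF : ∀ c, Units.map f.toMonoidHom (Units.map f.toMonoidHom c) ^ 2 = c :=
    fun c => Units.ext (hff c)
  generalize Units.map f.toMonoidHom = φ at hm hF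
  have hv : (φ u ^ 4)⁻¹ * u ^ 3 ≠ 1 := fun h => hu (zpow_eq_one h2 (n := 2) (by decide)
    (tw_pow hF (m := -4) (n := 3) (by simpa [zpow_ofNat] using h)))
  fin_cases i
  · have f1 : ∀ r : Fin chevF4.nroots,
        (∀ j : Fin 4, (j : ℕ) ∉ [0, 3] → (auxF4.row r).getD j 0 = 0) ∨
        2 * (auxF4.row r).getD 2 0 ^ 2 - (auxF4.row r).getD 1 0 ^ 2 ∣ 8 := by decide +kernel
    have f2 : ∀ j : Fin chevF4.rank, (j : ℕ) ∈ [0, 3] → (auxF4.row (chevF4.simple j)).getD 1 0 = 0 ∧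
        (auxF4.row (chevF4.simple j)).getD 2 0 = 0 := by decide +kernel
    refine ⟨_, hm (u ^ 2) u, fun j hj => ?_, fun r _ h3 h4 => hv ?_⟩
    · rw [chi_eq hF]
      simp [-List.getD_eq_getElem?_getD, f2 j hj]
    · rw [chi_eq hF, show (φ (u ^ 2) ^ 2)⁻¹ * (u ^ 2) ^ 2 * u⁻¹ = (φ u ^ 4)⁻¹ * u ^ 3 by
        rw [map_pow]; group] at h4
      exact zpow_eq_one h2 ((f1 r).resolve_left h3) (tw_pow hF (by simpa using h4))
  · have f1 : ∀ r : Fin chevF4.nroots,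
        (∀ j : Fin 4, (j : ℕ) ∉ [1, 2] → (auxF4.row r).getD j 0 = 0) ∨
        2 * (auxF4.row r).getD 3 0 ^ 2 - (auxF4.row r).getD 0 0 ^ 2 ∣ 8 := by decide +kernel
    have f2 : ∀ j : Fin chevF4.rank, (j : ℕ) ∈ [1, 2] → (auxF4.row (chevF4.simple j)).getD 0 0 = 0 ∧
        (auxF4.row (chevF4.simple j)).getD 3 0 = 0 := by decide +kernel
    refine ⟨_, hm u ((φ u ^ 2)⁻¹ * u ^ 2), fun j hj => ?_, fun r _ h3 h4 => hv ?_⟩
    · rw [chi_eq hF, mul_inv_cancel]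
      simp [-List.getD_eq_getElem?_getD, f2 j hj]
    · rw [chi_eq hF, mul_inv_cancel, show ((φ u ^ 2)⁻¹ * u ^ 2) ^ 2 * u⁻¹ = (φ u ^ 4)⁻¹ * u ^ 3 by
        rw [mul_pow]; group] at h4
      exact zpow_eq_one h2 ((f1 r).resolve_left h3) (tw_pow hF (by simpa using h4))

theorem hb [Finite F] (i : Fin 2) :
    HB ((matF4 F).St.XS (LS chevF4 (PLF4.getD i [])) ⊓ stSub chevF4 (f4Words F e))
      ((matF4 F).St.H ⊓ stSub chevF4 (f4Words F e)) := by
  have hF : ∀ c, Units.map f.toMonoidHom (Units.map f.toMonoidHom c) ^ 2 = c :=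
    fun c => Units.ext (hff c)
  have hm := fun d => hmap_mem h2 hf hff 1 d
  have hc := fun d => conj_gen (matF4 F)
    ![Units.map f.toMonoidHom d, Units.map f.toMonoidHom 1, 1, d]
  simp only [chi_eq hF] at hc
  fin_cases i
  · refine HB.of_trans fun x hx y hy h3 h4 => ?_
    obtain ⟨t, rfl⟩ := (H20.F4.mem_iff1 h2 hf hff x).1 hx
    obtain ⟨u, rfl⟩ := (H20.F4.mem_iff1 h2 hf hff y).1 hy
    have z : stw chevF4 [(f4p1, (0 : F) ^ e), (f4p4, 0)] = 1 := by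
      have z1 : chevF4.stGen F f4p1 0 = 1 := gen_zero (matF4 F) ⟨33, by decide⟩
      have z2 : chevF4.stGen F f4p4 0 = 1 := gen_zero (matF4 F) ⟨24, by decide⟩
      simp [stw, ← hf, z1, z2]
    obtain ⟨s, rfl⟩ := exists_sq_mul h2 (t := t) (u := u) (by rintro rfl; exact h3 z)
      (by rintro rfl; exact h4 z)
    refine ⟨_, ⟨(matF4 F).St.hmap_mem_H _, hm s⟩, ?_⟩
    have e1 := hc s ⟨33, by decide⟩
    have e2 := hc s ⟨24, by decide⟩
    simp only [stw, List.map_cons, List.map_nil, List.prod_cons, List.prod_nil, mul_one,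
      mul_inv_eq_iff_eq_mul, f4p1, f4p4, ← mul_assoc, ← hf]
    rw [e1, mul_assoc, e2, ← mul_assoc]
    simp [auxF4, Aux.row]
  · have hZ : ∀ u, xx f 0 u ∈ sqs ((matF4 F).St.XS (LS chevF4 (PLF4.getD 1 [])) ⊓
        stSub chevF4 (f4Words F e)) := fun u => by
      by_cases hu : u = 0
      · have := sq_mem_sqs ((mem_xx h2 hf hff _).2 ⟨0, 0, rfl⟩)
        rw [xx_sq h2 hff, mul_zero] at this
        exact hu ▸ this
      obtain ⟨t, ht⟩ := Finite.surjective_of_injective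
        (f := Units.map f.toMonoidHom * MonoidHom.id Fˣ) ((injective_iff_map_eq_one _).2 fun a ha =>
          by simpa using tw_pow hF (m := 1) (n := 1) (by simpa using ha)) (Units.mk0 u hu)
      have := sq_mem_sqs ((mem_xx h2 hf hff _).2 ⟨t, 0, rfl⟩)
      rwa [xx_sq h2 hff, show f t * t = u from congrArg Units.val ht] at this
    intro x hx y hy
    obtain ⟨t, u, rfl⟩ := (mem_xx h2 hf hff x).1 hx
    obtain ⟨t', u', rfl⟩ := (mem_xx h2 hf hff y).1 hy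
    by_cases h3 : t = 0
    · exact Or.inl (h3 ▸ hZ u)
    by_cases h4 : t' = 0
    · exact Or.inr (Or.inl (h4 ▸ hZ u'))
    obtain ⟨s, rfl⟩ : ∃ s : Fˣ, t' = s * t := ⟨Units.mk0 _ (div_ne_zero h4 h3), by simp [h3]⟩
    refine Or.inr (Or.inr ⟨_, ⟨(matF4 F).St.hmap_mem_H _, hm s⁻¹⟩, ?_⟩)
    convert hZ (f s * s * u - u') using 1
    rw [inv_mul_eq_iff_eq_mul, xx_mul h2, add_sub_cancel, mul_inv_eq_iff_eq_mul]
    have e1 := hc s⁻¹ ⟨27, by decide⟩
    have e2 := hc s⁻¹ ⟨25, by decide⟩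
    have e3 := hc s⁻¹ ⟨28, by decide⟩
    have e4 := hc s⁻¹ ⟨30, by decide⟩
    simp only [xx, ← mul_assoc]
    rw [e1, mul_assoc _ _ (chevF4.stGen F 25 _), e2, ← mul_assoc, mul_assoc _ _ (chevF4.stGen F 28 _),
      e3, ← mul_assoc, mul_assoc _ _ (chevF4.stGen F 30 _), e4, ← mul_assoc]
    simp [auxF4, Aux.row, mul_pow, hff, mul_add, zpow_ofNat]
    congr 3 <;> ring

theorem nc3 : NC 3 (twistedF4 F e) := by
  have key : ∀ p ∈ [(39, 45), (8, 2)], (H20.F4.S f h2).σ (stw chevF4 [(p.1, (1 : F)), (p.2, 1)]) =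
      stw chevF4 [(p.1, (1 : F)), (p.2, 1)] := fun p hp => by
    have : ∀ p ∈ [(39, 45), (8, 2)], p.1 < chevF4.nroots ∧ p.2 < chevF4.nroots ∧
      homF4g.ρ p.1 = p.2 ∧ homF4g.ρ p.2 = p.1 ∧ homF4g.γ p.1 = 1 ∧ homF4g.γ p.2 = 1 := by
      decide +kernel
    obtain ⟨h3, h4, h5, h6, h7, h8⟩ := this p hp
    rw [MatRG.σ_stw _ _ _ _ _ (by simp [h3, h4])]
    simpa [h5, h6, h7, h8, stw] using (comm h2 (r := p.1) (s := p.2)
      (List.mem_append_right [(27, 28), (25, 28), (27, 30), (25, 30), (28, 30)] hp) 1 1).symm.eq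
  refine NC3_mat (matF4 F) h2 [⟨33, by decide⟩, ⟨24, by decide⟩] [⟨39, by decide⟩, ⟨45, by decide⟩]
    (by decide +kernel) (by simp) (by simp) ?_ ?_ ?_ ?_
  · rw [← θ_stw_one]
    have := map_mem (matF4 F) (stw_mem (D := chevF4)
      (H20.F4.mem1 (r := f4p1) (s := f4p4) (e := e) (by simp) (1 : F)))
    rw [one_pow] at this
    exact this
  · rw [← θ_stw_one]
    have := map_mem (matF4 F) (stw_mem (D := chevF4)
      (H20.F4.mem1 (r := f4m1) (s := f4m4) (e := e) (by simp) (1 : F)))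
    rw [one_pow] at this
    exact this
  · rw [← θ_stw_one]
    exact map_mem (matF4 F) ((H20.F4.gen h2 hf hff).U_inf_le ⟨(matF4 F).stw_mem_U
      (w := [(39, 1), (45, 1)]) (by simp only [List.map_cons, List.map_nil]; decide +kernel),
      ((matF4 F).mem_C_iff _).2 (key (39, 45) (by simp))⟩)
  · rw [← θ_stw_one]
    exact map_mem (matF4 F) ((H20.F4.gen h2 hf hff).V_inf_le ⟨(matF4 F).stw_mem_V
      (w := [(8, 1), (2, 1)]) (by simp only [List.map_cons, List.map_nil]; decide +kernel),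
      ((matF4 F).mem_C_iff _).2 (key (8, 2) (by simp))⟩)

end F4

end H22.QT

namespace H16.QT

open Cfsg Cfsg.Lie H20 H19 H22.QT

variable {K : Type*} [Group K] [Finite K] [IsSimpleGroup K]

theorem ka_2F4 (h : Lie.Iso2F4 K) : KA K := by
  obtain ⟨F, _, _, m, hm, hF, ⟨φ⟩⟩ := h
  obtain ⟨h2, f, hf, hff⟩ := F4.exists_f hF
  haveI : CharP F 2 := (CharP.charP_iff_prime_eq_zero Nat.prime_two).2 h2
  have h3 := H22.QT.F4.nc3 h2 hf hff
  obtain ⟨u, hu⟩ := exists_pow_ne (K := F) one_pos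
    (hF ▸ Nat.pow_lt_pow_right (a := 2) (m := 1) one_lt_two (by omega))
  rw [pow_one] at hu
  obtain ⟨S, hS⟩ := tor0_map (matF4 F) (F4.gen h2 hf hff).tw (relF4 _ fun _ => rfl) connF4
    (fun i => ⟨i + 1, by
      change ∀ j : Fin 4, (j : ℕ) ∈ JLF4.getD (i + 1 : Fin 2) [] → (j : ℕ) ∉ JLF4.getD i []
      revert i
      decide +kernel⟩) (H22.QT.F4.ha h2 hf hff hu) fun i => by
      rw [tsetF4 _ fun _ => rfl]
      exact H22.QT.F4.hb h2 hf hff i
  refine KA.of_equiv φ ?_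
  revert h3
  rw [twistedF4, ← (matF4 F).map_stSub]
  exact KA.of_TOR0 S hS

theorem ka_Tits_aux {G : Type*} [Group G] {Γ : Subgroup G} (φ : K ≃* commutator Γ)
    (h1 : (commutator Γ).index = 2) (hc : Nat.card (commutator Γ) = 2 ^ 11 * 3 ^ 3 * 5 ^ 2 * 13)
    (h : NC 3 Γ) : KA K := by
  rw [← Nat.card_congr φ.toEquiv] at hc
  exact KA.of_NUM ⟨hc ▸ N1.of_list [2, 3, 5, 13] (by decide +kernel) (by simp; norm_num)
    (by decide +kernel), (NC3_index h1 h).of_equiv φ,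
    NoSz.of_list hc [2, 3, 5, 13] (by decide +kernel) (by simp; norm_num) (by decide +kernel)⟩

theorem ka_Tits (h : Lie.IsoTits K) : KA K := by
  obtain ⟨φ⟩ := h
  exact ka_Tits_aux φ Cfsg.Agent.S1074.result.1 Cfsg.Agent.S1074.result.2.2.2
    (H22.QT.F4.nc3 (F := ZMod 2) (f := RingHom.id _) rfl (fun t => (pow_one t).symm) (by decide))

end H16.QT
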