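import Mathlib
import Cfsg.Agent.H22.QTTor0
import Cfsg.Agent.H8.SzTori
import Cfsg.Agent.H8.SzLie

/-! Piece TOR of the quasithin project: the Suzuki groups. -/

set_option autoImplicit false
set_option linter.all false

namespace H22.QT

open H16.QT Subgroup

theorem not_NC {G : Type*} [Group G] [Finite G] {p : ℕ} (hp : p.Prime)
    (h : ∀ P : Subgroup G, IsPGroup p P → IsCyclic P) : ¬NC p G := by
  haveI := Fact.mk hp
  rintro ⟨x, y, hx, hy, hc, h1, h2⟩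
  have hP : ∀ z : G, z ^ p = 1 → IsPGroup p (zpowers z) := fun z hz g => by
    obtain ⟨_, k, rfl⟩ := g
    refine ⟨1, Subtype.ext ?_⟩
    change (z ^ k) ^ p ^ 1 = 1
    rw [pow_one, ← zpow_natCast, ← zpow_mul, mul_comm, zpow_mul, zpow_natCast, hz, one_zpow]
  have hn : zpowers x ≤ normalizer (zpowers y : Set G) :=
    (zpowers_le.2 (by rintro _ ⟨k, rfl⟩; exact (hc.symm.zpow_left k).eq)).trans
      (centralizer_le_normalizer _)
  haveI := h _ (IsPGroup.to_sup_of_normal_right' (hP x hx) (hP y hy) hn)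
  letI := IsCyclic.commGroup (α := ↥(zpowers x ⊔ zpowers y))
  let x' : ↥(zpowers x ⊔ zpowers y) := ⟨x, mem_sup_left (mem_zpowers x)⟩
  have h3 : zpowers x' = (powMonoidHom p).ker := by
    refine eq_of_le_of_card_ge (zpowers_le.2 (Subtype.ext hx)) ?_
    rw [IsCyclic.card_powMonoidHom_ker, Nat.card_zpowers,
      orderOf_eq_prime (x := x') (Subtype.ext hx) fun e => h1 (congrArg Subtype.val e)]
    exact Nat.gcd_le_right _ hp.pos
  obtain ⟨k, hk⟩ := h3.ge (show (⟨y, mem_sup_right (mem_zpowers y)⟩ : ↥(zpowers x ⊔ zpowers y)) ∈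
    (powMonoidHom p).ker from Subtype.ext hy)
  exact h2 ⟨k, congrArg Subtype.val hk⟩

theorem tor_Sz {F : Type*} [Field F] [Finite F] {m : ℕ} (T : H8.Sz.Ctx F m) :
    TOR (Cfsg.Sz F m) := by
  have h2 := T.two_eq_zero
  have hZ : ∀ b, T.u 0 b ∈ sqs T.U := fun b => by
    obtain ⟨a, rfl⟩ := T.exists_σ_mul b
    exact subset_closure ⟨_, T.u_mem_U a 0, (T.u_sq a 0).symm⟩
  have hb : HB T.U T.H := by
    rintro _ ⟨a, b, rfl⟩ _ ⟨c, d, rfl⟩
    by_cases ha : a = 0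
    · exact Or.inl (ha ▸ hZ b)
    by_cases hc : c = 0
    · exact Or.inr (Or.inl (hc ▸ hZ d))
    obtain ⟨k, hk⟩ := Finite.surjective_of_injective T.σ.injective (c / a)
    have h0 : k ≠ 0 := by
      rintro rfl
      exact div_ne_zero hc ha (by simpa using hk.symm)
    refine Or.inr (Or.inr ⟨T.h (Units.mk0 k h0), T.mem_H.2 ⟨_, rfl⟩, ?_⟩)
    rw [T.h_conj_u, T.u_inv, T.u_mul, Units.val_mk0, hk, div_mul_cancel₀ _ ha, ← two_mul, h2,
      zero_mul]
    exact hZ _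
  refine ⟨T.sylowU, ⟨⟨T.H, _, T.H_le_B.trans T.normalizer_U.ge, ⟨⟨fun a b =>
    Subtype.ext (T.H_comm a.2 b.2)⟩⟩, ?_, le_antisymm ((closure_le _).2 fun x hx => hx.1)
    hb.le_closure, fun x hx => ⟨1, one_mem _, Commute.one_left x, fun y hy _ => hx.2 y hy⟩⟩,
    fun a ha hS => ?_⟩, Or.inr fun p hp hp2 h => ?_⟩
  · rw [T.card_H]
    exact Nat.Even.sub_odd Nat.card_pos T.even_card odd_one
  · have hH : ∀ g ∈ T.H, a g = g := fun g hg =>
      fix_of_norm ha (R := T.U) hS (fun r hr => T.conj_mem_U (T.H_le_B hg) hr) fun c hc =>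
        hS c (T.mem_U_of_commute (T.u_mem_U 0 1) (T.u_ne_one (by simp)) (hc _ (T.u_mem_U 0 1)).eq)
    obtain ⟨k, hk⟩ := T.exists_unit_ne_one
    have hw : a T.w = T.w := by
      refine fix_of_norm ha hH (fun r hr => ?_) fun c hc => hH c (T.mem_H_of_commute
        (T.mem_H.2 ⟨k, rfl⟩) (fun e => hk (T.h_inj.1 (e.trans T.h_one.symm)))
        (hc _ (T.mem_H.2 ⟨k, rfl⟩)).eq)
      obtain ⟨l, rfl⟩ := T.mem_H.1 hr
      rw [T.w_mul_h, mul_inv_cancel_right]
      exact T.mem_H.2 ⟨_, rfl⟩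
    refine MulEquiv.ext fun g => ?_
    exact T.induction_on (P := fun g => a g = g) (fun b c => hS _ (T.u_mem_U b c))
      (fun k => hH _ (T.mem_H.2 ⟨k, rfl⟩)) hw (fun g g' h h' => by rw [map_mul, h, h']) g
  · haveI := Fact.mk hp
    exact not_NC hp (T.isCyclic_of_isPGroup hp2) (h.of_subgroup _)

end H22.QT

namespace H16.QT

open Cfsg H22.QT

variable {K : Type*} [Group K] [Finite K] [IsSimpleGroup K]

theorem ka_Sz (h : Lie.IsoSuzuki K) : KA K := by
  refine ⟨?_, Or.inl (Or.inr (Or.inl h)), Or.inl h⟩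
  obtain ⟨F, _, _, m, hm, hF, ⟨φ⟩⟩ := h
  obtain ⟨T⟩ := H8.Sz.nonempty_ctx hm hF
  exact Or.inr (Or.inr (Or.inr (Or.inr (Or.inr ((tor_Sz T).of_equiv (φ.trans T.lieEquiv.symm))))))

end H16.QT
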