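import Mathlib
import Cfsg.Agent.H22.QTTor3
import Cfsg.Agent.H22.QTTorSz

/-! Piece TOR of the quasithin project: `H16.QT.ka_G2_even`, `ka_3D4_even`, `ka_2F4`, `ka_Tits`,
`ka_Sz` are in the imported files. -/
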