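import Mathlib
import Cfsg.Agent.H23.T1
import Cfsg.Agent.H26.GMain
import Cfsg.Agent.H26.GBender
import Cfsg.Agent.H6.ZB1
import Cfsg.Agent.H0.PCZ

/-!
# Tightly embedded systems: definitions for the component theorem
-/

set_option autoImplicit false
set_option linter.unusedSectionVars false
set_option linter.unusedVariables false

namespace ACo

open Cfsg H24 H26 H26.Gold H23.TC H3.B71 Subgroup MulAction

universe u

variable {G Ω : Type u} [Group G] [Finite G] [MulAction G Ω] [Finite Ω]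

/-- a transitive equivariant family of subgroups of even order without common involutions -/
structure TE (Q : Ω → Subgroup G) : Prop where
  eqv : ∀ (g : G) (a : Ω), Q (g • a) = cj g (Q a)
  ti : ∀ (a b : Ω) (x : G), x ∈ Q a → x ∈ Q b → Inv x → a = b
  ev : ∀ a : Ω, ∃ x ∈ Q a, Inv x
  tr : ∀ a b : Ω, ∃ g : G, g • a = b

/-- a Sylow subgroup of `Q a` fixes `b` -/
def Beta (Q : Ω → Subgroup G) (a b : Ω) : Prop := ∃ R, Syl 2 (Q a) R ∧ R ≤ stabilizer G b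

/-- an involution of `Q b` fixes `a ≠ b` -/
def Adj (Q : Ω → Subgroup G) (a b : Ω) : Prop := a ≠ b ∧ ∃ d ∈ Q b, Inv d ∧ d • a = a

def Alp (Q : Ω → Subgroup G) (a b : Ω) : Prop := Adj Q a b ∧ ¬ Beta Q a b

def Bo (Q : Ω → Subgroup G) : Prop := ∀ a b, Adj Q a b → Beta Q a b

def Four (Q : Ω → Subgroup G) : Prop := ∀ c R, Syl 2 (Q c) R → R2 R

def NE (Q : Ω → Subgroup G) : Prop := ∀ c R, Syl 2 (Q c) R → ∃ x ∈ R, x * x ≠ 1

def EN (Q : Ω → Subgroup G) : Prop :=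
  (∀ c R, Syl 2 (Q c) R → (∀ x ∈ R, x * x = 1) ∧ 8 ≤ ♯R) ∧
    ∀ c z, z ∈ Q c → Inv z → ¬ Sol (Q c ⊓ C{z})

/-- generated by two involutions -/
def Dh (R : Subgroup G) : Prop := ∃ a b : G, Inv a ∧ Inv b ∧ a ≠ b ∧ R = zpowers a ⊔ zpowers b

def ND (Q : Ω → Subgroup G) : Prop := ∀ c R, Syl 2 (Q c) R → ¬ Dh R

structure BT (Q : Ω → Subgroup G) : Prop where
  te : TE Q
  four : Four Q
  ne : NE Q ∨ EN Q
  bo : Bo Q

/-- the points at which `S` contains a Sylow subgroup -/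
def Gm (Q : Ω → Subgroup G) (S : Subgroup G) : Set Ω := {c | Syl 2 (Q c) (Q c ⊓ S)}

/-- the frame of `S` -/
def WW (Q : Ω → Subgroup G) (S : Subgroup G) : Subgroup G := ⨆ c ∈ Gm Q S, Q c ⊓ S

/-- the subgroup generated by the point involutions of `S` -/
def AA (Q : Ω → Subgroup G) (S : Subgroup G) : Subgroup G :=
  closure {d | d ∈ S ∧ Inv d ∧ ∃ c, d ∈ Q c}

/-- `E` fixes `Γ` pointwise -/
def Fx (E : Subgroup G) (Γ : Set Ω) : Prop := ∀ g ∈ E, ∀ c ∈ Γ, g • c = c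

/-- `E` leaves `Γ` invariant -/
def Nx (E : Subgroup G) (Γ : Set Ω) : Prop := ∀ g ∈ E, ∀ c ∈ Γ, g • c ∈ Γ

/-- the claim "no swapping" inside `Y` -/
def NSY (Q : Ω → Subgroup G) (Y : Subgroup G) : Prop :=
  ∀ S₁ S₂, Syl 2 ⊤ S₁ → Syl 2 ⊤ S₂ → WW Q S₁ ≤ Y → WW Q S₂ ≤ Y →
    ∀ v ∈ WW Q S₁, v ∈ S₂ → ∀ c ∈ Gm Q S₂, v • c = c

/-- the situation after the reduction to a bad involution `v` -/
structure Bad (Q : Ω → Subgroup G) (Y S₂ S' F : Subgroup G) (c : Ω) (v : G) : Prop where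
  bt : BT Q
  ih : ∀ Y', Y' < Y → NSY Q Y'
  s₂ : Syl 2 ⊤ S₂
  s' : Syl 2 ⊤ S'
  w₂ : WW Q S₂ ≤ Y
  w' : WW Q S' ≤ Y
  mem : c ∈ Gm Q S₂
  inv : Inv v
  vS : v ∈ S₂
  mv : v • c ≠ c
  memF : ∀ f, f ∈ F ↔ ∃ r ∈ Q c ⊓ S₂, f = r * (v * r * v⁻¹)
  FW : F ≤ WW Q S₂
  FS : F ≤ S'
  moves : ∀ f ∈ F, Inv f → ∃ e ∈ Gm Q S', f • e ≠ e

/-- quasisimple subgroups centralising the `Q a` -/
structure KD (K Q : Ω → Subgroup G) : Prop where
  qs : ∀ a, Qs (K a)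
  eqv : ∀ (g : G) (a : Ω), K (g • a) = cj g (K a)
  cent : ∀ a, K a ≤ C[Q a]

/-- Sylow data at an adjacent pair -/
structure Cf (Q : Ω → Subgroup G) (a b : Ω) (S R R' U T : Subgroup G) : Prop where
  te : TE Q
  adj : Adj Q a b
  syl : Syl 2 (stabilizer G a ⊓ stabilizer G b) S
  sa : Syl 2 (Q a) R
  sb : Syl 2 (Q b) R'
  na : S ≤ N[R]
  nb : S ≤ N[R']
  eU : U = Q a ⊓ S
  eT : T = Q b ⊓ S
  lU : U ≤ R
  lT : T ≤ R'

/-- the case in which `R` does not normalise `U T` -/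
structure C4 (Q : Ω → Subgroup G) (a b : Ω) (S R R' U T U1 : Subgroup G) (r : G) : Prop where
  cf : Cf Q a b S R R' U T
  nb : ¬ Beta Q a b
  eaU : EA U
  eaT : EA T
  r2 : R2 U
  eU1 : U1 = R ⊓ N[U ⊔ T]
  card : ♯U1 = ♯U * ♯U
  rR : r ∈ R
  rn : r ∉ U1
  ix : Ix2 U1 R
  nrm : r ∈ N[U1 ⊔ T]
  inv : ∀ y ∈ U1 ⊔ T, y * y = 1 → y ∈ U ⊔ T ∨ y ∈ cj r (U ⊔ T)
  meet : (U ⊔ T) ⊓ cj r (U ⊔ T) = U
  gen : U1 ⊔ T = (U ⊔ T) ⊔ cj r (U ⊔ T)

/-- the world in which all involutions of a Sylow subgroup are central -/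
structure W2 (Q : Ω → Subgroup G) : Prop where
  te : TE Q
  four : Four Q
  ne : NE Q
  cz : ∀ c R, Syl 2 (Q c) R → ∀ u ∈ R, u * u = 1 → u ∈ C[R]
  al : ∀ a b S R R' U T, Cf Q a b S R R' U T → ¬ Beta Q a b → U = Om R ∧ R ≤ N[U ⊔ T]

/-- a line at `c` -/
def Ln (Q : Ω → Subgroup G) (c : Ω) (E : Subgroup G) : Prop := ∃ R, Syl 2 (Q c) R ∧ E = Om R

/-- commuting lines at an `α`-pair -/
structure AP (Q : Ω → Subgroup G) (a b : Ω) (U T : Subgroup G) : Prop where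
  alp : Alp Q a b
  la : Ln Q a U
  lb : Ln Q b T
  cent : T ≤ C[U]

/-- the orbit of `a` under the normaliser of `P` -/
def Ob (P : Subgroup G) (a : Ω) : Set Ω := {c | ∃ g ∈ N[P], g • a = c}

def MQ (Q : Ω → Subgroup G) : Prop := ∀ c R, Syl 2 (Q c) R → ♯R = ♯(Om R) * ♯(Om R)

/-- two lines whose commutator is a third line -/
structure LC (Q : Ω → Subgroup G) (e b b' : Ω) (R U T T' : Subgroup G) : Prop where
  syl : Syl 2 (Q e) R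
  eU : U = Om R
  ab : Alp Q e b
  ab' : Alp Q e b'
  lb : Ln Q b T
  lb' : Ln Q b' T'
  nT : T ≤ N[R]
  nT' : T' ≤ N[R]
  comm : ∀ t ∈ T, ∀ s ∈ T', t⁻¹ * (s * t * s⁻¹) ∈ U
  nd : ∀ t ∈ T, ∀ s ∈ T', t * s = s * t → t = 1 ∨ s = 1

/-- point involutions with product of order dividing four commute -/
def No8 (Q : Ω → Subgroup G) : Prop :=
  ∀ b b' t s, t ∈ Q b → s ∈ Q b' → Inv t → Inv s → (t * s) ^ 4 = 1 → t * s = s * t

/-- a strongly closed elementary subgroup of an overgroup of `K a` meeting `Q b` -/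
def SCY (K Q : Ω → Subgroup G) (a b : Ω) : Prop :=
  ∃ (Y S A : Subgroup G) (t : G), K a ≤ Y ∧ Y ≤ stabilizer G a ∧ Syl 2 Y S ∧ EA A ∧ A ≤ S ∧
    (∀ x ∈ A, ∀ g ∈ Y, g * x * g⁻¹ ∈ S → g * x * g⁻¹ ∈ A) ∧ t ∈ A ∧ t ∈ Q b ∧ Inv t

/-- the counterexample -/
structure CX (K Q : Ω → Subgroup G) : Prop where
  simple : IsSimpleGroup G
  kd : KD K Q
  eq : ∀ a, Q a = C[K a]
  te : TE Q
  four : Four Q
  nd : ND Q
  ne : NE Q ∨ EN Q

end ACo
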