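import Mathlib
import Cfsg.Agent.H22.AC0

/-!
# Impure pairs
-/

set_option autoImplicit false
set_option linter.unusedSectionVars false
set_option linter.unusedVariables false

namespace ACo

open Cfsg H24 H26 H26.Gold H23.TC H3.B71 Subgroup MulAction

universe u

variable {G Ω : Type u} [Group G] [Finite G] [MulAction G Ω] [Finite Ω]

/-- `R T` contains a point involution outside `U T` -/
def IP (Q : Ω → Subgroup G) (e b : Ω) : Prop :=
  ∀ U T R, AP Q e b U T → Syl 2 (Q e) R → U ≤ R → T ≤ N[R] →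
    ∃ y ∈ R, y ∉ U ∧ ∃ τ ∈ T, ∃ p, y * τ ∈ Q p ∧ Inv (y * τ)

/-- the subgroup `Y = K T` at an impure pair -/
structure YC (K Q : Ω → Subgroup G) (a b : Ω) (R U T Y : Subgroup G) : Prop where
  w2 : W2 Q
  kd : KD K Q
  mq : MQ Q
  ap : AP Q a b U T
  syl : Syl 2 (Q a) R
  le : U ≤ R
  nT : T ≤ N[R]
  ip : IP Q a b
  eY : Y = K a ⊔ T

end ACo
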