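import Mathlib
import Cfsg.Agent.H22.AC0

set_option autoImplicit false
set_option linter.unusedSectionVars false
set_option linter.unusedVariables false

namespace ACo

open Cfsg H24 H26 H26.Gold H23.TC H3.B71 Subgroup MulAction
open scoped commutatorElement Pointwise

universe u

variable {G Ω : Type u} [Group G] [Finite G] [MulAction G Ω] [Finite Ω] {Q K : Ω → Subgroup G}
  {a b b' c d e : Ω} {A B E F H M P R R' S S' S₀ S₁ S₂ T T' U U1 V W X Y : Subgroup G}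
  {f g k r s t u v w x y z : G}

/-! ### ACB -/
theorem exists_syl_inv (hB : TwoG B) (hn : B ≤ N[M]) : ∃ R, Syl 2 M R ∧ B ≤ N[R] ∧ M ⊓ B ≤ R := by
  obtain ⟨P, hP, le⟩ := Sylow_superset p2 hB (le_sup_right : B ≤ M ⊔ B)
  exact ⟨M ⊓ P, hP.inf_nml' (nml_sup_left hn), norm_inf hn (norm_of_le le), inf_le_inf_left _ le⟩

theorem syl_inf (hS : Syl 2 H S) (hM : M ⊴ H) : Syl 2 M (M ⊓ S) := hS.inf_nml' hM

theorem syl_sup (hS : Syl 2 H S) (hA : A ⊴ H) (hB : B ⊴ H) : (A ⊔ B) ⊓ S = (A ⊓ S) ⊔ (B ⊓ S) := by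
  have sA := syl_inf hS hA
  have sB := syl_inf hS hB
  have n1 : B ⊓ S ≤ N[A] := inf_le_left.trans (hB.le.trans hA.norm)
  have n2 : B ⊓ S ≤ N[A ⊓ S] := norm_inf n1 (norm_of_le inf_le_right)
  have le : (A ⊓ S) ⊔ (B ⊓ S) ≤ (A ⊔ B) ⊓ S :=
    sup_le (inf_le_inf_right _ le_sup_left) (inf_le_inf_right _ le_sup_right)
  have s1 : Syl 2 (A ⊔ B ⊓ S) ((A ⊓ S) ⊔ (B ⊓ S)) := by
    obtain ⟨P, hP, l⟩ := Sylow_superset p2 (sA.pi.sup sB.pi n2) (sup_le_sup_right sA.le (B ⊓ S))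
    have e : P ⊓ A = A ⊓ S :=
      sA.eq_of_le (hP.pi.of_le inf_le_left) (le_inf (le_sup_left.trans l) sA.le) inf_le_right
    have : P = (A ⊓ S) ⊔ (B ⊓ S) := le_antisymm (fun x hx => by
      obtain ⟨m, hm, t, ht, rfl⟩ := (mem_sup_of_norm n1).1 (hP.le hx)
      exact mul_mem (mem_sup_left (e.le ⟨(mul_mem_cancel_right (l (mem_sup_right ht))).1 hx, hm⟩))
        (mem_sup_right ht)) l
    rwa [this] at hP
  have pr : IsProd (A ⊔ B ⊓ S) B (A ⊔ B) := ⟨sup_le_sup_left inf_le_left _, le_sup_right, fun m hm => by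
    obtain ⟨x, hx, y, hy, rfl⟩ := (mem_sup_of_norm (hB.le.trans hA.norm)).1 hm
    exact ⟨x, mem_sup_left hx, y, hy, rfl⟩⟩
  have s2 : Syl 2 (A ⊔ B) ((A ⊓ S) ⊔ (B ⊓ S)) :=
    s1.of_idx pr.left_le (by rw [pr.relIndex_eq]; exact sB.idx_of_ge le_sup_right)
  exact s2.eq_of_le (hS.pi.of_le inf_le_right) le inf_le_left

theorem stab_cj (g : G) (a : Ω) : stabilizer G (g • a) = cj g (stabilizer G a) := by
  ext x
  rw [mem_cj, mem_stabilizer_iff, mem_stabilizer_iff, mul_smul, mul_smul, inv_smul_eq_iff]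

theorem TE.N_eq (h : TE Q) (a : Ω) : N[Q a] = stabilizer G a := by
  ext g
  rw [mem_N_iff_cj, mem_stabilizer_iff, ← h.eqv]
  refine ⟨fun e => ?_, fun e => by rw [e]⟩
  obtain ⟨x, hx, ix⟩ := h.ev a
  exact h.ti _ _ x (e ▸ hx) hx ix

theorem TE.stab_le (h : TE Q) (hg : g • a = a) : g ∈ N[Q a] := h.N_eq a ▸ hg

theorem TE.fix (h : TE Q) (hx : x ∈ Q a) : x • a = a := (h.N_eq a).le (norm_self _ hx)

theorem TE.conj (h : TE Q) (hx : x ∈ Q a) (g : G) : g * x * g⁻¹ ∈ Q (g • a) := h.eqv g a ▸ conj_mem_cj g hx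

theorem TE.two (h : TE Q) (ha : x ∈ Q a) (hb : x ∈ Q b) (h2 : TwoE x) (h1 : x ≠ 1) : a = b := by
  obtain ⟨z, hz, z1, z2⟩ := TwoG.exists_inv h2.isPi (zpowers_ne_bot.2 h1)
  exact h.ti _ _ z (zpowers_le.2 ha hz) (zpowers_le.2 hb hz) ⟨z1, z2⟩

theorem TE.bot (h : TE Q) (hab : a ≠ b) (hP : TwoG P) : Q a ⊓ Q b ⊓ P = ⊥ := 
  eq_bot_iff.2 fun x hx => by
    by_contra x1
    exact hab (h.two hx.1.1 hx.1.2 (isPi_iff_piElt.1 hP x hx.2) x1)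

theorem TE.odd (h : TE Q) (hab : a ≠ b) : OddG (Q a ⊓ Q b) := 
  oddG_iff.2 (odd_of_no_inv fun z hz iz => hab (h.ti _ _ z hz.1 hz.2 iz))

theorem TE.fix_comm (h : TE Q) (hx : x ∈ Q a) (h2 : TwoE x) (h1 : x ≠ 1) (hc : g * x = x * g) :
    g • a = a := by
  have := h.conj hx g
  rw [hc, mul_inv_cancel_right] at this
  exact h.two this hx h2 h1

theorem TE.fix_N (h : TE Q) (hP : P ≤ Q a) (h2 : TwoG P) (h1 : P ≠ ⊥) (hg : g ∈ N[P]) :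
    g • a = a := by
  obtain ⟨z, hz, z1, z2⟩ := TwoG.exists_inv h2 h1
  exact h.ti _ _ _ (h.conj (hP hz) g) (hP (H24.conj_mem hg hz)) (Inv.conj ⟨z1, z2⟩ g)

theorem TE.comm (h : TE Q) (hab : a ≠ b) (hP : TwoG P) (hx : x ∈ Q a) (hy : y ∈ Q b) (hxP : x ∈ P)
    (hyP : y ∈ P) (h1 : x • b = b) (h2 : y • a = a) : x * y = y * x := by
  have k : x * y * x⁻¹ * y⁻¹ ∈ Q a ⊓ Q b ⊓ P := by
    refine ⟨⟨?_, (Q b).mul_mem (h1 ▸ h.conj hy x) (inv_mem hy)⟩,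
      P.mul_mem (mul_mem (mul_mem hxP hyP) (inv_mem hxP)) (inv_mem hyP)⟩
    have := (Q a).mul_mem hx (h2 ▸ h.conj (inv_mem hx) y)
    rwa [show x * (y * x⁻¹ * y⁻¹) = x * y * x⁻¹ * y⁻¹ by group] at this
  rw [h.bot hab hP, mem_bot] at k
  exact commutatorElement_eq_one_iff_mul_comm.1 k

theorem TE.syl_cj (h : TE Q) (hR : Syl 2 (Q a) R) (g : G) : Syl 2 (Q (g • a)) (cj g R) := h.eqv g a ▸ hR.cj g

theorem TE.syl_conj (h : TE Q) (hR : Syl 2 (Q a) R) (hR' : Syl 2 (Q b) R') :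
    ∃ g : G, g • a = b ∧ R' = cj g R := by
  obtain ⟨g, rfl⟩ := h.tr a b
  obtain ⟨k, hk, e⟩ := Sylow_trans p2 (h.syl_cj hR g) hR'
  exact ⟨k * g, by rw [mul_smul, h.fix hk], by rw [cj_mul, e]⟩

theorem TE.card (h : TE Q) (hR : Syl 2 (Q a) R) (hR' : Syl 2 (Q b) R') : ♯R = ♯R' := by
  obtain ⟨g, -, rfl⟩ := h.syl_conj hR hR'
  exact (card_cj g R).symm

theorem TE.full (h : TE Q) (hR : Syl 2 (Q a) R) (hP : P ≤ Q b) (h2 : TwoG P) (hc : ♯R ≤ ♯P) :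
    Syl 2 (Q b) P := by
  obtain ⟨R', hR'⟩ := Sylow_exists p2 (Q b)
  exact hR'.of_card_le hP h2 (h.card hR hR' ▸ hc)

theorem TE.ne_bot (h : TE Q) (hR : Syl 2 (Q a) R) : R ≠ ⊥ := by
  obtain ⟨x, hx, ix⟩ := h.ev a
  obtain ⟨g, -, k⟩ := conj_into hR hx (twoE_of_sq ix.2)
  rintro rfl
  exact (ix.conj g).1 k

theorem TE.exists_syl (h : TE Q) (hB : TwoG B) (hs : B ≤ stabilizer G c) :
    ∃ R, Syl 2 (Q c) R ∧ B ≤ N[R] ∧ Q c ⊓ B ≤ R := exists_syl_inv hB (h.N_eq c ▸ hs)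

theorem TE.adj_of_comm (h : TE Q) (hab : a ≠ b) (hu : u ∈ Q a) (ht : t ∈ Q b) (iu : Inv u)
    (it : Inv t) (hc : u * t = t * u) : Adj Q a b := ⟨hab, t, ht, it, h.fix_comm hu (twoE_of_sq iu.2) iu.1 hc.symm⟩

theorem Adj.symm (h : TE Q) (hab : Adj Q a b) : Adj Q b a := by
  obtain ⟨ne, d, hd, id, f⟩ := hab
  obtain ⟨R, hR, n, -⟩ := h.exists_syl (twoE_of_sq id.2).isPi (zpowers_le.2 f)
  obtain ⟨z, hz, c, z1, z2⟩ := two_cent1 (twoE_of_sq id.2) hR.pi (n (mem_zpowers d)) (h.ne_bot hR)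
  exact h.adj_of_comm ne.symm hd (hR.le hz) id ⟨z1, z2⟩ c

theorem Beta.adj (h : TE Q) (hab : Beta Q a b) (hne : a ≠ b) : Adj Q a b := by
  obtain ⟨R, hR, le⟩ := hab
  obtain ⟨z, hz, z1, z2⟩ := TwoG.exists_inv hR.pi (h.ne_bot hR)
  exact Adj.symm h ⟨hne.symm, z, hR.le hz, ⟨z1, z2⟩, le hz⟩

theorem Adj.smul (h : TE Q) (hab : Adj Q a b) (g : G) : Adj Q (g • a) (g • b) := by
  obtain ⟨ne, d, hd, id, f⟩ := hab
  exact ⟨fun e => ne (smul_left_cancel g e), _, h.conj hd g, id.conj g, by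
    rw [mul_smul, mul_smul, inv_smul_smul, f]⟩

theorem Beta.smul (h : TE Q) (hab : Beta Q a b) (g : G) : Beta Q (g • a) (g • b) := by
  obtain ⟨R, hR, le⟩ := hab
  exact ⟨_, h.syl_cj hR g, stab_cj g b ▸ cj_mono g le⟩

theorem Alp.smul (h : TE Q) (hab : Alp Q a b) (g : G) : Alp Q (g • a) (g • b) := 
  ⟨hab.1.smul h g, fun k => hab.2 (by simpa using k.smul h g⁻¹)⟩

theorem Om_cj (g : G) (R : Subgroup G) : Om (cj g R) = cj g (Om R) := by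
  have k : ∀ (g : G) (R : Subgroup G), cj g (Om R) ≤ Om (cj g R) := fun g R =>
    map_le_iff_le_comap.2 ((closure_le _).2 fun w hw => mem_Om' (conj_mem_cj g hw.1) (by
      show g * w * g⁻¹ * (g * w * g⁻¹) = 1
      rw [_root_.conj_mul, hw.2, mul_one, mul_inv_cancel]))
  refine le_antisymm (fun x hx => mem_cj.2 ?_) (k g R)
  have := k g⁻¹ _ (conj_mem_cj g⁻¹ hx)
  rwa [← cj_mul, inv_mul_cancel, cj_one, inv_inv] at this



end ACo
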