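import Mathlib
import Cfsg.Agent.H22.AC0
import Cfsg.Agent.H22.ACB

set_option autoImplicit false
set_option linter.unusedSectionVars false
set_option linter.unusedVariables false

namespace ACo

open Cfsg H24 H26 H26.Gold H23.TC H3.B71 Subgroup MulAction
open scoped commutatorElement Pointwise

universe u

variable {G Ω : Type u} [Group G] [Finite G] [MulAction G Ω] [Finite Ω] {Q K : Ω → Subgroup G}
  {a b b' c d e : Ω} {A B E F H M P R R' S S' S₀ S₁ S₂ T T' U U1 V W X Y : Subgroup G}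
  {f g k r s t u v w x y z : G}

/-! ### ACI -/

namespace ACIx

theorem abl_of (el : ∀ x ∈ R, x * x = 1) : Abl R := H25.abl_iff.2 fun x hx y hy => by
  rw [← inv_eq_of_mul_eq_one_right (el _ (mul_mem hx hy)), mul_inv_rev,
    inv_eq_of_mul_eq_one_right (el x hx), inv_eq_of_mul_eq_one_right (el y hy)]

theorem syl_sup2 (hR : Syl 2 H R) (hT : TwoG T) (h1 : T ≤ N[H]) (h2 : T ≤ N[R]) :
    Syl 2 (H ⊔ T) (R ⊔ T) := by
  obtain ⟨P, hP, le⟩ := Sylow_superset p2 (hR.pi.sup hT h2) (sup_le_sup_right hR.le T)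
  have e : P ⊓ H = R := hR.eq_of_le (hP.pi.of_le inf_le_left) (le_inf (le_sup_left.trans le) hR.le) inf_le_right
  have : P = R ⊔ T := le_antisymm (fun x hx => by
    obtain ⟨m, hm, t, ht, rfl⟩ := (mem_sup_of_norm h1).1 (hP.le hx)
    exact mul_mem (mem_sup_left (e.le ⟨(mul_mem_cancel_right (le (mem_sup_right ht))).1 hx, hm⟩))
      (mem_sup_right ht)) le
  rwa [this] at hP

/-- Burnside's fusion lemma -/
theorem fus (hP : Syl 2 Y P) (ab : Abl P) (ht : t ∈ P) (hg : g ∈ Y) (hc : g * t * g⁻¹ ∈ P) :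
    ∃ n ∈ Y, n ∈ N[P] ∧ n * t * n⁻¹ = g * t * g⁻¹ := by
  have h1 : Syl 2 (Y ⊓ C{g * t * g⁻¹}) P :=
    hP.of_le (le_inf hP.le fun x hx => mem_C1.2 (ab.comm hx hc)) inf_le_left
  have h2 : Syl 2 (Y ⊓ C{g * t * g⁻¹}) (cj g P) :=
    (hP.cj_mem hg).of_le (le_inf (hP.cj_mem hg).le fun x hx => mem_C1.2 (by
      obtain ⟨y, hy, rfl⟩ := mem_cj'.1 hx
      rw [_root_.conj_mul, _root_.conj_mul, ab.comm hy ht])) inf_le_left
  obtain ⟨k, hk, e⟩ := Sylow_trans p2 h2 h1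
  refine ⟨k * g, mul_mem hk.1 hg, mem_N_iff_cj.2 (by rw [cj_mul, ← e]), ?_⟩
  calc k * g * t * (k * g)⁻¹ = k * (g * t * g⁻¹) * k⁻¹ := by group
    _ = _ := mem_C1_iff_conj.1 hk.2

theorem odd_pow (x : G) : ∃ m : ℕ, TwoE (x ^ (2 * m + 1)) := by
  obtain ⟨k, o, ⟨m, rfl⟩, e⟩ := Nat.exists_eq_two_pow_mul_odd (orderOf_pos x).ne'
  exact ⟨m, piElt_of_pow_eq_one (n := 2 ^ k) ((piNat_self p2).pow k)
    (by rw [← pow_mul, mul_comm, ← e, pow_orderOf_eq_one])⟩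

theorem iso (h : TE Q) (hen : EN Q) (hR : Syl 2 (Q c) R) (hz : z ∈ R) (z1 : z ≠ 1) (ne : e ≠ c)
    (hT : Syl 2 (Q e) T) (hc : T ≤ C[R]) : T ≤ centQ (Q c ⊓ C{z}) Od[Q c ⊓ C{z}] := by
  have eR := (hen.1 c R hR).1
  have eT := (hen.1 e T hT).1
  have aR := abl_of eR
  have aT := abl_of eT
  have RH : R ≤ Q c ⊓ C{z} := le_inf hR.le fun r hr => mem_C1.2 (aR.comm hr hz)
  have sH : Syl 2 (Q c ⊓ C{z}) R := hR.of_le RH inf_le_left
  have Tz : T ≤ C{z} := fun t ht => mem_C1.2 (mem_C.1 (hc ht) z hz).symm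
  have TH : T ≤ N[Q c ⊓ C{z}] := norm_inf (fun t ht => h.stab_le
    (h.fix_comm (hR.le hz) (twoE_of_sq (eR z hz)) z1 (mem_C1.1 (Tz ht)))) (norm_C1 Tz)
  have TR : T ≤ N[R] := hc.trans (C_le_N _)
  have sY := syl_sup2 sH hT.pi TH TR
  have TC : T ≤ C[R ⊔ T] := fun t ht => mem_C.2 fun x hx => by
    obtain ⟨r, hr, s, hs, rfl⟩ := (mem_sup_of_norm TR).1 hx
    rw [mul_assoc, aT.comm hs ht, ← mul_assoc, mem_C.1 (hc ht) r hr, mul_assoc]
  have aP : Abl (R ⊔ T) := abl_iff.2 (sup_le (fun r hr => mem_C.2 fun x hx => by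
    obtain ⟨r', hr', s, hs, rfl⟩ := (mem_sup_of_norm TR).1 hx
    rw [mul_assoc, ← mem_C.1 (hc hs) r hr, ← mul_assoc, aR.comm hr' hr, mul_assoc]) TC)
  have eI : (R ⊔ T) ⊓ (Q c ⊓ C{z}) = R :=
    sH.eq_of_le (sY.pi.of_le inf_le_left) (le_inf le_sup_left RH) inf_le_right
  -- an element of `N_H(R T)` centralises `T`
  have key : ∀ n ∈ Q c ⊓ C{z}, n ∈ N[R ⊔ T] → ∀ t ∈ T, n * t * n⁻¹ = t := fun n hn nP => by
    have mem : ∀ s ∈ T, s⁻¹ * (n * s * n⁻¹) ∈ R := fun s hs => eI.le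
      ⟨(R ⊔ T).mul_mem (inv_mem (mem_sup_right hs)) (H24.conj_mem nP (mem_sup_right hs)), by
        have := mul_mem (H24.conj_mem' (TH hs) hn) (inv_mem hn)
        rwa [show s⁻¹ * n * s * n⁻¹ = s⁻¹ * (n * s * n⁻¹) by group] at this⟩
    have fx : n • e = e := by
      by_contra mv
      have nR : n ∈ N[R] := by
        rw [← eI]
        exact norm_inf (zpowers_le.2 nP) (norm_of_le (zpowers_le.2 hn)) (mem_zpowers n)
      have ph : Ph R T n := ⟨hc, mem, nR, fun s hs cm => by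
        by_contra s1
        exact mv (h.fix_comm (hT.le hs) (twoE_of_sq (eT s hs)) s1 cm)⟩
      obtain ⟨s, hs, es⟩ := ph.surj (h.card hR hT).le hz
      have s1 : s ≠ 1 := fun k => z1 (by rw [← es, k]; group)
      have e1 : n * s * n⁻¹ = s * z := by rw [← es]; group
      have e2 : n * n * s = s * (n * n) := by
        calc n * n * s = n * (n * s * n⁻¹) * n := by group
          _ = n * (s * z) * n := by rw [e1]
          _ = n * s * n⁻¹ * (n * z * n⁻¹) * (n * n) := by group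
          _ = _ := by rw [e1, mem_C1_iff_conj.1 hn.2, mul_assoc s, eR z hz, mul_one]
      have f2 : n * n ∈ stabilizer G e := h.fix_comm (hT.le hs) (twoE_of_sq (eT s hs)) s1 e2
      obtain ⟨m, hm⟩ := odd_pow n
      have f3 : n ^ (2 * m + 1) ∈ stabilizer G e := h.fix_comm (hT.le hs) (twoE_of_sq (eT s hs)) s1
        (mem_C.1 (hc hs) _ (mem_syl sH (pow_mem hn _) hm (pow_mem nR _)))
      rw [pow_succ, pow_mul, sq] at f3
      exact mv ((mul_mem_cancel_left (pow_mem f2 m)).1 f3)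
    intro t ht
    have k : t⁻¹ * (n * t * n⁻¹) ∈ Q e ⊓ Q c ⊓ R :=
      ⟨⟨(Q e).mul_mem (inv_mem (hT.le ht)) (fx ▸ h.conj (hT.le ht) n), hR.le (mem t ht)⟩, mem t ht⟩
    rw [h.bot ne hR.pi, mem_bot] at k
    exact (inv_mul_eq_one.1 k).symm
  intro t ht
  refine (mem_centQ (pcore_nml _ _).norm).2 ⟨norm_pcore _ TH ht, fun x hx => ?_⟩
  by_cases t1 : t = 1
  · rw [t1, commutatorElement_one_left]; exact one_mem _
  have zs := H26.Gold.zstar_sub sY (mem_sup_right ht) t1 (eT t ht) fun g hg hc' => by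
    obtain ⟨n, hn, nP, e1⟩ := fus sY aP (mem_sup_right ht) hg hc'
    obtain ⟨m, hm, s, hs, rfl⟩ := (mem_sup_of_norm TH).1 hn
    rw [← e1, ← key m hm ((mul_mem_cancel_right (C_le_N _ (TC hs))).1 nP) t ht]
    calc m * s * (m * t * m⁻¹) * (m * s)⁻¹ = m * s * (m * t * m⁻¹) * (m * s)⁻¹ := rfl
      _ = _ := by
        rw [key m hm ((mul_mem_cancel_right (C_le_N _ (TC hs))).1 nP) t ht,
          show m * s * t * (m * s)⁻¹ = m * (s * t * s⁻¹) * m⁻¹ by group, aT.comm hs ht, mul_inv_cancel_right,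
          key m hm ((mul_mem_cancel_right (C_le_N _ (TC hs))).1 nP) t ht]
  refine pcore_inf_le _ (le_sup_left : _ ≤ _ ⊔ T) ⟨zs (commutator_mem_commutator (mem_zpowers t) (mem_sup_left hx)), ?_⟩
  exact (Q c ⊓ C{z}).mul_mem (H24.conj_mem (TH ht) hx) (inv_mem hx)

end ACIx

open ACIx

theorem ind (h : TE Q) (hen : EN Q) (hR : Syl 2 (Q c) R) :
    ¬ R ≤ sSup {T | ∃ e, e ≠ c ∧ Syl 2 (Q e) T ∧ T ≤ C[R]} := by
  intro le
  obtain ⟨⟨z, hz⟩, z1⟩ := ne_bot_iff_exists_ne_one.1 (h.ne_bot hR)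
  have z1 : z ≠ 1 := fun e => z1 (Subtype.ext e)
  have eR := (hen.1 c R hR).1
  have aR := abl_of eR
  have RH : R ≤ Q c ⊓ C{z} := le_inf hR.le fun r hr => mem_C1.2 (aR.comm hr hz)
  have sH : Syl 2 (Q c ⊓ C{z}) R := hR.of_le RH inf_le_left
  have nO := pcore_nml ({2}ᶜ : Set ℕ) (Q c ⊓ C{z})
  have k := ((le_centQ nO.norm).1 (le.trans (sSup_le fun T ⟨e, ne, hT, hc⟩ => iso h hen hR hz z1 ne hT hc))).2
  have nN : Q c ⊓ C{z} ≤ N[Od[Q c ⊓ C{z}] ⊔ R] := le_N_iff.2 fun g hg x hx => by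
    obtain ⟨o, ho, r, hr, rfl⟩ := (mem_sup_of_norm (RH.trans nO.norm)).1 hx
    rw [show g * (o * r) * g⁻¹ = g * o * g⁻¹ * ⁅r, g⁆⁻¹ * r by simp only [commutatorElement_def]; group]
    exact mul_mem (mem_sup_left (mul_mem (H24.conj_mem (nO.norm hg) ho)
      (inv_mem (k (commutator_mem_commutator hr hg))))) (mem_sup_right hr)
  exact hen.2 c z (hR.le hz) ⟨z1, eR z hz⟩ (sol_of_quo nN
    (Sol.sup (OddG.sol (pcore_pi _ _)) aR.sol (RH.trans nO.norm))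
    (OddG.sol ((isPi_quo_iff nN).2 (sH.idx_of_ge le_sup_right))))

end ACo
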