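import Mathlib
import Cfsg.Agent.H22.AC0
import Cfsg.Agent.H22.ACB

set_option autoImplicit false
set_option linter.unusedSectionVars false
set_option linter.unusedVariables false

namespace ACo

open Cfsg H24 H26 H26.Gold H23.TC H3.B71 Subgroup MulAction
open scoped commutatorElement Pointwise

universe u

variable {G Ω : Type u} [Group G] [Finite G] [MulAction G Ω] [Finite Ω] {Q K : Ω → Subgroup G}
  {a b b' c d e : Ω} {A B E F H M P R R' S S' S₀ S₁ S₂ T T' U U1 V W X Y : Subgroup G}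
  {f g k r s t u v w x y z : G}

/-! ### ACP -/
theorem exists_cf (h : TE Q) (hab : Adj Q a b) (hB : TwoG B)
    (hs : B ≤ stabilizer G a ⊓ stabilizer G b) :
    ∃ S R R' U T, Cf Q a b S R R' U T ∧ B ≤ S := by
  obtain ⟨S, hS, hBS⟩ := Sylow_superset p2 hB hs
  obtain ⟨R, r1, r2, r3⟩ := h.exists_syl hS.pi (hS.le.trans inf_le_left)
  obtain ⟨R', s1, s2, s3⟩ := h.exists_syl hS.pi (hS.le.trans inf_le_right)
  exact ⟨S, R, R', _, _, ⟨h, hab, hS, r1, s1, r2, s2, rfl, rfl, r3, s3⟩, hBS⟩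
theorem Cf.symm (h : Cf Q a b S R R' U T) : Cf Q b a S R' R T U :=
  ⟨h.te, h.adj.symm h.te, inf_comm (stabilizer G a) _ ▸ h.syl, h.sb, h.sa, h.nb, h.na, h.eT, h.eU, h.lT, h.lU⟩
theorem Cf.US (h : Cf Q a b S R R' U T) : U ≤ S := h.eU ▸ inf_le_right
theorem Cf.TS (h : Cf Q a b S R R' U T) : T ≤ S := h.eT ▸ inf_le_right
theorem Cf.UQ (h : Cf Q a b S R R' U T) : U ≤ Q a := h.eU ▸ inf_le_left
theorem Cf.TQ (h : Cf Q a b S R R' U T) : T ≤ Q b := h.eT ▸ inf_le_left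
theorem Cf.Sa (h : Cf Q a b S R R' U T) : S ≤ stabilizer G a := h.syl.le.trans inf_le_left
theorem Cf.Sb (h : Cf Q a b S R R' U T) : S ≤ stabilizer G b := h.syl.le.trans inf_le_right
theorem Cf.sylU (h : Cf Q a b S R R' U T) : Syl 2 (Q a ⊓ stabilizer G b) U := by
  have := syl_inf (M := Q a ⊓ stabilizer G b) h.syl ⟨inf_le_inf_right _ fun x hx => h.te.fix hx,
    norm_inf (fun g hg => h.te.stab_le hg.1) (inf_le_right.trans le_normalizer)⟩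
  rwa [inf_assoc, inf_eq_right.2 h.Sb, ← h.eU] at this
theorem Cf.neU (h : Cf Q a b S R R' U T) : U ≠ ⊥ := fun e => by
  obtain ⟨-, d, d1, d2, d3⟩ := h.adj.symm h.te
  obtain ⟨g, -, hg⟩ := conj_into h.sylU (x := d) ⟨d1, d3⟩ (twoE_of_sq d2.2)
  exact conj_ne d2.1 g (mem_bot.1 (e ▸ hg))
theorem Cf.cent (h : Cf Q a b S R R' U T) : T ≤ C[U] := fun _ ht _ hu =>
  h.te.comm h.adj.1 h.syl.pi (h.UQ hu) (h.TQ ht) (h.US hu) (h.TS ht) (h.Sb (h.US hu)) (h.Sa (h.TS ht))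
theorem Cf.disj (h : Cf Q a b S R R' U T) : R ⊓ T = ⊥ :=
  eq_bot_iff.2 fun _ hx => (h.te.bot h.adj.1 h.sa.pi).le ⟨⟨h.sa.le hx.1, h.TQ hx.2⟩, hx.1⟩
theorem Cf.eqU (h : Cf Q a b S R R' U T) : R ⊓ stabilizer G b = U :=
  h.sylU.eq_of_le (h.sa.pi.of_le inf_le_left) (le_inf h.lU (h.US.trans h.Sb)) (inf_le_inf_right _ h.sa.le)
theorem Cf.cR (h : Cf Q a b S R R' U T) (ht : t ∈ T) (h1 : t ≠ 1) : R ⊓ C{t} = U :=
  le_antisymm (fun _ hx => h.eqU.le ⟨hx.1, h.te.fix_comm (h.TQ ht) (h.syl.pi.piElt (h.TS ht)) h1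
    (H24.mem_C1.1 hx.2)⟩) fun _ hx => ⟨h.lU hx, H24.mem_C1.2 (h.cent ht _ hx)⟩
theorem Cf.inf (h : Cf Q a b S R R' U T) : R ⊓ (U ⊔ T) = U :=
  le_antisymm ((inf_le_inf_left _ ((sup_le h.US h.TS).trans h.Sb)).trans h.eqU.le) (le_inf h.lU le_sup_left)
theorem Cf.beta_iff (h : Cf Q a b S R R' U T) : Beta Q a b ↔ U = R :=
  ⟨fun ⟨R₀, r1, r2⟩ => eq_of_card_ge h.lU ((h.sa.card_eq r1).le.trans
    (Nat.le_of_dvd (H24.card_pos _) (h.sylU.card_dvd r1.pi (le_inf r1.le r2)))),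
    fun e => ⟨R, h.sa, e ▸ h.US.trans h.Sb⟩⟩
theorem Cf.ph (h : Cf Q a b S R R' U T) (hy : y ∈ R) (hU : y ∉ U) (hn : y ∈ N[U ⊔ T]) :
    Ph U T y := by
  refine ⟨h.cent, fun t ht => h.inf.le (mem_inf.2 ⟨?_,
      mul_mem (inv_mem (Subgroup.mem_sup_right ht)) (cN hn (Subgroup.mem_sup_right ht))⟩),
    h.inf ▸ inf_normalizer_le_normalizer_inf ⟨le_normalizer hy, hn⟩, fun t ht e => ?_⟩
  · rw [← mul_assoc, ← mul_assoc]
    exact mul_mem (cN' (h.na (h.TS ht)) hy) (inv_mem hy)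
  · by_contra h1
    exact hU ((h.cR ht h1).le ⟨hy, H24.mem_C1.2 e⟩)
theorem Cf.exx (h : Cf Q a b S R R' U T) (hb : ¬ Beta Q a b) :
    ∃ x ∈ R, x ∉ U ∧ x ∈ N[U ⊔ T] := by
  have hn : T ≤ N[R] := h.TS.trans h.na
  obtain ⟨y, y1, y2, y3⟩ := exists_norm_lt (h.sa.pi.sup (h.syl.pi.of_le h.TS) hn) (sup_le_sup_right h.lU T)
    fun e => hb (h.beta_iff.2 (le_antisymm h.lU ((le_inf le_rfl (le_sup_left.trans e)).trans h.inf.le)))
  obtain ⟨r, hr, t, ht, rfl⟩ := (mem_sup_of_norm hn).1 y1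
  exact ⟨r, hr, fun e => y3 (mul_mem (mem_sup_left e) (mem_sup_right ht)),
    (mul_mem_cancel_right (le_normalizer (mem_sup_right ht))).1 y2⟩
theorem Beta.symm (h : TE Q) (hab : Beta Q a b) : Beta Q b a := by
  by_cases e : a = b
  · exact e ▸ hab
  by_contra hn
  obtain ⟨S, R, R', U, T, c, -⟩ := exists_cf h (hab.adj h e) (isPi_bot _) bot_le
  obtain ⟨x, x1, x2, x3⟩ := c.symm.exx hn
  have h1 := (c.symm.ph x1 x2 x3).card
  rw [c.beta_iff.1 hab, h.card c.sa c.sb] at h1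
  exact hn (c.symm.beta_iff.2 (eq_of_card_ge c.lT h1))
theorem Alp.symm (h : TE Q) (hab : Alp Q a b) : Alp Q b a := ⟨hab.1.symm h, fun e => hab.2 (e.symm h)⟩
theorem Cf.card (h : Cf Q a b S R R' U T) : ♯U = ♯T := by
  by_cases hb : Beta Q a b
  · rw [h.beta_iff.1 hb, h.symm.beta_iff.1 (hb.symm h.te), h.te.card h.sa h.sb]
  obtain ⟨x, x1, x2, x3⟩ := h.exx hb
  obtain ⟨y, y1, y2, y3⟩ := h.symm.exx fun e => hb (e.symm h.te)
  exact le_antisymm (h.symm.ph y1 y2 y3).card (h.ph x1 x2 x3).card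
theorem Cf.abl (h : Cf Q a b S R R' U T) (hb : ¬ Beta Q a b) : Abl (U ⊔ T) := by
  obtain ⟨x, x1, x2, x3⟩ := h.exx hb
  exact ((h.ph x1 x2 x3).ablW h.card.le).sup (h.ph x1 x2 x3).ablT (cents_symm h.cent)
theorem Cf.sq (h : Cf Q a b S R R' U T) (hy : y ∈ R) (hn : y ∈ N[U ⊔ T]) (hb : ¬ Beta Q a b) :
    y * y ∈ U := by
  by_cases hU : y ∈ U
  · exact mul_mem hU hU
  by_contra h2
  have p := h.ph hy hU hn
  obtain ⟨z, z1, z2, z3, z4⟩ := two_cent1 (h.sa.pi.piElt hy) h.sylU.pi p.nW h.neU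
  obtain ⟨t, ht, e⟩ := p.surj h.card.le z1
  have e1 : y * t = t * z * y := by rw [← e]; group
  have := (h.ph (mul_mem hy hy) h2 (mul_mem hn hn)).free t ht (by
    rw [mul_assoc, e1, ← mul_assoc, ← mul_assoc, e1, mul_assoc _ y z, z2, ← mul_assoc, mul_assoc t z z, z4,
      mul_one, mul_assoc])
  exact z3 (by rw [← e, this]; group)
theorem Cf.inv (h : Cf Q a b S R R' U T) (hy : y ∈ R) (hU : y ∉ U) (hn : y ∈ N[U ⊔ T]) :
    ∀ u ∈ U, y * u * y⁻¹ = u⁻¹ := fun u hu => by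
  have h2 := h.sq hy hn fun e => hU (h.beta_iff.1 e ▸ hy)
  obtain ⟨t, ht, e⟩ := (h.ph hy hU hn).surj h.card.le hu
  have e2 := h.cent ht _ h2
  refine eq_inv_of_mul_eq_one_right ?_
  calc _ = t⁻¹ * (y * t * y⁻¹) * (y * (t⁻¹ * (y * t * y⁻¹)) * y⁻¹) := by rw [e]
    _ = t⁻¹ * (y * y * t) * (y * y)⁻¹ := by group
    _ = 1 := by rw [e2]; group
theorem Cf.ea (h : Cf Q a b S R R' U T) (hb : ¬ Beta Q a b) (hT : EA T) : EA U := ea_of_sq fun u hu => by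
  obtain ⟨x, x1, x2, x3⟩ := h.exx hb
  obtain ⟨t, ht, rfl⟩ := (h.ph x1 x2 x3).surj h.card.le hu
  exact (h.ph x1 x2 x3).sq' ht (hT.sq ht)
theorem Cf.card_le (h : Cf Q a b S R R' U T) : ♯(R ⊓ N[U ⊔ T] : Subgroup G) ≤ ♯U * ♯U ∨ Beta Q a b := by
  refine Or.inl ?_
  obtain ⟨t, ht, h1⟩ := (bot_or_exists_ne_one T).resolve_left h.symm.neU
  have hle : U ≤ R ⊓ N[U ⊔ T] := le_inf h.lU (le_sup_left.trans le_normalizer)
  have m : ∀ y ∈ R ⊓ N[U ⊔ T], t⁻¹ * (y * t * y⁻¹) ∈ U := fun y hy => by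
    by_cases hU : y ∈ U
    · rw [h.cent ht y hU]; simp
    · exact (h.ph hy.1 hU hy.2).mem t ht
  rw [← card_mul_relIndex hle]
  refine Nat.mul_le_mul_left _ (Nat.card_le_card_of_injective
    (fun q : ↥(R ⊓ N[U ⊔ T]) ⧸ U.subgroupOf _ => (⟨_, m q.out q.out.2⟩ : U)) fun q q' e => ?_)
  rw [← q.out_eq, ← q'.out_eq]
  refine QuotientGroup.eq.2 ((h.cR ht h1).le ⟨(mul_mem (inv_mem q.out.2) q'.out.2).1, H24.mem_C1.2 ?_⟩)
  have e' := mul_left_cancel (congrArg Subtype.val e)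
  change (q.out : G)⁻¹ * q'.out * t = t * ((q.out : G)⁻¹ * q'.out)
  calc _ = (q.out : G)⁻¹ * (q'.out * t * (q'.out : G)⁻¹) * q'.out := by group
    _ = _ := by rw [← e']; group

end ACo
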