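import Mathlib
import Cfsg.Agent.H22.AC0
import Cfsg.Agent.H22.ACP
import Cfsg.Agent.H22.AC1

set_option autoImplicit false
set_option linter.unusedSectionVars false
set_option linter.unusedVariables false

namespace ACo

open Cfsg H24 H26 H26.Gold H23.TC H3.B71 Subgroup MulAction
open scoped commutatorElement Pointwise

universe u

variable {G Ω : Type u} [Group G] [Finite G] [MulAction G Ω] [Finite Ω] {Q K : Ω → Subgroup G}
  {a b b' c d e : Ω} {A B E F H M P R R' S S' S₀ S₁ S₂ T T' U U1 V W X Y : Subgroup G}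
  {f g k r s t u v w x y z : G}

namespace ACNx

theorem sylY (hR : Syl 2 H R) (hT : TwoG T) (h1 : T ≤ N[H]) (h2 : T ≤ N[R]) :
    Syl 2 (H ⊔ T) (R ⊔ T) :=
  syl_of_max p2 (hR.pi.sup hT h2) (sup_le_sup_right hR.le T) fun X hX a1 a2 x hx => by
    obtain ⟨q, hq, s, hs, rfl⟩ := (mem_sup_of_norm h1).1 (a2 hx)
    have := hR.eq_of_le (K := X ⊓ H) (hX.inf_left _) (le_inf (le_sup_left.trans a1) hR.le)
      inf_le_right
    exact mul_mem_sup (this.le ⟨(mul_mem_cancel_right (a1 (mem_sup_right hs))).1 hx, hq⟩) hs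

/-- a central involution of `T` is isolated in `Q c ⊔ T` -/
theorem iso (h : Cf Q c e S R T R T) (hn : ¬ Abl T) (ht : t ∈ T) (tc : t ∈ C[T]) (t1 : t ≠ 1)
    (t2 : t * t = 1) (hg : g ∈ Q c ⊔ T) (hs : g * t * g⁻¹ ∈ R ⊔ T) : g * t * g⁻¹ = t := by
  by_contra hne
  have te := h.te
  have TN : T ≤ N[Q c] := fun x hx => te.stab_le (h.Sa (h.TS hx))
  have TR : T ≤ N[R] := norm_of_cent h.cent
  have sy := sylY h.sa h.sb.pi TN TR
  have Yc : Q c ⊔ T ≤ stabilizer G c := sup_le (fun x hx => te.fix hx) (h.TS.trans h.Sa)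
  have Se : R ⊔ T ≤ stabilizer G e := sup_le (h.US.trans h.Sb) (h.TS.trans h.Sb)
  have r1 : g * t * g⁻¹ * t⁻¹ ∈ R := by
    refine (h.sa.eq_of_le (K := (R ⊔ T) ⊓ Q c) (sy.pi.inf_left _) (le_inf le_sup_left h.sa.le)
      inf_le_right).le ⟨Subgroup.mul_mem _ hs (inv_mem (mem_sup_right ht)), ?_⟩
    obtain ⟨q, hq, s, hs', rfl⟩ := (mem_sup_of_norm TN).1 hg
    rw [show q * s * t * (q * s)⁻¹ * t⁻¹ = q * (s * t * s⁻¹ * q⁻¹ * t⁻¹) by group,
      conj_of_comm (mem_C.1 tc s hs')]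
    exact (Q c).mul_mem hq (cN (TN ht) (inv_mem hq))
  have ge : g • e ≠ e := fun e1 => by
    have : g * t * g⁻¹ * t⁻¹ ∈ Q e := mul_mem (e1 ▸ te.conj (h.TQ ht) g) (inv_mem (h.TQ ht))
    exact h.adj.1 (te.two (h.sa.le r1) this (h.sa.pi.piElt r1) fun e2 => hne (mul_inv_eq_one.1 e2))
  have TC : T ≤ C{g * t * g⁻¹} := fun x hx => by
    rw [← inv_mul_cancel_right (g * t * g⁻¹) t, mem_C1_comm]
    exact mul_mem (mem_C1.2 (mem_C.1 (h.cent hx) _ r1)) (mem_C1.2 (mem_C'.1 tc x hx))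
  have SC : R ⊔ T ≤ C{t} := sup_le (fun x hx => mem_C1.2 (mem_C.1 (h.cent ht) x hx))
    fun x hx => mem_C1.2 (mem_C.1 tc x hx)
  have s2 : Syl 2 ((Q c ⊔ T) ⊓ C{g * t * g⁻¹}) (cj g (R ⊔ T)) :=
    (sy.cj_mem hg).of_le (le_inf (sy.cj_mem hg).le (cj_C1 g t ▸ cj_mono g SC)) inf_le_left
  obtain ⟨k, hk, e1⟩ := Sylow_Jsub p2 s2 h.sb.pi (le_inf le_sup_right TC)
  have e2 : cj (g⁻¹ * k) T ≤ R ⊔ T := by rw [cj_mul]; exact le_cj_iff.1 e1
  have e3 : g⁻¹ * k * (g * t * g⁻¹) * (g⁻¹ * k)⁻¹ = t := by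
    rw [show g⁻¹ * k * (g * t * g⁻¹) * (g⁻¹ * k)⁻¹ = g⁻¹ * (k * (g * t * g⁻¹) * k⁻¹) * g by group,
      mem_C1_iff_conj.1 hk.2]; group
  have hY := mul_mem (inv_mem hg) (show k ∈ Q c ⊔ T from hk.1)
  generalize g⁻¹ * k = m at e2 e3 hY
  have me : m • e ≠ e := fun e4 => ge (MulAction.injective m (by
    show m • g • e = m • e
    rw [e4]
    exact te.two (e3 ▸ te.conj (te.conj (h.TQ ht) g) m) (h.TQ ht) (h.sb.pi.piElt ht) t1))
  have mc : m • e ≠ c := fun e4 => h.adj.1 (MulAction.injective m ((Yc hY).trans e4.symm))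
  have s3 := te.syl_cj h.sb m
  have i1 : R ⊓ cj m T = ⊥ := eq_bot_of_le (te.bot mc.symm h.sa.pi)
    (le_inf (inf_le_inf h.sa.le s3.le) inf_le_left)
  have e5 : R ⊔ cj m T = R ⊔ T := eq_of_card_ge (sup_le le_sup_left e2) (by
    rw [card_sup_of_inf TR h.disj, card_sup_of_inf (e2.trans (sup_le (norm_self R) TR)) i1,
      card_cj])
  have pr : ∀ x ∈ T, ∃ r ∈ R, r * x ∈ cj m T := fun x hx => by
    obtain ⟨r, hr, y, hy, e⟩ := (mem_sup_of_norm (e2.trans (sup_le (norm_self R) TR))).1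
      (e5.ge (mem_sup_right hx))
    exact ⟨r⁻¹, inv_mem hr, by rw [e, inv_mul_cancel_left]; exact hy⟩
  obtain ⟨z, hz, zc, z1, z2⟩ := two_cent s3.pi s3.pi (norm_self _) (te.ne_bot s3)
  obtain ⟨r0, hr0, t0, ht0, ez⟩ := (mem_sup_of_norm TR).1 (e2 hz)
  have fx : ∀ x ∈ T, x • m • e = m • e := fun x hx => by
    refine te.fix_comm (s3.le hz) (s3.pi.piElt hz) z1 ?_
    obtain ⟨r, hr, h1⟩ := pr x hx
    have e6 := mem_C.1 zc _ h1
    have c1 := mem_C.1 (h.cent hx) _ hr0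
    have c2 := mem_C.1 (h.cent ht0) _ hr
    have e7 : (r0 * r)⁻¹ * (r * r0) = t0 * x * (x * t0)⁻¹ := by
      rw [ez] at e6
      have : r * r0 * (x * t0) = r0 * r * (t0 * x) := by
        calc _ = r * (r0 * x) * t0 := by group
          _ = r0 * (t0 * r) * x := by rw [c1, ← mul_assoc, mul_assoc _ r0, e6]; group
          _ = _ := by rw [← c2]; group
      rw [eq_mul_inv_of_mul_eq this]; group
    have : t0 * x * (x * t0)⁻¹ ∈ R ⊓ T :=
      ⟨e7 ▸ R.mul_mem (inv_mem (mul_mem hr0 hr)) (mul_mem hr hr0),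
        T.mul_mem (mul_mem ht0 hx) (inv_mem (mul_mem hx ht0))⟩
    rw [h.disj, mem_bot, mul_inv_eq_one] at this
    rw [ez, ← mul_assoc, ← c1, mul_assoc, ← this, mul_assoc]
  refine hn (abl_iff.2 (le_C_iff.2 fun x hx y hy => ?_))
  obtain ⟨r, hr, h1⟩ := pr x hx
  have := te.comm me sy.pi (s3.le h1) (h.TQ hy) (e2 h1) (mem_sup_right hy) (Se (e2 h1)) (fx y hy)
  rw [← mul_assoc, ← mem_C.1 (h.cent hy) _ hr, mul_assoc, mul_assoc] at this
  exact mul_left_cancel this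

theorem cfb (h : TE Q) (hb : Beta Q c e) (hne : c ≠ e) (hB : TwoG B)
    (hs : B ≤ stabilizer G c ⊓ stabilizer G e) : ∃ S R T, Cf Q c e S R T R T ∧ B ≤ S := by
  obtain ⟨S, R, R', U, T, cf, hS⟩ := exists_cf h (hb.adj h hne) hB hs
  obtain rfl := cf.beta_iff.1 hb
  obtain rfl := cf.symm.beta_iff.1 (hb.symm h)
  exact ⟨S, _, _, cf, hS⟩

end ACNx

/-! ### ACN -/
open ACNx in
theorem beta1 (h : TE Q) (h4 : Four Q) (hb : Beta Q c e) (hR : Syl 2 (Q c) R) (hn : ¬ Abl R) :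
    Q c ≤ stabilizer G e := by
  by_cases hne : c = e
  · exact fun x hx => hne ▸ h.fix hx
  obtain ⟨S, R0, T, cf, -⟩ := cfb h hb hne (isPi_bot _) bot_le
  have nT : ¬ Abl T := by
    obtain ⟨g, -, rfl⟩ := h.syl_conj hR cf.sb
    rwa [abl_cj]
  have TN : T ≤ N[Q c] := fun x hx => h.stab_le (cf.Sa (cf.TS hx))
  obtain ⟨t, ht, tc, t1, t2⟩ := two_cent cf.sb.pi cf.sb.pi (norm_self _) (h.ne_bot cf.sb)
  have zs := H26.Gold.zstar_sub (sylY cf.sa cf.sb.pi TN (norm_of_cent cf.cent)) (mem_sup_right ht) t1 t2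
    fun g hg hs => iso cf nT ht tc t1 t2 hg hs
  obtain ⟨u, hu, v, hv, u2, v2, u1, v1, uv, hc⟩ := h4 e T cf.sb
  have nO := (pcore_nml ({2}ᶜ : Set ℕ) (Q c ⊔ T)).norm
  have Oe : Od[Q c ⊔ T] ≤ stabilizer G e :=
    gen_four ⟨u1, u2⟩ ⟨v1, v2⟩ uv hc (odd_O _) (nO (mem_sup_right hu)) (nO (mem_sup_right hv))
      fun x hx ix y hy => by
        have xT : x ∈ T := sup_le (zpowers_le.2 hu) (zpowers_le.2 hv) hx
        exact h.fix_comm (cf.TQ xT) (cf.sb.pi.piElt xT) ix.1 (mem_C1.1 hy.2)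
  intro y hy
  have m : t * (y * t * y⁻¹) ∈ Od[Q c ⊔ T] := by
    have := zs (commutator_mem_commutator (mem_zpowers t) (mem_sup_left hy))
    rwa [commutatorElement_def, inv_sq t2, mul_assoc, mul_assoc, ← mul_assoc y] at this
  have te : t ∈ stabilizer G e := h.fix (cf.TQ ht)
  rcases H23.TC.dih t2 (conj_sq t2 y) with ⟨-, d, hd, ed⟩ | ⟨z, hz, z1, z2, -⟩
  · have de : d * t * d⁻¹ ∈ stabilizer G e := cmem (Oe (zpowers_le.2 m hd)) te
    have q1 := h.conj (cf.TQ ht) (d * t * d⁻¹)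
    rw [ed, mem_stabilizer_iff.1 de] at q1
    exact h.two (h.conj (cf.TQ ht) y) q1 ((cf.sb.pi.piElt ht).conj y) (conj_ne t1 y)
  · exact absurd ((twoE_of_sq2 (z2 ▸ piElt_one _)).eq_one
      ((pcore_pi _ _).piElt (zpowers_le.2 m hz))) z1

open ACNx in
theorem cen (h : TE Q) (h4 : Four Q) (hb : Beta Q c e) (hne : c ≠ e) (hx : x ∈ Q e) (h2 : TwoE x)
    (hR : Syl 2 (Q c) R) (hn : x ∈ N[R]) : x ∈ C[R] := by
  have xc : x • c = c := h.fix_N hR.le hR.pi (h.ne_bot hR) hn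
  have pi : TwoG (R ⊔ zpowers x) := hR.pi.sup h2.isPi (zpowers_le.2 hn)
  by_cases ha : Abl R
  · obtain ⟨S, R0, T, cf, hS⟩ := cfb h hb hne h2.isPi (zpowers_le.2 ⟨xc, h.fix hx⟩)
    have xT : x ∈ T := cf.eT ▸ ⟨hx, hS (mem_zpowers x)⟩
    have a0 : Abl R0 := by
      obtain ⟨g, -, rfl⟩ := h.syl_conj hR cf.sa
      rwa [abl_cj]
    have c0 : zpowers x ≤ C[R0] := zpowers_le.2 (cf.cent xT)
    obtain ⟨g, -, hg⟩ := Sylow_Jsub p2
      (sylY cf.sa h2.isPi (zpowers_le.2 (h.stab_le xc)) (norm_of_cent c0)) pi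
      (sup_le_sup_right hR.le _)
    have := abl_cj.1 ((a0.sup (abl_zpowers x) (cents_symm c0)).of_le hg)
    exact mem_C'.2 fun r hr => this.comm (mem_sup_right (mem_zpowers x)) (mem_sup_left hr)
  · exact mem_C.2 fun r hr => h.comm hne pi (hR.le hr) hx (mem_sup_left hr)
      (mem_sup_right (mem_zpowers x)) (beta1 h h4 hb hR ha (hR.le hr)) xc

end ACo
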