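import Mathlib
import Cfsg.Agent.H22.AC0
import Cfsg.Agent.H22.ACN
import Cfsg.Agent.H22.ACI

set_option autoImplicit false
set_option linter.unusedSectionVars false
set_option linter.unusedVariables false

namespace ACo

open Cfsg H24 H26 H26.Gold H23.TC H3.B71 Subgroup MulAction
open scoped commutatorElement Pointwise

universe u

variable {G Ω : Type u} [Group G] [Finite G] [MulAction G Ω] [Finite Ω] {Q K : Ω → Subgroup G}
  {a b b' c d e : Ω} {A B E F H M P R R' S S' S₀ S₁ S₂ T T' U U1 V W X Y : Subgroup G}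
  {f g k r s t u v w x y z : G}

namespace ACGx

/-- the four-group on two commuting involutions -/
def V4 (v w : G) (iv : v * v = 1) (iw : w * w = 1) (hc : v * w = w * v) : Subgroup G where
  carrier := {x | x = 1 ∨ x = v ∨ x = w ∨ x = v * w}
  one_mem' := Or.inl rfl
  mul_mem' := by
    have e1 : v * (v * w) = w := by rw [← mul_assoc, iv, one_mul]
    have e2 : w * (v * w) = v := by rw [hc, ← mul_assoc, iw, one_mul]
    have e3 : v * w * v = w := by rw [hc, mul_assoc, iv, mul_one]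
    have e4 : v * w * w = v := by rw [mul_assoc, iw, mul_one]
    have e5 : v * w * (v * w) = 1 := by rw [← mul_assoc, e3, iw]
    intro x y hx hy
    rcases hx with hx | hx | hx | hx <;> rcases hy with hy | hy | hy | hy <;> rw [hx, hy] <;>
      simp only [Set.mem_ofPred_eq, one_mul, mul_one, iv, iw, e1, e2, e3, e4, e5, ← hc, true_or,
        or_true]
  inv_mem' := by
    have e5 : v * w * (v * w) = 1 := sq_mul iv iw hc
    intro x hx
    rcases hx with hx | hx | hx | hx <;> rw [hx] <;>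
      simp only [Set.mem_ofPred_eq, inv_one, inv_sq iv, inv_sq iw, inv_sq e5, true_or, or_true]

theorem ea_closure {D : Set G} (h1 : ∀ d ∈ D, d * d = 1) (h2 : ∀ d ∈ D, ∀ e ∈ D, d * e = e * d) :
    EA (closure D) := by
  have hab : Abl (closure D) := by
    refine H24.abl_iff.2 ((closure_le _).2 fun d hd => ?_)
    refine H24.mem_C_iff_le_C1.2 ((closure_le _).2 fun e he => ?_)
    exact H24.mem_C1.2 (h2 e he d hd)
  refine ea_of_sq fun a ha => ?_
  induction ha using closure_induction with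
  | mem x hx => exact h1 x hx
  | one => exact one_mul 1
  | mul x y hx hy a b => exact sq_mul a b (hab.comm hx hy)
  | inv x hx a => rw [inv_sq a, a]

theorem full_of (h : TE Q) (hR : Syl 2 (Q e) R) (hM : M ≤ stabilizer G e) (hRM : R ≤ M)
    (hS : Syl 2 M S) : Syl 2 (Q e) (Q e ⊓ S) := by
  have hn : M ⊓ Q e ⊴ M := nml_inf_of_norm (by rw [h.N_eq]; exact hM)
  have h1 := syl_inf hS hn
  have e1 : M ⊓ Q e ⊓ S = Q e ⊓ S :=
    le_antisymm (inf_le_inf_right _ inf_le_right)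
      (le_inf (le_inf (inf_le_right.trans hS.le) inf_le_left) inf_le_right)
  rw [e1] at h1
  exact h.full hR inf_le_left h1.pi
    (Nat.le_of_dvd Nat.card_pos (h1.card_dvd hR.pi (le_inf hRM hR.le)))

theorem frame (h : TE Q) (h4 : Four Q) (ht : t ∈ Q e) (it : Inv t) (hV : EA V)
    (hx : ∀ x ∈ V, x ≠ 1 → x • e ≠ e ∧ t * (x * t * x⁻¹) = x * t * x⁻¹ * t ∧ Beta Q e (x • e)) :
    ∃ S, TwoG S ∧ V ≤ N[S] ∧ t ∈ S ∧ (∀ g ∈ S, ∀ x ∈ V, g • x • e = x • e) ∧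
      Syl 2 (Q e) (Q e ⊓ S) := by
  have c0 : ∀ x ∈ V, t * (x * t * x⁻¹) = x * t * x⁻¹ * t := fun x hxV => by
    by_cases h1 : x = 1
    · subst h1; simp
    · exact (hx x hxV h1).2.1
  have cm : ∀ x ∈ V, ∀ y ∈ V, x * t * x⁻¹ * (y * t * y⁻¹) = y * t * y⁻¹ * (x * t * x⁻¹) := by
    intro x hxV y hy
    have := conj_comm (c0 _ (mul_mem (inv_mem hxV) hy)) x
    calc _ = x * t * x⁻¹ * (x * (x⁻¹ * y * t * (x⁻¹ * y)⁻¹) * x⁻¹) := by group
      _ = _ := this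
      _ = _ := by group
  have sq : ∀ x : G, x * t * x⁻¹ * (x * t * x⁻¹) = 1 := fun x => by
    rw [← H23.TC.conj_mul, it.2]; group
  have fx : ∀ g, ∀ y : G, g * (y * t * y⁻¹) = y * t * y⁻¹ * g → g • y • e = y • e := fun g y hg =>
    h.fix_comm (h.conj ht y) (twoE_of_sq (sq y)) (conj_ne it.1 y) hg
  set M : Subgroup G := ⨅ x ∈ V, stabilizer G (x • e) with hM
  have mM : ∀ g, g ∈ M ↔ ∀ x ∈ V, g • x • e = x • e := fun g => by
    simp only [hM, mem_iInf, mem_stabilizer_iff]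
  have hVM : V ≤ N[M] := le_N_iff.2 fun y hy g hg => (mM _).2 fun x hxV => by
    have := (mM _).1 hg _ (mul_mem (inv_mem hy) hxV)
    rw [mul_smul] at this
    rw [mul_smul, mul_smul, this, smul_inv_smul]
  have hMe : M ≤ stabilizer G e := fun g hg => by
    have := (mM _).1 hg 1 (one_mem _)
    rwa [one_smul] at this
  set E : Subgroup G := closure {d | ∃ x ∈ V, d = x * t * x⁻¹} with hE
  have hEA : EA E := ea_closure (by rintro _ ⟨x, -, rfl⟩; exact sq x)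
    (by rintro _ ⟨x, hxV, rfl⟩ _ ⟨y, hy, rfl⟩; exact cm x hxV y hy)
  have mE : ∀ x ∈ V, x * t * x⁻¹ ∈ E := fun x hxV => subset_closure ⟨x, hxV, rfl⟩
  have tE : t ∈ E := by simpa using mE 1 (one_mem _)
  have hEM : E ≤ M := (closure_le _).2 (by
    rintro _ ⟨x, hxV, rfl⟩
    exact (mM _).2 fun y hy => fx _ y (cm x hxV y hy))
  have hVE : V ≤ N[E] := norm_closure (by
    rintro y hy _ ⟨x, hxV, rfl⟩
    refine subset_closure ⟨y * x, mul_mem hy hxV, by group⟩)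
  obtain ⟨S, hS, hB, hMB⟩ := exists_syl_inv (M := M) (hEA.two.sup hV.two hVE)
    (sup_le (norm_of_le hEM) hVM)
  obtain ⟨R0, hR0, hn0, -⟩ := h.exists_syl hEA.two (hEM.trans hMe)
  have hRM : R0 ≤ M := fun r hr => (mM _).2 fun x hxV => by
    by_cases h1 : x = 1
    · rw [h1, one_smul]; exact h.fix (hR0.le hr)
    · obtain ⟨a1, -, a3⟩ := hx x hxV h1
      have := cen h h4 a3 a1.symm (h.conj ht x) (twoE_of_sq (sq x)) hR0 (hn0 (mE x hxV))
      exact fx r x (H24.mem_C.1 this r hr)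
  exact ⟨S, hS.pi, le_sup_right.trans hB, hMB ⟨hEM tE, mem_sup_left tE⟩,
    fun g hg => (mM g).1 (hS.le hg), full_of h hR0 hMe hRM hS⟩

theorem core (h : TE Q) (h4 : Four Q) (hne : NE Q ∨ EN Q) (ht : t ∈ Q e) (it : Inv t)
    (hm : t • c ≠ c) (hV : EA V) (hVc : V ≤ Q c) (hv : v ∈ V) (hw : w ∈ V) (v1 : v ≠ 1) (w1 : w ≠ 1)
    (hvw : v ≠ w)
    (hx : ∀ x ∈ V, x ≠ 1 → x • e ≠ e ∧ t * (x * t * x⁻¹) = x * t * x⁻¹ * t ∧ Beta Q e (x • e))
    (hs : ∀ u ∈ Q c, Inv u → ∀ R, Syl 2 (Q e) R → t ∈ R → u ∈ N[R] → u * t = t * u) : False := by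
  obtain ⟨S, h2, hVS, tS, hfix, hR⟩ := frame h h4 ht it hV hx
  have hSe : ∀ g ∈ S, g • e = e := fun g hg => by
    have := hfix g hg 1 (one_mem _)
    rwa [one_smul] at this
  have cS : ∀ x ∈ V, ∀ r ∈ S, x * r * x⁻¹ ∈ S := fun x hxV r hr => H24.conj_mem (hVS hxV) hr
  have ne2 : ∀ x ∈ V, ∀ y ∈ V, x ≠ y → x • e ≠ y • e := fun x hxV y hy hxy he => by
    refine (hx (x⁻¹ * y) (mul_mem (inv_mem hxV) hy) fun e1 => hxy ?_).1 ?_
    · rw [inv_mul_eq_one] at e1; exact e1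
    · rw [mul_smul, ← he, inv_smul_smul]
  have cm : ∀ x ∈ V, ∀ y ∈ V, x ≠ y → ∀ r ∈ Q e ⊓ S, ∀ s ∈ Q e ⊓ S,
      x * r * x⁻¹ * (y * s * y⁻¹) = y * s * y⁻¹ * (x * r * x⁻¹) := by
    intro x hxV y hy hxy r hr s hs'
    exact h.comm (ne2 x hxV y hy hxy) h2 (h.conj hr.1 x) (h.conj hs'.1 y) (cS x hxV r hr.2)
      (cS y hy s hs'.2) (hfix _ (cS x hxV r hr.2) y hy) (hfix _ (cS y hy s hs'.2) x hxV)
  have c1 : ∀ y ∈ V, y ≠ 1 → ∀ r ∈ Q e ⊓ S, ∀ s ∈ Q e ⊓ S,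
      r * (y * s * y⁻¹) = y * s * y⁻¹ * r := fun y hy y1 r hr s hs' => by
    simpa using cm 1 (one_mem _) y hy y1.symm r hr s hs'
  have hbot : Q c ⊓ S = ⊥ := by
    by_contra hb
    obtain ⟨u, hu, u1, u2⟩ := TwoG.exists_inv (h2.of_le inf_le_right) hb
    have hn : u ∈ N[Q e ⊓ S] :=
      zpowers_le.1 (norm_inf (zpowers_le.2 (h.stab_le (hSe u hu.2)))
        (zpowers_le.2 (norm_self S hu.2)))
    have := hs u hu.1 ⟨u1, u2⟩ _ hR ⟨ht, tS⟩ hn
    exact hm (h.fix_comm hu.1 (twoE_of_sq u2) u1 this.symm)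
  have key : ∀ r ∈ Q e ⊓ S, ∀ x ∈ V, x ≠ 1 → ∀ y ∈ V,
      r * (x * r * x⁻¹) = y * r * y⁻¹ * (y * x * r * (y * x)⁻¹) := by
    intro r hr x hxV x1 y hy
    have x2 := hV.sq hxV
    have hσ : r * (x * r * x⁻¹) ∈ S := mul_mem hr.2 (cS x hxV r hr.2)
    have hcx : r * (x * r * x⁻¹) * x = x * (r * (x * r * x⁻¹)) := by
      have a1 := c1 x hxV x1 r hr r hr
      calc _ = x * r * x⁻¹ * r * x := by rw [a1]
        _ = x * (r * (x⁻¹ * r * x)) := by group
        _ = _ := by rw [inv_sq x2]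
    have hc' := h.stab_le (h.fix_comm (hVc hxV) (twoE_of_sq x2) x1 hcx)
    have m1 : (r * (x * r * x⁻¹))⁻¹ * (y * (r * (x * r * x⁻¹)) * y⁻¹) ∈ Q c ⊓ S := by
      refine mem_inf.2 ⟨?_, mul_mem (inv_mem hσ) (cS y hy _ hσ)⟩
      have := mul_mem (H24.conj_mem' hc' (hVc hy)) (inv_mem (hVc hy))
      have e1 : (r * (x * r * x⁻¹))⁻¹ * (y * (r * (x * r * x⁻¹)) * y⁻¹) =
          (r * (x * r * x⁻¹))⁻¹ * y * (r * (x * r * x⁻¹)) * y⁻¹ := by group
      rw [e1]; exact this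
    rw [hbot, mem_bot, inv_mul_eq_one] at m1
    rw [m1]; group
  have hd : w * v ∈ V := mul_mem hw hv
  have d1 : w * v ≠ 1 := fun e1 => hvw (by
    rw [mul_eq_one_iff_inv_eq, hV.inv hw] at e1; exact e1.symm)
  have dv : v ≠ w * v := fun e1 => w1 (by simpa using e1)
  have dw : w ≠ w * v := fun e1 => v1 (by simpa using e1)
  rcases hne with hne | hen
  · obtain ⟨r, hr, r2⟩ := hne e _ hR
    have e1 := key r hr v hv v1 w hw
    have e2 := key r hr w hw w1 v hv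
    rw [hV.comm hv hw] at e2
    have bc := cm v hv w hw hvw r hr r hr
    have bd := cm v hv _ hd dv r hr r hr
    have cd := cm w hw _ hd dw r hr r hr
    have e4 : v * (r * r) * v⁻¹ = w * (r * r) * w⁻¹ := by
      rw [H23.TC.conj_mul v r r, H23.TC.conj_mul w r r]
      generalize v * r * v⁻¹ = β at *
      generalize w * r * w⁻¹ = γ at *
      generalize w * v * r * (w * v)⁻¹ = δ at *
      have : β * β * δ = γ * γ * δ := by
        calc β * β * δ = β * δ * β := by rw [mul_assoc β β, mul_assoc β δ, bd]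
          _ = r * γ * β := by rw [e2]
          _ = r * β * γ := by rw [mul_assoc, ← bc, ← mul_assoc]
          _ = γ * δ * γ := by rw [e1]
          _ = γ * γ * δ := by rw [mul_assoc γ γ, mul_assoc γ δ, cd]
      exact mul_right_cancel this
    have rr : r * r ∈ Q e ⊓ S := mul_mem hr hr
    refine ne2 v hv w hw hvw (h.two (h.conj rr.1 v) (e4 ▸ h.conj rr.1 w)
      (h2.piElt (cS v hv _ rr.2)) (conj_ne r2 v))
  · refine ind h hen hR fun r hr => ?_
    have mm : ∀ x ∈ V, x ≠ 1 → x * r * x⁻¹ ∈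
        sSup {T | ∃ e', e' ≠ e ∧ Syl 2 (Q e') T ∧ T ≤ C[Q e ⊓ S]} := fun x hxV x1 => by
      have hle : cj x (Q e ⊓ S) ≤ C[Q e ⊓ S] := by
        intro g hg
        obtain ⟨s, hs', rfl⟩ := mem_cj'.1 hg
        exact H24.mem_C.2 fun r' hr' => c1 x hxV x1 r' hr' s hs'
      have hmem : cj x (Q e ⊓ S) ∈ {T | ∃ e', e' ≠ e ∧ Syl 2 (Q e') T ∧ T ≤ C[Q e ⊓ S]} :=
        ⟨x • e, (hx x hxV x1).1, h.syl_cj hR x, hle⟩
      exact le_sSup hmem (conj_mem_cj x hr)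
    have e1 := key r hr v hv v1 w hw
    have e2 : r = w * r * w⁻¹ * (w * v * r * (w * v)⁻¹) * (v * r * v⁻¹)⁻¹ := by
      rw [← e1]; group
    rw [e2]
    exact mul_mem (mul_mem (mm w hw w1) (mm _ hd d1)) (inv_mem (mm v hv v1))

end ACGx

/-! ### ACG -/
theorem ns4 (h : TE Q) (h4 : Four Q) (hne : NE Q ∨ EN Q) (ht : t ∈ Q e) (it : Inv t)
    (hm : t • c ≠ c) (hv : v ∈ Q c) (hw : w ∈ Q c) (iv : Inv v) (iw : Inv w) (hvw : v ≠ w)
    (hc : v * w = w * v)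
    (hx : ∀ x, x = v ∨ x = w ∨ x = v * w →
      x • e ≠ e ∧ t * (x * t * x⁻¹) = x * t * x⁻¹ * t ∧ Beta Q e (x • e))
    (hs : ∀ u ∈ Q c, Inv u → ∀ R, Syl 2 (Q e) R → t ∈ R → u ∈ N[R] → u * t = t * u) : False := by
  refine ACGx.core (V := ACGx.V4 v w iv.2 iw.2 hc) h h4 hne ht it hm (ea_of_sq ?_) ?_
    (Or.inr (Or.inl rfl)) (Or.inr (Or.inr (Or.inl rfl))) iv.1 iw.1 hvw ?_ hs
  · intro a ha
    rcases ha with ha | ha | ha | ha <;> rw [ha]
    exacts [one_mul 1, iv.2, iw.2, sq_mul iv.2 iw.2 hc]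
  · intro a ha
    rcases ha with ha | ha | ha | ha <;> rw [ha]
    exacts [one_mem _, hv, hw, mul_mem hv hw]
  · intro x hxV x1
    exact hx x (Or.resolve_left hxV x1)

theorem BT.nsw (h : BT Q) (ht : t ∈ Q e) (it : Inv t) (ha : Adj Q c (t • c)) : False := by
  have te := h.te
  have hm : t • c ≠ c := ha.1.symm
  have tt : t • t • c = c := by rw [← mul_smul, it.2, one_smul]
  have ti : t⁻¹ = t := inv_sq it.2
  have hec : e ≠ c := fun e1 => hm (te.fix (e1 ▸ ht))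
  obtain ⟨R0, hR0, hR0s⟩ := h.bo _ _ ha
  have hz : TwoG (zpowers t) := (twoE_of_sq it.2).isPi
  have hn : zpowers t ≤ N[stabilizer G c ⊓ stabilizer G (t • c)] := by
    refine zpowers_le.2 (mem_N_of_finite fun g hg => ⟨?_, ?_⟩)
    · have a2 : g • t • c = t • c := hg.2
      show (t * g * t⁻¹) • c = c
      rw [ti, mul_smul, mul_smul, a2, tt]
    · have a1 : g • c = c := hg.1
      show (t * g * t⁻¹) • t • c = t • c
      rw [ti, mul_smul, mul_smul, tt, a1]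
  obtain ⟨S, hS, htS, -⟩ := exists_syl_inv hz hn
  have tS : t ∈ N[S] := htS (mem_zpowers t)
  have hR := ACGx.full_of te hR0 inf_le_left
    (le_inf (fun r hr => te.fix (hR0.le hr)) hR0s) hS
  have hs : ∀ u ∈ Q c, Inv u → ∀ R, Syl 2 (Q e) R → t ∈ R → u ∈ N[R] → u * t = t * u := by
    intro u hu iu R hR' htR huR
    have a1 : u • e = e := te.fix_N hR'.le hR'.pi (te.ne_bot hR') huR
    have a2 := cen te h.four (h.bo e c ⟨hec, u, hu, iu, a1⟩) hec hu (twoE_of_sq iu.2) hR' huR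
    exact (H24.mem_C.1 a2 t htR).symm
  have hx : ∀ x ∈ Q c ⊓ S, Inv x →
      x • e ≠ e ∧ t * (x * t * x⁻¹) = x * t * x⁻¹ * t ∧ Beta Q e (x • e) := by
    intro x hxS ix
    have xi : x⁻¹ = x := inv_sq ix.2
    have m1 : t * x * t⁻¹ ∈ S := H24.conj_mem tS hxS.2
    have c1 : x * (t * x * t⁻¹) = t * x * t⁻¹ * x :=
      te.comm ha.1 hS.pi hxS.1 (te.conj hxS.1 t) hxS.2 m1 (hS.le hxS.2).2 (hS.le m1).1
    have c2 : t * (x * t * x⁻¹) = x * t * x⁻¹ * t := by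
      rw [ti] at c1
      rw [xi]
      calc t * (x * t * x) = t * x * t * x := by group
        _ = x * (t * x * t) := c1.symm
        _ = _ := by group
    have n1 : x • e ≠ e := fun e1 => by
      have hB : TwoG ((S ⊔ zpowers t) ⊓ stabilizer G e) := (hS.pi.sup hz htS).of_le inf_le_left
      obtain ⟨R, hR', hBn, hBR⟩ := te.exists_syl hB inf_le_right
      have a1 := hs x hxS.1 ix R hR'
        (hBR ⟨ht, mem_sup_right (mem_zpowers t), te.fix ht⟩) (hBn ⟨mem_sup_left hxS.2, e1⟩)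
      exact hm (te.fix_comm hxS.1 (twoE_of_sq ix.2) ix.1 a1.symm)
    refine ⟨n1, c2, h.bo _ _ (te.adj_of_comm n1.symm ht (te.conj ht x) it
      ⟨conj_ne it.1 x, ?_⟩ c2)⟩
    rw [← H23.TC.conj_mul, it.2]; group
  obtain ⟨v, hv, w, hw, v2, w2, v1, w1, hvw, hc⟩ := h.four c _ hR
  refine ns4 te h.four h.ne ht it hm hv.1 hw.1 ⟨v1, v2⟩ ⟨w1, w2⟩ hvw hc ?_ hs
  intro x hx'
  rcases hx' with e1 | e1 | e1 <;> rw [e1]
  · exact hx v hv ⟨v1, v2⟩
  · exact hx w hw ⟨w1, w2⟩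
  · refine hx _ (mul_mem hv hw) ⟨fun e2 => hvw ?_, sq_mul v2 w2 hc⟩
    rw [mul_eq_one_iff_inv_eq, inv_sq v2] at e2; exact e2

end ACo
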