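import Mathlib
import Cfsg.Agent.H22.AC0
import Cfsg.Agent.H22.ACG

set_option autoImplicit false
set_option linter.unusedSectionVars false
set_option linter.unusedVariables false

namespace ACo

open Cfsg H24 H26 H26.Gold H23.TC H3.B71 Subgroup MulAction
open scoped commutatorElement Pointwise

universe u

variable {G Ω : Type u} [Group G] [Finite G] [MulAction G Ω] [Finite Ω] {Q K : Ω → Subgroup G}
  {a b b' c d e : Ω} {A B E F H M P R R' S S' S₀ S₁ S₂ T T' U U1 V W X Y : Subgroup G}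
  {f g k r s t u v w x y z : G}

namespace ACDx

theorem beta_of (h : BT Q) (hab : a ≠ b) (ht : t ∈ Q b) (it : Inv t) (hf : t • a = a) : Beta Q a b :=
  h.bo a b ⟨hab, t, ht, it, hf⟩

theorem cB (h : BT Q) (hb : Beta Q a b) (hab : a ≠ b) (hB : TwoG B) (hs : B ≤ stabilizer G a)
    (hx : x ∈ Q b) (hxB : x ∈ B) (hy : y ∈ Q a) (hyB : y ∈ B) : x * y = y * x := by
  obtain ⟨R, hR, hn, hle⟩ := h.te.exists_syl hB hs
  exact mem_C'.1 (cen h.te h.four hb hab hx (hB.piElt hxB) hR (hn hxB)) y (hle ⟨hy, hyB⟩)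

theorem comm_aux (h : BT Q) (n : ℕ) : ∀ (a b : Ω) (u t : G), a ≠ b → u ∈ Q a → t ∈ Q b → Inv u →
    Inv t → (u * t) ^ 2 ^ n = 1 → u * t = t * u := by
  induction n with
  | zero =>
    intro a b u t _ _ _ iu it e
    rw [pow_zero, pow_one, ← it.2] at e
    rw [mul_right_cancel e]
  | succ n ih =>
    intro a b u t hab hu ht iu it e
    have ti := inv_sq it.2
    have ui := inv_sq iu.2
    by_cases hf : t • a = a
    · have h2 : TwoE (u * t) := piElt_of_pow_eq_one (n := 2 ^ (n + 1))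
        (fun p hp hd => (Nat.prime_dvd_prime_iff_eq hp p2).1 (hp.dvd_of_dvd_pow hd)) e
      have hn : zpowers t ≤ N[zpowers (u * t)] := by
        refine zpowers_le.2 (mem_N_iff_cj.2 ?_)
        have e1 : t * (u * t) * t⁻¹ = (u * t)⁻¹ := by
          rw [mul_inv_rev, ui, mul_assoc, mul_inv_cancel_right, ti]
        rw [cj_zpowers, e1, zpowers_inv]
      have hB : TwoG (zpowers (u * t) ⊔ zpowers t) := h2.isPi.sup (twoE_of_sq it.2).isPi hn
      have tB : t ∈ zpowers (u * t) ⊔ zpowers t := mem_sup_right (mem_zpowers t)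
      have uB : u ∈ zpowers (u * t) ⊔ zpowers t := by
        have := mul_mem (mem_sup_left (mem_zpowers (u * t))) tB
        rwa [mul_assoc, it.2, mul_one] at this
      have hs : zpowers (u * t) ⊔ zpowers t ≤ stabilizer G a :=
        sup_le (zpowers_le.2 (mul_mem (h.te.fix hu) hf)) (zpowers_le.2 hf)
      exact (cB h (beta_of h hab ht it hf) hab hB hs ht tB hu uB).symm
    · exfalso
      have iu' : Inv (t * u * t⁻¹) := ⟨conj_ne iu.1 t, by rw [← H23.TC.conj_mul, iu.2]; group⟩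
      have hc := ih a (t • a) u (t * u * t⁻¹) (Ne.symm hf) hu (h.te.conj hu t) iu iu' (by
        rw [← e, pow_succ', pow_mul, ti, pow_two]
        congr 1
        group)
      exact h.nsw ht it (h.te.adj_of_comm (Ne.symm hf) hu (h.te.conj hu t) iu iu' hc)

theorem cj_WW_le (h : TE Q) (g : G) (S : Subgroup G)
    (hG : ∀ c, c ∈ Gm Q S → g • c ∈ Gm Q (cj g S)) : cj g (WW Q S) ≤ WW Q (cj g S) := by
  rw [cj_le_iff]
  refine iSup₂_le fun c hc => ?_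
  rw [← cj_le_iff, cj_inf, ← h.eqv]
  exact le_iSup₂_of_le (f := fun c (_ : c ∈ Gm Q (cj g S)) => Q c ⊓ cj g S) (g • c) (hG c hc) le_rfl

theorem Gm_cj' (h : TE Q) (g : G) (S : Subgroup G) (hc : c ∈ Gm Q S) : g • c ∈ Gm Q (cj g S) := by
  have := Hall.cj (show Syl 2 (Q c) (Q c ⊓ S) from hc) g
  rwa [cj_inf, ← h.eqv] at this

theorem cj_cj (g : G) (S : Subgroup G) : cj g⁻¹ (cj g S) = S := (cj_eq_iff.1 rfl).symm

end ACDx

open ACDx

/-! ### ACD -/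
theorem BT.comm2 (h : BT Q) (hab : a ≠ b) (hu : u ∈ Q a) (ht : t ∈ Q b) (iu : Inv u) (it : Inv t)
    (h2 : TwoE (u * t)) : u * t = t * u := by
  obtain ⟨n, hn⟩ := h2.exists_pow p2
  exact comm_aux h n a b u t hab hu ht iu it (by rw [← hn, pow_orderOf_eq_one])
theorem BT.commS (h : BT Q) (hab : a ≠ b) (hS : TwoG S) : Q b ⊓ S ≤ C[Q a ⊓ S] := by
  rintro x ⟨hx, hxS⟩
  refine mem_C'.2 ?_
  rintro y ⟨hy, hyS⟩
  by_cases x1 : x = 1
  · simp [x1]
  by_cases y1 : y = 1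
  · simp [y1]
  obtain ⟨t, htx, t1, t2⟩ := exists_zp_inv (hS.piElt hxS) x1
  obtain ⟨u, huy, u1, u2⟩ := exists_zp_inv (hS.piElt hyS) y1
  have ht : t ∈ Q b := zpowers_le.2 hx htx
  have hu : u ∈ Q a := zpowers_le.2 hy huy
  have tS : t ∈ S := zpowers_le.2 hxS htx
  have uS : u ∈ S := zpowers_le.2 hyS huy
  have hc := h.comm2 hab hu ht ⟨u1, u2⟩ ⟨t1, t2⟩ (hS.piElt (S.mul_mem uS tS))
  have ta : t • a = a := h.te.fix_comm hu (twoE_of_sq u2) u1 hc.symm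
  have ub : u • b = b := h.te.fix_comm ht (twoE_of_sq t2) t1 hc
  have e1 : u * x = x * u := (cB h (beta_of h hab.symm hu ⟨u1, u2⟩ ub) hab.symm
    (hS.inf_left (stabilizer G b)) inf_le_right hu ⟨uS, ub⟩ hx ⟨hxS, h.te.fix hx⟩)
  have xa : x • a = a := h.te.fix_comm hu (twoE_of_sq u2) u1 e1.symm
  exact cB h (beta_of h hab ht ⟨t1, t2⟩ ta) hab (hS.inf_left (stabilizer G a)) inf_le_right
    hx ⟨hxS, xa⟩ hy ⟨hyS, h.te.fix hy⟩
theorem BT.mem_Gm (h : BT Q) (hS : Syl 2 ⊤ S) (hx : x ∈ Q c) (hxS : x ∈ S) (h1 : x ≠ 1) :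
    c ∈ Gm Q S := by
  have h2 : TwoG S := hS.pi
  obtain ⟨R, hR, hn, -⟩ := h.te.exists_syl (c := c) (h2.inf_left (stabilizer G c)) inf_le_right
  let M : Subgroup G :=
    { carrier := {g | ∀ d, (∃ y ∈ Q d, y ∈ S ∧ y ≠ 1) → g • d = d}
      one_mem' := fun d _ => one_smul _ _
      mul_mem' := fun {a b} ha hb d hd => by rw [mul_smul, hb d hd, ha d hd]
      inv_mem' := fun {a} ha d hd => by rw [inv_smul_eq_iff, ha d hd] }
  have hRM : R ≤ M := by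
    rintro r hr d ⟨y, hy, hyS, y1⟩
    by_cases hd : c = d
    · exact hd ▸ h.te.fix (hR.le hr)
    obtain ⟨t, hty, t1, t2⟩ := exists_zp_inv (h2.piElt hyS) y1
    have ht : t ∈ Q d := zpowers_le.2 hy hty
    have tS : t ∈ S := zpowers_le.2 hyS hty
    have tc : t • c = c := h.te.fix_comm hx (h2.piElt hxS) h1
      (mem_C'.1 (h.commS hd h2 ⟨ht, tS⟩) x ⟨hx, hxS⟩)
    have := cen h.te h.four (beta_of h hd ht ⟨t1, t2⟩ tc) hd ht (twoE_of_sq t2) hR (hn ⟨tS, tc⟩)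
    exact h.te.fix_comm ht (twoE_of_sq t2) t1 (mem_C.1 this r hr)
  have hSM : S ≤ N[M] := le_N_iff.2 fun s hs m hm d ⟨y, hy, hyS, y1⟩ => by
    have := hm (s⁻¹ • d) ⟨_, h.te.conj hy s⁻¹, cmem (S.inv_mem hs) hyS, conj_ne y1 _⟩
    rw [mul_smul, mul_smul, this, smul_inv_smul]
  have hM1 : Syl 2 M (M ⊓ S) := syl_inf (hS.of_le le_sup_right le_top) (nml_sup_left hSM)
  have hMc : M ≤ N[Q c] := fun m hm => h.te.stab_le (hm c ⟨x, hx, hxS, h1⟩)
  have hM2 := syl_inf hM1 (nml_inf_of_norm' hMc)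
  refine h.te.full hR inf_le_left (h2.inf_right _) ?_
  refine (Nat.le_of_dvd Nat.card_pos (hM2.card_dvd hR.pi (le_inf hR.le hRM))).trans (card_le ?_)
  exact inf_le_inf inf_le_left inf_le_right
theorem TE.Gm_cj (h : TE Q) (g : G) (S : Subgroup G) : c ∈ Gm Q S ↔ g • c ∈ Gm Q (cj g S) := by
  refine ⟨Gm_cj' h g S, fun hc => ?_⟩
  have := Gm_cj' h g⁻¹ _ hc
  rwa [inv_smul_smul, cj_cj] at this
theorem TE.WW_cj (h : TE Q) (g : G) (S : Subgroup G) : WW Q (cj g S) = cj g (WW Q S) := by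
  refine le_antisymm ?_ (cj_WW_le h g S fun c => Gm_cj' h g S)
  rw [le_cj_iff]
  have := cj_WW_le h g⁻¹ (cj g S) fun c => Gm_cj' h g⁻¹ _
  rwa [cj_cj] at this
theorem WW_le (S : Subgroup G) : WW Q S ≤ S := iSup₂_le fun _ _ => inf_le_right
theorem le_WW (hc : c ∈ Gm Q S) : Q c ⊓ S ≤ WW Q S :=
  le_iSup₂_of_le (f := fun c (_ : c ∈ Gm Q S) => Q c ⊓ S) c hc le_rfl
theorem TE.nx (h : TE Q) (S : Subgroup G) : Nx S (Gm Q S) := fun g hg c hc => by
  have := Gm_cj' h g S hc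
  rwa [cj_of_mem hg] at this
theorem TE.nWW (h : TE Q) (S : Subgroup G) : S ≤ N[WW Q S] := fun g hg =>
  mem_N_iff_cj.2 (by rw [← h.WW_cj, cj_of_mem hg])
theorem BT.fx (h : BT Q) (hS : TwoG S) : Fx (WW Q S) (Gm Q S) := by
  intro g hg c hc
  have hle : WW Q S ≤ stabilizer G c := by
    refine iSup₂_le fun d hd y hy => ?_
    by_cases e : c = d
    · exact e ▸ h.te.fix hy.1
    obtain ⟨⟨x, hx⟩, x1⟩ := Subgroup.ne_bot_iff_exists_ne_one.1 (h.te.ne_bot hc)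
    exact h.te.fix_comm hx.1 (hS.piElt hx.2) (fun e => x1 (Subtype.ext e))
      (mem_C'.1 (h.commS e hS hy) x hx)
  exact hle hg
theorem TE.ncard (h : TE Q) (h1 : Syl 2 ⊤ S₁) (h2 : Syl 2 ⊤ S₂) :
    (Gm Q S₁).ncard = (Gm Q S₂).ncard := by
  obtain ⟨g, -, rfl⟩ := Sylow_trans p2 h1 h2
  have e : Gm Q (cj g S₁) = (fun c => g • c) '' Gm Q S₁ := by
    ext c
    constructor
    · intro hc
      exact ⟨g⁻¹ • c, (h.Gm_cj g S₁).2 (by rwa [smul_inv_smul]), smul_inv_smul g c⟩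
    · rintro ⟨c, hc, rfl⟩
      exact (h.Gm_cj g S₁).1 hc
  rw [e, Set.ncard_image_of_injective _ (MulAction.injective g)]
theorem TE.Gm_eq (h : TE Q) (h1 : Syl 2 ⊤ S₁) (h2 : Syl 2 ⊤ S₂) (hs : Gm Q S₁ ⊆ Gm Q S₂) :
    Gm Q S₁ = Gm Q S₂ := Set.eq_of_subset_of_ncard_le hs (h.ncard h1 h2).ge
theorem TE.WW_eq (h : TE Q) (h1 : Syl 2 ⊤ S₁) (h2 : Syl 2 ⊤ S₂) (hs : WW Q S₁ ≤ S₂) :
    Gm Q S₁ = Gm Q S₂ ∧ WW Q S₁ = WW Q S₂ := by
  have hle : ∀ c ∈ Gm Q S₁, Q c ⊓ S₁ ≤ Q c ⊓ S₂ := fun c hc =>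
    le_inf inf_le_left ((le_WW hc).trans hs)
  have e := h.Gm_eq h1 h2 fun c hc =>
    Hall.of_ge (show Syl 2 (Q c) (Q c ⊓ S₁) from hc) inf_le_left (h2.pi.inf_right _) (hle c hc)
  refine ⟨e, le_antisymm (iSup₂_le fun c hc => (hle c hc).trans (le_WW (e ▸ hc))) ?_⟩
  refine iSup₂_le fun c hc => ?_
  have hc' : c ∈ Gm Q S₁ := e ▸ hc
  rw [Hall.eq_of_le (show Syl 2 (Q c) (Q c ⊓ S₁) from hc') (h2.pi.inf_right _) (hle c hc') inf_le_left]
  exact le_WW hc'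
theorem BT.abl (h : BT Q) (hR : Syl 2 (Q c) R) (hab : Abl R) (hS : TwoG S) : Abl (WW Q S) := by
  refine abl_iff.2 (iSup₂_le fun d hd => cents_symm (iSup₂_le fun e he => ?_))
  by_cases hde : d = e
  · subst hde
    obtain ⟨g, -, e⟩ := h.te.syl_conj hR hd
    rw [e]
    exact (hab.cj g).le_C
  · exact h.commS hde hS
theorem BT.cent_WW (h : BT Q) (hS : TwoG S) (hz : z ∈ Q c ⊓ S) (hc : z ∈ C[Q c ⊓ S]) :
    z ∈ C[WW Q S] := by
  refine mem_C_iff_le_C1.2 (iSup₂_le fun d _ => ?_)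
  by_cases e : c = d
  · exact e ▸ mem_C_iff_le_C1.1 hc
  · exact (h.commS e hS).trans (C_le_C1 hz)

end ACo
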