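import Mathlib
import Cfsg.Agent.H22.AC0
import Cfsg.Agent.H22.ACD

set_option autoImplicit false
set_option linter.unusedSectionVars false
set_option linter.unusedVariables false

namespace ACo

open Cfsg H24 H26 H26.Gold H23.TC H3.B71 Subgroup MulAction
open scoped commutatorElement Pointwise

universe u

variable {G Ω : Type u} [Group G] [Finite G] [MulAction G Ω] [Finite Ω] {Q K : Ω → Subgroup G}
  {a b b' c d e : Ω} {A B E F H M P R R' S S' S₀ S₁ S₂ T T' U U1 V W X Y : Subgroup G}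
  {f g k r s t u v w x y z : G}

/-! ### ACF -/

namespace ACFx

/-- the setwise stabiliser -/
def St (G : Type u) [Group G] {Ω : Type u} [MulAction G Ω] (Γ : Set Ω) : Subgroup G where
  carrier := {g | ∀ c, c ∈ Γ ↔ g • c ∈ Γ}
  one_mem' := fun c => by rw [one_smul]
  mul_mem' := fun {x y} hx hy c => by rw [mul_smul, ← hx, ← hy]
  inv_mem' := fun {x} hx c => by rw [hx (x⁻¹ • c), smul_inv_smul]

theorem le_St {Γ : Set Ω} (h : Nx P Γ) : P ≤ St G Γ := fun g hg c =>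
  ⟨h g hg c, fun hc => by simpa using h _ (inv_mem hg) _ hc⟩

theorem syl_cj (h : Syl 2 ⊤ S) (g : G) : Syl 2 ⊤ (cj g S) := h.cj_mem (mem_top g)

/-- a `2`-group fixing a point of the frame centralises an involution at that point -/
theorem ex_inv (h : TE Q) (h0 : Syl 2 ⊤ S₀) (hE : E ≤ S₀) (hc : c ∈ Gm Q S₀)
    (hf : ∀ g ∈ E, g • c = c) : ∃ z ∈ Q c ⊓ S₀, z ∈ C[E] ∧ z ≠ 1 ∧ z * z = 1 := by
  have hn : E ≤ N[Q c ⊓ S₀] := fun g hg =>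
    mem_N_of_finite fun x hx => ⟨cN (h.stab_le (hf g hg)) hx.1, cmem (hE hg) hx.2⟩
  exact two_cent (h0.pi.of_le hE) (Hall.pi hc) hn (h.ne_bot hc)

/-- transport of the frame along involutions -/
theorem Gm_of (h : BT Q) (h0 : Syl 2 ⊤ S₀) (h1 : Syl 2 ⊤ S₁)
    (hz : ∀ c ∈ Gm Q S₀, ∃ z ∈ Q c, z ≠ 1 ∧ g * z * g⁻¹ ∈ S₁) :
    Gm Q (cj g S₀) = Gm Q S₁ := by
  refine h.te.Gm_eq (syl_cj h0 g) h1 fun c hc => ?_
  have hc' : g⁻¹ • c ∈ Gm Q S₀ := (h.te.Gm_cj g S₀).2 (by rwa [smul_inv_smul])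
  obtain ⟨z, hq, z1, hs⟩ := hz _ hc'
  have := h.te.conj hq g
  rw [smul_inv_smul] at this
  exact h.mem_Gm h1 this hs (conj_ne z1 g)

end ACFx

open ACFx

theorem BT.fy (h : BT Q) (h0 : Syl 2 ⊤ S₀) (hW : WW Q S₀ ≤ Y) (hP : TwoG P) (hY : P ≤ Y) :
    ∃ S', Syl 2 ⊤ S' ∧ WW Q S' ≤ Y ∧ P ≤ S' ∧ ∃ g ∈ Y, WW Q S' = cj g (WW Q S₀) ∧
      ∀ c, c ∈ Gm Q S₀ ↔ g • c ∈ Gm Q S' := by
  obtain ⟨P0, hP0, hW0⟩ := Sylow_superset p2 (h0.pi.of_le (WW_le S₀)) hW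
  obtain ⟨S1, hS1, h01⟩ := Sylow_superset p2 hP0.pi (le_top (a := P0))
  obtain ⟨eG, eW⟩ := h.te.WW_eq h0 hS1 (hW0.trans h01)
  obtain ⟨g, hg, hPg⟩ := Sylow_subJ p2 hP0 hP hY
  have e : WW Q (cj g S1) = cj g (WW Q S₀) := by rw [h.te.WW_cj, eW]
  refine ⟨cj g S1, syl_cj hS1 g, e ▸ cj_le_of_mem hW hg, hPg.trans (cj_mono g h01), g, hg, e,
    fun c => ?_⟩
  rw [eG]
  exact h.te.Gm_cj g S1

theorem BT.fe (h : BT Q) (h0 : Syl 2 ⊤ S₀) (hW : WW Q S₀ ≤ Y) (hE : E ≤ S₀) (hEY : E ≤ Y)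
    (hf : Fx E (Gm Q S₀)) (hP : TwoG P) (hY : P ≤ Y) (hn : P ≤ N[E]) :
    ∃ S', Syl 2 ⊤ S' ∧ WW Q S' ≤ Y ∧ P ≤ S' ∧ E ≤ S' ∧ Fx E (Gm Q S') := by
  have tE : TwoG E := h0.pi.of_le hE
  have tPE : TwoG (P ⊔ E) := IsPi.sup' hP tE hn
  obtain ⟨P1, hP1, h1⟩ := Sylow_superset p2 tPE
    (sup_le (le_inf hY hn) (le_inf hEY (norm_self E)) : P ⊔ E ≤ Y ⊓ N[E])
  have t0 : TwoG (WW Q S₀ ⊓ C[E]) := h0.pi.of_le (inf_le_left.trans (WW_le S₀))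
  obtain ⟨g, hg, h2⟩ := Sylow_Jsub p2 hP1 t0 (inf_le_inf hW (C_le_N E))
  obtain ⟨S', hS', hW', h3, -⟩ := h.fy h0 hW hP1.pi (hP1.le.trans inf_le_left)
  have eG : Gm Q (cj g S₀) = Gm Q S' := Gm_of h h0 hS' fun c hc => by
    obtain ⟨z, hz, zC, z1, -⟩ := ex_inv h.te h0 hE hc fun x hx => hf x hx c hc
    exact ⟨z, hz.1, z1, h3 (h2 (conj_mem_cj g ⟨le_WW hc hz, zC⟩))⟩
  refine ⟨S', hS', hW', le_sup_left.trans (h1.trans h3), le_sup_right.trans (h1.trans h3),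
    fun x hx c hc => ?_⟩
  have hc' : g⁻¹ • c ∈ Gm Q S₀ := (h.te.Gm_cj g S₀).2 (by rwa [smul_inv_smul, eG])
  have := hf _ (cN' hg.2 hx) _ hc'
  rw [mul_smul, mul_smul, smul_inv_smul] at this
  exact MulAction.injective _ this

theorem BT.principle (h : BT Q) (h0 : Syl 2 ⊤ S₀) (hW : WW Q S₀ ≤ Y) (hE : E ≤ S₀) (hEY : E ≤ Y)
    (hf : Fx E (Gm Q S₀)) (hz : z ∈ Q c) (iz : Inv z) (hY : z ∈ Y) (hn : z ∈ N[E]) :
    ∀ g ∈ E, g • c = c := by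
  obtain ⟨S', hS', -, h1, -, h2⟩ := h.fe h0 hW hE hEY hf (twoE_of_sq iz.2).isPi
    (zpowers_le.2 hY) (zpowers_le.2 hn)
  exact fun g hg => h2 g hg c (h.mem_Gm hS' hz (h1 (mem_zpowers z)) iz.1)

theorem BT.ng (h : BT Q) (h1 : Syl 2 ⊤ S₁) (hW : WW Q S₁ ≤ Y) (hP : TwoG P) (hY : P ≤ Y)
    (hn : Nx P (Gm Q S₁)) :
    ∃ S₂, Syl 2 ⊤ S₂ ∧ WW Q S₂ ≤ Y ∧ P ≤ S₂ ∧ Gm Q S₂ = Gm Q S₁ := by
  obtain ⟨S', hS', hW', h3, g, hg, -, e⟩ := h.fy (Y := Y ⊓ St G (Gm Q S₁)) h1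
    (le_inf hW ((WW_le S₁).trans (le_St (h.te.nx S₁)))) hP (le_inf hY (le_St hn))
  refine ⟨S', hS', hW'.trans inf_le_left, h3, Set.ext fun c => ?_⟩
  have e1 := e (g⁻¹ • c)
  have e2 := hg.2 (g⁻¹ • c)
  rw [smul_inv_smul] at e1 e2
  rw [← e1, e2]

end ACo
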