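import Mathlib
import Cfsg.Agent.H22.AC0
import Cfsg.Agent.H22.ACF

set_option autoImplicit false
set_option linter.unusedSectionVars false
set_option linter.unusedVariables false

namespace ACo

open Cfsg H24 H26 H26.Gold H23.TC H3.B71 Subgroup MulAction
open scoped commutatorElement Pointwise

universe u

variable {G Ω : Type u} [Group G] [Finite G] [MulAction G Ω] [Finite Ω] {Q K : Ω → Subgroup G}
  {a b b' c d e : Ω} {A B E F H M P R R' S S' S₀ S₁ S₂ T T' U U1 V W X Y : Subgroup G}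
  {f g k r s t u v w x y z : G}

/-! ### ACR -/
namespace ACRx

/-- a bad element -/
def Bd (Q : Ω → Subgroup G) (Y S₁ S₂ : Subgroup G) (c : Ω) (v : G) : Prop :=
  Syl 2 ⊤ S₁ ∧ Syl 2 ⊤ S₂ ∧ WW Q S₁ ≤ Y ∧ WW Q S₂ ≤ Y ∧ v ∈ WW Q S₁ ∧ v ∈ S₂ ∧ c ∈ Gm Q S₂ ∧
    v • c ≠ c

theorem key (h : BT Q) (hS : Syl 2 ⊤ S') (hW : WW Q S' ≤ Y) (hv : v ∈ S') (hvY : v ∈ Y)
    (hf : Fx (zpowers v) (Gm Q S')) (hz : z ∈ Q c) (iz : Inv z) (hzY : z ∈ Y)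
    (hfS : z * (v * z * v⁻¹) ∈ S') (hc : z * (v * z * v⁻¹) = v * z * v⁻¹ * z) (hm : v • c ≠ c) :
    ∃ e ∈ Gm Q S', (z * (v * z * v⁻¹)) • e ≠ e := by
  by_contra hn
  push Not at hn
  set f := z * (v * z * v⁻¹) with hfd
  have hfY : f ∈ Y := Y.mul_mem hzY (cmem hvY hzY)
  have hE : zpowers v ⊔ zpowers f ≤ S' := sup_le (zpowers_le.2 hv) (zpowers_le.2 hfS)
  have hEY : zpowers v ⊔ zpowers f ≤ Y := sup_le (zpowers_le.2 hvY) (zpowers_le.2 hfY)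
  have hF : Fx (zpowers v ⊔ zpowers f) (Gm Q S') := by
    intro g hg e he
    have : zpowers v ⊔ zpowers f ≤ stabilizer G e :=
      sup_le (zpowers_le.2 (hf v (mem_zpowers v) e he)) (zpowers_le.2 (hn e he))
    exact this hg
  have hvE : v ∈ zpowers v ⊔ zpowers f := mem_sup_left (mem_zpowers v)
  have hfE : f ∈ zpowers v ⊔ zpowers f := mem_sup_right (mem_zpowers f)
  have hN : z ∈ N[zpowers v ⊔ zpowers f] := by
    refine mem_N_of_cj_le ?_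
    rw [cj_sup, cj_zpowers, cj_zpowers]
    refine sup_le (zpowers_le.2 ?_) (zpowers_le.2 ?_)
    · have : z * v * z⁻¹ = f * v := by rw [iz.inv, hfd]; group
      rw [this]; exact Subgroup.mul_mem _ hfE hvE
    · have : z * f * z⁻¹ = f := by
        calc z * f * z⁻¹ = z * (v * z * v⁻¹ * z) * z⁻¹ := by rw [hc]
          _ = f := by rw [hfd]; group
      rw [this]; exact hfE
  exact hm (h.principle hS hW hE hEY hF hz iz hzY hN v hvE)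

theorem comm (h : BT Q) (hS : Syl 2 ⊤ S₂) (hv : v ∈ S₂) (hm : v • c ≠ c) (hr : r ∈ Q c ⊓ S₂)
    (hs : s ∈ Q c ⊓ S₂) : v * r * v⁻¹ * s = s * (v * r * v⁻¹) := by
  have h1 : v * r * v⁻¹ ∈ Q (v • c) ⊓ S₂ := ⟨h.te.conj hr.1 v, cmem hv hr.2⟩
  exact comm_of_cent (h.commS (Ne.symm hm) hS.pi) h1 hs

theorem memW (h : BT Q) (hc : c ∈ Gm Q S₂) (hv : v ∈ S₂) (hr : r ∈ Q c ⊓ S₂) :
    r * (v * r * v⁻¹) ∈ WW Q S₂ :=
  Subgroup.mul_mem _ (le_WW hc hr) (cN (h.te.nWW S₂ hv) (le_WW hc hr))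

theorem fxv (h : BT Q) (hS : Syl 2 ⊤ S₁) (hv : v ∈ WW Q S₁) : Fx (zpowers v) (Gm Q S₁) :=
  fun g hg e he => h.fx hS.pi g (zpowers_le.2 hv hg) e he

theorem exists_inv (h : BT Q) : ∀ (n : ℕ) (v : G) (S₁ S₂ : Subgroup G) (c : Ω), orderOf v = n →
    Bd Q Y S₁ S₂ c v → ∃ (S₁ S₂ : Subgroup G) (c : Ω) (v : G), Bd Q Y S₁ S₂ c v ∧ Inv v := by
  intro n
  induction n using Nat.strong_induction_on with
  | _ n ih =>
  intro v S₁ S₂ c hn hb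
  obtain ⟨h1, h2, w1, w2, hv1, hv2, hc, hm⟩ := hb
  have t2 : TwoE v := h2.pi.piElt hv2
  have v1 : v ≠ 1 := by rintro rfl; exact hm (one_smul _ _)
  by_cases hsq : (v * v) • c = c
  · have hR : TwoG (Q c ⊓ S₂) := h2.pi.inf_right _
    have hvv : v * v ∈ N[Q c ⊓ S₂] := by
      have : zpowers (v * v) ≤ N[Q c ⊓ S₂] :=
        norm_inf (zpowers_le.2 (h.te.stab_le hsq))
          (zpowers_le.2 (norm_self S₂ (S₂.mul_mem hv2 hv2)))
      exact this (mem_zpowers _)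
    obtain ⟨z, hz, hzc, z1, z2⟩ := two_cent1 (h2.pi.piElt (S₂.mul_mem hv2 hv2)) hR hvv (h.te.ne_bot hc)
    have iz : Inv z := ⟨z1, z2⟩
    have hcm := comm h h2 hv2 hm hz hz
    have hne : z ≠ v * z * v⁻¹ := fun e => hm (h.te.ti _ _ z (e ▸ h.te.conj hz.1 v) hz.1 iz)
    have iF : Inv (z * (v * z * v⁻¹)) := Inv.mul iz (iz.conj v) hne hcm.symm
    have hfW := memW h hc hv2 hz
    have hfv : z * (v * z * v⁻¹) ∈ C{v} := by
      rw [mem_C1]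
      have : v * v * z * (v * v)⁻¹ = z := conj_of_comm hzc
      calc z * (v * z * v⁻¹) * v = v * z * v⁻¹ * z * v := by rw [hcm]
        _ = v * z * v⁻¹ * (v * v * z * (v * v)⁻¹) * v := by rw [this]
        _ = v * (z * (v * z * v⁻¹)) := by group
    obtain ⟨S', hS', hW', hP, hE, hF⟩ := h.fe h1 w1 (zpowers_le.2 (WW_le S₁ hv1))
      (zpowers_le.2 (w1 hv1)) (fxv h h1 hv1)
      (P := zpowers (z * (v * z * v⁻¹))) (h2.pi.piElt (WW_le S₂ hfW)).isPi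
      (zpowers_le.2 (w2 hfW)) (norm_zpowers_of_cent (zpowers_le.2 hfv))
    obtain ⟨e, he, hme⟩ := key h hS' hW' (hE (mem_zpowers _)) (w1 hv1) hF hz.1 iz
      (w2 (le_WW hc hz)) (hP (mem_zpowers _)) hcm.symm hm
    exact ⟨S₂, S', e, _, ⟨h2, hS', w2, hW', hfW, hP (mem_zpowers _), he, hme⟩, iF⟩
  · refine ih (orderOf (v * v)) ?_ (v * v) S₁ S₂ c rfl
      ⟨h1, h2, w1, w2, Subgroup.mul_mem _ hv1 hv1, S₂.mul_mem hv2 hv2, hc, hsq⟩
    rw [← hn, ← pow_two, orderOf_pow_of_dvd two_ne_zero (t2.dvd_orderOf v1)]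
    exact Nat.div_lt_self (orderOf_pos v) one_lt_two

/-- the diagonal subgroup -/
def Dg (h : BT Q) (hS : Syl 2 ⊤ S₂) (hv : v ∈ S₂) (hm : v • c ≠ c) : Subgroup G where
  carrier := {f | ∃ r ∈ Q c ⊓ S₂, f = r * (v * r * v⁻¹)}
  one_mem' := ⟨1, Subgroup.one_mem _, by group⟩
  mul_mem' := by
    rintro _ _ ⟨r, hr, rfl⟩ ⟨s, hs, rfl⟩
    refine ⟨r * s, Subgroup.mul_mem _ hr hs, ?_⟩
    calc r * (v * r * v⁻¹) * (s * (v * s * v⁻¹)) = r * (v * r * v⁻¹ * s) * (v * s * v⁻¹) := by group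
      _ = r * (s * (v * r * v⁻¹)) * (v * s * v⁻¹) := by rw [comm h hS hv hm hr hs]
      _ = _ := by group
  inv_mem' := by
    rintro _ ⟨r, hr, rfl⟩
    refine ⟨r⁻¹, Subgroup.inv_mem _ hr, ?_⟩
    rw [← comm h hS hv hm hr hr]; group

end ACRx

open ACRx in
theorem BT.bad (h : BT Q) (ih : ∀ Y', Y' < Y → NSY Q Y') (hn : ¬ NSY Q Y) :
    ∃ S₂ S' F c v, Bad Q Y S₂ S' F c v := by
  have h0 : ∃ (S₁ S₂ : Subgroup G) (c : Ω) (v : G), Bd Q Y S₁ S₂ c v := by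
    by_contra hc
    refine hn fun S₁ S₂ h1 h2 w1 w2 v hv1 hv2 c hcm => ?_
    by_contra hm
    exact hc ⟨S₁, S₂, c, v, h1, h2, w1, w2, hv1, hv2, hcm, hm⟩
  obtain ⟨S₁, S₂, c, v, hb⟩ := h0
  obtain ⟨S₁, S₂, c, v, hb, iv⟩ := exists_inv h _ v S₁ S₂ c rfl hb
  obtain ⟨h1, h2, w1, w2, hv1, hv2, hc, hm⟩ := hb
  have hFW : Dg h h2 hv2 hm ≤ WW Q S₂ := by
    rintro _ ⟨r, hr, rfl⟩
    exact memW h hc hv2 hr
  have hFv : Dg h h2 hv2 hm ≤ C{v} := by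
    rintro _ ⟨r, hr, rfl⟩
    rw [mem_C1]
    have hcm := comm h h2 hv2 hm hr hr
    calc r * (v * r * v⁻¹) * v = v * r * v⁻¹ * r * v := by rw [hcm]
      _ = v * r * v * r * v⁻¹ := by rw [iv.inv]
      _ = v * (r * (v * r * v⁻¹)) := by group
  obtain ⟨S', hS', hW', hP, hE, hF⟩ := h.fe h1 w1 (zpowers_le.2 (WW_le S₁ hv1))
    (zpowers_le.2 (w1 hv1)) (fxv h h1 hv1) (P := Dg h h2 hv2 hm)
    (h2.pi.of_le (hFW.trans (WW_le S₂))) (hFW.trans w2) (norm_zpowers_of_cent hFv)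
  refine ⟨S₂, S', Dg h h2 hv2 hm, c, v, h, ih, h2, hS', w2, hW', hc, iv, hv2, hm,
    fun f => Iff.rfl, hFW, hP, ?_⟩
  rintro f ⟨r, hr, rfl⟩ iF
  have hcm := comm h h2 hv2 hm hr hr
  have r1 : r ≠ 1 := by rintro rfl; exact iF.1 (by group)
  have r2 : r * r = 1 := by
    by_contra hne
    have e1 : r * r = (v * (r * r) * v⁻¹)⁻¹ := by
      rw [eq_inv_iff_mul_eq_one, ← iF.2]
      calc r * r * (v * (r * r) * v⁻¹) = r * (r * (v * r * v⁻¹)) * (v * r * v⁻¹) := by group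
        _ = r * (v * r * v⁻¹ * r) * (v * r * v⁻¹) := by rw [hcm]
        _ = _ := by group
    have m1 : r * r ∈ Q c ⊓ S₂ := Subgroup.mul_mem _ hr hr
    have m2 : r * r ∈ Q (v • c) := by
      rw [e1]; exact Subgroup.inv_mem _ (h.te.conj m1.1 v)
    exact hm (h.te.two m2 m1.1 (h2.pi.piElt m1.2) hne)
  exact key h hS' hW' (hE (mem_zpowers _)) (w1 hv1) hF hr.1 ⟨r1, r2⟩
    (w2 (le_WW hc hr)) (hP ⟨r, hr, rfl⟩) hcm.symm hm

end ACo
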