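import Mathlib
import Cfsg.Agent.H22.AC0
import Cfsg.Agent.H22.ACF

set_option autoImplicit false
set_option linter.unusedSectionVars false
set_option linter.unusedVariables false

namespace ACo

open Cfsg H24 H26 H26.Gold H23.TC H3.B71 Subgroup MulAction
open scoped commutatorElement Pointwise

universe u

variable {G Ω : Type u} [Group G] [Finite G] [MulAction G Ω] [Finite Ω] {Q K : Ω → Subgroup G}
  {a b b' c d e : Ω} {A B E F H M P R R' S S' S₀ S₁ S₂ T T' U U1 V W X Y : Subgroup G}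
  {f g k r s t u v w x y z : G}

/-! ### ACX -/

namespace ACXx

/-- the pointwise stabiliser -/
def Pt (G : Type u) [Group G] {Ω : Type u} [MulAction G Ω] (Γ : Set Ω) : Subgroup G where
  carrier := {g | ∀ c ∈ Γ, g • c = c}
  one_mem' := fun c _ => one_smul _ c
  mul_mem' := fun {x y} hx hy c hc => by rw [mul_smul, hy c hc, hx c hc]
  inv_mem' := fun {x} hx c hc => by rw [inv_smul_eq_iff, hx c hc]

theorem mem_Pt {Γ : Set Ω} : g ∈ Pt G Γ ↔ ∀ c ∈ Γ, g • c = c := Iff.rfl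

theorem le_Pt {Γ : Set Ω} (h : Fx E Γ) : E ≤ Pt G Γ := h

theorem N_Pt {Γ : Set Ω} (h : Nx P Γ) : P ≤ N[Pt G Γ] := fun g hg =>
  mem_N_of_finite fun x hx c hc => by
    rw [mul_smul, mul_smul, hx _ (h _ (inv_mem hg) c hc), smul_inv_smul]

theorem nml_Pt {Γ : Set Ω} (h : TE Q) (hc : c ∈ Γ) : Q c ⊓ Pt G Γ ⊴ Pt G Γ :=
  ⟨inf_le_right, fun g hg => mem_N_of_finite fun x hx =>
    ⟨cN (h.stab_le (hg c hc)) hx.1, cmem hg hx.2⟩⟩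

/-- a Sylow subgroup of a join of normal subgroups -/
theorem syl_iSup (hS : Syl 2 H S) (A : Ω → Subgroup G) (Γ : Set Ω) (hA : ∀ c ∈ Γ, A c ⊴ H) :
    (⨆ c ∈ Γ, A c) ⊴ H ∧ (⨆ c ∈ Γ, A c) ⊓ S = ⨆ c ∈ Γ, A c ⊓ S := by
  induction Γ, Set.toFinite Γ using Set.Finite.induction_on with
  | empty => simp only [Set.mem_empty_iff_false, iSup_false, iSup_bot, bot_inf_eq, and_true]
             exact ⟨bot_le, fun g _ => mem_N_iff_cj.2 (cj_bot g)⟩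
  | insert _ _ ih =>
    obtain ⟨h1, h2⟩ := ih fun c hc => hA c (Set.mem_insert_of_mem _ hc)
    have h3 := hA _ (Set.mem_insert _ _)
    rw [iSup_insert, iSup_insert, syl_sup hS h3 h1, h2]
    exact ⟨⟨sup_le h3.le h1.le, fun g hg => mem_N_iff_cj.2 (by
      rw [cj_sup, cj_of_mem_N (h3.norm hg), cj_of_mem_N (h1.norm hg)])⟩, rfl⟩

/-- the frame is the intersection of the Sylow subgroup with the join of the `Q c ⊓ M` -/
theorem inf_eq (h : BT Q) (hS : Syl 2 ⊤ S) :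
    (⨆ c ∈ Gm Q S, Q c ⊓ Pt G (Gm Q S)) ⊓ S = WW Q S := by
  have h1 : Syl 2 (Pt G (Gm Q S)) (S ⊓ Pt G (Gm Q S)) := hS.inf_norm le_top (N_Pt (h.te.nx S))
  obtain ⟨h2, h3⟩ := syl_iSup h1 (fun c => Q c ⊓ Pt G (Gm Q S)) (Gm Q S) fun c hc => nml_Pt h.te hc
  refine le_antisymm (fun x hx => ?_) (le_inf ?_ (WW_le S))
  · have : x ∈ ⨆ c ∈ Gm Q S, Q c ⊓ Pt G (Gm Q S) ⊓ (S ⊓ Pt G (Gm Q S)) :=
      h3 ▸ (⟨hx.1, hx.2, h2.le hx.1⟩ : x ∈ _ ⊓ (S ⊓ Pt G (Gm Q S)))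
    exact (iSup₂_le fun c hc => (inf_le_inf inf_le_left inf_le_left).trans (le_WW hc) :
      _ ≤ WW Q S) this
  · exact iSup₂_mono fun c hc => le_inf inf_le_left ((le_WW hc).trans (le_Pt (h.fx hS.pi)))

theorem WW_le_X (h : BT Q) (hS : Syl 2 ⊤ S) {Γ : Set Ω} (e : Gm Q S = Γ) :
    WW Q S ≤ ⨆ c ∈ Γ, Q c ⊓ Pt G Γ := by
  subst e
  rw [← inf_eq h hS]
  exact inf_le_left

/-- two Sylow subgroups whose frames are fixed by a common element have conjugate frames -/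
theorem exists_conj (h : BT Q) (h1 : Syl 2 ⊤ S₁) (h2 : Syl 2 ⊤ S₂) (v1 : v ∈ S₁) (v2 : v ∈ S₂)
    (f1 : ∀ c ∈ Gm Q S₁, v • c = c) (f2 : ∀ c ∈ Gm Q S₂, v • c = c) :
    ∃ g ∈ C{v}, Gm Q (cj g S₁) = Gm Q S₂ := by
  have key : ∀ {S : Subgroup G}, Syl 2 ⊤ S → v ∈ S → (∀ c ∈ Gm Q S, v • c = c) →
      ∀ c ∈ Gm Q S, ∃ z ∈ Q c, z ≠ 1 ∧ z ∈ S ⊓ C{v} := fun {S} hS hv hf c hc => by
    obtain ⟨z, hz, zC, z1, -⟩ := ACFx.ex_inv h.te hS (zpowers_le.2 hv) hc fun x hx =>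
      (zpowers_le.2 (mem_stabilizer_iff.2 (hf c hc)) : zpowers v ≤ stabilizer G c) hx
    exact ⟨z, hz.1, z1, hz.2, C_zpowers v ▸ zC⟩
  obtain ⟨P, hP, hP2⟩ := Sylow_superset p2 (h2.pi.inf_left C{v}) inf_le_right
  obtain ⟨g, hg, hP1⟩ := Sylow_Jsub p2 hP (h1.pi.inf_left C{v}) inf_le_right
  obtain ⟨S₃, h3, hP3⟩ := Sylow_superset p2 hP.pi (le_top (a := P))
  refine ⟨g, hg, (ACFx.Gm_of h h1 h3 fun c hc => ?_).trans ?_⟩
  · obtain ⟨z, hz, z1, zS⟩ := key h1 v1 f1 c hc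
    exact ⟨z, hz, z1, hP3 (hP1 (conj_mem_cj g zS))⟩
  · refine (h.te.Gm_eq h2 h3 fun c hc => ?_).symm
    obtain ⟨z, hz, z1, zS⟩ := key h2 v2 f2 c hc
    exact h.mem_Gm h3 hz (hP3 (hP2 zS)) z1

end ACXx

open ACXx

theorem BT.mem_WW (h : BT Q) (h1 : Syl 2 ⊤ S₁) (h2 : Syl 2 ⊤ S₂) (hv : v ∈ WW Q S₁) (hS : v ∈ S₂)
    (hf : ∀ c ∈ Gm Q S₂, v • c = c) : v ∈ WW Q S₂ := by
  obtain ⟨g, hg, e⟩ := exists_conj h h1 h2 (WW_le S₁ hv) hS (h.fx h1.pi v hv) hf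
  have h3 : v ∈ WW Q (cj g S₁) := by
    have := conj_mem_cj g hv
    rwa [conj_of_comm (mem_C1.1 hg), ← h.te.WW_cj] at this
  rw [← inf_eq h h2]
  exact ⟨WW_le_X h (ACFx.syl_cj h1 g) e h3, hS⟩

theorem BT.scw_of (h : BT Q) (hn : NSY Q ⊤) (hS : Syl 2 ⊤ S) : IsStronglyClosed (WW Q S) S := by
  refine ⟨WW_le S, fun x hx g hg => ?_⟩
  have h1 : g * x * g⁻¹ ∈ WW Q (cj g S) := by
    rw [h.te.WW_cj]
    exact conj_mem_cj g hx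
  exact h.mem_WW (ACFx.syl_cj hS g) hS h1 hg
    (hn _ _ (ACFx.syl_cj hS g) hS le_top le_top _ h1 hg)

end ACo
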