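import Mathlib
import Cfsg.Agent.H22.AC0
import Cfsg.Agent.H22.ACX

set_option autoImplicit false
set_option linter.unusedSectionVars false
set_option linter.unusedVariables false

namespace ACo

open Cfsg H24 H26 H26.Gold H23.TC H3.B71 Subgroup MulAction
open scoped commutatorElement Pointwise

universe u

variable {G Ω : Type u} [Group G] [Finite G] [MulAction G Ω] [Finite Ω] {Q K : Ω → Subgroup G}
  {a b b' c d e : Ω} {A B E F H M P R R' S S' S₀ S₁ S₂ T T' U U1 V W X Y : Subgroup G}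
  {f g k r s t u v w x y z : G}

/-! ### ACS -/

namespace ACSx

/-- `r ↦ r * r ^ g` when `R` commutes with `R ^ g` -/
def sg (R : Subgroup G) (g : G)
    (hc : ∀ r ∈ R, ∀ s ∈ R, r * (g * s * g⁻¹) = g * s * g⁻¹ * r) : R →* G :=
  MonoidHom.mk' (fun r => (r : G) * (g * r * g⁻¹)) (by
    intro r s
    have := hc s s.2 r r.2
    simp only [Subgroup.coe_mul]
    calc (r : G) * s * (g * (r * s) * g⁻¹) = r * (s * (g * r * g⁻¹)) * (g * s * g⁻¹) := by group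
      _ = r * (g * r * g⁻¹ * s) * (g * s * g⁻¹) := by rw [this]
      _ = _ := by group)

theorem ap_sg (hc : ∀ r ∈ R, ∀ s ∈ R, r * (g * s * g⁻¹) = g * s * g⁻¹ * r) (hr : r ∈ R) :
    ap (sg R g hc) r = r * (g * r * g⁻¹) := by
  rw [ap_of_mem _ hr]; rfl

theorem mem_sg (hc : ∀ r ∈ R, ∀ s ∈ R, r * (g * s * g⁻¹) = g * s * g⁻¹ * r) :
    x ∈ img (sg R g hc) R ↔ ∃ r ∈ R, x = r * (g * r * g⁻¹) := by
  rw [mem_img_of_le le_rfl]
  constructor
  · rintro ⟨r, hr, rfl⟩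
    exact ⟨r, hr, ap_sg hc hr⟩
  · rintro ⟨r, hr, rfl⟩
    exact ⟨r, hr, ap_sg hc hr⟩

theorem sg_comm (hc : ∀ r ∈ R, ∀ s ∈ R, r * (g * s * g⁻¹) = g * s * g⁻¹ * r)
    (hr : r ∈ ⁅R, R⁆) : r * (g * r * g⁻¹) ∈ ⁅img (sg R g hc) R, img (sg R g hc) R⁆ := by
  have h1 : r ∈ R := der1_le R hr
  rw [← img_comm _ le_rfl le_rfl, ← ap_sg hc h1]
  exact ap_mem_img _ hr h1

theorem ix_comm (h : Ix2 A U) : ⁅U, U⁆ ≤ A := by
  rw [Subgroup.commutator_le]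
  intro a ha b hb
  rw [commutatorElement_def]
  by_cases h1 : a ∈ A
  · by_cases h2 : b ∈ A
    · exact A.mul_mem (A.mul_mem (A.mul_mem h1 h2) (A.inv_mem h1)) (A.inv_mem h2)
    · refine h _ (cmem ha hb) _ (U.inv_mem hb) (fun h3 => h2 ?_) (fun h3 => h2 (by simpa using h3))
      have := cmem (A.inv_mem h1) h3
      simpa [mul_assoc] using this
  · by_cases h2 : b ∈ A
    · have : a * b * a⁻¹ * b⁻¹ = a * (b * a⁻¹ * b⁻¹) := by group
      rw [this]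
      refine h _ ha _ (cmem hb (U.inv_mem ha)) h1 (fun h3 => h1 ?_)
      have := cmem (A.inv_mem h2) h3
      simpa [mul_assoc] using this
    · have : a * b * a⁻¹ * b⁻¹ = a * b * (a⁻¹ * b⁻¹) := by group
      rw [this]
      exact A.mul_mem (h _ ha _ hb h1 h2) (h _ (U.inv_mem ha) _ (U.inv_mem hb)
        (fun h3 => h1 (by simpa using h3)) (fun h3 => h2 (by simpa using h3)))

theorem cS (h : BT Q) (hS : TwoG S) (hab : a ≠ b) (hx : x ∈ Q a) (hxS : x ∈ S) (hy : y ∈ Q b)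
    (hyS : y ∈ S) : x * y = y * x :=
  (comm_of_cent (h.commS hab hS) ⟨hy, hyS⟩ ⟨hx, hxS⟩).symm

theorem hcomm (h : BT Q) (hS : TwoG S) (hg : g ∈ S) (hm : g • c ≠ c) :
    ∀ r ∈ Q c ⊓ S, ∀ s ∈ Q c ⊓ S, r * (g * s * g⁻¹) = g * s * g⁻¹ * r := fun r hr s hs =>
  cS h hS hm.symm hr.1 hr.2 (h.te.conj hs.1 g) (cmem hg hs.2)

end ACSx

open ACSx

theorem Bad.third (h : Bad Q Y S₂ S' F c v) (hf : f ∈ F) (i : Inv f) (hc : f ∈ C[WW Q S₂])
    (hP : P ≤ S') (hY : P ≤ Y) (hPf : P ≤ C{f}) :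
    ∃ S₃, Syl 2 ⊤ S₃ ∧ WW Q S₃ ≤ Y ⊓ C{f} ∧ P ≤ S₃ ∧ F ≤ WW Q S₃ ∧ Fx F (Gm Q S₃) := by
  have hW : WW Q S₂ ≤ Y ⊓ C{f} := le_inf h.w₂ (mem_C_iff_le_C1.1 hc)
  have hlt : Y ⊓ C{f} < Y := by
    refine lt_of_le_of_ne inf_le_left fun he => ?_
    obtain ⟨e, he', hm⟩ := h.moves f hf i
    have hs : Syl 2 (Q e) (Q e ⊓ S') := he'
    obtain ⟨x, hx, x1, x2⟩ := TwoG.exists_inv hs.pi (h.bt.te.ne_bot hs)
    have hxY : x ∈ Y ⊓ C{f} := by
      rw [he]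
      exact h.w' (le_WW he' hx)
    exact hm (h.bt.te.fix_comm hx.1 (twoE_of_sq x2) x1 (mem_C1.1 hxY.2).symm)
  have h2 : TwoG (P ⊔ F) := h.s'.pi.of_le (sup_le hP h.FS)
  have h3 : P ⊔ F ≤ Y ⊓ C{f} := sup_le (le_inf hY hPf) (h.FW.trans hW)
  obtain ⟨S₃, hS, hW3, hPS, -⟩ := h.bt.fy h.s₂ hW h2 h3
  have hfx : Fx F (Gm Q S₃) := fun g hg d hd =>
    h.ih _ hlt S₂ S₃ h.s₂ hS hW hW3 g (h.FW hg) (hPS (mem_sup_right hg)) d hd
  exact ⟨S₃, hS, hW3, le_sup_left.trans hPS, fun g hg =>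
    h.bt.mem_WW h.s₂ hS (h.FW hg) (hPS (mem_sup_right hg)) (hfx g hg), hfx⟩

theorem Bad.nab (h : Bad Q Y S₂ S' F c v) (hn : ¬ Abl (Q c ⊓ S₂)) : False := by
  have te := h.bt.te
  have hs : Syl 2 (Q c) (Q c ⊓ S₂) := h.mem
  have hcv := hcomm h.bt h.s₂.pi h.vS h.mv
  have hFe : img (sg _ v hcv) (Q c ⊓ S₂) = F := by
    ext x
    rw [mem_sg, h.memF]
  obtain ⟨z, hz, hzC, z1, z2⟩ := two_cent hs.pi (hs.pi.of_le (der1_le _)) (norm_comm_left _ _)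
    (fun h0 => hn (der1_eq_bot.1 h0))
  have hzR : z ∈ Q c ⊓ S₂ := der1_le _ hz
  obtain ⟨f, hf⟩ : ∃ f, f = z * (v * z * v⁻¹) := ⟨_, rfl⟩
  have hfF : f ∈ F := (h.memF f).2 ⟨z, hzR, hf⟩
  have hfFF : f ∈ ⁅F, F⁆ := by
    rw [← hFe, hf]
    exact sg_comm hcv hz
  have i : Inv f := by
    have z2' : v * z * v⁻¹ * (v * z * v⁻¹) = 1 := by
      rw [← H23.TC.conj_mul, z2]; group
    refine ⟨fun h1 => h.mv ?_, by rw [hf]; exact sq_mul z2 z2' (hcv z hzR z hzR)⟩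
    have e1 : v * z * v⁻¹ = z := by
      have : v * z * v⁻¹ = z⁻¹ := eq_inv_of_mul_eq_one_right (hf ▸ h1)
      rw [this, inv_sq z2]
    have := te.conj hzR.1 v
    rw [e1] at this
    exact te.ti _ _ z this hzR.1 ⟨z1, z2⟩
  have hzW : z ∈ C[WW Q S₂] := h.bt.cent_WW h.s₂.pi hzR hzC
  have hfC : f ∈ C[WW Q S₂] := by
    rw [hf]
    exact mul_mem hzW (cN (N_le_NC _ (te.nWW S₂ h.vS)) hzW)
  obtain ⟨e, he, hm⟩ := h.moves f hfF i
  have hse : Syl 2 (Q e) (Q e ⊓ S') := he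
  obtain ⟨φ, hφ, m1, m2⟩ : ∃ φ ∈ F, φ • e ≠ e ∧ φ • e ≠ f • e := by
    by_contra hno
    have hno' : ∀ φ ∈ F, φ • e ≠ e → φ • e = f • e := fun φ hφ h1 => by
      by_contra h2
      exact hno ⟨φ, hφ, h1, h2⟩
    have ix : Ix2 (stabilizer G e) F := by
      intro a ha b hb h1 h2
      rw [mem_stabilizer_iff] at h1 h2 ⊢
      by_contra h3
      have e1 := hno' _ (F.mul_mem ha hb) h3
      rw [mul_smul, ← hno' a ha h1] at e1
      exact h2 (smul_left_cancel a e1)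
    exact hm (mem_stabilizer_iff.1 (ix_comm ix hfFF))
  have hφf : φ * f = f * φ := mem_C.1 hfC φ (h.FW hφ)
  have fS : f ∈ S' := h.FS hfF
  have φS : φ ∈ S' := h.FS hφ
  have hne : ¬ Abl (Q e ⊓ S') := by
    obtain ⟨g, -, hg⟩ := te.syl_conj hse hs
    intro hab
    exact hn (hg ▸ hab.cj g)
  have hcf := hcomm h.bt h.s'.pi fS hm
  have f2 : f * f = 1 := i.2
  have fi : f⁻¹ = f := inv_sq f2
  obtain ⟨S₃, hS, -, hPS, hFW, hfx⟩ := h.third (P := img (sg _ f hcf) (Q e ⊓ S')) hfF i hfC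
    (fun x hx => by
      obtain ⟨r, hr, rfl⟩ := (mem_sg hcf).1 hx
      exact mul_mem hr.2 (cmem fS hr.2))
    (fun x hx => by
      obtain ⟨r, hr, rfl⟩ := (mem_sg hcf).1 hx
      have hrY : r ∈ Y := h.w' (le_WW he hr)
      exact mul_mem hrY (cmem (h.w₂ (h.FW hfF)) hrY))
    (fun x hx => by
      obtain ⟨r, hr, rfl⟩ := (mem_sg hcf).1 hx
      rw [mem_C1]
      calc r * (f * r * f⁻¹) * f = r * f * r := by group
        _ = f * f * r * f⁻¹ * r := by rw [f2, fi]; group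
        _ = f * (f * r * f⁻¹ * r) := by group
        _ = f * (r * (f * r * f⁻¹)) := by rw [hcf r hr r hr])
  have n3 : φ • f • e ≠ e := by
    intro h1
    apply m2
    rw [← mul_smul, hφf, mul_smul] at h1
    have := congrArg (fun x => f • x) h1
    simp only [← mul_smul, ← mul_assoc, f2, one_mul] at this
    exact this
  have n4 : φ • f • e ≠ f • e := by
    intro h1
    rw [← mul_smul, hφf, mul_smul] at h1
    exact m1 (smul_left_cancel f h1)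
  have hPP : ⁅img (sg _ f hcf) (Q e ⊓ S'), img (sg _ f hcf) (Q e ⊓ S')⁆ ≤
      fixingSubgroup G (Gm Q S₃) := by
    rw [Subgroup.commutator_le]
    intro a ha b hb
    have aS := hPS ha
    have bS := hPS hb
    have hab : φ * a * φ⁻¹ * b = b * (φ * a * φ⁻¹) := by
      obtain ⟨r, hr, rfl⟩ := (mem_sg hcf).1 ha
      obtain ⟨s, hs', rfl⟩ := (mem_sg hcf).1 hb
      have q1 := te.conj hr.1 φ
      have q2 := te.conj (te.conj hr.1 f) φ
      have q3 := te.conj hs'.1 f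
      have s1 := cmem φS hr.2
      have s2 := cmem φS (cmem fS hr.2)
      have s3 := cmem fS hs'.2
      have c1 : Commute (φ * r * φ⁻¹) s := cS h.bt h.s'.pi m1 q1 s1 hs'.1 hs'.2
      have c2 : Commute (φ * r * φ⁻¹) (f * s * f⁻¹) := cS h.bt h.s'.pi m2 q1 s1 q3 s3
      have c3 : Commute (φ * (f * r * f⁻¹) * φ⁻¹) s := cS h.bt h.s'.pi n3 q2 s2 hs'.1 hs'.2
      have c4 : Commute (φ * (f * r * f⁻¹) * φ⁻¹) (f * s * f⁻¹) :=
        cS h.bt h.s'.pi n4 q2 s2 q3 s3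
      rw [H23.TC.conj_mul]
      exact ((c1.mul_right c2).mul_left (c3.mul_right c4)).eq
    have key : ∀ y ∈ Gm Q S₃, (φ * a * φ⁻¹) • y = a • y := fun y hy => by
      rw [mul_smul, mul_smul, hfx _ (F.inv_mem hφ) y hy, hfx _ hφ _ (te.nx S₃ a aS y hy)]
    rw [mem_fixingSubgroup_iff]
    intro x hx
    have hy : a⁻¹ • b⁻¹ • x ∈ Gm Q S₃ :=
      te.nx S₃ _ (inv_mem aS) _ (te.nx S₃ _ (inv_mem bS) x hx)
    rw [commutatorElement_def, mul_smul, mul_smul, mul_smul, ← key _ (te.nx S₃ b bS _ hy),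
      ← mul_smul, hab, mul_smul, key _ hy, smul_inv_smul, smul_inv_smul]
  obtain ⟨u, hu, u1, u2⟩ := TwoG.exists_inv (hse.pi.of_le (der1_le _))
    (fun h0 => hne (der1_eq_bot.1 h0))
  have huR : u ∈ Q e ⊓ S' := der1_le _ hu
  have hg := sg_comm hcf hu
  have hgS : u * (f * u * f⁻¹) ∈ S₃ := hPS (der1_le _ hg)
  have hE : zpowers f ⊔ zpowers (u * (f * u * f⁻¹)) ≤ S₃ :=
    sup_le (zpowers_le.2 (WW_le S₃ (hFW hfF))) (zpowers_le.2 hgS)
  have hEf : zpowers f ⊔ zpowers (u * (f * u * f⁻¹)) ≤ fixingSubgroup G (Gm Q S₃) :=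
    sup_le (zpowers_le.2 ((mem_fixingSubgroup_iff G).2 (hfx f hfF))) (zpowers_le.2 (hPP hg))
  have hN : u ∈ N[zpowers f ⊔ zpowers (u * (f * u * f⁻¹))] := by
    apply mem_N_of_cj_le
    rw [cj_sup, cj_zpowers, cj_zpowers]
    refine sup_le (zpowers_le.2 ?_) (zpowers_le.2 ?_)
    · have : u * f * u⁻¹ = u * (f * u * f⁻¹) * f := by rw [inv_sq u2]; group
      rw [this]
      exact mul_mem (mem_sup_right (mem_zpowers _)) (mem_sup_left (mem_zpowers _))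
    · have : u * (u * (f * u * f⁻¹)) * u⁻¹ = u * (f * u * f⁻¹) := by
        rw [hcf u huR u huR, ← mul_assoc, hcf u huR u huR]; group
      rw [this]
      exact mem_sup_right (mem_zpowers _)
  exact hm (h.bt.principle (Y := ⊤) hS le_top hE le_top
    (fun g hg => (mem_fixingSubgroup_iff G).1 (hEf hg)) huR.1 ⟨u1, u2⟩ (mem_top _) hN f
    (mem_sup_left (mem_zpowers f)))

end ACo
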