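import Mathlib
import Cfsg.Agent.H22.AC0
import Cfsg.Agent.H22.ACS

set_option autoImplicit false
set_option linter.unusedSectionVars false
set_option linter.unusedVariables false

namespace ACo

open Cfsg H24 H26 H26.Gold H23.TC H3.B71 Subgroup MulAction
open scoped commutatorElement Pointwise

universe u

variable {G Ω : Type u} [Group G] [Finite G] [MulAction G Ω] [Finite Ω] {Q K : Ω → Subgroup G}
  {a b b' c d e : Ω} {A B E F H M P R R' S S' S₀ S₁ S₂ T T' U U1 V W X Y : Subgroup G}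
  {f g k r s t u v w x y z : G}

/-! ### ACT -/

namespace ACTx

theorem ablW (h : Bad Q Y S₂ S' F c v) (hab : Abl (Q c ⊓ S₂)) (hS : Syl 2 ⊤ S) : Abl (WW Q S) :=
  h.bt.abl h.mem hab hS.pi

theorem cW (h : Bad Q Y S₂ S' F c v) (hab : Abl (Q c ⊓ S₂)) (hf : f ∈ F) : f ∈ C[WW Q S₂] :=
  (ablW h hab h.s₂).le_C (h.FW hf)

theorem commF (h : Bad Q Y S₂ S' F c v) (hab : Abl (Q c ⊓ S₂)) (hx : x ∈ F) (hy : y ∈ F) :
    x * y = y * x :=
  (ablW h hab h.s₂).comm (h.FW hx) (h.FW hy)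

theorem conjW (h : Bad Q Y S₂ S' F c v) (hx : x ∈ F) (hr : r ∈ WW Q S') :
    x * r * x⁻¹ ∈ WW Q S' :=
  H24.conj_mem (h.bt.te.nWW S' (h.FS hx)) hr

/-- the diagonal map -/
def sg (v r : G) : G := r * (v * r * v⁻¹)

theorem sg_mem (h : Bad Q Y S₂ S' F c v) (hr : r ∈ Q c ⊓ S₂) : sg v r ∈ F :=
  (h.memF _).2 ⟨r, hr, rfl⟩

theorem sg_mul (h : Bad Q Y S₂ S' F c v) (hab : Abl (Q c ⊓ S₂)) (hr : r ∈ Q c ⊓ S₂)
    (hs : s ∈ Q c ⊓ S₂) : sg v (r * s) = sg v r * sg v s := by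
  have h1 : v * r * v⁻¹ ∈ WW Q S₂ := H24.conj_mem (h.bt.te.nWW S₂ h.vS) (le_WW h.mem hr)
  have h2 := (ablW h hab h.s₂).comm h1 (le_WW h.mem hs)
  unfold sg
  calc r * s * (v * (r * s) * v⁻¹) = r * (s * (v * r * v⁻¹)) * (v * s * v⁻¹) := by group
    _ = _ := by rw [← h2]; group

theorem sg_one : sg v 1 = 1 := by simp [sg]

theorem sg_eq_one (h : Bad Q Y S₂ S' F c v) (hr : r ∈ Q c ⊓ S₂) (h1 : sg v r = 1) : r = 1 := by
  have h2 : r = (v * r * v⁻¹)⁻¹ := eq_inv_of_mul_eq_one_left h1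
  have h3 : r ∈ Q (v • c) := by
    have := inv_mem (h.bt.te.conj hr.1 v)
    rwa [← h2] at this
  have h4 : r ∈ Q c ⊓ Q (v • c) ⊓ S₂ := ⟨⟨hr.1, h3⟩, hr.2⟩
  rwa [h.bt.te.bot h.mv.symm h.s₂.pi, mem_bot] at h4

theorem sg_pow (h : Bad Q Y S₂ S' F c v) (hab : Abl (Q c ⊓ S₂)) (hr : r ∈ Q c ⊓ S₂) (n : ℕ) :
    sg v (r ^ n) = sg v r ^ n := by
  induction n with
  | zero => simp [sg_one]
  | succ n ih => rw [pow_succ, sg_mul h hab (pow_mem hr n) hr, ih, pow_succ]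

theorem sg_inv (h : Bad Q Y S₂ S' F c v) (hab : Abl (Q c ⊓ S₂)) (hr : r ∈ Q c ⊓ S₂) (h1 : r ≠ 1)
    (h2 : r * r = 1) : Inv (sg v r) :=
  ⟨fun e => h1 (sg_eq_one h hr e), by rw [← sg_mul h hab hr hr, h2, sg_one]⟩

theorem sg_inj (h : Bad Q Y S₂ S' F c v) (hab : Abl (Q c ⊓ S₂)) (hr : r ∈ Q c ⊓ S₂)
    (hs : s ∈ Q c ⊓ S₂) (e : sg v r = sg v s) : r = s := by
  have h1 := sg_mul h hab (mul_mem hr (inv_mem hs)) hs
  rw [inv_mul_cancel_right, e] at h1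
  exact mul_inv_eq_one.1 (sg_eq_one h (mul_mem hr (inv_mem hs)) (by simpa using h1.symm))

theorem r2F (h : Bad Q Y S₂ S' F c v) (hab : Abl (Q c ⊓ S₂)) :
    ∃ a ∈ F, ∃ b ∈ F, Inv a ∧ Inv b ∧ a ≠ b := by
  obtain ⟨a, ha, b, hb, a2, b2, a1, b1, ab, -⟩ := h.bt.four c _ h.mem
  exact ⟨_, sg_mem h ha, _, sg_mem h hb, sg_inv h hab ha a1 a2, sg_inv h hab hb b1 b2,
    fun e => ab (sg_inj h hab ha hb e)⟩

/-- the third frame for `P = ⟨r r^f⟩` -/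
theorem third' (h : Bad Q Y S₂ S' F c v) (hab : Abl (Q c ⊓ S₂)) (hf : f ∈ F) (i : Inv f)
    (hr : r ∈ WW Q S') : ∃ S₃, Syl 2 ⊤ S₃ ∧ WW Q S₃ ≤ Y ∧ r * (f * r * f⁻¹) ∈ S₃ ∧ F ≤ WW Q S₃ := by
  have hW := ablW h hab h.s'
  have h1 := conjW h hf hr
  have hm : r * (f * r * f⁻¹) ∈ WW Q S' := mul_mem hr h1
  have hc : r * (f * r * f⁻¹) ∈ C{f} := by
    rw [mem_C1_comm, mem_C1_iff_conj]
    calc f * (r * (f * r * f⁻¹)) * f⁻¹ = f * r * f⁻¹ * ((f * f) * r * (f * f)⁻¹) := by group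
      _ = f * r * f⁻¹ * r := by rw [i.2]; group
      _ = _ := hW.comm h1 hr
  obtain ⟨S₃, h3, hW3, hP, hF, -⟩ := h.third hf i (cW h hab hf)
    (zpowers_le.2 (WW_le S' hm)) (zpowers_le.2 (h.w' hm)) (zpowers_le.2 hc)
  exact ⟨S₃, h3, hW3.trans inf_le_left, hP (mem_zpowers _), hF⟩

theorem key {M : Type*} [CommGroup M] {a0 a1 a2 b0 b1 b2 b3 : M}
    (h1 : a2 * b2 * (a1 * b1)⁻¹ * (a0 * b0) * (a1 * b1)⁻¹ = 1)
    (h2 : a2 * b0 * (a1 * b3)⁻¹ * (a0 * b2) * (a1 * b3)⁻¹ = 1) : b1 * b1 = b3 * b3 := by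
  have : b1 * b1 * (a2 * b2 * (a1 * b1)⁻¹ * (a0 * b0) * (a1 * b1)⁻¹) =
      b3 * b3 * (a2 * b0 * (a1 * b3)⁻¹ * (a0 * b2) * (a1 * b3)⁻¹) := by
    apply Additive.ofMul.injective
    simp only [ofMul_mul, ofMul_inv]
    abel
  rwa [h1, h2, mul_one, mul_one] at this

theorem key' (hW : Abl W) {a0 a1 a2 b0 b1 b2 b3 : G} (ha0 : a0 ∈ W) (ha1 : a1 ∈ W) (ha2 : a2 ∈ W)
    (hb0 : b0 ∈ W) (hb1 : b1 ∈ W) (hb2 : b2 ∈ W) (hb3 : b3 ∈ W)
    (h1 : a2 * b2 * (a1 * b1)⁻¹ * (a0 * b0) * (a1 * b1)⁻¹ = 1)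
    (h2 : a2 * b0 * (a1 * b3)⁻¹ * (a0 * b2) * (a1 * b3)⁻¹ = 1) : b1 * b1 = b3 * b3 := by
  let _ : CommGroup W := { (inferInstance : Group W) with
    mul_comm := fun x y => Subtype.ext (hW.comm x.2 y.2) }
  have := key (M := W) (a0 := ⟨a0, ha0⟩) (a1 := ⟨a1, ha1⟩) (a2 := ⟨a2, ha2⟩) (b0 := ⟨b0, hb0⟩)
    (b1 := ⟨b1, hb1⟩) (b2 := ⟨b2, hb2⟩) (b3 := ⟨b3, hb3⟩) (Subtype.ext h1) (Subtype.ext h2)
  exact congrArg Subtype.val this

theorem exists_not_mem {R : Subgroup G} (s : Finset G) (h : s.card < ♯R) : ∃ x ∈ R, x ∉ s := by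
  classical
  by_contra hn
  push Not at hn
  have h1 : (R : Set G) ⊆ s := fun x hx => hn x hx
  have h2 := Set.ncard_le_ncard h1 s.finite_toSet
  rw [Set.ncard_coe_finset] at h2
  have h3 : (R : Set G).ncard = ♯R := (Nat.card_coe_set_eq _).symm
  omega

theorem exists_four (h2 : TwoE x) (h1 : x * x ≠ 1) :
    ∃ n : ℕ, x ^ n * x ^ n ≠ 1 ∧ x ^ n * x ^ n * (x ^ n * x ^ n) = 1 := by
  obtain ⟨n, h3, h4⟩ := exists_pow_inv (h2.mul h2 rfl) h1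
  have : (x * x) ^ n = x ^ n * x ^ n := (Commute.refl x).mul_pow n
  exact ⟨n, this ▸ h3, this ▸ h4⟩

end ACTx

open ACTx

theorem Bad.reg (h : Bad Q Y S₂ S' F c v) (hab : Abl (Q c ⊓ S₂)) :
    ∃ e ∈ Gm Q S', ∀ φ ∈ F, φ • e = e → φ = 1 := by
  obtain ⟨f, hf, -, -, i, -⟩ := r2F h hab
  obtain ⟨e, he, hm⟩ := h.moves f hf i
  refine ⟨e, he, fun φ hφ hfix => ?_⟩
  by_contra h1
  have hW := ablW h hab h.s'
  obtain ⟨n, g1, g2⟩ := exists_pow_inv (h.s'.pi.piElt (h.FS hφ)) h1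
  have hg : φ ^ n ∈ F := pow_mem hφ n
  have hge : φ ^ n • e = e := mem_stabilizer_iff.1 (pow_mem (mem_stabilizer_iff.2 hfix) n)
  generalize φ ^ n = g at g1 g2 hg hge
  have hcj : ∀ r ∈ Q e ⊓ S', g * r * g⁻¹ ∈ Q e ⊓ S' := fun r hr =>
    ⟨by have := h.bt.te.conj hr.1 g; rwa [hge] at this,
      S'.mul_mem (S'.mul_mem (h.FS hg) hr.2) (S'.inv_mem (h.FS hg))⟩
  by_cases hc : Q e ⊓ S' ≤ C{g}
  · obtain ⟨S₃, h3, -, hP, -, hx⟩ := h.third hg ⟨g1, g2⟩ (cW h hab hg) inf_le_right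
      ((le_WW he).trans h.w') hc
    obtain ⟨x, hx1, x1, -⟩ := TwoG.exists_inv (h.s'.pi.of_le inf_le_right) (h.bt.te.ne_bot he)
    exact hm (hx f hf e (h.bt.mem_Gm h3 hx1.1 (hP hx1) x1))
  · obtain ⟨r0, hr0, hn⟩ := SetLike.not_le_iff_exists.1 hc
    have hu0 : g * r0 * g⁻¹ * r0⁻¹ ∈ Q e ⊓ S' := mul_mem (hcj r0 hr0) (inv_mem hr0)
    have u01 : g * r0 * g⁻¹ * r0⁻¹ ≠ 1 := fun e' =>
      hn (mem_C1_comm.1 (mem_C1_iff_conj.2 (mul_inv_eq_one.1 e')))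
    obtain ⟨m, u1, u2⟩ := exists_pow_inv (h.s'.pi.piElt hu0.2) u01
    have hcm : Commute (g * r0 * g⁻¹) r0⁻¹ :=
      hW.comm (le_WW he (hcj r0 hr0)) (le_WW he (inv_mem hr0))
    rw [hcm.mul_pow, conj_pow, inv_pow] at u1 u2
    have hr : r0 ^ m ∈ Q e ⊓ S' := pow_mem hr0 m
    generalize r0 ^ m = r at u1 u2 hr
    have hu : g * r * g⁻¹ * r⁻¹ ∈ Q e ⊓ S' := mul_mem (hcj r hr) (inv_mem hr)
    have hrW := le_WW he hr
    obtain ⟨S₃, h3, hW3, hP, hF⟩ := third' h hab hf i hrW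
    have hw : g * (r * (f * r * f⁻¹)) * g⁻¹ * (r * (f * r * f⁻¹))⁻¹ ∈ WW Q S₃ := by
      have := mul_mem (hF hg) (H24.conj_mem (h.bt.te.nWW S₃ hP) (inv_mem (hF hg)))
      simpa only [mul_assoc] using this
    have huW := le_WW he hu
    have hfu := conjW h hf huW
    have hfg := commF h hab hf hg
    have e1 : g * (r * (f * r * f⁻¹)) * g⁻¹ * (r * (f * r * f⁻¹))⁻¹ =
        g * r * g⁻¹ * r⁻¹ * (f * (g * r * g⁻¹ * r⁻¹) * f⁻¹) := by
      have := hW.comm (inv_mem hrW) hfu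
      calc g * (r * (f * r * f⁻¹)) * g⁻¹ * (r * (f * r * f⁻¹))⁻¹
          = g * r * g⁻¹ * ((g * f) * r * (g * f)⁻¹ * (f * r⁻¹ * f⁻¹) * r⁻¹) := by group
        _ = g * r * g⁻¹ * (f * (g * r * g⁻¹ * r⁻¹) * f⁻¹ * r⁻¹) := by rw [← hfg]; group
        _ = _ := by rw [← this]; group
    rw [e1] at hw
    generalize g * r * g⁻¹ * r⁻¹ = u at u1 u2 hu hw huW hfu
    have hE : closure {f, u * (f * u * f⁻¹)} ≤ WW Q S₃ := by
      rw [closure_le]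
      rintro x (rfl | rfl)
      · exact hF hf
      · exact hw
    have hfE : f ∈ closure {f, u * (f * u * f⁻¹)} := subset_closure (by simp)
    have hwE : u * (f * u * f⁻¹) ∈ closure {f, u * (f * u * f⁻¹)} := subset_closure (by simp)
    have hn : u ∈ N[closure {f, u * (f * u * f⁻¹)}] := by
      apply mem_N_of_le_cj
      rw [closure_le]
      rintro x (rfl | rfl)
      · rw [SetLike.mem_coe, mem_cj, inv_sq u2]
        have := mul_mem hwE hfE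
        rwa [show u * (x * u * x⁻¹) * x = u * x * u by group] at this
      · rw [SetLike.mem_coe, mem_cj, mul_assoc u⁻¹, ← hW.comm huW (mul_mem huW hfu),
          inv_mul_cancel_left]
        exact hwE
    exact hm (h.bt.principle h3 hW3 (hE.trans (WW_le S₃)) (hE.trans hW3)
      (fun x hx => h.bt.fx h3.pi x (hE hx)) hu.1 ⟨u1, u2⟩ (h.w' huW) hn f hfE)

theorem Bad.cubic (h : Bad Q Y S₂ S' F c v) (hab : Abl (Q c ⊓ S₂)) (hf : f ∈ F) (i : Inv f)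
    (hr : r ∈ WW Q S') (hx : x ∈ F) (hy : y ∈ F) : ⁅y, ⁅x, r * (f * r * f⁻¹)⁆⁆ = 1 := by
  obtain ⟨S₃, h3, -, hP, hF⟩ := third' h hab hf i hr
  rw [commutatorElement_eq_one_iff_mul_comm]
  refine (ablW h hab h3).comm (hF hy) ?_
  have := mul_mem (hF hx) (H24.conj_mem (h.bt.te.nWW S₃ hP) (inv_mem (hF hx)))
  simpa only [commutatorElement_def, mul_assoc] using this

theorem Bad.ab (h : Bad Q Y S₂ S' F c v) (hab : Abl (Q c ⊓ S₂)) : False := by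
  classical
  obtain ⟨e, he, hreg⟩ := h.reg hab
  have hW := ablW h hab h.s'
  have cub : ∀ f ∈ F, Inv f → ∀ r ∈ Q e ⊓ S', ∀ x ∈ F, ∀ y ∈ F,
      (y * x) * r * (y * x)⁻¹ * ((y * x * f) * r * (y * x * f)⁻¹) *
        (y * r * y⁻¹ * ((y * f) * r * (y * f)⁻¹))⁻¹ * (r * (f * r * f⁻¹)) *
        (x * r * x⁻¹ * ((x * f) * r * (x * f)⁻¹))⁻¹ = 1 := fun f hf i r hr x hx y hy => by
    rw [← h.cubic hab hf i (le_WW he hr) hx hy]
    simp only [commutatorElement_def]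
    group
  rcases h.bt.ne with hne | hen
  · obtain ⟨a0, ha0, a1⟩ := hne c _ h.mem
    obtain ⟨n, a2, a4⟩ := exists_four (h.s₂.pi.piElt ha0.2) a1
    have ha := pow_mem ha0 n
    generalize a0 ^ n = a at a2 a4 ha
    have hφ := sg_mem h ha
    have i0 : Inv (sg v a * sg v a) := by
      rw [← sg_mul h hab ha ha]
      exact sg_inv h hab (mul_mem ha ha) a2 a4
    generalize sg v a = φ at hφ i0
    obtain ⟨f, hf, i, hff⟩ : ∃ f ∈ F, Inv f ∧ f ≠ φ * φ := by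
      obtain ⟨a, ha, b, hb, ia, ib, ab⟩ := r2F h hab
      by_cases e' : a = φ * φ
      · exact ⟨b, hb, ib, fun e'' => ab (e'.trans e''.symm)⟩
      · exact ⟨a, ha, ia, e'⟩
    have h0 : φ * φ ∈ F := mul_mem hφ hφ
    have i' : Inv (φ * φ * f) := by
      refine ⟨fun e' => hff ?_, ?_⟩
      · rw [eq_inv_of_mul_eq_one_right e', inv_sq i0.2]
      · calc φ * φ * f * (φ * φ * f) = φ * φ * (f * (φ * φ)) * f := by group
          _ = φ * φ * (φ * φ) * (f * f) := by rw [commF h hab hf h0]; group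
          _ = 1 := by rw [i0.2, i.2, one_mul]
    obtain ⟨r, hr, r1⟩ := hne e _ he
    have hrW := le_WW he hr
    have c1 := cub f hf i r hr φ hφ φ hφ
    have c2 := cub _ (mul_mem h0 hf) i' r hr φ hφ φ hφ
    rw [show φ * φ * (φ * φ * f) = f by rw [← mul_assoc, i0.2, one_mul]] at c2
    have k := key' hW hrW (conjW h hφ hrW) (conjW h h0 hrW) (conjW h hf hrW)
      (conjW h (mul_mem hφ hf) hrW) (conjW h (mul_mem h0 hf) hrW)
      (conjW h (mul_mem hφ (mul_mem h0 hf)) hrW) c1 c2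
    have k2 : r * r = (φ * φ) * (r * r) * (φ * φ)⁻¹ := by
      have e1 : φ * (φ * φ * f) = φ * f * (φ * φ) := by rw [← commF h hab hf h0]; group
      rw [e1] at k
      calc r * r = (φ * f)⁻¹ * (φ * f * r * (φ * f)⁻¹ * (φ * f * r * (φ * f)⁻¹)) * (φ * f) := by
            group
        _ = _ := by rw [k]; group
    have hrr := mul_mem hr hr
    have h3 : r * r ∈ Q ((φ * φ) • e) := by
      have := h.bt.te.conj hrr.1 (φ * φ)
      rwa [← k2] at this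
    exact i0.1 (hreg _ h0 (h.bt.te.two hrr.1 h3 (h.s'.pi.piElt hrr.2) r1).symm)
  · obtain ⟨h2, h8⟩ := hen.1 c _ h.mem
    obtain ⟨a, ha, a1⟩ := exists_not_mem (R := Q c ⊓ S₂) {1}
      (by rw [Finset.card_singleton]; omega)
    obtain ⟨b, hb, b1⟩ := exists_not_mem (R := Q c ⊓ S₂) {1, a}
      (lt_of_le_of_lt Finset.card_le_two (by omega))
    obtain ⟨d, hd, d1⟩ := exists_not_mem (R := Q c ⊓ S₂) {1, a, b, b * a}
      (lt_of_le_of_lt Finset.card_le_four (by omega))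
    simp only [Finset.mem_insert, Finset.mem_singleton, not_or] at a1 b1 d1
    have nm : ∀ x ∈ Q c ⊓ S₂, ∀ y ∈ Q c ⊓ S₂, x ≠ y → x * y ≠ 1 := fun x hx y hy hxy e' =>
      hxy (by rw [eq_inv_of_mul_eq_one_left e', inv_sq (h2 y hy)])
    refine ind h.bt.te hen he fun r hr => ?_
    set J := sSup {T | ∃ e', e' ≠ e ∧ Syl 2 (Q e') T ∧ T ≤ C[Q e ⊓ S']} with hJ
    have mJ : ∀ x ∈ Q c ⊓ S₂, x ≠ 1 → sg v x * r * (sg v x)⁻¹ ∈ J := fun x hx x1 => by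
      have hφ := sg_mem h hx
      have hG := h.bt.te.nx S' _ (h.FS hφ) e he
      have : Q (sg v x • e) ⊓ S' ≤ J :=
        le_sSup ⟨_, fun e' => x1 (sg_eq_one h hx (hreg _ hφ e')), hG,
          hW.cents (le_WW hG) (le_WW he)⟩
      exact this ⟨h.bt.te.conj hr.1 _,
        S'.mul_mem (S'.mul_mem (h.FS hφ) hr.2) (S'.inv_mem (h.FS hφ))⟩
    have c1 := cub _ (sg_mem h ha) (sg_inv h hab ha a1 (h2 a ha)) r hr _ (sg_mem h hb) _
      (sg_mem h hd)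
    have m1 := mJ a ha a1
    have m2 := mJ b hb b1.1
    have m3 := mJ d hd d1.1
    have m4 := mJ _ (mul_mem hb ha) (nm b hb a ha b1.2)
    have m5 := mJ _ (mul_mem hd ha) (nm d hd a ha d1.2.1)
    have m6 := mJ _ (mul_mem hd hb) (nm d hd b hb d1.2.2.1)
    have m7 := mJ _ (mul_mem hd (mul_mem hb ha)) (nm d hd _ (mul_mem hb ha) d1.2.2.2)
    rw [sg_mul h hab hd (mul_mem hb ha), sg_mul h hab hb ha, ← mul_assoc] at m7
    rw [sg_mul h hab hb ha] at m4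
    rw [sg_mul h hab hd ha] at m5
    rw [sg_mul h hab hd hb] at m6
    generalize sg v a = f at *
    generalize sg v b = x at *
    generalize sg v d = y at *
    have k1 := mul_mem (mul_mem m6 m7) (inv_mem (mul_mem m3 m5))
    have k2 := inv_mem (mul_mem m2 m4)
    have k3 : r * (f * r * f⁻¹) ∈ J := by
      rw [← J.mul_mem_cancel_left k1, ← J.mul_mem_cancel_right k2, c1]
      exact one_mem J
    exact (J.mul_mem_cancel_right m1).1 k3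

end ACo
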