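import Mathlib
import Cfsg.Agent.H22.AC0
import Cfsg.Agent.H22.ACR
import Cfsg.Agent.H22.ACT

set_option autoImplicit false
set_option linter.unusedSectionVars false
set_option linter.unusedVariables false

namespace ACo

open Cfsg H24 H26 H26.Gold H23.TC H3.B71 Subgroup MulAction
open scoped commutatorElement Pointwise

universe u

variable {G Ω : Type u} [Group G] [Finite G] [MulAction G Ω] [Finite Ω] {Q K : Ω → Subgroup G}
  {a b b' c d e : Ω} {A B E F H M P R R' S S' S₀ S₁ S₂ T T' U U1 V W X Y : Subgroup G}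
  {f g k r s t u v w x y z : G}

/-! ### ACU -/
theorem BT.nsy (h : BT Q) (Y : Subgroup G) : NSY Q Y := by
  refine subgroup_ind (P := fun Y => NSY Q Y) (fun Y ih => ?_) Y
  by_contra hn
  obtain ⟨S₂, S', F, c, v, hb⟩ := h.bad ih hn
  by_cases hab : Abl (Q c ⊓ S₂)
  · exact hb.ab hab
  · exact hb.nab hab
theorem BT.scw (h : BT Q) (hS : Syl 2 ⊤ S) : IsStronglyClosed (WW Q S) S :=
  h.scw_of (h.nsy ⊤) hS

end ACo
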