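import Mathlib
import Cfsg.Agent.H22.AC0
import Cfsg.Agent.H22.ACU

set_option autoImplicit false
set_option linter.unusedSectionVars false
set_option linter.unusedVariables false

namespace ACo

open Cfsg H24 H26 H26.Gold H23.TC H3.B71 Subgroup MulAction
open scoped commutatorElement Pointwise

universe u

variable {G Ω : Type u} [Group G] [Finite G] [MulAction G Ω] [Finite Ω] {Q K : Ω → Subgroup G}
  {a b b' c d e : Ω} {A B E F H M P R R' S S' S₀ S₁ S₂ T T' U U1 V W X Y : Subgroup G}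
  {f g k r s t u v w x y z : G}

/-! ### ACA -/

namespace ACAx

theorem mem_AA (hx : x ∈ S) (i : Inv x) (hc : x ∈ Q c) : x ∈ AA Q S :=
  subset_closure ⟨hx, i, c, hc⟩

theorem AA_le (S : Subgroup G) : AA Q S ≤ S := (closure_le _).2 fun _ h => h.1

theorem AA_mono (h : AA Q S₁ ≤ S₂) : AA Q S₁ ≤ AA Q S₂ :=
  (closure_le _).2 fun x hx => subset_closure ⟨h (subset_closure hx), hx.2⟩

theorem cj_AA_le (h : TE Q) (g : G) (S : Subgroup G) : cj g (AA Q S) ≤ AA Q (cj g S) := by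
  intro y hy
  obtain ⟨x, hx, rfl⟩ := mem_cj'.1 hy
  clear hy
  induction hx using closure_induction with
  | mem x hx =>
    obtain ⟨h1, h2, c, h3⟩ := hx
    exact mem_AA (conj_mem_cj g h1) ⟨conj_ne h2.1 g, conj_sq h2.2 g⟩ (h.conj h3 g)
  | one => simp
  | mul x y _ _ h1 h2 => rw [H23.TC.conj_mul]; exact mul_mem h1 h2
  | inv x _ h1 =>
    have : g * x⁻¹ * g⁻¹ = (g * x * g⁻¹)⁻¹ := by group
    rw [this]; exact inv_mem h1

theorem card_AA (h : TE Q) (h1 : Syl 2 ⊤ S₁) (h2 : Syl 2 ⊤ S₂) : ♯(AA Q S₁) ≤ ♯(AA Q S₂) := by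
  obtain ⟨g, -, rfl⟩ := Sylow_trans p2 h1 h2
  rw [← card_cj g (AA Q S₁)]
  exact card_le_of_le (cj_AA_le h g S₁)

theorem AA_le_WW (h : BT Q) (hS : Syl 2 ⊤ S) : AA Q S ≤ WW Q S :=
  (closure_le _).2 fun x ⟨h1, h2, c, h3⟩ => le_WW (h.mem_Gm hS h3 h1 h2.1) ⟨h3, h1⟩

theorem gen_comm (h : BT Q) (hS : Syl 2 ⊤ S)
    (hc : ∀ c R, Syl 2 (Q c) R → ∀ x ∈ R, ∀ y ∈ R, x * x = 1 → y * y = 1 → x * y = y * x)
    (hx : x ∈ S) (ix : Inv x) (hxc : x ∈ Q c) (hy : y ∈ S) (iy : Inv y) (hyd : y ∈ Q d) :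
    x * y = y * x := by
  by_cases e : c = d
  · subst e
    exact hc c _ (h.mem_Gm hS hxc hx ix.1) x ⟨hxc, hx⟩ y ⟨hyd, hy⟩ ix.2 iy.2
  · exact mem_C.1 (h.commS e hS.pi (show y ∈ Q d ⊓ S from ⟨hyd, hy⟩)) x ⟨hxc, hx⟩

theorem abl (h : BT Q) (hS : Syl 2 ⊤ S)
    (hc : ∀ c R, Syl 2 (Q c) R → ∀ x ∈ R, ∀ y ∈ R, x * x = 1 → y * y = 1 → x * y = y * x) :
    Abl (AA Q S) := by
  refine H24.abl_iff.2 ((closure_le _).2 fun x ⟨h1, h2, c, h3⟩ => ?_)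
  have : AA Q S ≤ C{x} := (closure_le _).2 fun y ⟨k1, k2, d, k3⟩ =>
    mem_C1.2 (gen_comm h hS hc k1 k2 k3 h1 h2 h3)
  exact mem_C_iff_le_C1.2 this

theorem sq (h : BT Q) (hS : Syl 2 ⊤ S)
    (hc : ∀ c R, Syl 2 (Q c) R → ∀ x ∈ R, ∀ y ∈ R, x * x = 1 → y * y = 1 → x * y = y * x)
    (hx : x ∈ AA Q S) : x * x = 1 :=
  ((mem_Om (abl h hS hc)).1 ((closure_le (K := Om (AA Q S))).2
    (fun y hy => mem_Om' (subset_closure hy) hy.2.1.2) hx)).2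

/-- an element of `AA Q S` normalising another full Sylow subgroup centralises its involutions -/
theorem cenA (h : BT Q) (hS : Syl 2 ⊤ S)
    (hc : ∀ c R, Syl 2 (Q c) R → ∀ x ∈ R, ∀ y ∈ R, x * x = 1 → y * y = 1 → x * y = y * x)
    (hy : y ∈ AA Q S) (hm : c ∈ Gm Q S) (hR : Syl 2 (Q c) R) (hn : y ∈ N[R]) (hz : z ∈ R)
    (z2 : z * z = 1) : y * z = z * y := by
  have y2 : y * y = 1 := sq h hS hc hy
  have hR0 : Syl 2 (Q c) (Q c ⊓ S) := hm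
  have hfix : y • c = c := h.fx hS.pi y (AA_le_WW h hS hy) c hm
  have hyQ : zpowers y ≤ N[Q c] := zpowers_le.2 (h.te.stab_le hfix)
  have hyS : y ∈ S := AA_le S hy
  have hz2 : TwoG (zpowers y) := (twoE_of_sq y2).isPi
  -- the decomposition of the elements of `R0 ⊔ AA`
  have hle : AA Q S ≤ (Q c ⊓ S) ⊔ (C[Q c ⊓ S] ⊓ AA Q S) := by
    refine (closure_le _).2 fun x ⟨h1, h2, d, h3⟩ => ?_
    by_cases e : c = d
    · subst e; exact mem_sup_left ⟨h3, h1⟩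
    · exact mem_sup_right ⟨h.commS e hS.pi ⟨h3, h1⟩, mem_AA h1 h2 h3⟩
  have key : ∀ p ∈ (Q c ⊓ S) ⊔ zpowers y, p * p = 1 → ∀ w ∈ Q c ⊓ S, w * w = 1 →
      p * w = w * p := by
    intro p hp p2 w hw w2
    obtain ⟨r, hr, s, hs, rfl⟩ := (mem_sup_of_norm (norm_of_cent inf_le_left)).1
      (sup_le le_sup_left ((zpowers_le.2 hy).trans hle) hp)
    have e1 : r * s = s * r := mem_C.1 hs.1 r hr
    have e2 : w * s = s * w := mem_C.1 hs.1 w hw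
    have r2 : r * r = 1 := by
      rw [sq_mul_comm e1, sq h hS hc hs.2, mul_one] at p2; exact p2
    have e3 := hc c _ hR0 r hr w hw r2 w2
    calc r * s * w = r * (w * s) := by rw [e2, mul_assoc]
      _ = w * (r * s) := by rw [← mul_assoc, e3, mul_assoc]
  obtain ⟨P, hP, hl⟩ := Sylow_superset (M := Q c ⊔ zpowers y) (Q := (Q c ⊓ S) ⊔ zpowers y) p2
    (hS.pi.of_le (sup_le inf_le_right (zpowers_le.2 hyS))) (sup_le_sup_right inf_le_left _)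
  have hPQ : Q c ⊓ P = Q c ⊓ S :=
    hR0.eq_of_le (hP.pi.of_le inf_le_right) (le_inf inf_le_left (le_sup_left.trans hl)) inf_le_left
  have hPle : P ≤ (Q c ⊓ S) ⊔ zpowers y := by
    intro p hp
    obtain ⟨q, hq, i, hi, rfl⟩ := (mem_sup_of_norm hyQ).1 (hP.le hp)
    refine mul_mem (mem_sup_left ?_) (mem_sup_right hi)
    rw [← hPQ]
    exact ⟨hq, (mul_mem_cancel_right (hl (mem_sup_right hi))).1 hp⟩
  obtain ⟨k, hk, hkP⟩ := Sylow_Jsub p2 hP (Q := R ⊔ zpowers y)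
    (hR.pi.sup hz2 (zpowers_le.2 hn)) (sup_le_sup_right hR.le _)
  have hkN : k ∈ N[Q c] := sup_le (norm_self _) hyQ hk
  have h1 : k * z * k⁻¹ ∈ Q c ⊓ S := by
    rw [← hPQ]
    exact ⟨cN hkN (hR.le hz), hkP (conj_mem_cj k (mem_sup_left hz))⟩
  have h2 := key _ (hPle (hkP (conj_mem_cj k (mem_sup_right (mem_zpowers y))))) (conj_sq y2 k) _ h1
    (conj_sq z2 k)
  rw [← H23.TC.conj_mul, ← H23.TC.conj_mul] at h2
  exact conj_inj' h2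

end ACAx

theorem BT.sca (h : BT Q) (hS : Syl 2 ⊤ S)
    (hc : ∀ c R, Syl 2 (Q c) R → ∀ x ∈ R, ∀ y ∈ R, x * x = 1 → y * y = 1 → x * y = y * x) :
    IsStronglyClosed (AA Q S) S := by
  refine ⟨ACAx.AA_le S, fun x hx g hyS => ?_⟩
  have hW : g * x * g⁻¹ ∈ WW Q S := (h.scw hS).2 x (ACAx.AA_le_WW h hS hx) g hyS
  have hS1 : Syl 2 ⊤ (cj g S) := hS.cj_mem (mem_top g)
  have hy1 : g * x * g⁻¹ ∈ AA Q (cj g S) := ACAx.cj_AA_le h.te g S (conj_mem_cj g hx)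
  generalize g * x * g⁻¹ = y at hyS hW hy1
  generalize cj g S = S₁ at hS1 hy1
  have y2 : y * y = 1 := ACAx.sq h hS1 hc hy1
  have hA1 : AA Q S₁ ≤ C{y} := mem_C_iff_le_C1.1 (H24.abl_iff.1 (ACAx.abl h hS1 hc) hy1)
  obtain ⟨P, hP, hl⟩ := Sylow_superset (M := C{y}) (Q := S ⊓ C{y}) p2
    (hS.pi.of_le inf_le_left) inf_le_right
  obtain ⟨k, hk, hkP⟩ := Sylow_Jsub p2 hP (hS1.pi.of_le (ACAx.AA_le S₁)) hA1
  obtain ⟨S₃, h3, hP3⟩ := Sylow_superset (M := ⊤) p2 hP.pi le_top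
  have hy3 : y ∈ AA Q S₃ := by
    have e : k * y * k⁻¹ = y := conj_of_comm (mem_C1.1 hk)
    have h1 : cj k (AA Q S₁) ≤ AA Q S₃ := by
      have h2 : AA Q S₁ ≤ cj k⁻¹ S₃ := cj_le_iff.1 (hkP.trans hP3)
      have := ACAx.cj_AA_le h.te k (cj k⁻¹ S₃)
      rw [← cj_mul, mul_inv_cancel, cj_one] at this
      exact (cj_mono k (ACAx.AA_mono h2)).trans this
    rw [← e]; exact h1 (conj_mem_cj k hy1)
  have hA : AA Q S ≤ C{y} := by
    refine (closure_le _).2 fun z ⟨k1, k2, c, k3⟩ => ?_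
    have hm : c ∈ Gm Q S := h.mem_Gm hS k3 k1 k2.1
    have hn : y ∈ N[Q c ⊓ S] := norm_inf (zpowers_le.2 (h.te.stab_le (h.fx hS.pi y hW c hm)))
      (zpowers_le.2 (norm_self S hyS)) (mem_zpowers y)
    obtain ⟨w, hw, e, w1, -⟩ := two_cent1 (twoE_of_sq y2) (hS.pi.of_le inf_le_right) hn
      (ne_bot_of_mem (show z ∈ Q c ⊓ S from ⟨k3, k1⟩) k2.1)
    have hm3 : c ∈ Gm Q S₃ := h.mem_Gm h3 hw.1 (hP3 (hl ⟨hw.2, mem_C1.2 e.symm⟩)) w1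
    exact mem_C1.2 (ACAx.cenA h h3 hc hy3 hm3 hm hn ⟨k3, k1⟩ k2.2).symm
  have hle : AA Q S ≤ AA Q S₃ :=
    ACAx.AA_mono (((le_inf (ACAx.AA_le S) hA).trans hl).trans hP3)
  rw [eq_of_card_ge hle (ACAx.card_AA h.te h3 hS)]
  exact hy3

theorem BT.ablA (h : BT Q) (hS : Syl 2 ⊤ S)
    (hc : ∀ c R, Syl 2 (Q c) R → ∀ x ∈ R, ∀ y ∈ R, x * x = 1 → y * y = 1 → x * y = y * x) :
    Abl (AA Q S) := ACAx.abl h hS hc

end ACo
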