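import Mathlib
import Cfsg.Agent.H22.AC0
import Cfsg.Agent.H22.ACU

set_option autoImplicit false
set_option linter.unusedSectionVars false
set_option linter.unusedVariables false

namespace ACo

open Cfsg H24 H26 H26.Gold H23.TC H3.B71 Subgroup MulAction
open scoped commutatorElement Pointwise

universe u

variable {G Ω : Type u} [Group G] [Finite G] [MulAction G Ω] [Finite Ω] {Q K : Ω → Subgroup G}
  {a b b' c d e : Ω} {A B E F H M P R R' S S' S₀ S₁ S₂ T T' U U1 V W X Y : Subgroup G}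
  {f g k r s t u v w x y z : G}

namespace ACZx
open H6.ZD H26.BR H3.PZ

variable {J Γ Γ' Γ₁ : Set Ω}

theorem smul_Gm (h : TE Q) (g : G) (S : Subgroup G) : g • Gm Q S = Gm Q (cj g S) := by
  ext c
  rw [Set.mem_smul_set_iff_inv_smul_mem, h.Gm_cj g S, smul_inv_smul]

theorem nx_of (hg : ∀ g ∈ P, g • Γ = Γ) : Nx P Γ := fun g hg' c hc => by
  rw [← hg g hg']; exact Set.smul_mem_smul_set hc

theorem fix_set (hg : ∀ c ∈ Γ, g • c = c) : g • Γ = Γ := by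
  ext c
  rw [Set.mem_smul_set_iff_inv_smul_mem]
  refine ⟨fun hc => ?_, fun hc => ?_⟩
  · rw [← smul_inv_smul g c, hg _ hc]; exact hc
  · rw [inv_smul_eq_iff.2 (hg c hc).symm]; exact hc

theorem nx_zp (hg : g • Γ = Γ) : Nx (zpowers g) Γ :=
  nx_of fun x hx => (zpowers_le.2 hg : zpowers g ≤ stabilizer G Γ) hx

theorem sylT (hS : Syl 2 ⊤ S) (g : G) : Syl 2 ⊤ (cj g S) := hS.cj_mem (mem_top g)

/-- a point involution leaving a frame invariant has its point in the frame -/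
theorem mem_of_inv (h : BT Q) (hS : Syl 2 ⊤ S) (hz : z ∈ Q c) (iz : Inv z)
    (hf : z • Gm Q S = Gm Q S) : c ∈ Gm Q S := by
  obtain ⟨S₂, h2, -, h3, h4⟩ := h.ng hS le_top iz.two le_top (nx_zp hf)
  exact h4 ▸ h.mem_Gm h2 hz (h3 (mem_zpowers z)) iz.1

theorem beta_Gm (h : BT Q) (hS : Syl 2 ⊤ S) (hc : c ∈ Gm Q S) (hd : d ∈ Gm Q S) (hne : c ≠ d) :
    Beta Q c d := by
  obtain ⟨u, hu, -, u1, u2⟩ := two_cent hc.pi hc.pi (norm_self _) (h.te.ne_bot hc)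
  obtain ⟨v, hv, -, v1, v2⟩ := two_cent hd.pi hd.pi (norm_self _) (h.te.ne_bot hd)
  exact h.bo _ _ (h.te.adj_of_comm hne hu.1 hv.1 ⟨u1, u2⟩ ⟨v1, v2⟩
    (mem_C.1 (h.commS hne hS.pi hv) u hu))

/-- the minimal configuration -/
structure Mn (Q : Ω → Subgroup G) (J : Set Ω) (Y S : Subgroup G) : Prop where
  fx : Fx Y J
  syl : Syl 2 ⊤ S
  sub : J ⊆ Gm Q S
  W : WW Q S ≤ Y
  mv : ∃ y ∈ Y, y • Gm Q S ≠ Gm Q S

structure Cx (Q : Ω → Subgroup G) (J : Set Ω) (Y S : Subgroup G) : Prop extends Mn Q J Y S where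
  bt : BT Q
  nc : ∀ c R, Syl 2 (Q c) R → ∃ x ∈ R, ∃ y ∈ R, x * x = 1 ∧ y * y = 1 ∧ x * y ≠ y * x
  mx : ∀ S₁ S₂, Syl 2 ⊤ S₁ → Syl 2 ⊤ S₂ → Gm Q S₁ ≠ Gm Q S₂ →
    (Gm Q S₁ ∩ Gm Q S₂).ncard ≤ J.ncard
  mn : ∀ Y' S', Mn Q J Y' S' → ♯Y ≤ ♯Y'

/-- `z` is an involution of `Y` at the point `c` of `Γ` outside `J` -/
structure Gd (Q : Ω → Subgroup G) (J : Set Ω) (Y S : Subgroup G) (z : G) (c : Ω) (Γ : Set Ω) :
    Prop where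
  zY : z ∈ Y
  inv : Inv z
  zQ : z ∈ Q c
  cJ : c ∉ J
  orb : Γ ∈ Orb Y (Gm Q S)
  mem : c ∈ Γ

section
variable (h : Cx Q J Y S)
include h

theorem Cx.fr (hΓ : Γ ∈ Orb Y (Gm Q S)) :
    ∃ S', Syl 2 ⊤ S' ∧ WW Q S' ≤ Y ∧ Γ = Gm Q S' ∧ J ⊆ Γ := by
  obtain ⟨g, hg, rfl⟩ := hΓ
  refine ⟨cj g S, sylT h.syl g, ?_, smul_Gm h.bt.te g S, fun c hc => ?_⟩
  · rw [h.bt.te.WW_cj]; exact cj_le_of_mem h.W hg
  · rw [← h.fx g hg c hc]; exact Set.smul_mem_smul_set (h.sub hc)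

theorem Cx.uniq (hΓ : Γ ∈ Orb Y (Gm Q S)) (hΓ' : Γ' ∈ Orb Y (Gm Q S)) (hc : c ∈ Γ) (hc' : c ∈ Γ')
    (hJ : c ∉ J) : Γ = Γ' := by
  obtain ⟨S₁, h1, -, rfl, s1⟩ := h.fr hΓ
  obtain ⟨S₂, h2, -, rfl, s2⟩ := h.fr hΓ'
  by_contra e
  have := Set.eq_of_subset_of_ncard_le (Set.subset_inter s1 s2) (h.mx _ _ h1 h2 e)
  exact hJ (this ▸ ⟨hc, hc'⟩)

theorem Cx.fixF (hS : Syl 2 ⊤ S') (hc : c ∈ Gm Q S') (hz : z ∈ Q c) : ∀ d ∈ Gm Q S', z • d = d := by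
  intro d hd
  by_cases e : c = d
  · exact e ▸ h.bt.te.fix hz
  · obtain ⟨x, hx, y, hy, -, -, n⟩ := h.nc c _ hc
    exact beta1 h.bt.te h.bt.four (beta_Gm h.bt hS hc hd e) hc (fun a => n (a.comm hx hy)) hz

theorem Cx.star (g : Gd Q J Y S z c Γ) (hΓ' : Γ' ∈ Orb Y (Gm Q S)) : z • Γ' = Γ' ↔ Γ' = Γ := by
  obtain ⟨S', h1, -, rfl, -⟩ := h.fr hΓ'
  refine ⟨fun e => h.uniq hΓ' g.orb (mem_of_inv h.bt h1 g.zQ g.inv e) g.mem g.cJ, fun e => ?_⟩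
  exact fix_set (h.fixF h1 (e ▸ g.mem) g.zQ)

theorem Cx.other (hΓ : Γ ∈ Orb Y (Gm Q S)) : ∃ Γ' ∈ Orb Y (Gm Q S), Γ' ≠ Γ := by
  obtain ⟨y, hy, e⟩ := h.mv
  by_cases e1 : Gm Q S = Γ
  · exact ⟨_, ⟨y, hy, rfl⟩, e1 ▸ e⟩
  · exact ⟨_, mem_Orb_self _ _, e1⟩

theorem Cx.exc (hΓ : Γ ∈ Orb Y (Gm Q S)) : ∃ c ∈ Γ, c ∉ J := by
  obtain ⟨Γ', h1, e⟩ := h.other hΓ
  obtain ⟨S₁, s1, -, rfl, -⟩ := h.fr hΓ
  obtain ⟨S₂, s2, -, rfl, j2⟩ := h.fr h1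
  by_contra n
  push Not at n
  exact e (h.bt.te.Gm_eq s1 s2 fun c hc => j2 (n c hc)).symm

theorem Cx.nker (g : Gd Q J Y S z c Γ) : z ∉ Ker Y (Gm Q S) := fun e => by
  obtain ⟨Γ', h1, n⟩ := h.other g.orb
  exact n ((h.star g h1).1 (Ker_smul e h1))

theorem Cx.conj (g : Gd Q J Y S z c Γ) (hk : k ∈ Y) :
    Gd Q J Y S (k * z * k⁻¹) (k • c) (k • Γ) :=
  ⟨cmem hk g.zY, g.inv.conj k, h.bt.te.conj g.zQ k, fun e => g.cJ (by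
    have := h.fx _ (inv_mem hk) _ e
    rw [inv_smul_smul] at this
    exact this ▸ e), smul_mem_Orb hk g.orb, Set.smul_mem_smul_set g.mem⟩

/-- a non-trivial `2`-element at a point outside `J` fixes one member only -/
theorem Cx.two (g : Gd Q J Y S z c Γ) (hw : w ∈ Y) (hQ : w ∈ Q c) (h2 : TwoE w) (h1 : w ≠ 1)
    (hΓ' : Γ' ∈ Orb Y (Gm Q S)) (e : w • Γ' = Γ') : Γ' = Γ := by
  obtain ⟨i, hi, i1, i2⟩ := exists_zp_inv h2 h1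
  exact (h.star ⟨zpowers_le.2 hw hi, ⟨i1, i2⟩, zpowers_le.2 hQ hi, g.cJ, g.orb, g.mem⟩ hΓ').1
    ((zpowers_le.2 e : zpowers w ≤ stabilizer G Γ') hi)

theorem Cx.inv' (g : Gd Q J Y S z c Γ) : Inv (ap (pr Y (Gm Q S)) z) :=
  ⟨fun e => h.nker g ((ap_one' g.zY).1 e), by
    rw [← ap_mul _ g.zY g.zY, g.inv.2, ap_one' (one_mem _)]; exact one_mem _⟩

theorem Cx.nar (g : Gd Q J Y S z c Γ) : Nar (orbit Y (Gm Q S)) (ap (pr Y (Gm Q S)) z) :=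
  (no_iff g.zY).1 fun b hb b' hb' e e' => ((h.star g hb).1 e).trans ((h.star g hb').1 e').symm

theorem Cx.full (hR : Syl 2 (Q c) R) (hRM : R ≤ M) (hM : M ≤ Q c) (hP : Syl 2 M P) :
    Syl 2 (Q c) P :=
  h.bt.te.full hR (hP.le.trans hM) hP.pi
    (Nat.le_of_dvd (card_pos _) (hP.card_dvd hR.pi hRM))

theorem Cx.pd0 (gu : Gd Q J Y S u c Γ) (gv : Gd Q J Y S v d Γ) (hR : Syl 2 (Q c) R)
    (RY : R ≤ Y ⊓ C{u}) (hR' : Syl 2 (Q d) R') (RY' : R' ≤ Y ⊓ C{v}) (h2 : TwoE (u * v))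
    (hΓ' : Γ' ∈ Orb Y (Gm Q S)) (ne : Γ' ≠ Γ) (e : (u * v) • Γ' = Γ') :
    u * v ∈ Ker Y (Gm Q S) := by
  have te := h.bt.te
  have wY := mul_mem gu.zY gv.zY
  by_cases cd : c = d
  · subst cd
    by_cases w1 : u * v = 1
    · rw [w1]; exact one_mem _
    exact absurd (h.two gu wY (mul_mem gu.zQ gv.zQ) h2 w1 hΓ' e) ne
  have cm := h.bt.comm2 cd gu.zQ gv.zQ gu.inv gv.inv h2
  obtain ⟨S₀, s0, -, e0, -⟩ := h.fr gu.orb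
  have cG : c ∈ Gm Q S₀ := e0 ▸ gu.mem
  have dG : d ∈ Gm Q S₀ := e0 ▸ gv.mem
  have vc : v • c = c := h.fixF s0 dG gv.zQ c cG
  obtain ⟨P, hP, nP, -⟩ := ACo.exists_syl_inv (M := Y ⊓ Q c ⊓ C{u}) gv.inv.two
    (norm_inf (norm_inf (norm_of_le (zpowers_le.2 gv.zY)) (zpowers_le.2 (te.stab_le vc)))
      (norm_C1 (zpowers_le.2 (mem_C1.2 cm.symm))))
  have fP := h.full hR (le_inf (le_inf (RY.trans inf_le_left) hR.le) (RY.trans inf_le_right))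
    (inf_le_left.trans inf_le_right) hP
  have Pu : P ≤ C{u} := hP.le.trans inf_le_right
  have PY : P ≤ Y := hP.le.trans (inf_le_left.trans inf_le_left)
  have uP : u ∈ P := mem_syl hP ⟨⟨gu.zY, gu.zQ⟩, self_mem_C1 u⟩ (twoE_of_sq2 (by
    rw [gu.inv.2]; exact piElt_one _)) (C_le_N _ (mem_C_iff_le_C1.2 Pu))
  have Pv : P ≤ C{v} := mem_C_iff_le_C1.1 (cen te h.bt.four (beta_Gm h.bt s0 cG dG cd) cd gv.zQ
    (twoE_of_sq2 (by rw [gv.inv.2]; exact piElt_one _)) fP (nP (mem_zpowers v)))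
  obtain ⟨P', hP', nP', -⟩ := ACo.exists_syl_inv (M := Y ⊓ Q d ⊓ C{v}) fP.pi
    (norm_inf (norm_inf (norm_of_le PY) fun x hx => te.stab_le (h.fixF s0 cG (fP.le hx) d dG))
      (norm_C1 Pv))
  have fP' := h.full hR' (le_inf (le_inf (RY'.trans inf_le_left) hR'.le) (RY'.trans inf_le_right))
    (inf_le_left.trans inf_le_right) hP'
  have Pv' : P' ≤ C{v} := hP'.le.trans inf_le_right
  have PY' : P' ≤ Y := hP'.le.trans (inf_le_left.trans inf_le_left)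
  have vP : v ∈ P' := mem_syl hP' ⟨⟨gv.zY, gv.zQ⟩, self_mem_C1 v⟩ (twoE_of_sq2 (by
    rw [gv.inv.2]; exact piElt_one _)) (C_le_N _ (mem_C_iff_le_C1.2 Pv'))
  obtain ⟨S₂, s2, W2, l2, k, hk, -, e2⟩ := h.bt.fy h.syl h.W (fP.pi.sup' fP'.pi nP') (sup_le PY PY')
  have o2 : Gm Q S₂ ∈ Orb Y (Gm Q S) := ⟨k, hk, by
    ext x
    rw [Set.mem_smul_set_iff_inv_smul_mem, e2, smul_inv_smul]⟩
  have uS := l2 (mem_sup_left uP)
  have vS := l2 (mem_sup_right vP)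
  have c2 := h.bt.mem_Gm s2 gu.zQ uS gu.inv.1
  have d2 := h.bt.mem_Gm s2 gv.zQ vS gv.inv.1
  have eΓ : Gm Q S₂ = Γ := h.uniq o2 gu.orb c2 gu.mem gu.cJ
  have q1 : Q c ⊓ S₂ = P := fP.eq_of_le c2.pi (le_inf fP.le (le_sup_left.trans l2)) inf_le_left
  have q2 : Q d ⊓ S₂ = P' := fP'.eq_of_le d2.pi (le_inf fP'.le (le_sup_right.trans l2)) inf_le_left
  have wC : u * v ∈ C[WW Q S₂] := mul_mem
    (h.bt.cent_WW s2.pi ⟨gu.zQ, uS⟩ (by rw [q1]; exact mem_C_iff_le_C1.2 Pu))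
    (h.bt.cent_WW s2.pi ⟨gv.zQ, vS⟩ (by rw [q2]; exact mem_C_iff_le_C1.2 Pv'))
  have wW : u * v ∈ WW Q S₂ := mul_mem (le_WW c2 ⟨gu.zQ, uS⟩) (le_WW d2 ⟨gv.zQ, vS⟩)
  obtain ⟨S₁, s1, W1, rfl, -⟩ := h.fr hΓ'
  obtain ⟨S₃, s3, W3, l3, e3⟩ := h.bt.ng s1 W1 h2.isPi (zpowers_le.2 wY) (nx_zp e)
  have wS := l3 (mem_zpowers _)
  obtain ⟨p, hp, pJ⟩ := h.exc hΓ'
  have p3 : p ∈ Gm Q S₃ := e3 ▸ hp
  obtain ⟨y, hy, yc, y1, y2⟩ := two_cent1 h2 p3.pi (norm_inf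
    (zpowers_le.2 (te.stab_le (h.bt.nsy ⊤ _ _ s2 s3 le_top le_top _ wW wS p p3)))
    (norm_of_le l3) (mem_zpowers _)) (te.ne_bot p3)
  have gy : Gd Q J Y S y p (Gm Q S₁) := ⟨W3 (le_WW p3 hy), ⟨y1, y2⟩, hy.1, pJ, hΓ', hp⟩
  have mn := h.mn (Y ⊓ C{u * v}) S₂ ⟨fun g hg => h.fx g hg.1, s2, (h.fr o2).choose_spec.2.2.2,
    le_inf W2 (mem_C_iff_le_C1.1 wC), y, ⟨gy.zY, mem_C1.2 yc.symm⟩,
    fun e => ne (eΓ ▸ ((h.star gy o2).1 e).symm)⟩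
  have YC : Y ≤ C{u * v} := inf_eq_left.1 (eq_of_card_ge inf_le_left mn)
  have wΓ : (u * v) • Γ = Γ := by
    rw [mul_smul, (h.star gv gv.orb).2 rfl, (h.star gu gu.orb).2 rfl]
  rw [← Ker_eq_of_mem_Orb gu.orb]
  refine ⟨wY, fun g hg => ?_⟩
  rw [← mul_smul, ← mem_C1.1 (YC hg), mul_smul, wΓ]

end

/-- the class used for the embedding theorem -/
def ZZ (Q : Ω → Subgroup G) (J : Set Ω) (Y S : Subgroup G) : Set (Im Y (Gm Q S)) :=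
  {b | ∃ z c Γ R, Gd Q J Y S z c Γ ∧ Syl 2 (Q c) R ∧ R ≤ Y ⊓ C{z} ∧ ap (pr Y (Gm Q S)) z = b}

section
variable (h : Cx Q J Y S)
include h

theorem Cx.cj_le (hR : R ≤ Y ⊓ C{z}) (hk : k ∈ Y) : cj k R ≤ Y ⊓ C{k * z * k⁻¹} := by
  rw [← cj_C1]
  exact le_inf (cj_le_of_mem (hR.trans inf_le_left) hk) (cj_mono k (hR.trans inf_le_right))

theorem Cx.base (hc : c ∈ Gm Q S) (hJ : c ∉ J) (hz : z ∈ Q c ⊓ S) (iz : Inv z) :
    Gd Q J Y S z c (Gm Q S) :=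
  ⟨h.W (le_WW hc hz), iz, hz.1, hJ, mem_Orb_self _ _, hc⟩

theorem Cx.fixb (g : Gd Q J Y S z c (Gm Q S)) :
    ap (pr Y (Gm Q S)) z • H26.BR.base Y (Gm Q S) = H26.BR.base Y (Gm Q S) :=
  (ap_fix g.zY).2 ((h.star g g.orb).2 rfl)

theorem Cx.exz (hc : c ∈ Gm Q S) (hJ : c ∉ J) : ∃ z, Gd Q J Y S z c (Gm Q S) ∧
    ap (pr Y (Gm Q S)) z ∈ ZZ Q J Y S := by
  obtain ⟨z, hz, zc, z1, z2⟩ := two_cent hc.pi hc.pi (norm_self _) (h.bt.te.ne_bot hc)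
  have g := h.base hc hJ hz ⟨z1, z2⟩
  exact ⟨z, g, z, c, _, _, g, hc, le_inf ((le_WW hc).trans h.W) (mem_C_iff_le_C1.1 zc), rfl⟩

theorem Cx.zconj {b : Im Y (Gm Q S)} (hb : b ∈ ZZ Q J Y S) (g : Im Y (Gm Q S)) :
    g * b * g⁻¹ ∈ ZZ Q J Y S := by
  obtain ⟨z, c, Γ, R, g1, hR, l, rfl⟩ := hb
  obtain ⟨k, hk, rfl⟩ := ap_surj g
  exact ⟨_, _, _, _, h.conj g1 hk, h.bt.te.syl_cj hR k, h.cj_le l hk, ap_conj _ hk g1.zY⟩

theorem Cx.ze : ZE (orbit Y (Gm Q S)) (ZZ Q J Y S) := by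
  refine ⟨?_, fun z hz g => h.zconj hz g, ?_, ?_, fun Γ => ?_, ?_⟩
  · rintro _ ⟨z, c, Γ, R, g, -, -, rfl⟩; exact h.inv' g
  · rintro _ ⟨z, c, Γ, R, g, -, -, rfl⟩
    exact ⟨⟨Γ, mem_orbit_iff_Orb.2 g.orb⟩, (ap_fix g.zY).2 ((h.star g g.orb).2 rfl)⟩
  · rintro _ ⟨z, c, Γ, R, g, -, -, rfl⟩; exact h.nar g
  · obtain ⟨c, hc, hJ⟩ := h.exc (mem_Orb_self Y (Gm Q S))
    obtain ⟨z, g, hz⟩ := h.exz hc hJ
    obtain ⟨y, hy, e⟩ := mem_orbit_iff_Orb.1 Γ.2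
    refine ⟨_, h.zconj hz (ap (pr Y (Gm Q S)) y), ?_⟩
    rw [show Γ = ap (pr Y (Gm Q S)) y • H26.BR.base Y (Gm Q S) from
      Subtype.ext (by rw [ap_smul hy, e])]
    exact conj_fix (h.fixb g)
  · rintro _ ⟨u, c, Γ, R, gu, hR, l, rfl⟩ _ ⟨v, d, Γv, R', gv, hR', l', rfl⟩ ne cm
    have iu := h.inv' gu
    have iv := h.inv' gv
    have p2' := four_pi iu iv cm
    have rg : zpowers (ap (pr Y (Gm Q S)) u) ⊔ zpowers (ap (pr Y (Gm Q S)) v) ≤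
        (pr Y (Gm Q S)).range := le_top.trans (range_top (Y := Y) (a := Gm Q S)).ge
    obtain ⟨T0, hT0, uT⟩ := Sylow_superset p2 gu.inv.two (Q := zpowers u)
      (M := pre (pr Y (Gm Q S)) (zpowers (ap (pr Y (Gm Q S)) u) ⊔ zpowers (ap (pr Y (Gm Q S)) v)))
      (zpowers_le.2 (mem_pre.2 ⟨gu.zY, mem_sup_left (mem_zpowers _)⟩))
    have i0 := hT0.img (pr Y (Gm Q S)) (pre_le _ _)
    rw [img_pre_of_le rg] at i0
    have T0Y : T0 ≤ Y := hT0.le.trans (pre_le _ _)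
    obtain ⟨x, hx, ex⟩ := (mem_img_of_le T0Y).1
      ((i0.eq_self p2').ge (mem_sup_right (mem_zpowers _)))
    obtain ⟨T, hT, l0⟩ := Sylow_superset p2 hT0.pi T0Y
    obtain ⟨n, hn, vT⟩ := intoT (a := Gm Q S) hT (gv.inv.two.piElt (mem_zpowers v)) (l0 hx)
      ((ap_eq gv.zY (T0Y hx)).2 ex.symm)
    have gv' := h.conj gv hn.1
    have ev : ap (pr Y (Gm Q S)) (n * v * n⁻¹) = ap (pr Y (Gm Q S)) v := by
      rw [ap_conj _ hn.1 gv.zY, (ap_one' hn.1).2 hn]; group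
    have eΓ : n • Γv = Γ := by
      refine ((h.star gv' gu.orb).1 ?_).symm
      have fu : ap (pr Y (Gm Q S)) u • (⟨Γ, mem_orbit_iff_Orb.2 gu.orb⟩ : orbit Y (Gm Q S)) = _ :=
        (ap_fix gu.zY).2 ((h.star gu gu.orb).2 rfl)
      refine (ap_fix gv'.zY (c := ⟨Γ, mem_orbit_iff_Orb.2 gu.orb⟩)).1 ?_
      rw [ev]
      exact h.nar gu _ _ (by rw [← mul_smul, cm, mul_smul, fu]) fu
    rw [eΓ] at gv'
    have wY := mul_mem gu.zY gv'.zY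
    have key : ∀ b : orbit Y (Gm Q S),
        (ap (pr Y (Gm Q S)) u * ap (pr Y (Gm Q S)) v) • b = b → (b : Set Ω) = Γ := by
      intro b hb
      by_contra nb
      rw [← ev, ← ap_mul _ gu.zY gv'.zY, ap_fix wY] at hb
      have := h.pd0 gu gv' hR l (h.bt.te.syl_cj hR' n) (h.cj_le l' hn.1)
        (hT.pi.piElt (mul_mem (l0 (uT (mem_zpowers u))) vT)) (mem_orbit_iff_Orb.1 b.2) nb hb
      rw [← ap_one' wY, ap_mul _ gu.zY gv'.zY, ev] at this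
      exact ne ((eq_inv_of_mul_eq_one_left this).trans iv.inv)
    exact fun a b ha hb => Subtype.ext ((key a ha).trans (key b hb).symm)

theorem Cx.false : False := by
  have := nontrivial_orbit h.mv
  obtain ⟨c, hc, hJ⟩ := h.exc (mem_Orb_self Y (Gm Q S))
  obtain ⟨z, gz, hz⟩ := h.exz hc hJ
  have RY : Q c ⊓ S ≤ Y := (le_WW hc).trans h.W
  by_cases hP : Pair (ZZ Q J Y S) ⊤ (H26.BR.base Y (Gm Q S))
  · obtain ⟨L, Q', A, k, d, i, b⟩ := exists_BS h.ze im_faithful hP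
    obtain ⟨x, hx, y, hy, x2, y2, n⟩ := h.nc c _ hc
    have mA : ∀ x ∈ Q c ⊓ S, x * x = 1 → ap (pr Y (Gm Q S)) x ∈ A := fun x hx x2 => by
      rw [b.memA]
      by_cases x1 : x = 1
      · left; rw [x1, ap_one' (one_mem _)]; exact one_mem _
      · have g := h.base hc hJ hx ⟨x1, x2⟩
        exact .inr ⟨(h.inv' g).2, h.nar g, h.fixb g⟩
    have e := b.cent _ (b.AQ (mA y hy y2)) _ (mA x hx x2)
    rw [← ap_mul _ (RY hx) (RY hy), ← ap_mul _ (RY hy) (RY hx),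
      ← ap_eq (RY (mul_mem hx hy)) (RY (mul_mem hy hx))] at e
    have m := mul_mem (mul_mem hx hy) (inv_mem (mul_mem hy hx))
    obtain ⟨Γ', o, n'⟩ := h.other gz.orb
    exact n' (h.two gz (RY m) m.1 (hc.pi.piElt m) (fun e => n (mul_inv_eq_one.1 e)) o
      (Ker_smul e o))
  · have fx : ∀ {x g : Im Y (Gm Q S)}, Nar (orbit Y (Gm Q S)) x →
        x • H26.BR.base Y (Gm Q S) = H26.BR.base Y (Gm Q S) → g * x = x * g →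
        g • H26.BR.base Y (Gm Q S) = H26.BR.base Y (Gm Q S) := fun {x g} n e cm =>
      n _ _ (by rw [← mul_smul, ← cm, mul_smul, e]) e
    obtain ⟨a1, h1, a2, h2, s1, s2, n1, n2, n12, cm⟩ := h.bt.four c _ hc
    have g1 := h.base hc hJ h1 ⟨n1, s1⟩
    have g2 := h.base hc hJ h2 ⟨n2, s2⟩
    have g3 := h.base hc hJ (mul_mem h1 h2) (g1.inv.mul g2.inv n12 cm)
    have nO := (pcore_nml ({2}ᶜ : Set ℕ) (⊤ : Subgroup (Im Y (Gm Q S)))).norm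
    have O : O[{2}ᶜ, (⊤ : Subgroup (Im Y (Gm Q S)))] ≤ stabilizer _ (H26.BR.base Y (Gm Q S)) := by
      refine gen_four (h.inv' g1) (h.inv' g2) (fun e => h.nker g3 ?_) ?_
        (odd_iff_isPi.2 (pcore_pi _ _)) (nO (mem_top _)) (nO (mem_top _)) fun x hx ix => ?_
      · rw [← ap_one' g3.zY, ap_mul _ g1.zY g2.zY, e, (h.inv' g2).2]
      · rw [← ap_mul _ g1.zY g2.zY, cm, ap_mul _ g2.zY g1.zY]
      · rw [← img_zpowers _ g1.zY, ← img_zpowers _ g2.zY,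
          ← img_sup _ (zpowers_le.2 g1.zY) (zpowers_le.2 g2.zY)] at hx
        obtain ⟨i, hi, iY, rfl⟩ := mem_img.1 hx
        have gi := h.base hc hJ (sup_le (zpowers_le.2 h1) (zpowers_le.2 h2) hi)
          ⟨fun e => ix.1 (by rw [e, ap_one' (one_mem _)]; exact one_mem _),
            four_sq g1.inv g2.inv cm i hi⟩
        exact fun g hg => fx (h.nar gi) (h.fixb gi) (mem_C1.1 hg.2)
    obtain ⟨y, hy, e⟩ := h.mv
    obtain ⟨o, ho, c', -, cc, e1⟩ := zstar_prod (Y := ⊤) (h.inv' gz) (mem_top _) (fun g _ cm => by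
      by_contra n
      exact hP ⟨_, ⟨hz, mem_top _, h.fixb gz⟩, _, ⟨h.zconj hz g, mem_top _,
        fx (h.nar gz) (h.fixb gz) cm.symm⟩, Ne.symm n, cm⟩) (mem_top (ap (pr Y (Gm Q S)) y))
    refine e ((ap_fix hy (c := H26.BR.base Y (Gm Q S))).1 ?_)
    rw [e1, mul_smul, fx (h.nar gz) (h.fixb gz) cc]
    exact O ho

end

end ACZx

/-! ### ACZ -/
theorem BT.zd (h : BT Q) (hR : Syl 2 (Q c) R) (hx : x ∈ R) (hy : y ∈ R) (x2 : x * x = 1)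
    (y2 : y * y = 1) (hn : x * y ≠ y * x) (h1 : Syl 2 ⊤ S₁) (h2 : Syl 2 ⊤ S₂) :
    Gm Q S₁ = Gm Q S₂ := by
  by_contra ne
  obtain ⟨⟨A, B⟩, ⟨hA, hB, nAB⟩, mx⟩ := Set.exists_max_image
    {p : Subgroup G × Subgroup G | Syl 2 ⊤ p.1 ∧ Syl 2 ⊤ p.2 ∧ Gm Q p.1 ≠ Gm Q p.2}
    (fun p => (Gm Q p.1 ∩ Gm Q p.2).ncard) (Set.toFinite _) ⟨(S₁, S₂), h1, h2, ne⟩
  have fx : Fx (⨅ d ∈ Gm Q A ∩ Gm Q B, stabilizer G d) (Gm Q A ∩ Gm Q B) := fun g hg d hd =>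
    mem_iInf.1 (mem_iInf.1 hg d) hd
  have WA : ∀ S, Syl 2 ⊤ S → Gm Q A ∩ Gm Q B ⊆ Gm Q S →
      WW Q S ≤ ⨅ d ∈ Gm Q A ∩ Gm Q B, stabilizer G d := fun S hS s g hg =>
    mem_iInf.2 fun d => mem_iInf.2 fun hd => h.fx hS.pi g hg d (s hd)
  obtain ⟨d, dB, dA⟩ : ∃ d ∈ Gm Q B, d ∉ Gm Q A := by
    by_contra n
    push Not at n
    exact nAB (h.te.Gm_eq hB hA n).symm
  obtain ⟨z, hz, -, z1, z2⟩ := two_cent dB.pi dB.pi (norm_self _) (h.te.ne_bot dB)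
  obtain ⟨⟨Y, S⟩, hY, mn⟩ := Set.exists_min_image
    {p : Subgroup G × Subgroup G | ACZx.Mn Q (Gm Q A ∩ Gm Q B) p.1 p.2}
    (fun p => ♯p.1) (Set.toFinite _) ⟨(_, A), fx, hA, Set.inter_subset_left,
      WA A hA Set.inter_subset_left, z, WA B hB Set.inter_subset_right (le_WW dB hz),
      fun e => dA (ACZx.mem_of_inv h hA hz.1 ⟨z1, z2⟩ e)⟩
  refine ACZx.Cx.false (Q := Q) (J := Gm Q A ∩ Gm Q B) (Y := Y) (S := S)
    ⟨hY, h, fun c' R' hR' => ?_, fun S₁ S₂ a b e => mx (S₁, S₂) ⟨a, b, e⟩,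
      fun Y' S' m => mn (Y', S') m⟩
  obtain ⟨g, -, rfl⟩ := h.te.syl_conj hR hR'
  refine ⟨_, conj_mem_cj g hx, _, conj_mem_cj g hy, ?_, ?_, fun e => hn ?_⟩
  · rw [_root_.conj_mul, x2]; group
  · rw [_root_.conj_mul, y2]; group
  · rw [_root_.conj_mul, _root_.conj_mul] at e
    exact conj_inj' e

end ACo
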