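import Mathlib
import Cfsg.Agent.H22.AC0
import Cfsg.Agent.H22.ACA
import Cfsg.Agent.H22.ACZ

set_option autoImplicit false
set_option linter.unusedSectionVars false
set_option linter.unusedVariables false

namespace ACo

open Cfsg H24 H26 H26.Gold H23.TC H3.B71 Subgroup MulAction
open scoped commutatorElement Pointwise

universe u

variable {G Ω : Type u} [Group G] [Finite G] [MulAction G Ω] [Finite Ω] {Q K : Ω → Subgroup G}
  {a b b' c d e : Ω} {A B E F H M P R R' S S' S₀ S₁ S₂ T T' U U1 V W X Y : Subgroup G}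
  {f g k r s t u v w x y z : G}

/-! ### ACE -/
namespace ACEx

theorem syl_cent {L : Subgroup G} (hL : Qs L) (hU : Syl 2 L U) (hc : U ≤ C[L]) : False := by
  have hab : Abl U := abl_iff.2 (cents_of_le hc hU.le)
  have : U = ⊥ := by
    rw [eq_bot_iff]
    intro g hg
    exact mem_bot.2 (tz_abl hL.perf hU hab hg (hc hg))
  exact hL.not_odd (hU.isPi_compl_of_eq_bot this)

theorem nab (h : CX K Q) (a : Ω) : ¬ IsMulCommutative G := fun hc =>
  (h.kd.qs a).not_le_C (le_C_iff.2 fun x _ y _ => hc.is_comm.comm x y)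

end ACEx

open ACEx in
theorem CX.nose (h : CX K Q) (a : Ω) : ¬ ∃ H : Subgroup G, IsStronglyEmbedded H := by
  rintro ⟨H, hH⟩
  haveI := h.simple
  obtain ⟨T, Z, tz, ty⟩ := ty1_of_stronglyEmbedded (nab h a) hH
  obtain ⟨z, hz, iz⟩ := h.te.ev a
  have t2 : TwoE z := piElt_of_orderOf_prime p2 iz.orderOf_eq
  obtain ⟨g, -, hg⟩ := conj_into tz.syl (mem_top z) t2
  have hz' := h.te.conj hz g
  have iz' := iz.conj g
  have hK : K (g • a) ≤ N[T] := by
    intro k hk
    refine ty.ti k (mem_top k) (ne_bot_of_mem (x := g * z * g⁻¹) ⟨hg, ?_⟩ iz'.1)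
    have e : k * (g * z * g⁻¹) * k⁻¹ = g * z * g⁻¹ :=
      conj_eq_of_mem_C (h.kd.cent _ hk) hz'
    have := conj_mem_cj k hg
    rw [e] at this
    exact this
  have hT : Syl 2 N[T] T := tz.syl.of_le (norm_self T) le_top
  have hU : Syl 2 (K (g • a)) (K (g • a) ⊓ T) := hT.nml_inf' le_rfl hK
  exact syl_cent (h.kd.qs _) hU
    ((h.kd.qs _).le_C_of_sol (nml_inf_of_norm hK) (hU.pi.sol p2))

open ACEx in
theorem CX.not_bo (h : CX K Q) (a : Ω) : ¬ Bo Q := by
  intro hbo
  haveI := h.simple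
  have bt : BT Q := ⟨h.te, h.four, h.ne, hbo⟩
  obtain ⟨R, hR⟩ := Sylow_exists p2 (Q a)
  obtain ⟨S, hS, hRS⟩ := Sylow_superset p2 hR.pi (le_top (a := R))
  obtain ⟨x, hx, -, -, x2, -, x1, -⟩ := h.four a R hR
  have nabS : ¬ Abl S := by
    intro hab
    have key : EA S → ♯S ≤ 8 → False := by
      intro hea h8
      rcases h.ne with hne | hen
      · obtain ⟨y, hy, hy2⟩ := hne a R hR
        exact hy2 (hea.sq (hRS hy))
      · have e : R = S := eq_of_card_ge hRS (h8.trans (hen.1 a R hR).2)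
        have hSC : S ≤ C[K a] := by rw [← e, ← h.eq a]; exact hR.le
        exact syl_cent (h.kd.qs a) (hS.inf_norm le_top (norm_of_cent hSC)) (inf_le_left.trans hSC)
    rcases abelian_sylow (nab h a) hS hab with hse | ⟨hea, h4⟩ | ⟨hea, h8, -⟩
    · exact h.nose a hse
    · exact key hea (by omega)
    · exact key hea h8.le
  by_cases hc : ∀ c R, Syl 2 (Q c) R → ∀ x ∈ R, ∀ y ∈ R, x * x = 1 → y * y = 1 → x * y = y * x
  · have hA : AA Q S ≠ ⊥ :=
      ne_bot_of_mem (x := x) (subset_closure ⟨hRS hx, ⟨x1, x2⟩, a, hR.le hx⟩) x1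
    rcases goldschmidt hS hA (bt.ablA hS hc) (bt.sca hS hc) with hab | hse
    · exact nabS hab
    · exact h.nose a hse
  · push Not at hc
    obtain ⟨c, R', hR', u, hu, w, hw, u2, w2, hn⟩ := hc
    have ha : a ∈ Gm Q S := bt.mem_Gm hS (hR.le hx) (hRS hx) x1
    have hall : ∀ b, b ∈ Gm Q S := by
      intro b
      obtain ⟨g, rfl⟩ := h.te.tr a b
      rw [bt.zd hR' hu hw u2 w2 hn hS (hS.cj_mem (mem_top g))]
      exact (h.te.Gm_cj g S).1 ha
    have hxW : x ∈ WW Q S := le_WW ha ⟨hR.le hx, hRS hx⟩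
    have hker : x ∈ (MulAction.toPermHom G Ω).ker := by
      rw [MonoidHom.mem_ker]
      ext b
      exact bt.fx hS.pi x hxW b (hall b)
    have htop : (MulAction.toPermHom G Ω).ker = ⊤ :=
      (IsSimpleGroup.eq_bot_or_eq_top_of_normal _ inferInstance).resolve_left
        (ne_bot_of_mem hker x1)
    have hfix : ∀ g : G, g • a = a := fun g => by
      have : g ∈ (MulAction.toPermHom G Ω).ker := htop ▸ mem_top g
      rw [MonoidHom.mem_ker] at this
      exact congrArg (fun f : Equiv.Perm Ω => f a) this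
    have hQ : Q a ⊴ ⊤ := ⟨le_top, fun g _ => h.te.stab_le (hfix g)⟩
    have hQt : Q a = ⊤ :=
      (IsSimpleGroup.eq_bot_or_eq_top_of_normal _ (nml_top_iff.1 hQ)).resolve_left
        (ne_bot_of_mem (hR.le hx) x1)
    exact (h.kd.qs a).not_le_C (cents_of_le (h.kd.cent a) (hQt ▸ le_top))

end ACo
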