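import Mathlib
import Cfsg.Agent.H22.AC0
import Cfsg.Agent.H22.ACP
import Cfsg.Agent.H2.Quaternion

set_option autoImplicit false
set_option linter.unusedSectionVars false
set_option linter.unusedVariables false

namespace ACo

open Cfsg H24 H26 H26.Gold H23.TC H3.B71 Subgroup MulAction
open scoped commutatorElement Pointwise

universe u

variable {G Ω : Type u} [Group G] [Finite G] [MulAction G Ω] [Finite Ω] {Q K : Ω → Subgroup G}
  {a b b' c d e : Ω} {A B E F H M P R R' S S' S₀ S₁ S₂ T T' U U1 V W X Y : Subgroup G}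
  {f g k r s t u v w x y z : G}

namespace ACax

/-- a group with a four-group has an involution outside any cyclic subgroup -/
theorem out_inv (h2 : R2 R) (u : G) : ∃ w ∈ R, w ∉ zpowers u ∧ w * w = 1 := by
  obtain ⟨p, hp, q, hq, p2, q2, p1, q1, pq, -⟩ := h2
  by_cases h : p ∈ zpowers u
  · exact ⟨q, hq, fun h' => pq (inv_unique h h' p1 p2 q1 q2), q2⟩
  · exact ⟨p, hp, h, p2⟩

theorem dh_of (hu : u ∈ R) (hi : Ix2 (zpowers u) R) (h2 : R2 R)
    (hw : ∀ w ∈ R, w ∉ zpowers u → w * w = 1 → w * u * w⁻¹ = u⁻¹) : Dh R := by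
  obtain ⟨w, wR, wu, w2⟩ := out_inv h2 u
  have hu1 : u ≠ 1 := by
    rintro rfl
    obtain ⟨p, hp, q, hq, p2, q2, p1, q1, pq, -⟩ := h2
    have := hi p hp q hq (by simpa using p1) (by simpa using q1)
    simp only [zpowers_one_eq_bot, mem_bot] at this
    exact pq (by rw [← inv_sq p2]; exact inv_eq_of_mul_eq_one_right this)
  have e := hw w wR wu w2
  have e2 : w * u * (w * u) = 1 := by
    have : w * u * w = u⁻¹ := by rw [← e, inv_sq w2]
    rw [← mul_assoc, this, inv_mul_cancel]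
  refine ⟨w, w * u, ⟨fun h => wu (h ▸ one_mem _), w2⟩, ⟨fun h => wu ?_, e2⟩,
    fun h => hu1 (by simpa using h), le_antisymm (fun r hr => ?_) ?_⟩
  · have : w = u⁻¹ := eq_inv_of_mul_eq_one_left h
    exact this ▸ inv_mem (mem_zpowers u)
  · have hw' : w ∈ zpowers w ⊔ zpowers (w * u) := mem_sup_left (mem_zpowers w)
    have hle : zpowers u ≤ zpowers w ⊔ zpowers (w * u) := by
      rw [zpowers_le]
      have := mul_mem (inv_mem hw') (mem_sup_right (mem_zpowers (w * u)) :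
        w * u ∈ zpowers w ⊔ zpowers (w * u))
      simpa using this
    by_cases hru : r ∈ zpowers u
    · exact hle hru
    · have := mul_mem (inv_mem hw') (hle (hi w wR r hr wu hru))
      simpa using this
  · exact sup_le (zpowers_le.2 wR) (zpowers_le.2 (mul_mem wR hu))

theorem cyc_of (h2 : TwoG U) (ha : Abl U) (hn : ¬ R2 U) : ∃ u, zpowers u = U := by
  haveI : Fact (Nat.Prime 2) := ⟨p2⟩
  haveI : IsMulCommutative U := ha
  refine cyc_iff.1 (H2.UniqueOrderP.isCyclic_of_comm (h2.isPGroup p2) fun x y hx x2 y2 => ?_)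
  by_cases hy : y = 1
  · exact hy ▸ one_mem _
  by_cases hxy : x = y
  · exact hxy ▸ mem_zpowers _
  refine absurd ⟨x, x.2, y, y.2, ?_, ?_, ?_, ?_, ?_, ha.comm x.2 y.2⟩ hn
  · rw [← pow_two]; exact_mod_cast x2
  · rw [← pow_two]; exact_mod_cast y2
  · exact_mod_cast hx
  · exact_mod_cast hy
  · exact fun e => hxy (Subtype.ext e)

theorem TS (h : Cf Q a b S R R' U T) : T ≤ S := h.eT ▸ inf_le_right

theorem TN (h : Cf Q a b S R R' U T) : T ≤ N[R] := (TS h).trans h.na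

theorem twoRT (h : Cf Q a b S R R' U T) : TwoG (R ⊔ T) :=
  h.sa.pi.sup (h.syl.pi.of_le (TS h)) (TN h)

/-- decomposition of the elements of `R T` normalising `U T` -/
theorem dec (h : Cf Q a b S R R' U T) (he : x ∈ R ⊔ T) (hn : x ∈ N[U ⊔ T]) :
    ∃ r ∈ R, ∃ t ∈ T, x = r * t ∧ r ∈ N[U ⊔ T] := by
  obtain ⟨r, hr, t, ht, rfl⟩ := (mem_sup_of_norm (TN h)).1 he
  refine ⟨r, hr, t, ht, rfl, ?_⟩
  have := mul_mem hn (inv_mem (le_normalizer (mem_sup_right ht : t ∈ U ⊔ T)))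
  simpa using this

theorem sq_mem (h : Cf Q a b S R R' U T) (hb : ¬ Beta Q a b) (he : x ∈ R ⊔ T)
    (hn : x ∈ N[U ⊔ T]) : x * x ∈ U ⊔ T := by
  obtain ⟨r, hr, t, ht, rfl, hrn⟩ := dec h he hn
  have h1 : r * r ∈ U ⊔ T := mem_sup_left (h.sq hr hrn hb)
  have h2 : t ∈ U ⊔ T := mem_sup_right ht
  have := mul_mem (mul_mem h1 (cN' hrn h2)) h2
  convert this using 1
  group

/-- if `R` does not normalise `U T`, then `U` has exponent two -/
theorem exp_two (h : Cf Q a b S R R' U T) (hb : ¬ Beta Q a b) (hR : ¬ R ≤ N[U ⊔ T])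
    (hu : u ∈ U) : u * u = 1 := by
  have hP : U ⊔ T ≤ (R ⊔ T) ⊓ N[U ⊔ T] :=
    le_inf (sup_le_sup_right h.lU _) le_normalizer
  obtain ⟨y, yR, yN, yE⟩ := exists_norm_lt (twoRT h) (inf_le_left : (R ⊔ T) ⊓ N[U ⊔ T] ≤ R ⊔ T)
    fun hle => hR (le_sup_left.trans (hle.trans inf_le_right))
  have yP : y ∉ N[U ⊔ T] := fun hy => yE ⟨yR, hy⟩
  obtain ⟨p, hp, hz⟩ : ∃ p ∈ U ⊔ T, y * p * y⁻¹ ∉ U ⊔ T := by
    by_contra hc
    push_neg at hc
    exact yP (mem_N_of_finite hc)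
  have zE := cN yN (hP hp)
  obtain ⟨r, hr, s, hs, ez, hrn⟩ := dec h zE.1 zE.2
  have rU : r ∉ U := fun hrU => hz (ez ▸ mul_mem (mem_sup_left hrU) (mem_sup_right hs))
  have ph := h.ph hr rU hrn
  obtain ⟨t, ht, rfl⟩ := ph.surj h.card.le hu
  refine ph.sq' ht (ph.free _ (mul_mem ht ht) ?_)
  have tE := cN' yN (hP (mem_sup_right ht))
  have h1 := sq_mem h hb tE.1 tE.2
  have h2 := conj_comm ((h.abl hb).comm hp h1) y
  have e : y * (y⁻¹ * t * y * (y⁻¹ * t * y)) * y⁻¹ = t * t := by group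
  rw [e, ez] at h2
  have h3 : s * (t * t) = t * t * s := ph.ablT.comm hs (mul_mem ht ht)
  have : r * (t * t) * s = t * t * r * s := by
    rw [mul_assoc r, ← h3, ← mul_assoc, h2, mul_assoc (t * t)]
  exact mul_right_cancel this

theorem big (h : Cf Q a b S R R' U T) (hb : ¬ Beta Q a b) (h2 : R2 R) (hU : zpowers u = U)
    (hu : u * u ≠ 1) : Dh R := by
  have uU : u ∈ U := hU ▸ mem_zpowers u
  have hR : R ≤ N[U ⊔ T] := by
    by_contra hR
    exact hu (exp_two h hb hR uU)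
  have inv : ∀ w ∈ R, w ∉ zpowers u → w * u * w⁻¹ = u⁻¹ := fun w hw hn =>
    h.inv hw (hU ▸ hn) (hR hw) u uU
  refine dh_of (h.lU uU) (fun p hp q hq h1 h2 => ?_) h2 fun w hw hn _ => inv w hw hn
  by_contra hc
  have e := inv _ (mul_mem hp hq) hc
  have e1 := inv p hp h1
  have e2 := inv q hq h2
  have : p * q * u * (p * q)⁻¹ = u := by
    calc p * q * u * (p * q)⁻¹ = p * (q * u * q⁻¹) * p⁻¹ := by group
      _ = (p * u * p⁻¹)⁻¹ := by rw [e2]; group
      _ = u := by rw [e1, inv_inv]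
  rw [this] at e
  exact hu (by nth_rewrite 2 [e]; exact mul_inv_cancel u)

theorem small (h : Cf Q a b S R R' U T) (hb : ¬ Beta Q a b) (h2 : R2 R) (hU : zpowers u = U)
    (hu : u * u = 1) : Dh R := by
  have hab := h.abl hb
  have U2 : ∀ v ∈ U, v * v = 1 := by
    intro v hv
    rcases (mem_zp hu).1 (hU ▸ hv) with rfl | rfl
    · exact mul_one 1
    · exact hu
  obtain ⟨x, xR, xU, xN⟩ := h.exx hb
  have ph := h.ph xR xU xN
  have T2 : ∀ s ∈ T, s * s = 1 := fun s hs => ph.sq hs (U2 _ (ph.mem s hs))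
  obtain ⟨t, ht, t1⟩ : ∃ t ∈ T, t ≠ 1 := by
    by_contra hc
    push_neg at hc
    exact h.symm.neU (eq_bot_iff.2 fun s hs => mem_bot.2 (hc s hs))
  have hC : (R ⊔ T) ⊓ C{t} ≤ U ⊔ T := by
    intro z hz0
    have hz : z ∈ R ⊔ T := hz0.1
    have hzc : z ∈ C{t} := hz0.2
    clear hz0
    obtain ⟨r, hr, s, hs, rfl⟩ := (mem_sup_of_norm (TN h)).1 hz
    have sc : s ∈ C{t} := mem_C1.2 (ph.ablT.comm hs ht)
    have rc : r ∈ C{t} := by
      have := mul_mem hzc (inv_mem sc)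
      simpa using this
    exact mul_mem (mem_sup_left (h.cR ht t1 ▸ (⟨hr, rc⟩ : r ∈ R ⊓ C{t}))) (mem_sup_right hs)
  have TU : T ≤ N[U] := h.cent.trans (C_le_N _)
  have P2 : ∀ z ∈ U ⊔ T, z * z = 1 := by
    intro z hz
    obtain ⟨r, hr, s, hs, rfl⟩ := (mem_sup_of_norm TU).1 hz
    exact sq_mul (U2 r hr) (T2 s hs) (hab.comm (mem_sup_left hr) (mem_sup_right hs))
  have cU : ♯U ≤ 2 := by
    rw [← hU, Nat.card_zpowers]
    exact orderOf_le_of_pow_eq_one two_pos (by rw [pow_two, hu])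
  have c4 : ♯((R ⊔ T) ⊓ C{t} : Subgroup G) ≤ 4 := by
    refine (card_le_of_le hC).trans ?_
    rw [card_sup_of_inf TU (eq_bot_iff.2 (h.disj ▸ inf_le_inf_right T h.lU)), ← h.card]
    exact Nat.mul_le_mul cU cU
  have tRT : t ∈ R ⊔ T := mem_sup_right ht
  obtain ⟨c, hc, hi⟩ := mc1 (twoRT h) tRT c4
  have tR : t ∉ R := fun hr => t1 (mem_bot.1 (h.disj ▸ (⟨hr, ht⟩ : t ∈ R ⊓ T)))
  -- squares of `R T` lie in `R`
  have sqR : c * c ∈ R := by
    obtain ⟨r, hr, s, hs, rfl⟩ := (mem_sup_of_norm (TN h)).1 hc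
    have := mul_mem hr (cN (TN h hs) hr)
    convert this using 1
    rw [inv_sq (T2 s hs)]
    group
  have cR : c ∉ R := by
    intro hcR
    have hle : zpowers c ≤ R := zpowers_le.2 hcR
    obtain ⟨w, wR, wc, -⟩ := out_inv h2 c
    have := hle (hi w (mem_sup_left wR) t tRT wc fun h' => tR (hle h'))
    exact tR ((mul_mem_cancel_left wR).1 this)
  have ev : ∀ z ∈ R, z ∈ zpowers c → z ∈ zpowers (c * c) := by
    rintro z hz ⟨n, rfl⟩
    rcases Int.even_or_odd' n with ⟨m, rfl | rfl⟩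
    · exact ⟨m, by simp only [← pow_two, ← zpow_natCast, ← zpow_mul]; rfl⟩
    · exfalso
      have e : c ^ (2 * m + 1) = (c * c) ^ m * c := by
        rw [zpow_add_one, zpow_mul, zpow_two]
      simp only [e] at hz
      exact cR ((mul_mem_cancel_left (zpow_mem sqR m)).1 hz)
  have le2 : zpowers (c * c) ≤ zpowers c := zpowers_le.2 (mul_mem (mem_zpowers c) (mem_zpowers c))
  refine dh_of sqR (fun p hp q hq h1 h2 => ev _ (mul_mem hp hq)
    (hi p (mem_sup_left hp) q (mem_sup_left hq) (fun h' => h1 (ev p hp h'))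
      fun h' => h2 (ev q hq h'))) h2 fun w hw hn w2 => ?_
  have wc : w ∉ zpowers c := fun h' => hn (ev w hw h')
  have zc : ∀ p ∈ zpowers c, ∀ q ∈ zpowers c, p * q = q * p := fun p hp q hq =>
    (cyc_zpowers c).abl.comm hp hq
  by_cases tc : t ∈ zpowers c
  · have : c * c = 1 := P2 c (hC ⟨hc, mem_C1.2 (zc c (mem_zpowers c) t tc)⟩)
    rw [this]; simp
  have t2 := T2 t ht
  have ti := inv_sq t2
  have tct : t * c * t ∈ zpowers c := hi _ (mul_mem tRT hc) t tRT
    (fun h' => tc ((mul_mem_cancel_right (mem_zpowers c)).1 h')) tc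
  have cm := zc c (mem_zpowers c) _ tct
  have e1 : c * (t * c * t) ∈ C{t} := by
    rw [mem_C1]
    calc c * (t * c * t) * t = c * t * c * (t * t) := by group
      _ = (t * t) * c * t * c := by rw [t2]; group
      _ = t * ((t * c * t) * c) := by group
      _ = t * (c * (t * c * t)) := by rw [cm]
  have e2 := P2 _ (hC ⟨mul_mem hc (mul_mem (mul_mem tRT hc) tRT), e1⟩)
  rw [sq_mul_comm cm] at e2
  have e3 : t * (c * c) * t = (c * c)⁻¹ := by
    rw [eq_inv_iff_mul_eq_one, ← e2]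
    have : t * c * t * (t * c * t) = t * (c * c) * t := by
      calc t * c * t * (t * c * t) = t * c * (t * t) * c * t := by group
        _ = t * (c * c) * t := by rw [t2]; group
    rw [this]
    refine zc _ ?_ _ (le2 (mem_zpowers _))
    rw [← this]; exact mul_mem tct tct
  have wt := hi w (mem_sup_left hw) t tRT wc tc
  have e4 := zc _ wt _ (inv_mem (le2 (mem_zpowers _)))
  have ew : w = w * t * t := by rw [mul_assoc, t2, mul_one]
  calc w * (c * c) * w⁻¹ = w * (t * t) * (c * c) * (t * t) * w⁻¹ := by rw [t2]; group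
    _ = w * t * (t * (c * c) * t) * (w * t⁻¹)⁻¹ := by group
    _ = (c * c)⁻¹ := by rw [e3, ti, e4]; group

end ACax

/-! ### ACa -/
theorem Cf.r2 (h : Cf Q a b S R R' U T) (hb : ¬ Beta Q a b) (h4 : Four Q) (hd : ND Q) : R2 U := by
  by_contra hn
  obtain ⟨u, hu⟩ := ACax.cyc_of (h.sa.pi.of_le h.lU) ((h.abl hb).of_le le_sup_left) hn
  refine hd a R h.sa ?_
  by_cases h2 : u * u = 1
  · exact ACax.small h hb (h4 a R h.sa) hu h2
  · exact ACax.big h hb (h4 a R h.sa) hu h2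


end ACo
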