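import Mathlib
import Cfsg.Agent.H22.AC0
import Cfsg.Agent.H22.ACP
import Cfsg.Agent.H22.AC1

set_option autoImplicit false
set_option linter.unusedSectionVars false
set_option linter.unusedVariables false

namespace ACo

open Cfsg H24 H26 H26.Gold H23.TC H3.B71 Subgroup MulAction
open scoped commutatorElement Pointwise

universe u

variable {G Ω : Type u} [Group G] [Finite G] [MulAction G Ω] [Finite Ω] {Q K : Ω → Subgroup G}
  {a b b' c d e : Ω} {A B E F H M P R R' S S' S₀ S₁ S₂ T T' U U1 V W X Y : Subgroup G}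
  {f g k r s t u v w x y z : G}

namespace ACbx

theorem dec {L : Subgroup G} (hL : Qs L) (LY : L ≤ Y) (YL : Y ≤ N[L]) (hS : Syl 2 Y S) (hA : EA A)
    (AS : A ≤ S) (sc : ∀ x ∈ A, ∀ g ∈ Y, g * x * g⁻¹ ∈ S → g * x * g⁻¹ ∈ A) (ht : t ∈ A)
    (t1 : t ≠ 1) (tC : t ∉ C[L]) : ∃ κ ∈ L, ∃ c ∈ A, c ∈ C[L] ∧ t = κ * c := by
  have AY : A ≤ Y := AS.trans hS.le
  have qs : Qs (L.subgroupOf Y) := Qs.of_quasisimple ((H23.isQuasisimple_subgroupOf_iff LY).2 hL.quasisimple)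
  have hS' : Syl 2 ⊤ (S.subgroupOf Y) := (hall_subgroupOf_top hS.le).2 hS
  have hA' : EA (A.subgroupOf Y) := ea_of_sq fun x hx => Subtype.ext (hA.sq hx)
  have sc' : IsStronglyClosed (A.subgroupOf Y) (S.subgroupOf Y) :=
    ⟨fun x hx => AS hx, fun x hx g hg => sc x hx g g.2 hg⟩
  have hD := sc_DC hS' hA' sc'
  have ctx := ctx_all hD (maxD_DC hS' hA' sc')
  have nK : ∀ g : Y, g ∈ N[L.subgroupOf Y] := fun g =>
    mem_N_of_finite fun x hx => H24.conj_mem (H := L) (x := x) (YL g.2) hx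
  have toC : ∀ g : Y, g ∈ C[L.subgroupOf Y] → (g : G) ∈ C[L] := fun g hg =>
    mem_C.2 fun k hk => congrArg Subtype.val (mem_C.1 hg ⟨k, LY hk⟩ hk)
  have tD : (⟨t, AY ht⟩ : Y) ∈ Og (DC (A.subgroupOf Y)) ⊤ :=
    mem_Og (DC.self (B := A.subgroupOf Y) ht fun e => t1 (congrArg Subtype.val e)) (mem_top _)
  have nO := (hD.Og_nml ⊤).norm
  have hle : L.subgroupOf Y ≤ Og (DC (A.subgroupOf Y)) ⊤ := by
    rcases qs.nml _ (nml_inf_of_norm (K := Og (DC (A.subgroupOf Y)) ⊤) (le_top.trans nO)) with e | e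
    · exact inf_eq_left.1 e
    · refine absurd (toC _ (mem_C_of_comm qs.perf (nK ⟨t, AY ht⟩) fun k hk =>
        e (mem_inf.2 ⟨?_, ?_⟩))) tC
      · exact mul_mem (H24.conj_mem (nK _) hk) (inv_mem hk)
      · have := mul_mem tD (H24.conj_mem (nO (mem_top k)) (inv_mem tD))
        simpa only [mul_assoc] using this
  have := ctx.le_sup ⟨hle, fun g _ => nK g, qs.qs⟩ (show (⟨t, AY ht⟩ : Y) ∈ A.subgroupOf Y from ht)
  rw [qs.Ck_eq] at this
  obtain ⟨κ, hκ, c, hc, e⟩ := (mem_sup_of_norm (hA'.abl.norm inf_le_left inf_le_left)).1 this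
  exact ⟨κ, hκ.2, c, hc.1, toC c hc.2, congrArg Subtype.val e⟩

end ACbx

/-! ### ACb -/
theorem CX.fin (h : CX K Q) (hab : Alp Q a b) (hs : SCY K Q a b) : False := by
  obtain ⟨Y, S, A, t, KY, Ya, hS, hA, AS, sc, ht, tb, it⟩ := hs
  have tC : t ∉ C[K a] := fun e => hab.1.1 (h.te.ti a b t (h.eq a ▸ e) tb it)
  have YK : Y ≤ N[K a] := fun y hy => mem_N_iff_cj.2 (by rw [← h.kd.eqv, show y • a = a from Ya hy])
  obtain ⟨κ, hκ, c, cA, cC, e⟩ := ACbx.dec (h.kd.qs a) KY YK hS hA AS sc ht it.1 tC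
  have cQ : c ∈ Q a := h.eq a ▸ cC
  have t2 := twoE_of_sq it.2
  by_cases c1 : c = 1
  · rw [c1, mul_one] at e
    obtain ⟨R, hR⟩ := Sylow_exists p2 (Q a)
    exact hab.2 ⟨R, hR, fun r hr => h.te.fix_comm tb t2 it.1
      (mem_C.1 (h.kd.cent a (e ▸ hκ)) r (hR.le hr))⟩
  have Ab : A ≤ stabilizer G b := fun x hx => h.te.fix_comm tb t2 it.1 (hA.comm hx ht)
  obtain ⟨S1, R, R', U, T, cf, hB⟩ :=
    exists_cf h.te hab.1 hA.two (le_inf ((AS.trans hS.le).trans Ya) Ab)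
  have cU : c ∈ U := cf.eU ▸ ⟨cQ, hB cA⟩
  have tT : t ∈ T := cf.eT ▸ ⟨tb, hB ht⟩
  obtain ⟨x, hx, xU, xN⟩ := cf.exx hab.2
  have e1 : x * c = c * x := comm_of_conj (by rw [cf.inv hx xU xN c cU, hA.inv cA])
  have e2 : x * κ = κ * x := mem_C.1 (h.kd.cent a hκ) x (cf.sa.le hx)
  refine it.1 ((cf.ph hx xU xN).free t tT ?_)
  rw [e, ← mul_assoc, e2, mul_assoc, e1, mul_assoc]

end ACo
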