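import Mathlib
import Cfsg.Agent.H22.AC0
import Cfsg.Agent.H22.ACU
import Cfsg.Agent.H22.ACb

set_option autoImplicit false
set_option linter.unusedSectionVars false
set_option linter.unusedVariables false

namespace ACo

open Cfsg H24 H26 H26.Gold H23.TC H3.B71 Subgroup MulAction
open scoped commutatorElement Pointwise

universe u

variable {G Ω : Type u} [Group G] [Finite G] [MulAction G Ω] [Finite Ω] {Q K : Ω → Subgroup G}
  {a b b' c d e : Ω} {A B E F H M P R R' S S' S₀ S₁ S₂ T T' U U1 V W X Y : Subgroup G}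
  {f g k r s t u v w x y z : G}

namespace ACcx

/-- the induced system on the orbit of `b` under `Y` -/
def QY (Q : Ω → Subgroup G) (Y : Subgroup G) (b : Ω) : orbit Y b → Subgroup Y :=
  fun c => (Q c.1).subgroupOf Y

theorem te (h : TE Q) (ht : t ∈ Q b) (htY : t ∈ Y) (it : Inv t) : TE (QY Q Y b) where
  eqv g c := by
    ext x
    rw [mem_cj]
    change (x : G) ∈ Q ((g : G) • c.1) ↔ (g : G)⁻¹ * x * g ∈ Q c.1
    rw [h.eqv, mem_cj]
  ti c d x hc hd i := Subtype.ext (h.ti c.1 d.1 x hc hd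
    ⟨fun e => i.1 (Subtype.ext e), congrArg Subtype.val i.2⟩)
  ev c := by
    obtain ⟨c, g, rfl⟩ := c
    refine ⟨g * ⟨t, htY⟩ * g⁻¹, h.conj ht g, conj_ne (fun e => it.1 (congrArg Subtype.val e)) g, ?_⟩
    rw [← H23.TC.conj_mul, show (⟨t, htY⟩ : Y) * ⟨t, htY⟩ = 1 from Subtype.ext it.2]
    group
  tr c d := exists_smul_eq Y c d

end ACcx

open ACcx

/-! ### ACc -/
theorem CX.a1k (h : CX K Q) (hc : Cf Q a b S R R' U T) (hb : ¬ Beta Q a b) (h2 : R2 T) : EA T := by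
  by_contra hne
  obtain ⟨x, hx, x2⟩ : ∃ x ∈ T, x * x ≠ 1 := by
    by_contra hn
    push Not at hn
    exact hne (ea_of_sq hn)
  have hT := hc.symm.sylU
  have aT : Abl T := (hc.abl hb).of_le le_sup_right
  have Ka : K a ≤ stabilizer G a := by
    rw [← h.te.N_eq]; exact (h.kd.cent a).trans (C_le_N _)
  have Ta : T ≤ stabilizer G a := hT.le.trans inf_le_right
  have TK : T ≤ N[K a] := fun t ht => mem_N_iff_cj.2 (by rw [← h.kd.eqv, show t • a = a from Ta ht])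
  have der : ⁅K a ⊔ T, K a ⊔ T⁆ ≤ K a := by
    rw [der1_sup TK, der1_eq_bot.2 aT]
    exact sup_le (sup_le (der1_le _) (comm_le_left TK)) bot_le
  have Ya : K a ⊔ T ≤ stabilizer G a := sup_le Ka Ta
  have TY : T ≤ K a ⊔ T := le_sup_right
  have KY : K a ≤ K a ⊔ T := le_sup_left
  generalize K a ⊔ T = Y at der Ya TY KY
  obtain ⟨t, ht, s, hs, t2, s2, t1, s1, ts, hts⟩ := h2
  have tb : t ∈ Q b := (hT.le ht).1
  have te' := ACcx.te h.te tb (TY ht) ⟨t1, t2⟩
  let b' : orbit Y b := ⟨b, mem_orbit_self b⟩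
  have hT' : Syl 2 (QY Q Y b b') (T.subgroupOf Y) := by
    have := (hT.of_le (L := Q b ⊓ Y) (le_inf (hT.le.trans inf_le_left) TY)
      (inf_le_inf_left _ Ya)).subgroupOf (L := Y) inf_le_right
    rwa [inf_subgroupOf_right] at this
  have aT' : Abl (T.subgroupOf Y) :=
    abl_iff.2 (le_C_iff.2 fun p hp q hq => Subtype.ext (aT.comm hp hq))
  have bt : BT (QY Q Y b) := by
    refine ⟨te', fun c P hP => ?_, Or.inl fun c P hP => ?_, fun c d hcd => ?_⟩
    · obtain ⟨g, -, rfl⟩ := te'.syl_conj hT' hP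
      refine R2.cj ⟨⟨t, TY ht⟩, ht, ⟨s, TY hs⟩, hs, Subtype.ext t2, Subtype.ext s2,
        fun e => t1 (congrArg Subtype.val e), fun e => s1 (congrArg Subtype.val e),
        fun e => ts (congrArg Subtype.val e), Subtype.ext hts⟩ g
    · obtain ⟨g, -, rfl⟩ := te'.syl_conj hT' hP
      refine ⟨_, conj_mem_cj g (x := ⟨x, TY hx⟩) hx, ?_⟩
      rw [← H23.TC.conj_mul]
      exact conj_ne (fun e => x2 (congrArg Subtype.val e)) g
    · by_contra hn
      obtain ⟨S1, R1, R1', U1, T1, c1, -⟩ := exists_cf (B := ⊥) te' hcd (isPi_bot _) bot_le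
      obtain ⟨y, hy, yU, yN⟩ := c1.exx hn
      obtain ⟨⟨u, hu⟩, u1⟩ := Subgroup.ne_bot_iff_exists_ne_one.1 c1.neU
      have u1' : (u : G) ≠ 1 := fun e => u1 (Subtype.ext (Subtype.ext e))
      obtain ⟨t', -, e⟩ := (c1.ph hy yU yN).surj c1.card.le hu
      have uK : (u : G) ∈ K a := by
        refine der ?_
        have := commutator_mem_commutator (H₁ := Y) (H₂ := Y) (t'⁻¹).2 y.2
        convert this using 1
        rw [← e, commutatorElement_def]
        simp [mul_assoc]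
      have u2 : TwoE (u : G) := (c1.sa.pi.piElt (c1.lU hu)).map Y.subtype
      have uQ : (u : G) ∈ Q c.1 := c1.sa.le (c1.lU hu)
      have b1 : Beta Q a c.1 := ⟨R, hc.sa, fun r hr => h.te.fix_comm uQ u2 u1'
        (mem_C.1 (h.kd.cent a uK) r (hc.sa.le hr))⟩
      obtain ⟨c, g, rfl⟩ := c
      have b2 := b1.smul h.te (g : G)⁻¹
      rw [show (g : G)⁻¹ • a = a from Ya (Y.inv_mem g.2)] at b2
      exact hb (by simpa [Subgroup.smul_def] using b2)
  obtain ⟨P, hP, TP⟩ := Sylow_superset p2 hT'.pi le_top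
  have sc := bt.scw hP
  have aW := bt.abl hT' aT' hP.pi
  have tW : (⟨t, TY ht⟩ : Y) ∈ WW (QY Q Y b) P :=
    le_WW (bt.mem_Gm (c := b') (x := ⟨t, TY ht⟩) hP tb (TP ht) fun e => t1 (congrArg Subtype.val e)) ⟨tb, TP ht⟩
  refine h.fin ⟨hc.adj, hb⟩ ⟨Y, P.map Y.subtype, (Om (WW (QY Q Y b) P)).map Y.subtype, t, KY, Ya,
    (hall_map_subtype P).2 hP, ea_of_sq ?_, map_mono ((Om_le _).trans (WW_le P)), ?_,
    ⟨_, mem_Om' tW (Subtype.ext t2), rfl⟩, tb, t1, t2⟩
  · rintro _ ⟨w, hw, rfl⟩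
    exact congrArg Subtype.val ((mem_Om aW).1 hw).2
  · rintro _ ⟨w, hw, rfl⟩ g hg ⟨p, hp, e⟩
    obtain ⟨w1, w2⟩ := (mem_Om aW).1 hw
    have e' : p = ⟨g, hg⟩ * w * (⟨g, hg⟩ : Y)⁻¹ := Subtype.ext e
    refine ⟨p, mem_Om' (e' ▸ sc.2 w w1 _ (e' ▸ hp)) ?_, e⟩
    rw [e', ← H23.TC.conj_mul, w2]
    group

end ACo
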