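import Mathlib
import Cfsg.Agent.H22.AC0
import Cfsg.Agent.H22.ACP

set_option autoImplicit false
set_option linter.unusedSectionVars false
set_option linter.unusedVariables false

namespace ACo

open Cfsg H24 H26 H26.Gold H23.TC H3.B71 Subgroup MulAction
open scoped commutatorElement Pointwise

universe u

variable {G Ω : Type u} [Group G] [Finite G] [MulAction G Ω] [Finite Ω] {Q K : Ω → Subgroup G}
  {a b b' c d e : Ω} {A B E F H M P R R' S S' S₀ S₁ S₂ T T' U U1 V W X Y : Subgroup G}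
  {f g k r s t u v w x y z : G}

/-! ### ACd -/

namespace ACdx

theorem twoR (h : Cf Q a b S R R' U T) : TwoG R := h.sa.pi

theorem TS (h : Cf Q a b S R R' U T) : T ≤ S := h.eT ▸ inf_le_right

theorem US (h : Cf Q a b S R R' U T) : U ≤ S := h.eU ▸ inf_le_right

theorem TR (h : Cf Q a b S R R' U T) : T ≤ N[R] := (TS h).trans h.na

theorem eaP (h : Cf Q a b S R R' U T) (hU : EA U) (hT : EA T) : EA (U ⊔ T) :=
  ea_of_sq fun x hx => by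
    obtain ⟨u, hu, t, ht, rfl⟩ := (mem_sup_of_norm (norm_of_cent h.cent)).1 hx
    exact sq_mul (hU.sq hu) (hT.sq ht) (mem_C.1 (h.cent ht) u hu)

theorem cardP (h : Cf Q a b S R R' U T) : ♯(U ⊔ T : Subgroup G) = ♯U * ♯U := by
  rw [card_sup_of_inf (norm_of_cent h.cent) (eq_bot_of_le h.disj (inf_le_inf_right T h.lU)),
    ← h.card]

theorem centU (h : Cf Q a b S R R' U T) (hU : EA U) (hy : y ∈ R) (hn : y ∈ N[U ⊔ T]) :
    y ∈ C[U] := by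
  by_cases hy' : y ∈ U
  · exact hU.le_C hy'
  · exact mem_C'.2 fun u hu => comm_of_conj ((h.inv hy hy' hn u hu).trans (hU.inv hu))

theorem tv (h : Cf Q a b S R R' U T) (hU : EA U) (hy : y ∈ R) (hy' : y ∉ U) (hn : y ∈ N[U ⊔ T]) :
    Tv (U ⊔ T) U y := (h.ph hy hy' hn).tv (centU h hU hy hn)

theorem infP (h : Cf Q a b S R R' U T) : Q a ⊓ (U ⊔ T) = U :=
  le_antisymm (h.eU ▸ inf_le_inf_left _ (sup_le (h.eU ▸ US h) (TS h)))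
    (le_inf (h.lU.trans h.sa.le) le_sup_left)

theorem cj_eq (h : Cf Q a b S R R' U T) (hU : EA U) {V : Subgroup G} (hg : g ∈ N[U ⊔ T])
    (hV : Q c ⊓ (U ⊔ T) = V) (hne : U ⊓ cj g V ≠ ⊥) : g • c = a ∧ cj g V = U := by
  obtain ⟨x, hx, x1⟩ := exists_ne_one hne
  have e : cj g V = Q (g • c) ⊓ (U ⊔ T) := by rw [← hV, cj_inf, h.te.eqv, cj_of_mem_N hg]
  have e1 : g • c = a := h.te.two (e ▸ hx.2 : x ∈ Q (g • c) ⊓ (U ⊔ T)).1 (h.sa.le (h.lU hx.1))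
    (hU.two.piElt hx.1) x1
  exact ⟨e1, by rw [e, e1, infP h]⟩

/-- passing from `R T` to `R` -/
theorem up (h : Cf Q a b S R R' U T) (hT : TwoG T) (hA : A ≤ R) (hn : T ≤ N[A]) (hlt : ¬ R ≤ A) :
    ∃ r ∈ R, r ∉ A ∧ r ∈ N[A ⊔ T] := by
  obtain ⟨x, hx, x1, x2⟩ := exists_norm_lt ((twoR h).sup hT (TR h)) (sup_le_sup_right hA T)
    fun hle => hlt fun ρ hρ => by
      obtain ⟨y, hy, t, ht, rfl⟩ := (mem_sup_of_norm hn).1 (hle (mem_sup_left hρ))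
      have : t ∈ R ⊓ T := mem_inf.2 ⟨(mul_mem_cancel_left (hA hy)).1 hρ, ht⟩
      rw [h.disj, mem_bot] at this
      rwa [this, mul_one]
  obtain ⟨r, hr, t, ht, rfl⟩ := (mem_sup_of_norm (TR h)).1 hx
  exact ⟨r, hr, fun e => x2 (mul_mem (mem_sup_left e) (mem_sup_right ht)),
    (mul_mem_cancel_right (norm_self _ (mem_sup_right ht))).1 x1⟩

theorem TU1 (h : Cf Q a b S R R' U T) : T ≤ N[R ⊓ N[U ⊔ T]] :=
  norm_inf (TR h) (norm_N (norm_of_le le_sup_right))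

theorem PX (h : Cf Q a b S R R' U T) : U ⊔ T ≤ (R ⊓ N[U ⊔ T]) ⊔ T :=
  sup_le_sup_right (le_inf h.lU (norm_of_le le_sup_left)) T

theorem XN (h : Cf Q a b S R R' U T) : (R ⊓ N[U ⊔ T]) ⊔ T ≤ N[U ⊔ T] :=
  sup_le inf_le_right (norm_of_le le_sup_right)

/-- `C_P(x) = U` for `x ∈ U₁ T` outside `P` -/
theorem fixX (h : Cf Q a b S R R' U T) (hU : EA U) (hT : EA T) (hx : x ∈ (R ⊓ N[U ⊔ T]) ⊔ T)
    (hP : x ∉ U ⊔ T) (hy : y ∈ U ⊔ T) (hc : x * y = y * x) : y ∈ U := by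
  obtain ⟨w, hw, t, ht, rfl⟩ := (mem_sup_of_norm (TU1 h)).1 hx
  have := (tv h hU hw.1 (fun e => hP (mul_mem (mem_sup_left e) (mem_sup_right ht))) hw.2).congr
    (y := w * t) (by rw [inv_mul_cancel_left]; exact (eaP h hU hT).le_C (mem_sup_right ht))
  exact (this.fix y hy).1 (conj_of_comm hc)

theorem ea_cj' (hA : EA A) (g : G) : EA (cj g A) := ea_of_sq fun x hx => by
  obtain ⟨y, hy, rfl⟩ := mem_cj'.1 hx
  exact conj_sq (hA.sq hy) g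

theorem three (h2 : R2 U) : 3 ≤ ♯U := by
  classical
  obtain ⟨x, hx, y, hy, -, -, x1, y1, xy, -⟩ := h2
  have := Fintype.ofFinite U
  rw [Nat.card_eq_fintype_card]
  exact Fintype.two_lt_card_iff.2 ⟨1, ⟨x, hx⟩, ⟨y, hy⟩, fun e => x1 (congrArg Subtype.val e).symm,
    fun e => y1 (congrArg Subtype.val e).symm, fun e => xy (congrArg Subtype.val e)⟩

theorem base (h : Cf Q a b S R R' U T) (hb : ¬ Beta Q a b) (hU : EA U) (hT : EA T)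
    (hr : r ∈ R) (rn : r ∉ R ⊓ N[U ⊔ T]) (nrm : r ∈ N[(R ⊓ N[U ⊔ T]) ⊔ T]) :
    ♯(R ⊓ N[U ⊔ T] : Subgroup G) = ♯U * ♯U ∧ (U ⊔ T) ⊓ cj r (U ⊔ T) = U ∧
      (R ⊓ N[U ⊔ T]) ⊔ T = (U ⊔ T) ⊔ cj r (U ⊔ T) := by
  have le1 : cj r (U ⊔ T) ≤ (R ⊓ N[U ⊔ T]) ⊔ T := cj_le_of_mem_N (PX h) nrm
  obtain ⟨p, hp, pP⟩ := SetLike.not_le_iff_exists.1
    (fun hle : cj r (U ⊔ T) ≤ U ⊔ T => rn (mem_inf.2 ⟨hr, mem_N_of_cj_le hle⟩))
  have le2 : (U ⊔ T) ⊓ cj r (U ⊔ T) ≤ U := fun y hy =>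
    fixX h hU hT (le1 hp) pP hy.1 ((ea_cj' (eaP h hU hT) r).comm hp hy.2)
  have c1 := card_sup (le1.trans (XN h))
  have c2 := card_sup_of_inf (TU1 h) (eq_bot_of_le h.disj (inf_le_inf_right T inf_le_left))
  have c3 := card_le (sup_le (PX h) le1)
  have c4 := card_le le2
  have c5 := h.card_le.resolve_right hb
  have c6 := card_pos U
  rw [card_cj, cardP h] at c1
  rw [← h.card] at c2
  generalize hm : ♯((U ⊔ T) ⊓ cj r (U ⊔ T) : Subgroup G) = m at *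
  generalize hn : ♯((U ⊔ T) ⊔ cj r (U ⊔ T) : Subgroup G) = n at *
  generalize hk : ♯(R ⊓ N[U ⊔ T] : Subgroup G) = k at *
  generalize hq : ♯U = q at *
  rw [c2] at c3
  have d1 : q * q * q ≤ n := Nat.le_of_mul_le_mul_right (c := q) (by nlinarith) c6
  have d2 : q * q ≤ k := Nat.le_of_mul_le_mul_right (d1.trans c3) c6
  have d3 : q ≤ m := by
    have : n ≤ q * q * q := c3.trans (Nat.mul_le_mul_right q c5)
    refine Nat.le_of_mul_le_mul_left (c := q * q * q) ?_ (by positivity)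
    nlinarith
  refine ⟨le_antisymm c5 d2, eq_of_card_ge le2 (by rw [hm, hq]; exact d3),
    (eq_of_card_ge (sup_le (PX h) le1) ?_).symm⟩
  rw [hn, c2]
  exact (Nat.mul_le_mul_right q c5).trans d1

theorem invX (h : Cf Q a b S R R' U T) (hb : ¬ Beta Q a b) (hU : EA U) (hT : EA T)
    (hr : r ∈ R) (rn : r ∉ R ⊓ N[U ⊔ T]) (nrm : r ∈ N[(R ⊓ N[U ⊔ T]) ⊔ T])
    (hy : y ∈ (R ⊓ N[U ⊔ T]) ⊔ T) (y2 : y * y = 1) : y ∈ U ⊔ T ∨ y ∈ cj r (U ⊔ T) := by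
  obtain ⟨-, e1, e2⟩ := base h hb hU hT hr rn nrm
  have le1 : cj r (U ⊔ T) ≤ (R ⊓ N[U ⊔ T]) ⊔ T := cj_le_of_mem_N (PX h) nrm
  rw [e2] at hy
  obtain ⟨p, hp, p', hp', rfl⟩ := (mem_sup_of_norm (le1.trans (XN h))).1 hy
  by_cases h1 : p' ∈ U ⊔ T
  · exact .inl (mul_mem hp h1)
  · refine .inr (mul_mem (e1.ge (fixX h hU hT (le1 hp') h1 hp ?_)).2 hp')
    rw [← inv_sq y2, mul_inv_rev, (eaP h hU hT).inv hp, (ea_cj' (eaP h hU hT) r).inv hp']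

theorem two_cj (h : Cf Q a b S R R' U T) (hb : ¬ Beta Q a b) (hU : EA U) (hT : EA T)
    (hr : r ∈ R) (rn : r ∉ R ⊓ N[U ⊔ T]) (nrm : r ∈ N[(R ⊓ N[U ⊔ T]) ⊔ T])
    (hg : cj g (U ⊔ T) ≤ (R ⊓ N[U ⊔ T]) ⊔ T) :
    g ∈ N[U ⊔ T] ∨ cj g (U ⊔ T) = cj r (U ⊔ T) := by
  by_cases hle : cj g (U ⊔ T) ≤ U ⊔ T
  · exact .inl (mem_N_of_cj_le hle)
  obtain ⟨p, hp, pP⟩ := SetLike.not_le_iff_exists.1 hle
  have ea := ea_cj' (eaP h hU hT) g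
  refine .inr (eq_of_card_eq (fun y hy => ?_) (by rw [card_cj, card_cj]))
  rcases invX h hb hU hT hr rn nrm (hg hy) (ea.sq hy) with h1 | h1
  · exact ((base h hb hU hT hr rn nrm).2.1.ge (fixX h hU hT (hg hp) pP h1 (ea.comm hp hy))).2
  · exact h1

theorem ix2 (h : Cf Q a b S R R' U T) (hb : ¬ Beta Q a b) (hU : EA U) (hT : EA T)
    (hr : r ∈ R) (rn : r ∉ R ⊓ N[U ⊔ T]) (nrm : r ∈ N[(R ⊓ N[U ⊔ T]) ⊔ T]) :
    Ix2 N[U ⊔ T] N[(R ⊓ N[U ⊔ T]) ⊔ T] := fun x hx y hy x1 y1 => by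
  have e1 := (two_cj h hb hU hT hr rn nrm (cj_le_of_mem_N (PX h) (inv_mem hx))).resolve_left
    fun e => x1 (inv_mem_iff.1 e)
  have e2 := (two_cj h hb hU hT hr rn nrm (cj_le_of_mem_N (PX h) hy)).resolve_left y1
  have := cj_eq_cj_iff.1 (e2.trans e1.symm)
  rwa [inv_inv] at this

theorem top (h : Cf Q a b S R R' U T) (hb : ¬ Beta Q a b) (hU : EA U) (hT : EA T) (h2 : R2 U)
    (hr : r ∈ R) (rn : r ∉ R ⊓ N[U ⊔ T]) (nrm : r ∈ N[(R ⊓ N[U ⊔ T]) ⊔ T]) :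
    R ≤ N[(R ⊓ N[U ⊔ T]) ⊔ T] := by
  by_contra hn
  obtain ⟨X, hX⟩ : ∃ X, X = (R ⊓ N[U ⊔ T]) ⊔ T := ⟨_, rfl⟩
  have TX : T ≤ X := hX ▸ le_sup_right
  have n1 : T ≤ N[R ⊓ N[X]] := norm_inf (TR h) (norm_N (norm_of_le TX))
  have le0 : R ⊓ N[U ⊔ T] ≤ R ⊓ N[X] := le_inf inf_le_left (norm_of_le (hX ▸ le_sup_left))
  obtain ⟨k, hk, k1, k2⟩ := up h hT.two inf_le_left n1 fun e => hn (hX ▸ e.trans inf_le_right)
  have le1 : cj k (U ⊔ T) ≤ (R ⊓ N[X]) ⊔ T :=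
    cj_le_of_mem_N ((PX h).trans (sup_le_sup_right le0 T)) k2
  have le2 : (R ⊓ N[X]) ⊔ T ≤ N[X] := sup_le inf_le_right (norm_of_le TX)
  have inX : ∀ x ∈ (R ⊓ N[X]) ⊔ T, x ∈ N[U ⊔ T] → x ∈ X := fun x hx x1 => by
    obtain ⟨n, hn, t, ht, rfl⟩ := (mem_sup_of_norm n1).1 hx
    rw [hX]
    exact mul_mem (mem_sup_left (mem_inf.2 ⟨hn.1,
      (mul_mem_cancel_right (norm_self _ (mem_sup_right ht))).1 x1⟩)) (mem_sup_right ht)
  have ea := ea_cj' (eaP h hU hT) k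
  by_cases hle : cj k (U ⊔ T) ≤ X
  · rcases two_cj h hb hU hT hr rn nrm (hX ▸ hle) with e | e
    · exact k1 (le0 (mem_inf.2 ⟨hk, e⟩))
    · have := mul_mem (mem_inf.2 ⟨hr, hX ▸ nrm⟩ : r ∈ R ⊓ N[X])
        (le0 (mem_inf.2 ⟨mul_mem (inv_mem hr) hk, cj_eq_cj_iff.1 e⟩))
      rw [mul_inv_cancel_left] at this
      exact k1 this
  obtain ⟨β, hβ, β1⟩ := SetLike.not_le_iff_exists.1 hle
  have e1 := (two_cj h hb hU hT hr rn nrm (cj_le_of_mem_N (PX h) (hX ▸ le2 (le1 hβ)))).resolve_left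
    fun e => β1 (inX β (le1 hβ) e)
  have ix : Ix2 U (cj k (U ⊔ T)) := by
    have key : ∀ x ∈ cj k (U ⊔ T), x ∈ N[U ⊔ T] → x ∈ U := fun x hx x1 => by
      have hc := ea.comm hβ hx
      rw [← (base h hb hU hT hr rn nrm).2.1]
      rcases invX h hb hU hT hr rn nrm (hX ▸ inX x (le1 hx) x1) (ea.sq hx) with h1 | h1
      · exact mem_inf.2 ⟨h1, by rw [← e1, ← conj_of_comm hc]; exact conj_mem_cj β h1⟩
      · refine mem_inf.2 ⟨?_, h1⟩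
        rw [← e1, mem_cj, mul_assoc, ← hc, inv_mul_cancel_left] at h1
        exact h1
    intro x hx y hy x1 y1
    exact key _ (mul_mem hx hy) (ix2 h hb hU hT hr rn nrm x (hX ▸ le2 (le1 hx)) y
      (hX ▸ le2 (le1 hy)) (fun e => x1 (key x hx e)) fun e => y1 (key y hy e))
  have c1 := ix.card_le
  have c2 := card_le (inf_le_left : U ⊓ cj k (U ⊔ T) ≤ U)
  have c3 := three h2
  rw [card_cj, cardP h] at c1
  nlinarith

end ACdx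

open ACdx

theorem Cf.c4 (h : Cf Q a b S R R' U T) (hb : ¬ Beta Q a b) (hU : EA U) (hT : EA T) (h2 : R2 U)
    (hn : ¬ R ≤ N[U ⊔ T]) : ∃ U1 r, C4 Q a b S R R' U T U1 r := by
  obtain ⟨r, hr, rn, nrm⟩ := up h hT.two inf_le_left (TU1 h) fun e => hn (e.trans inf_le_right)
  obtain ⟨e1, e2, e3⟩ := base h hb hU hT hr rn nrm
  have hN := top h hb hU hT h2 hr rn nrm
  exact ⟨_, r, h, hb, hU, hT, h2, rfl, e1, hr, rn, fun x hx y hy x1 y1 =>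
    mem_inf.2 ⟨mul_mem hx hy, ix2 h hb hU hT hr rn nrm x (hN hx) y (hN hy)
      (fun e => x1 (mem_inf.2 ⟨hx, e⟩)) fun e => y1 (mem_inf.2 ⟨hy, e⟩)⟩, nrm,
    fun y hy y2 => invX h hb hU hT hr rn nrm hy y2, e2, e3⟩

theorem C4.cardR (h : C4 Q a b S R R' U T U1 r) : ♯R = 2 * (♯U * ♯U) := by
  rw [h.ix.card (h.eU1 ▸ inf_le_left) h.rR h.rn, h.card, mul_comm]

theorem C4.ord4 (h : C4 Q a b S R R' U T U1 r) (hy : y ∈ U1) (h2 : y * y = 1) : y ∈ U := by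
  have yR : y ∈ R := (h.eU1 ▸ hy : y ∈ R ⊓ N[U ⊔ T]).1
  refine h.cf.inf.le (mem_inf.2 ⟨yR, ?_⟩)
  rcases h.inv y (mem_sup_left hy) h2 with h1 | h1
  · exact h1
  · have r2 : r * r ∈ N[U ⊔ T] := (h.eU1 ▸ h.ix r h.rR r h.rR h.rn h.rn : _ ∈ R ⊓ N[U ⊔ T]).2
    have h3 : r⁻¹ * y * r ∈ U :=
      h.cf.inf.le (mem_inf.2 ⟨mul_mem (mul_mem (inv_mem h.rR) yR) h.rR, mem_cj.1 h1⟩)
    have h4 := mem_cj.1 (h.meet.ge h3).2
    rw [show r⁻¹ * (r⁻¹ * y * r) * r = (r * r)⁻¹ * y * (r * r) by group] at h4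
    exact (conj_mem_iff' r2).1 h4

theorem Cf.dih (h : Cf Q a b S R R' U T) (hb : ¬ Beta Q a b) (hU : EA U) (hT : EA T)
    (hy : Tv (U ⊔ T) U y) (hs : s ∈ R') (hsT : s ∉ T) (hn : s ∈ N[U ⊔ T]) :
    ∃ g ∈ N[U ⊔ T], g • b = a ∧ g • a = b ∧ (g * s * g⁻¹)⁻¹ * y ∈ C[U ⊔ T] := by
  have h' := h.symm
  have sc := sup_comm T U
  have t1 : Tv (U ⊔ T) T s := sc ▸ tv h' hT hs hsT (sc ▸ hn)
  obtain ⟨g, d, -, g1, -, g2, g3, g4⟩ := t1.swap hy (eaP h hU hT)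
    (eq_bot_of_le h'.disj (inf_le_inf_right U h.lT)) sc.ge h'.neU
    (fun d hd hne => (cj_eq h' hT (sc ▸ hd) (infP h') hne).2)
    (fun d hd hne => (cj_eq h' hT (sc ▸ hd) (sc ▸ infP h) hne).2)
  exact ⟨g, g1.nE, (cj_eq h hU g1.nE (sc ▸ infP h') (by rw [g3, inf_idem]; exact h.neU)).1,
    (cj_eq h' hT (sc ▸ g1.nE) (sc ▸ infP h) (by rw [g4, inf_idem]; exact h'.neU)).1, g2⟩

theorem Cf.c3 (h : Cf Q a b S R R' U T) (hb : ¬ Beta Q a b) (hU : EA U) (hT : EA T)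
    (hn : R ≤ N[U ⊔ T]) : EA R ∨ ∀ y ∈ R, y * y = 1 → y ∈ U := by
  obtain ⟨s, hs, sT, sN⟩ := h.symm.exx fun e => hb (e.symm h.te)
  rw [sup_comm] at sN
  have key : ∀ y ∈ R, y ∉ U → ∃ k : G, k * (s * s) * k⁻¹ = y * y := fun y hy yU => by
    obtain ⟨g, -, g1, -, g2⟩ := h.dih hb hU hT (tv h hU hy yU (hn hy)) hs sT sN
    have σQ : g * s * g⁻¹ ∈ Q a := g1 ▸ h.te.conj (h.sb.le hs) g
    have σ2 : TwoE (g * s * g⁻¹) := (h.sb.pi.piElt hs).conj g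
    have yQ := h.sa.le hy
    have yN : zpowers y ≤ N[Q a ⊓ C[U ⊔ T]] :=
      norm_inf (norm_of_le (zpowers_le.2 yQ)) (norm_C (zpowers_le.2 (hn hy)))
    have UC : U ≤ Q a ⊓ C[U ⊔ T] :=
      le_inf (h.lU.trans h.sa.le) (le_sup_left.trans (eaP h hU hT).le_C)
    have sy : Syl 2 (Q a ⊓ C[U ⊔ T]) U := h.sylU.of_le UC fun x hx => by
      obtain ⟨t, ht, t1⟩ := exists_ne_one h.symm.neU
      exact mem_inf.2 ⟨hx.1, h.te.fix_comm (h.sb.le (h.lT ht)) (hT.two.piElt ht) t1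
        (mem_C'.1 hx.2 t (mem_sup_right ht))⟩
    have c0 : (g * s * g⁻¹)⁻¹ * y ∈ Q a ⊓ C[U ⊔ T] := mem_inf.2 ⟨mul_mem (inv_mem σQ) yQ, g2⟩
    obtain ⟨W, hW, le⟩ := Sylow_superset p2
      ((twoR h).of_le (sup_le h.lU (zpowers_le.2 hy) : U ⊔ zpowers y ≤ R))
      (sup_le_sup_right UC (zpowers y))
    obtain ⟨k, hk, hσ⟩ := conj_into hW (x := g * s * g⁻¹) (by
      have := mul_mem (mem_sup_right (mem_zpowers y) : y ∈ (Q a ⊓ C[U ⊔ T]) ⊔ zpowers y)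
        (inv_mem (mem_sup_left c0))
      rwa [mul_inv_rev, inv_inv, mul_inv_cancel_left] at this) σ2
    obtain ⟨c, hc, τ, hτ, rfl⟩ := (mem_sup_of_norm yN).1 hk
    have hu : y⁻¹ * (c * τ * (g * s * g⁻¹) * (c * τ)⁻¹) ∈ U := by
      refine (sy.eq_of_le (hW.pi.inf_right (Q a ⊓ C[U ⊔ T])) (le_inf UC (le_sup_left.trans le))
        inf_le_left).le (mem_inf.2 ⟨?_, mul_mem (inv_mem (le (mem_sup_right (mem_zpowers y)))) hσ⟩)
      have e : τ * y * τ⁻¹ = y :=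
        conj_of_comm ((abl_zpowers y).comm hτ (mem_zpowers y))
      have := mul_mem (mul_mem (cN' (yN (mem_zpowers y)) hc) (cN (yN hτ) (inv_mem c0))) (inv_mem hc)
      convert this using 1
      calc y⁻¹ * (c * τ * (g * s * g⁻¹) * (c * τ)⁻¹)
          = y⁻¹ * c * (τ * y * τ⁻¹) * (τ * ((g * s * g⁻¹)⁻¹ * y)⁻¹ * τ⁻¹) * c⁻¹ := by group
        _ = _ := by rw [e]
    refine ⟨c * τ * g, ?_⟩
    have e1 := sq_mul_comm (mem_C'.1 (centU h hU hy (hn hy)) _ hu)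
    rw [hU.sq hu, mul_one, mul_inv_cancel_left] at e1
    rw [← e1]; group
  by_cases s2 : s * s = 1
  · refine .inl (ea_of_sq fun y hy => ?_)
    by_cases yU : y ∈ U
    · exact hU.sq yU
    · obtain ⟨k, e⟩ := key y hy yU
      rw [← e, s2, mul_one, mul_inv_cancel]
  · refine .inr fun y hy y2 => ?_
    by_contra yU
    obtain ⟨k, e⟩ := key y hy yU
    exact s2 (conj_eq_one_iff'.1 (e.trans y2))

end ACo
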