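import Mathlib
import Cfsg.Agent.H22.AC0
import Cfsg.Agent.H22.ACP

set_option autoImplicit false
set_option linter.unusedSectionVars false
set_option linter.unusedVariables false

namespace ACo

open Cfsg H24 H26 H26.Gold H23.TC H3.B71 Subgroup MulAction
open scoped commutatorElement Pointwise

universe u

variable {G Ω : Type u} [Group G] [Finite G] [MulAction G Ω] [Finite Ω] {Q K : Ω → Subgroup G}
  {a b b' c d e : Ω} {A B E F H M P R R' S S' S₀ S₁ S₂ T T' U U1 V W X Y : Subgroup G}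
  {f g k r s t u v w x y z : G}

/-! ### ACe -/
theorem Cf.elk (h : Cf Q a b S R R' U T) (hb : ¬ Beta Q a b) (hen : EN Q) (hn : R ≤ N[U ⊔ T]) :
    False := by
  have ea : EA R := ea_of_sq (hen.1 a R h.sa).1
  obtain ⟨⟨z, hz⟩, z1⟩ := Subgroup.ne_bot_iff_exists_ne_one.1 h.neU
  have z1' : z ≠ 1 := fun e => z1 (Subtype.ext e)
  have zR := h.lU hz
  refine hen.2 a z (h.sa.le zR) ⟨z1', ea.sq zR⟩ ?_
  have hRH : Syl 2 (Q a ⊓ C{z}) R :=
    h.sa.of_le (le_inf h.sa.le fun r hr => mem_C1.2 (ea.comm hr zR)) inf_le_left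
  have hRN : Syl 2 (Q a ⊓ C{z} ⊓ N[R]) R := hRH.of_le (le_inf hRH.le (norm_self R)) inf_le_left
  obtain ⟨D, hD⟩ := Hall.exists_sd hRN inf_le_right
  have cop := hD.coprime hRN
  have TS : T ≤ S := h.eT ▸ inf_le_right
  have TR : T ≤ N[R] := TS.trans h.na
  have TN : T ≤ N[Q a ⊓ C{z} ⊓ N[R]] :=
    norm_inf (norm_inf (fun t ht => h.te.stab_le (h.syl.le (TS ht)).1)
      (norm_C1 (h.cent.trans (C_le_C1 hz)))) (norm_N TR)
  have key : ∀ B ≤ R, T ≤ N[B] → B ≤ U ∨ U ≤ B := fun B hB hT => by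
    by_cases hU : B ≤ U
    · exact Or.inl hU
    obtain ⟨y, hy, hyU⟩ := SetLike.not_le_iff_exists.1 hU
    refine Or.inr fun u hu => ?_
    obtain ⟨t, ht, rfl⟩ := (h.ph (hB hy) hyU (hn (hB hy))).surj h.card.le hu
    have := B.mul_mem (cN' (hT ht) hy) (B.inv_mem hy)
    convert this using 1; group
  have e1 : ⁅R, Q a ⊓ C{z} ⊓ N[R]⁆ = ⁅R, D⁆ := hD.isProd.symm.comm_right_of_cent ea.le_C
  have e2 : R ⊓ C[Q a ⊓ C{z} ⊓ N[R]] = R ⊓ C[D] := by
    rw [← hD.sup, C_sup, ← inf_assoc, inf_eq_left.2 ea.le_C]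
  have p := coprime_cent_prod hD.norm cop ea.abl.sol
  have ti := coprime_abel_cent_TI hD.norm cop ea.abl
  have zD : z ∈ C[D] := mem_C_iff_le_C1.2 (hD.right_le.trans (inf_le_left.trans inf_le_right))
  have k1 := key _ (comm_le_left inf_le_right) (norm_comm TR TN)
  have k2 := key _ inf_le_left (norm_inf TR (norm_C TN))
  rw [e1] at k1
  rw [e2] at k2
  rcases k1 with k1 | k1
  swap
  · exact absurd (mem_bot.1 (ti ▸ (⟨k1 hz, zD⟩ : z ∈ ⁅R, D⁆ ⊓ C[D]))) z1'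
  rcases k2 with k2 | k2
  · refine absurd (h.beta_iff.2 (le_antisymm h.lU ?_)) hb
    rw [← p.sup_eq]
    exact sup_le k1 k2
  have e3 : ⁅R, Q a ⊓ C{z} ⊓ N[R]⁆ = ⊥ := by
    rw [e1, ← ti, left_eq_inf]
    exact k1.trans (k2.trans inf_le_right)
  have sd := Burnside_normal_complement p2 hRH (comm_eq_bot'.1 e3)
  rw [← sd.sup]
  exact (OddG.sol (pcore_pi _ _)).sup ea.abl.sol sd.norm

end ACo
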