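import Mathlib
import Cfsg.Agent.H22.AC0
import Cfsg.Agent.H22.ACd

set_option autoImplicit false
set_option linter.unusedSectionVars false
set_option linter.unusedVariables false

namespace ACo

open Cfsg H24 H26 H26.Gold H23.TC H3.B71 Subgroup MulAction
open scoped commutatorElement Pointwise

universe u

variable {G Ω : Type u} [Group G] [Finite G] [MulAction G Ω] [Finite Ω] {Q K : Ω → Subgroup G}
  {a b b' c d e : Ω} {A B E F H M P R R' S S' S₀ S₁ S₂ T T' U U1 V W X Y : Subgroup G}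
  {f g k r s t u v w x y z : G}

namespace ACfx

open ACdx

theorem mem_phi (h : Cf Q a b S R R' U T) (hn : g ∈ Q a) (hP : g ∈ N[U ⊔ T]) (ht : t ∈ T) :
    t⁻¹ * (g * t * g⁻¹) ∈ U := by
  rw [← infP h]
  have tN : t ∈ N[Q a] := h.te.stab_le (h.syl.le (TS h ht)).1
  refine ⟨?_, (U ⊔ T).mul_mem (inv_mem (mem_sup_right ht)) (cN hP (mem_sup_right ht))⟩
  rw [show t⁻¹ * (g * t * g⁻¹) = t⁻¹ * g * t * g⁻¹ by group]
  exact (Q a).mul_mem (cN' tN hn) (inv_mem hn)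

/-- `U1` is transitive on `t U` -/
theorem tr (h : C4 Q a b S R R' U T U1 r) (ht : t ∈ T) (t1 : t ≠ 1) (hw : w ∈ U) :
    ∃ y ∈ U1, y * t * y⁻¹ = t * w := by
  have c := h.cf
  have m : ∀ y ∈ U1, t⁻¹ * (y * t * y⁻¹) ∈ U := fun y hy => by
    rw [h.eU1] at hy
    exact mem_phi c (c.sa.le hy.1) hy.2 ht
  let φ : U1 →* G := MonoidHom.mk' (fun y => t⁻¹ * (y * t * (y : G)⁻¹)) fun y z => by
    have hy := y.2
    have e := conj_eq_of_mem_C (centU c h.eaU (h.eU1.le hy).1 (h.eU1.le hy).2) (m _ z.2)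
    rw [← e]
    simp only [coe_mul]
    group
  have hk : φ.ker = U.subgroupOf U1 := by
    ext y
    rw [MonoidHom.mem_ker, mem_subgroupOf]
    constructor
    · intro e
      rw [← c.cR ht t1]
      exact ⟨(h.eU1.le y.2).1, mem_C1.2 (comm_of_conj (inv_mul_eq_one.1 e).symm)⟩
    · intro e
      exact inv_mul_eq_one.2 (conj_of_comm (mem_C.1 (c.cent ht) _ e)).symm
  have UU : U ≤ U1 := h.eU1 ▸ le_inf c.lU (le_sup_left.trans (norm_self _))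
  have h1 := φ.ker.card_mul_index
  rw [index_ker, hk, Nat.card_congr (subgroupOfEquivOfLe UU).toEquiv, h.card] at h1
  have h2 : φ.range = U := eq_of_le_of_card_ge (by rintro _ ⟨y, rfl⟩; exact m _ y.2)
    (Nat.eq_of_mul_eq_mul_left Nat.card_pos h1).ge
  obtain ⟨y, e⟩ : w ∈ φ.range := h2 ▸ hw
  exact ⟨y, y.2, (inv_mul_eq_iff_eq_mul.1 e)⟩

theorem infT (h : Cf Q a b S R R' U T) : Q b ⊓ (U ⊔ T) = T := by
  rw [sup_comm]; exact infP h.symm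

theorem NT (h : Cf Q a b S R R' U T) (hP : g ∈ N[U ⊔ T]) (hb : g • b = b) : g ∈ N[T] := by
  rw [← infT h]
  exact norm_inf (zpowers_le.2 (h.te.stab_le hb)) (zpowers_le.2 hP) (mem_zpowers g)

theorem NU (h : Cf Q a b S R R' U T) (hP : g ∈ N[U ⊔ T]) (ha : g • a = a) : g ∈ N[U] := by
  rw [← infP h]
  exact norm_inf (zpowers_le.2 (h.te.stab_le ha)) (zpowers_le.2 hP) (mem_zpowers g)

theorem exT (h : C4 Q a b S R R' U T U1 r) : ∃ t ∈ T, t ≠ 1 := exists_ne_one h.cf.symm.neU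

theorem fixb (h : C4 Q a b S R R' U T U1 r) (hc : g ∈ C[T]) : g • b = b := by
  obtain ⟨t, ht, t1⟩ := exT h
  exact h.cf.te.fix_comm (h.cf.sb.le (h.cf.lT ht)) (h.eaT.two.piElt ht) t1 (mem_C'.1 hc t ht)

/-- `Q a ∩ N(P) = C(T) U1` -/
theorem dec (h : C4 Q a b S R R' U T U1 r) (hn : g ∈ Q a) (hP : g ∈ N[U ⊔ T]) :
    ∃ y ∈ U1, g * y ∈ C[T] := by
  have c := h.cf
  obtain ⟨t, ht, t1⟩ := exT h
  obtain ⟨y, hy, e⟩ := tr h ht t1 (mem_phi c (inv_mem hn) (inv_mem hP) ht)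
  have hy' := h.eU1.le hy
  have e1 : g * y * t = t * (g * y) := comm_of_conj (by
    rw [show g * y * t * (g * y)⁻¹ = g * (y * t * y⁻¹) * g⁻¹ by group, e]; group)
  have fb := c.te.fix_comm (c.sb.le (c.lT ht)) (h.eaT.two.piElt ht) t1 e1
  have nP := mul_mem hP hy'.2
  refine ⟨y, hy, mem_C'.2 fun s hs => comm_of_conj (inv_mul_eq_one.1 ?_).symm⟩
  have : s⁻¹ * (g * y * s * (g * y)⁻¹) ∈ R ⊓ T :=
    ⟨c.lU (mem_phi c (mul_mem hn (c.sa.le hy'.1)) nP hs),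
      T.mul_mem (inv_mem hs) (cN (NT c nP fb) hs)⟩
  rwa [c.disj] at this

theorem sylU1 (h : C4 Q a b S R R' U T U1 r) : Syl 2 (Q a ⊓ N[U ⊔ T]) U1 := by
  have c := h.cf
  have UU : U ≤ U1 := h.eU1 ▸ le_inf c.lU (le_sup_left.trans (norm_self _))
  refine syl_of_max p2 ((twoR c).of_le (h.eU1.le.trans inf_le_left))
    (h.eU1.le.trans (inf_le_inf_right _ c.sa.le)) fun X hX h1 h2 x hx => ?_
  obtain ⟨y, hy, e⟩ := dec h (h2 hx).1 (h2 hx).2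
  have := c.sylU.eq_of_le (K := X ⊓ stabilizer G b) (hX.inf_left _)
    (le_inf (UU.trans h1) (c.sylU.le.trans inf_le_right))
    (inf_le_inf_right _ (h2.trans inf_le_left))
  exact (mul_mem_cancel_right hy).1 (UU (this.le ⟨X.mul_mem hx (h1 hy), fixb h e⟩))

/-- an element of `Q a` normalising `P` and `U1 T` and centralising `T` centralises `U` -/
theorem cU (h : C4 Q a b S R R' U T U1 r) (hn : g ∈ Q a) (hP : g ∈ N[U ⊔ T])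
    (hW : g ∈ N[U1 ⊔ T]) (hT : g ∈ C[T]) : g ∈ C[U] := by
  have c := h.cf
  have hP' : g ∈ N[cj r (U ⊔ T)] := by
    rw [← cj_N, mem_cj]
    have i := ix2 c h.nb h.eaU h.eaT h.rR (h.eU1 ▸ h.rn) (h.eU1 ▸ h.nrm)
    rw [← h.eU1] at i
    have rP : r ∉ N[U ⊔ T] := fun e => h.rn (h.eU1 ▸ ⟨h.rR, e⟩)
    rw [mul_assoc]
    exact i.inv_mul h.nrm (mul_mem hW h.nrm) rP fun e => rP ((mul_mem_cancel_left hP).1 e)
  have iQ : Q a ⊓ cj r (U ⊔ T) = U := by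
    have e1 : Q a ⊓ cj r (U ⊔ T) = cj r U := by
      conv_rhs => rw [← infP c, cj_inf, cj_of_mem (c.sa.le h.rR)]
    refine (eq_of_le_of_card_ge (le_inf (c.lU.trans c.sa.le) (h.meet.ge.trans inf_le_right)) ?_).symm
    rw [e1, card_cj]
  obtain ⟨t, ht, t1⟩ := exT h
  refine mem_C'.2 fun w hw => comm_of_conj ?_
  obtain ⟨y, hy, e⟩ := tr h ht t1 hw
  have hy' := h.eU1.le hy
  have WP : U1 ⊔ T ≤ N[U ⊔ T] := h.eU1 ▸ XN c
  obtain ⟨p, hp, p', hp', ey⟩ := (mem_sup_of_norm (le_sup_right.trans (h.gen.ge.trans WP))).1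
    (h.gen.le (mem_sup_left hy))
  obtain ⟨w', hw', s, hs, rfl⟩ := (mem_sup_of_norm (norm_of_cent c.cent)).1 hp
  have gU := NU c hP (c.te.fix hn)
  have sN : s ∈ N[Q a] := c.te.stab_le (c.syl.le (TS c hs)).1
  have gs := conj_eq_of_mem_C hT hs
  have e2 : g * y * g⁻¹ * y⁻¹ = g * w' * g⁻¹ * (s * (g * p' * g⁻¹ * p'⁻¹) * s⁻¹) * w'⁻¹ := by
    rw [ey]
    conv_rhs => rw [← gs]
    conv_rhs => enter [1, 2, 2]; rw [gs]
    group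
  have yQ := c.sa.le hy'.1
  have wQ := c.sa.le (c.lU hw')
  have z1 : s * (g * p' * g⁻¹ * p'⁻¹) * s⁻¹ ∈ Q a := by
    have : g * y * g⁻¹ * y⁻¹ ∈ Q a := mul_mem (cmem hn yQ) (inv_mem yQ)
    rwa [e2, mul_mem_cancel_right (inv_mem wQ), mul_mem_cancel_left (cmem hn wQ)] at this
  have z2 : g * p' * g⁻¹ * p'⁻¹ ∈ U :=
    iQ.le ⟨(conj_mem_iff sN).1 z1, Subgroup.mul_mem _ (cN hP' hp') (inv_mem hp')⟩
  have z3 : g * y * g⁻¹ * y⁻¹ ∈ U := by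
    rw [e2]
    exact mul_mem (mul_mem (cN gU hw') (cN (norm_of_cent c.cent hs) z2)) (inv_mem hw')
  have tw : t * w ∈ C[U] := mul_mem (c.cent ht) (h.eaU.le_C hw)
  have gt := conj_eq_of_mem_C hT ht
  refine mul_left_cancel (a := t) ?_
  calc _ = g * (t * w) * g⁻¹ := by rw [H23.TC.conj_mul, gt]
    _ = g * y * g⁻¹ * y⁻¹ * (y * (g * t * g⁻¹) * y⁻¹) * (g * y * g⁻¹ * y⁻¹)⁻¹ := by
      rw [← e]; group
    _ = _ := by rw [gt, e, conj_of_comm (mem_C.1 tw _ z3)]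

theorem step0 {T1 : Subgroup G} {r' : G} (h : C4 Q a b S R R' U T U1 r)
    (h' : C4 Q b a S R' R T U T1 r') (hu : u ∈ U) (hv : v ∈ U) (u1 : u ≠ 1) (v1 : v ≠ 1) :
    ∃ k ∈ N[U ⊔ T], k • a = a ∧ k • b = b ∧ k * u * k⁻¹ = v := by
  have c := h.cf
  obtain ⟨t, ht, t1⟩ := exT h
  have n1 : ∀ y ∈ U1, y ∈ N[U ⊔ T] := fun y hy => (h.eU1.le hy).2
  have n2 : ∀ y ∈ T1, y ∈ N[U ⊔ T] := fun y hy => sup_comm T U ▸ (h'.eU1.le hy).2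
  obtain ⟨y1, h1, e1⟩ := tr h' hu u1 ht
  obtain ⟨y2, h2, e2⟩ := tr h ht t1 hu
  obtain ⟨y3, h3, e3⟩ := tr h ht t1 hv
  obtain ⟨y4, h4, e4⟩ := tr h' hv v1 ht
  rw [mem_C.1 (c.cent ht) _ hu] at e1
  rw [mem_C.1 (c.cent ht) _ hv] at e4
  obtain ⟨g, hg, eg⟩ : ∃ g ∈ N[U ⊔ T], g * u * g⁻¹ = v :=
    ⟨y4⁻¹ * y3 * y2⁻¹ * y1, mul_mem (mul_mem (mul_mem (inv_mem (n2 _ h4)) (n1 _ h3))
      (inv_mem (n1 _ h2))) (n2 _ h1), by
      calc _ = y4⁻¹ * (y3 * (y2⁻¹ * (y1 * u * y1⁻¹) * y2) * y3⁻¹) * y4 := by group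
        _ = v := by
          rw [e1, ← e2, show y2⁻¹ * (y2 * t * y2⁻¹) * y2 = t by group, e3, ← e4]; group⟩
  have UQ := c.lU.trans c.sa.le
  have TQ := c.lT.trans c.sb.le
  have ga : g • a = a := c.te.two (eg ▸ c.te.conj (UQ hu) g) (UQ hv) (h.eaU.two.piElt hv) v1
  obtain ⟨w, hw, s, hs, e⟩ := (mem_sup_of_norm (norm_of_cent c.cent)).1 (cN hg (mem_sup_right ht))
  have s1 : s ≠ 1 := by
    rintro rfl
    rw [mul_one] at e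
    have : t ∈ Q a := (conj_mem_iff (c.te.stab_le ga)).1 (e ▸ UQ hw)
    exact c.adj.1 (c.te.two this (TQ ht) (h.eaT.two.piElt ht) t1)
  obtain ⟨y, hy, e5⟩ := tr h hs s1 hw
  have hy' := h.eU1.le hy
  have e6 : y⁻¹ * g * t * (y⁻¹ * g)⁻¹ = s := by
    rw [show y⁻¹ * g * t * (y⁻¹ * g)⁻¹ = y⁻¹ * (g * t * g⁻¹) * y by group, e,
      mem_C.1 (c.cent hs) _ hw, ← e5]; group
  refine ⟨y⁻¹ * g, mul_mem (inv_mem hy'.2) hg, ?_,
    c.te.two (e6 ▸ c.te.conj (TQ ht) _) (TQ hs) (h.eaT.two.piElt hs) s1, ?_⟩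
  · rw [mul_smul, ga, c.te.fix (inv_mem (c.sa.le hy'.1))]
  · rw [show y⁻¹ * g * u * (y⁻¹ * g)⁻¹ = y⁻¹ * (g * u * g⁻¹) * y⁻¹⁻¹ by group, eg]
    exact conj_eq_of_mem_C (inv_mem (centU c h.eaU hy'.1 hy'.2)) hv

end ACfx

/-! ### ACf -/
open ACdx ACfx in
theorem C4.torus {T1 : Subgroup G} {r' : G} (h : C4 Q a b S R R' U T U1 r)
    (h' : C4 Q b a S R' R T U T1 r') (hu : u ∈ U) (hv : v ∈ U) (u1 : u ≠ 1) (v1 : v ≠ 1) :
    ∃ k ∈ N[R], k ∈ N[U ⊔ T] ∧ k • a = a ∧ k • b = b ∧ k * u * k⁻¹ = v := by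
  have c := h.cf
  obtain ⟨k0, kP, ka, kb, ku⟩ := step0 h h' hu hv u1 v1
  have U1R : U1 ≤ R := h.eU1.le.trans inf_le_left
  have U1P : U1 ≤ N[U ⊔ T] := h.eU1.le.trans inf_le_right
  have U1C : U1 ≤ C[U] := fun y hy => centU c h.eaU (U1R hy) (U1P hy)
  have s1 : Syl 2 (Q a ⊓ N[U ⊔ T] ⊓ C[U]) U1 :=
    (sylU1 h).of_le (le_inf (sylU1 h).le U1C) inf_le_left
  have kN : k0 ∈ N[Q a ⊓ N[U ⊔ T] ⊓ C[U]] :=
    norm_inf (norm_inf (zpowers_le.2 (c.te.stab_le ka)) (norm_N (zpowers_le.2 kP)))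
      (norm_C (zpowers_le.2 (NU c kP ka))) (mem_zpowers k0)
  obtain ⟨n, hn, en⟩ := Sylow_trans p2 s1 (s1.cj_mem_N kN)
  obtain ⟨y, hy, ny⟩ := dec h hn.1.1 hn.1.2
  have hm := mul_mem hn (s1.le hy)
  have em : cj k0 U1 = cj (n * y) U1 := by rw [cj_mul, cj_of_mem hy, en]
  generalize n * y = m at ny hm em
  have k1U := cj_eq_cj_iff.1 em
  have mP : m ∈ N[U ⊔ T] := hm.1.2
  have mQ : m ∈ Q a := hm.1.1
  have mU : m ∈ C[U] := hm.2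
  have k1P := mul_mem (inv_mem mP) kP
  have k1a : (m⁻¹ * k0) • a = a := by rw [mul_smul, ka, c.te.fix (inv_mem mQ)]
  have k1b : (m⁻¹ * k0) • b = b := by rw [mul_smul, kb, fixb h (inv_mem ny)]
  have k1u : m⁻¹ * k0 * u * (m⁻¹ * k0)⁻¹ = v := by
    rw [show m⁻¹ * k0 * u * (m⁻¹ * k0)⁻¹ = m⁻¹ * (k0 * u * k0⁻¹) * m⁻¹⁻¹ by group, ku]
    exact conj_eq_of_mem_C (inv_mem mU) hv
  generalize m⁻¹ * k0 = k1 at k1U k1P k1a k1b k1u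
  have k1W : k1 ∈ N[U1 ⊔ T] :=
    norm_sup (zpowers_le.2 k1U) (zpowers_le.2 (NT c k1P k1b)) (mem_zpowers k1)
  have RW : R ≤ N[U1 ⊔ T] := by
    have := top c h.nb h.eaU h.eaT h.r2 h.rR (h.eU1 ▸ h.rn) (h.eU1 ▸ h.nrm)
    rwa [← h.eU1] at this
  have s2 : Syl 2 (Q a ⊓ N[U1 ⊔ T]) R := c.sa.of_le (le_inf c.sa.le RW) inf_le_left
  have k1N : k1 ∈ N[Q a ⊓ N[U1 ⊔ T]] :=
    norm_inf (zpowers_le.2 (c.te.stab_le k1a)) (norm_N (zpowers_le.2 k1W)) (mem_zpowers k1)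
  obtain ⟨n, hn, en⟩ := Sylow_trans p2 s2 (s2.cj_mem_N k1N)
  obtain ⟨n, hn, nP, en⟩ : ∃ n ∈ Q a ⊓ N[U1 ⊔ T], n ∈ N[U ⊔ T] ∧ cj k1 R = cj n R := by
    by_cases nP : n ∈ N[U ⊔ T]
    · exact ⟨n, hn, nP, en⟩
    have i := ix2 c h.nb h.eaU h.eaT h.rR (h.eU1 ▸ h.rn) (h.eU1 ▸ h.nrm)
    rw [← h.eU1] at i
    exact ⟨n * r, mul_mem hn (s2.le h.rR), i n hn.2 r h.nrm nP
      fun e => h.rn (h.eU1 ▸ ⟨h.rR, e⟩), by rw [cj_mul, cj_of_mem h.rR, en]⟩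
  obtain ⟨y, hy, ny⟩ := dec h hn.1 nP
  have hm := mul_mem hn (s2.le (U1R hy))
  have mP := mul_mem nP (U1P hy)
  have em : cj k1 R = cj (n * y) R := by rw [cj_mul, cj_of_mem (U1R hy), en]
  generalize n * y = m at ny hm em mP
  refine ⟨m⁻¹ * k1, cj_eq_cj_iff.1 em, mul_mem (inv_mem mP) k1P, ?_, ?_, ?_⟩
  · rw [mul_smul, k1a, c.te.fix ((Q a).inv_mem hm.1)]
  · rw [mul_smul, k1b, fixb h (inv_mem ny)]
  · rw [show m⁻¹ * k1 * u * (m⁻¹ * k1)⁻¹ = m⁻¹ * (k1 * u * k1⁻¹) * m⁻¹⁻¹ by group, k1u]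
    exact conj_eq_of_mem_C (inv_mem (cU h hm.1 mP hm.2 ny)) hv

end ACo
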