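import Mathlib
import Cfsg.Agent.H22.AC0
import Cfsg.Agent.H22.ACd

set_option autoImplicit false
set_option linter.unusedSectionVars false
set_option linter.unusedVariables false

namespace ACo

open Cfsg H24 H26 H26.Gold H23.TC H3.B71 Subgroup MulAction
open scoped commutatorElement Pointwise

universe u

variable {G Ω : Type u} [Group G] [Finite G] [MulAction G Ω] [Finite Ω] {Q K : Ω → Subgroup G}
  {a b b' c d e : Ω} {A B E F H M P R R' S S' S₀ S₁ S₂ T T' U U1 V W X Y : Subgroup G}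
  {f g k r s t u v w x y z : G}

/-! ### ACg -/

namespace ACgx

variable (h : C4 Q a b S R R' U T U1 r)
include h

theorem U1R : U1 ≤ R := h.eU1.le.trans inf_le_left
theorem U1N : U1 ≤ N[U ⊔ T] := h.eU1.le.trans inf_le_right
theorem eaP : EA (U ⊔ T) := ACdx.eaP h.cf h.eaU h.eaT

theorem cjx (hx : x ∈ R) (xn : x ∉ U1) : cj x (U ⊔ T) = cj r (U ⊔ T) := by
  have := U1N h (h.ix.inv_mul h.rR hx h.rn xn)
  rw [← mul_inv_cancel_left r x, cj_mul, cj_of_mem_N this]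

theorem RU : R ≤ N[U] := fun x hx => by
  by_cases xn : x ∈ U1
  · exact C_le_N U (ACdx.centU h.cf h.eaU hx (U1N h xn))
  · rw [mem_N_iff_cj, ← h.meet, cj_inf, cjx h hx xn, ← cjx h hx xn, ← cj_mul,
      cj_of_mem_N (U1N h (h.ix x hx x hx xn xn)), inf_comm]

theorem comm (hx : x ∈ R) (xn : x ∉ U1) (ht : t ∈ T) (hs : s ∈ T) : ⁅x * t * x⁻¹, s⁆ ∈ U := by
  have h1 : x * t * x⁻¹ ∈ cj r (U ⊔ T) := cjx h hx xn ▸ conj_mem_cj x (mem_sup_right ht)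
  have h2 : U1 ⊔ T ≤ N[U ⊔ T] := sup_le (U1N h) (le_sup_right.trans (norm_self _))
  have h3 : U1 ⊔ T ≤ N[cj r (U ⊔ T)] := by
    rw [← cj_of_mem_N h.nrm, ← cj_N]; exact cj_mono r h2
  rw [← h.meet, commutatorElement_def]
  refine mem_inf.2 ⟨mul_mem (conj_mem (h2 (h.gen.ge (mem_sup_right h1))) (mem_sup_right hs))
    (inv_mem (mem_sup_right hs)), ?_⟩
  have := mul_mem h1 (conj_mem (h3 (mem_sup_right hs)) (inv_mem h1))
  simpa only [mul_assoc] using this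

theorem cU (hy : y ∈ U1) (ht : t ∈ T) : y * t * y⁻¹ * t⁻¹ ∈ U := by
  rw [← h.cf.inf]
  refine mem_inf.2 ⟨?_, mul_mem (conj_mem (U1N h hy) (mem_sup_right ht)) (inv_mem (mem_sup_right ht))⟩
  have := mul_mem (U1R h hy) (conj_mem (ACdx.TR h.cf ht) (inv_mem (U1R h hy)))
  simpa only [mul_assoc] using this

theorem dec (hU : U ≤ C[R]) (hx : x ∈ R) (xn : x ∉ U1) (hy : y ∈ U1) :
    ∃ u ∈ U, ∃ s ∈ T, y = u * (s * (x * s * x⁻¹)) := by
  have h1 : y ∈ (U ⊔ T) ⊔ cj x (U ⊔ T) := cjx h hx xn ▸ h.gen.le (mem_sup_left hy)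
  have h2 : cj x (U ⊔ T) ≤ N[U ⊔ T] := (cjx h hx xn).le.trans ((le_sup_right.trans h.gen.ge).trans
    (sup_le (U1N h) (le_sup_right.trans (norm_self _))))
  obtain ⟨p, hp, p', hp', rfl⟩ := (mem_sup_of_norm h2).1 h1
  obtain ⟨p', hp'', rfl⟩ := mem_cj'.1 hp'
  obtain ⟨u, hu, t, ht, rfl⟩ := (mem_sup_of_norm (norm_of_cent h.cf.cent)).1 hp
  obtain ⟨u', hu', s, hs, rfl⟩ := (mem_sup_of_norm (norm_of_cent h.cf.cent)).1 hp''
  have e : u * t * (x * (u' * s) * x⁻¹) = u * u' * (t * (x * s * x⁻¹)) := by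
    rw [← _root_.conj_mul, conj_eq_of_mem_C (cents_symm hU hx) hu', mul_assoc, ← mul_assoc t,
      ← mem_C.1 (h.cf.cent ht) u' hu']
    group
  have h3 : t * s ∈ R ⊓ T := by
    refine mem_inf.2 ⟨?_, mul_mem ht hs⟩
    have h4 := mul_mem (conj_mem' (ACdx.TR h.cf hs) hx) (inv_mem hx)
    have h5 := mul_mem (mul_mem (inv_mem (h.cf.lU (mul_mem hu hu'))) (U1R h hy)) (inv_mem h4)
    rw [e, h.eaT.inv hs] at h5
    rwa [show (u * u')⁻¹ * (u * u' * (t * (x * s * x⁻¹))) * (s * x * s * x⁻¹)⁻¹ = t * s⁻¹ by group,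
      h.eaT.inv hs] at h5
  rw [h.cf.disj, mem_bot, mul_eq_one_iff_eq_inv, h.eaT.inv hs] at h3
  exact ⟨_, mul_mem hu hu', s, hs, by rw [e, h3]⟩

theorem norm' (hU : U ≤ C[R]) (hx : x ∈ R) (hu : u ∈ U) (hs : s ∈ T) :
    u * (s * (x * s * x⁻¹)) * (x * (u * (s * (x * s * x⁻¹))) * x⁻¹) =
      s * (x * x * s * (x * x)⁻¹) := by
  have h1 : s * (x * s * x⁻¹) ∈ R := by
    have := mul_mem (conj_mem' (ACdx.TR h.cf hs) hx) (inv_mem hx)
    rw [h.eaT.inv hs] at this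
    simpa only [mul_assoc] using this
  rw [← _root_.conj_mul, conj_eq_of_mem_C (cents_symm hU hx) hu, mul_assoc, ← mul_assoc _ u,
    mem_C.1 (hU hu) _ h1, mul_assoc u, ← mul_assoc u u, h.eaU.sq hu, one_mul,
    show s * (x * s * x⁻¹) * (x * (s * (x * s * x⁻¹)) * x⁻¹) =
      s * (x * (s * s) * x⁻¹) * (x * x * s * (x * x)⁻¹) by group, h.eaT.sq hs]
  group

end ACgx

open ACgx in
theorem C4.gdih (h : C4 Q a b S R R' U T U1 r)
    (ht : ∀ u ∈ U, ∀ v ∈ U, u ≠ 1 → v ≠ 1 → ∃ k ∈ N[R], k ∈ N[U ⊔ T] ∧ k * u * k⁻¹ = v) :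
    Abl U1 ∧ ∀ x ∈ R, x ∉ U1 → x * x = 1 ∧ ∀ y ∈ U1, x * y * x⁻¹ = y⁻¹ := by
  have hU : U ≤ C[R] := by
    obtain ⟨u, hu, u1⟩ : ∃ u ∈ U ⊓ C[R], u ≠ 1 := by
      obtain ⟨u, hu, hc, u1, -⟩ := H23.TC.two_cent (ACdx.twoR h.cf) h.eaU.two (RU h) h.cf.neU
      exact ⟨u, ⟨hu, hc⟩, u1⟩
    intro v hv
    by_cases v1 : v = 1
    · exact v1 ▸ one_mem _
    obtain ⟨k, hk, -, rfl⟩ := ht u hu.1 v hv u1 v1
    exact conj_mem (norm_C (zpowers_le.2 hk) (mem_zpowers k)) hu.2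
  have UX : ∀ u ∈ U, ∀ x ∈ R, ∀ t ∈ T, u * (x * t * x⁻¹) = x * t * x⁻¹ * u := fun u hu x hx t ht => by
    have e := conj_eq_of_mem_C (cents_symm hU hx) hu
    rw [← e, _root_.conj_mul, _root_.conj_mul, mem_C.1 (h.cf.cent ht) u hu]
  refine ⟨?_, fun x hx xn => ?_⟩
  · refine abl_iff.2 fun y hy y' hy' => ?_
    obtain ⟨u, hu, t, ht, rfl⟩ := dec h hU h.rR h.rn hy
    obtain ⟨u', hu', s, hs, e⟩ := dec h hU h.rR h.rn hy'
    have c1 := comm h h.rR h.rn ht hs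
    have c2 := comm h h.rR h.rn hs ht
    have c3 := cU h (h.ix r h.rR r h.rR h.rn h.rn) hs
    have sym : ⁅r * s * r⁻¹, t⁆ = ⁅r * t * r⁻¹, s⁆ := by
      rw [← conj_eq_of_mem_C (cents_symm hU h.rR) c2, ← h.eaU.inv c1, commutatorElement_inv]
      have c4 := UX _ c3 r h.rR t ht
      generalize hw : r * r * s * (r * r)⁻¹ * s⁻¹ = w at c3 c4
      have c5 := mem_C.1 (h.cf.cent hs) w c3
      calc _ = (r * r * s * (r * r)⁻¹ * s⁻¹) * s * (r * t * r⁻¹) * s⁻¹ *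
            (r * r * s * (r * r)⁻¹ * s⁻¹)⁻¹ * (r * t * r⁻¹)⁻¹ := by
            simp only [commutatorElement_def]; group
        _ = w * ⁅s, r * t * r⁻¹⁆ * (r * t * r⁻¹ * w⁻¹ * (r * t * r⁻¹)⁻¹) := by
            rw [hw]; simp only [commutatorElement_def]; group
        _ = _ := by
            rw [h.eaU.inv c3, ← c4, mul_inv_cancel_right, ← commutatorElement_inv,
              h.eaU.comm c3 (inv_mem c1), mul_assoc, h.eaU.sq c3, mul_one]
    have key : t * (r * t * r⁻¹) * (s * (r * s * r⁻¹)) = s * (r * s * r⁻¹) * (t * (r * t * r⁻¹)) := by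
      have d1 := mem_C.1 (h.cf.cent ht) _ c1
      have d2 := mem_C.1 (h.cf.cent hs) _ c1
      have d3 : r * t * r⁻¹ * (r * s * r⁻¹) = r * s * r⁻¹ * (r * t * r⁻¹) := by
        rw [_root_.conj_mul, _root_.conj_mul, h.eaT.comm ht hs]
      calc _ = t * ⁅r * t * r⁻¹, s⁆ * s * (r * t * r⁻¹ * (r * s * r⁻¹)) := by
            simp only [commutatorElement_def]; group
        _ = s * ⁅r * s * r⁻¹, t⁆ * t * (r * s * r⁻¹ * (r * t * r⁻¹)) := by
            rw [sym, ← d1, ← d2, d3, mul_assoc _ t s, mul_assoc _ s t, h.eaT.comm ht hs]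
        _ = _ := by simp only [commutatorElement_def]; group
    have m1 := mem_C.1 (hU hu) _ (U1R h hy')
    have m2 : t * (r * t * r⁻¹) * u' = u' * (t * (r * t * r⁻¹)) := by
      rw [mul_assoc, ← UX u' hu' r h.rR t ht, ← mul_assoc, ← mem_C.1 (h.cf.cent ht) u' hu', mul_assoc]
    rw [← mul_assoc y', m1, mul_assoc u, mul_assoc u, e, ← mul_assoc _ u', m2, mul_assoc u',
      mul_assoc u', key]
  have x2 := h.ix x hx x hx xn xn
  have nrm : ∀ y ∈ U1, ∃ s ∈ T, y * (x * y * x⁻¹) = s * (x * x * s * (x * x)⁻¹) := fun y hy => by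
    obtain ⟨u, hu, s, hs, rfl⟩ := dec h hU hx xn hy
    exact ⟨s, hs, norm' h hU hx hu hs⟩
  have kx : ∀ k ∈ N[R], k ∈ N[U ⊔ T] → ∃ y ∈ U1,
      k * (x * x) * k⁻¹ = y * (x * y * x⁻¹) * (x * x) := fun k hk hk' => by
    have h1 : k ∈ N[U1] := h.eU1 ▸ norm_inf (zpowers_le.2 hk) (norm_N (zpowers_le.2 hk'))
      (mem_zpowers k)
    refine ⟨_, h.ix.mul_inv (conj_mem hk hx) hx (fun e => xn ((conj_mem_iff h1).1 e)) xn, ?_⟩
    group
  have fix : ∀ u ∈ U, (∀ k ∈ N[R], k ∈ N[U ⊔ T] → k * u * k⁻¹ = u) → u = 1 := fun u hu hk => by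
    by_contra u1
    obtain ⟨v, hv, -, v1, vu, -⟩ := h.r2.four hu u1 (h.eaU.sq hu)
    obtain ⟨k, k1, k2, e⟩ := ht u hu v hv u1 v1
    exact vu (e.symm.trans (hk k k1 k2))
  have h4 : x * x ∈ U := h.ord4 x2 (fix _ (h.cf.sq (U1R h x2) (U1N h x2) h.nb) fun k k1 k2 => by
    obtain ⟨y, hy, e⟩ := kx k k1 k2
    obtain ⟨s, hs, e'⟩ := nrm y hy
    have h5 : s * (x * x * s * (x * x)⁻¹) ∈ U := by
      have := conj_mem (norm_of_cent h.cf.cent hs) (cU h x2 hs)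
      rwa [show s * (x * x * s * (x * x)⁻¹ * s⁻¹) * s⁻¹ = s * (x * x * s * (x * x)⁻¹) * (s * s)⁻¹ by
        group, h.eaT.sq hs, inv_one, mul_one] at this
    rw [← _root_.conj_mul, e, e']
    generalize s * (x * x * s * (x * x)⁻¹) = w at h5
    rw [mul_assoc, ← mul_assoc (x * x), mem_C.1 (hU h5) _ (mul_mem hx hx), mul_assoc w,
      ← mul_assoc w, h.eaU.sq h5, one_mul])
  have h6 : ∀ y ∈ U1, y * (x * y * x⁻¹) = 1 := fun y hy => by
    obtain ⟨s, hs, e⟩ := nrm y hy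
    rw [e, conj_eq_of_mem_C (cents_symm h.cf.cent h4) hs, h.eaT.sq hs]
  refine ⟨fix _ h4 fun k k1 k2 => ?_, fun y hy => eq_inv_of_mul_eq_one_right (h6 y hy)⟩
  obtain ⟨y, hy, e⟩ := kx k k1 k2
  rw [e, h6 y hy, one_mul]

end ACo
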