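import Mathlib
import Cfsg.Agent.H22.AC0
import Cfsg.Agent.H22.ACd

set_option autoImplicit false
set_option linter.unusedSectionVars false
set_option linter.unusedVariables false

namespace ACo

open Cfsg H24 H26 H26.Gold H23.TC H3.B71 Subgroup MulAction
open scoped commutatorElement Pointwise

universe u

variable {G Ω : Type u} [Group G] [Finite G] [MulAction G Ω] [Finite Ω] {Q K : Ω → Subgroup G}
  {a b b' c d e : Ω} {A B E F H M P R R' S S' S₀ S₁ S₂ T T' U U1 V W X Y : Subgroup G}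
  {f g k r s t u v w x y z : G}

namespace AChx

theorem root (hab : Abl U1) (hsq : ∀ y ∈ U1, y * y ∈ U) (hk : ∀ y ∈ U1, y * y = 1 → y ∈ U)
    (hc : ♯U1 = ♯U * ♯U) (hx : x ∈ U) : ∃ y ∈ U1, y * y = x := by
  let φ : U1 →* G := MonoidHom.mk' (fun y => (y : G) * y) fun a b => by
    have := hab.comm a.2 b.2
    simp only [Subgroup.coe_mul]
    calc _ = (a : G) * (b * a) * b := by group
      _ = _ := by rw [← this]; group
  have hle : φ.range ≤ U := by rintro _ ⟨y, rfl⟩; exact hsq y y.2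
  have h2 : Nat.card φ.ker ≤ ♯U :=
    Nat.card_le_card_of_injective (fun y : φ.ker => (⟨y.1.1, hk _ y.1.2 y.2⟩ : U))
      (fun a b e => Subtype.ext (Subtype.ext (congrArg (fun z : U => (z : G)) e)))
  have h3 : Nat.card U1 = Nat.card φ.range * Nat.card φ.ker := by
    rw [card_eq_card_quotient_mul_card_subgroup φ.ker,
      Nat.card_congr (QuotientGroup.quotientKerEquivRange φ).toEquiv]
  have h4 : ♯U ≤ ♯φ.range := by
    by_contra hlt
    have hlt' : ♯φ.range < ♯U := not_le.1 hlt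
    have h0 : 0 < ♯U := Nat.card_pos
    have h5 : Nat.card φ.range * Nat.card φ.ker ≤ Nat.card φ.range * ♯U := Nat.mul_le_mul_left _ h2
    have h6 : Nat.card φ.range * ♯U < ♯U * ♯U := Nat.mul_lt_mul_of_pos_right hlt' h0
    omega
  have e := eq_of_card_ge hle h4
  obtain ⟨y, hy⟩ : x ∈ φ.range := e ▸ hx
  exact ⟨y, y.2, hy⟩

theorem pow4 (y : G) : y ^ 4 = y * y * (y * y) := by
  rw [show (4 : ℕ) = 2 + 2 from rfl, pow_add, pow_two]

theorem leR (h : C4 Q a b S R R' U T U1 r) : U1 ≤ R := h.eU1 ▸ inf_le_left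

theorem leU (h : C4 Q a b S R R' U T U1 r) : U ≤ U1 :=
  h.eU1 ▸ le_inf h.cf.lU (le_sup_left.trans (norm_self _))

theorem sq (h : C4 Q a b S R R' U T U1 r) (hy : y ∈ U1) : y * y ∈ U := by
  have hy' := h.eU1 ▸ hy
  exact h.cf.sq hy'.1 hy'.2 h.nb

theorem rt (h : C4 Q a b S R R' U T U1 r) (hab : Abl U1) (hx : x ∈ U) : ∃ y ∈ U1, y * y = x :=
  root hab (fun y hy => sq h hy) (fun y hy e => h.ord4 hy e) h.card hx

theorem cent (h : C4 Q a b S R R' U T U1 r) (hab : Abl U1)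
    (hi : ∀ x ∈ R, x ∉ U1 → x * x = 1 ∧ ∀ y ∈ U1, x * y * x⁻¹ = y⁻¹) (hx : x ∈ R) (hu : u ∈ U) :
    x * u = u * x := by
  by_cases hU : x ∈ U1
  · exact hab.comm hU (leU h hu)
  · have := (hi x hx hU).2 u (leU h hu)
    rw [h.eaU.inv hu] at this
    exact mul_inv_eq_iff_eq_mul.1 this

/-- `U` is weakly closed in `R` -/
theorem wc (h : C4 Q a b S R R' U T U1 r) (hab : Abl U1)
    (hi : ∀ x ∈ R, x ∉ U1 → x * x = 1 ∧ ∀ y ∈ U1, x * y * x⁻¹ = y⁻¹) (hg : g ∈ Q a)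
    (hle : cj g U ≤ R) : cj g U ≤ U := by
  have s2 : ∀ w ∈ cj g U, w * w = 1 := fun w hw => by
    obtain ⟨v, hv, rfl⟩ := mem_cj'.1 hw
    exact H26.Gold.conj_sq (h.eaU.sq hv) g
  obtain ⟨i, hi1, hi2, i1⟩ : ∃ i ∈ U1, i ∈ cj g U ∧ i ≠ 1 := by
    obtain ⟨v, hv, w, hw, v2, w2, v1, w1, vw, -⟩ := h.r2.cj g
    by_cases e1 : v ∈ U1
    · exact ⟨v, e1, hv, v1⟩
    by_cases e2 : w ∈ U1
    · exact ⟨w, e2, hw, w1⟩
    refine ⟨v⁻¹ * w, h.ix.inv_mul (hle hv) (hle hw) e1 e2, mul_mem (inv_mem hv) hw, fun e => vw ?_⟩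
    exact inv_mul_eq_one.1 e
  obtain ⟨y, hy, hyi⟩ := rt h hab (h.ord4 hi1 (s2 i hi2))
  have yN : y ∈ N[cj g U] := mem_N_of_finite fun w hw => by
    by_cases e : w ∈ U1
    · rw [hab.comm hy e, mul_inv_cancel_right]; exact hw
    · have e1 := (hi w (hle hw) e).2 y⁻¹ (inv_mem hy)
      have e2 : y * w * y⁻¹ = i * w := by
        rw [inv_inv] at e1
        calc y * w * y⁻¹ = y * (w * y⁻¹ * w⁻¹) * w := by group
          _ = i * w := by rw [e1, hyi]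
      rw [e2]; exact mul_mem hi2 hw
  have RC : cj g R ≤ C[cj g U] := by
    rw [← cj_C]
    exact cj_mono g fun x hx => mem_C'.2 fun u hu => cent h hab hi hx hu
  have hS := h.cf.sa.cj_mem hg
  have hK : Syl 2 (Q a ⊓ N[cj g U]) (cj g R) :=
    hS.of_le (le_inf hS.le (RC.trans (C_le_N _))) inf_le_left
  have yQ : y ∈ Q a := h.cf.sa.le (leR h hy)
  obtain ⟨k, hk, hky⟩ := conj_into hK (x := y) ⟨yQ, yN⟩
    (twoE_of_sq2 (twoE_of_sq (by rw [hyi]; exact s2 i hi2)))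
  intro w hw
  by_cases e : w ∈ U1
  · exact h.ord4 e (s2 w hw)
  exfalso
  have c1 := mem_C.1 (RC hky) _ (cN hk.2 hw)
  have c2 : w * y = y * w := by
    rw [← H23.TC.conj_mul, ← H23.TC.conj_mul] at c1
    exact mul_left_cancel (mul_right_cancel c1)
  have c3 := (hi w (hle hw) e).2 y hy
  rw [c2, mul_inv_cancel_right] at c3
  apply i1
  rw [← hyi]
  calc y * y = y * y⁻¹ := by rw [← c3]
    _ = 1 := mul_inv_cancel y

end AChx

open AChx

/-! ### ACh -/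
theorem C4.nofus (h : C4 Q a b S R R' U T U1 r) (hab : Abl U1)
    (hi : ∀ x ∈ R, x ∉ U1 → x * x = 1 ∧ ∀ y ∈ U1, x * y * x⁻¹ = y⁻¹) (hx : x ∈ R) (hU : x ∉ U1)
    (hg : g ∈ Q a) : g * x * g⁻¹ ∉ U1 := by
  intro hu
  have uU : g * x * g⁻¹ ∈ U := h.ord4 hu (H26.Gold.conj_sq (hi x hx hU).1 g)
  have hK : Syl 2 (Q a ⊓ C{g * x * g⁻¹}) R :=
    h.cf.sa.of_le (le_inf h.cf.sa.le fun y hy => mem_C1.2 (cent h hab hi hy uU)) inf_le_left
  have hle : cj g U ≤ Q a ⊓ C{g * x * g⁻¹} := by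
    refine le_inf (cj_le_of_mem (h.cf.lU.trans h.cf.sa.le) hg) fun w hw => ?_
    obtain ⟨v, hv, rfl⟩ := mem_cj'.1 hw
    exact mem_C1.2 (H23.TC.conj_comm (cent h hab hi hx hv).symm g)
  obtain ⟨c, hc, hcR⟩ := Sylow_Jsub p2 hK (h.eaU.two.cj g) hle
  rw [← cj_mul] at hcR
  have hN := mem_N_of_cj_le (wc h hab hi (mul_mem hc.1 hg) hcR)
  have e := cN' hN uU
  have e2 : (c * g)⁻¹ * (g * x * g⁻¹) * (c * g) = x := by
    have := mem_C1.1 hc.2
    calc (c * g)⁻¹ * (g * x * g⁻¹) * (c * g) = g⁻¹ * c⁻¹ * (g * x * g⁻¹ * c) * g := by group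
      _ = x := by rw [← this]; group
  exact hU (leU h (e2 ▸ e))

theorem C4.cut (h : C4 Q a b S R R' U T U1 r) (hab : Abl U1)
    (hi : ∀ x ∈ R, x ∉ U1 → x * x = 1 ∧ ∀ y ∈ U1, x * y * x⁻¹ = y⁻¹) :
    Syl 2 (closure {x | x ∈ Q a ∧ x ^ 4 = 1 ∧ x * x ≠ 1}) U1 := by
  set P := closure {x | x ∈ Q a ∧ x ^ 4 = 1 ∧ x * x ≠ 1} with hP
  have RQ := h.cf.sa.le
  have hn : P ⊴ Q a := by
    refine ⟨(closure_le _).2 fun x hx => hx.1, fun g hg => mem_N_of_cj_le (cj_le_iff.2 ?_)⟩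
    refine (closure_le _).2 fun x hx => mem_cj.2 (subset_closure ⟨?_, ?_, fun e => hx.2.2 ?_⟩)
    · exact mul_mem (mul_mem (inv_mem (inv_mem hg)) hx.1) (inv_mem hg)
    · rw [inv_inv, conj_pow, hx.2.1]; group
    · rw [inv_inv, ← H23.TC.conj_mul] at e
      simpa using e
  have gen : ∀ y ∈ U1, y * y ≠ 1 → y ∈ P := fun y hy e => by
    refine subset_closure ⟨RQ (leR h hy), ?_, e⟩
    rw [← h.eaU.sq (sq h hy), pow4]
  have hle : U1 ≤ P := fun y hy => by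
    by_cases e : y * y = 1
    · obtain ⟨z, hz, hzy⟩ := rt h hab (h.ord4 hy e)
      by_cases y1 : y = 1
      · rw [y1]; exact one_mem _
      · rw [← hzy]
        have := gen z hz (hzy ▸ y1)
        exact mul_mem this this
    · exact gen y hy e
  have foc : R ⊓ ⁅Q a, Q a⁆ ≤ U1 := focal_subgroup_le p2 h.cf.sa fun x hx u hu hxu => by
    by_cases e : x ∈ U1
    · refine mul_mem (inv_mem e) ?_
      by_contra e2
      refine h.nofus hab hi hxu e2 (inv_mem hu) ?_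
      have : u⁻¹ * (u * x * u⁻¹) * u⁻¹⁻¹ = x := by group
      rwa [this]
    · exact h.ix.inv_mul hx hxu e (h.nofus hab hi hx e hu)
  have dle : ⁅Q a, Q a⁆ ≤ Q a := der1_le _
  have hD : ⁅Q a, Q a⁆ ⊴ Q a := nml_of_der1_le le_rfl dle
  have hM : U1 ⊔ ⁅Q a, Q a⁆ ⊴ Q a :=
    nml_of_der1_le le_sup_right (sup_le ((leR h).trans RQ) dle)
  have PM : P ≤ U1 ⊔ ⁅Q a, Q a⁆ := (closure_le _).2 fun x hx => by
    have x2 : TwoE x := twoE_of_sq2 (twoE_of_sq (by rw [← hx.2.1, pow4]))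
    obtain ⟨g, hg, hgx⟩ := conj_into h.cf.sa hx.1 x2
    have : g * x * g⁻¹ ∈ U1 := by
      by_contra e
      have e2 := (hi _ hgx e).1
      rw [← H23.TC.conj_mul] at e2
      exact hx.2.2 (by simpa using e2)
    have e3 := cN' (hM.norm hg) (mem_sup_left this)
    have e4 : g⁻¹ * (g * x * g⁻¹) * g = x := by group
    rwa [e4] at e3
  have e : P ⊓ R = U1 := by
    refine le_antisymm ((inf_le_inf_right R PM).trans ?_) (le_inf hle (leR h))
    rw [← group_modl' (((leR h).trans RQ).trans hD.norm) (leR h)]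
    exact sup_le le_rfl (inf_comm R _ ▸ foc)
  have := syl_inf h.cf.sa hn
  rwa [e] at this

end ACo
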