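import Mathlib
import Cfsg.Agent.H22.AC0
import Cfsg.Agent.H22.ACa
import Cfsg.Agent.H22.ACf
import Cfsg.Agent.H22.ACg
import Cfsg.Agent.H22.ACh

set_option autoImplicit false
set_option linter.unusedSectionVars false
set_option linter.unusedVariables false

namespace ACo

open Cfsg H24 H26 H26.Gold H23.TC H3.B71 Subgroup MulAction
open scoped commutatorElement Pointwise

universe u

variable {G Ω : Type u} [Group G] [Finite G] [MulAction G Ω] [Finite Ω] {Q K : Ω → Subgroup G}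
  {a b b' c d e : Ω} {A B E F H M P R R' S S' S₀ S₁ S₂ T T' U U1 V W X Y : Subgroup G}
  {f g k r s t u v w x y z : G}

namespace ACix

theorem sq2 {m n : ℕ} (hn : n ≠ 0) (h : m * m = 2 * (n * n)) : False := by
  have hm : m ≠ 0 := by
    rintro rfl
    exact mul_ne_zero two_ne_zero (mul_ne_zero hn hn) h.symm
  have := congrArg (fun k => k.factorization 2) h
  simp only [Nat.factorization_mul hm hm, Nat.factorization_mul two_ne_zero (mul_ne_zero hn hn),
    Nat.factorization_mul hn hn, Finsupp.add_apply, Nat.Prime.factorization_self Nat.prime_two] at this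
  omega

theorem eaU (h : Cf Q a b S R R' U T) (hb : ¬ Beta Q a b) (hab : Abl R) : EA U :=
  ea_of_sq fun u hu => by
    obtain ⟨x, x1, x2, x3⟩ := h.exx hb
    have := h.inv x1 x2 x3 u hu
    rw [hab.comm x1 (h.lU hu), mul_inv_cancel_right] at this
    exact mul_eq_one_iff_eq_inv.2 this

/-- the subgroup generated by the elements of order four -/
def F4 (H : Subgroup G) : Subgroup G := closure {x | x ∈ H ∧ x ^ 4 = 1 ∧ x * x ≠ 1}

theorem F4_le (H : Subgroup G) : F4 H ≤ H := (closure_le _).2 fun _ hx => hx.1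

theorem F4_cj (g : G) (H : Subgroup G) : F4 (cj g H) = cj g (F4 H) := by
  have key : ∀ (g : G) (H : Subgroup G), cj g (F4 H) ≤ F4 (cj g H) := fun g H =>
    cj_le_iff.2 ((closure_le _).2 fun x hx => mem_cj.2 (by
      rw [inv_inv]
      refine subset_closure ⟨conj_mem_cj g hx.1, ?_, fun e => hx.2.2 ?_⟩
      · rw [conj_pow, hx.2.1]; group
      · rw [← H23.TC.conj_mul] at e
        simpa using e))
  refine le_antisymm ?_ (key g H)
  have := cj_mono g (key g⁻¹ (cj g H))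
  rwa [cj_cj_inv, cj_inv_cj] at this

end ACix

open ACix

/-! ### ACi -/
theorem w2_of_abl (h : TE Q) (hR : Syl 2 (Q a) R) (hab : Abl R) (h2 : R2 R)
    (hc : ♯R = ♯(Om R) * ♯(Om R)) : W2 Q := by
  have all : ∀ c P, Syl 2 (Q c) P → Abl P ∧ R2 P ∧ ♯P = ♯(Om P) * ♯(Om P) := fun c P hP => by
    obtain ⟨g, -, rfl⟩ := h.syl_conj hR hP
    refine ⟨H24.abl_iff.2 ?_, h2.cj g, ?_⟩
    · rw [← cj_C]; exact cj_mono g hab.le_C
    · rw [Om_cj, card_cj, card_cj, hc]
  have four : Four Q := fun c P hP => (all c P hP).2.1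
  have ne : NE Q := fun c P hP => by
    by_contra e
    push Not at e
    have e1 : Om P = P := le_antisymm (Om_le P) fun x hx => mem_Om' hx (e x hx)
    have e2 := (all c P hP).2.2
    have e3 := ACdx.three (four c P hP)
    rw [e1] at e2
    nlinarith
  have nd : ND Q := fun c P hP ⟨x, y, ix, iy, _, e⟩ => by
    obtain ⟨z, hz, z2⟩ := ne c P hP
    have ab := (all c P hP).1
    have xP : x ∈ P := e ▸ mem_sup_left (mem_zpowers x)
    have yP : y ∈ P := e ▸ mem_sup_right (mem_zpowers y)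
    have : P ≤ Om P := e.le.trans
      (sup_le (zpowers_le.2 (mem_Om' xP ix.2)) (zpowers_le.2 (mem_Om' yP iy.2)))
    exact z2 ((mem_Om ab).1 (this hz)).2
  refine ⟨h, four, ne, fun c P hP u hu _ => (all c P hP).1.le_C hu, fun a b S P P' U T cf hb => ?_⟩
  have eU := eaU cf hb (all _ _ cf.sa).1
  have eT := eaU cf.symm (fun e => hb (e.symm h)) (all _ _ cf.sb).1
  have hN : P ≤ N[U ⊔ T] := by
    by_contra hn
    obtain ⟨U1, r, c4⟩ := cf.c4 hb eU eT (cf.r2 hb four nd) hn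
    exact sq2 (H24.card_pos U).ne' ((all _ _ cf.sa).2.2.symm.trans c4.cardR)
  refine ⟨eq_of_card_ge (fun u hu => mem_Om' (cf.lU hu) (eU.sq hu)) ?_, hN⟩
  have := cf.card_le.resolve_right hb
  rw [inf_eq_left.2 hN, (all _ _ cf.sa).2.2] at this
  exact Nat.mul_self_le_mul_self_iff.1 this
theorem C4.w2 {T1 : Subgroup G} {r' : G} (h : C4 Q a b S R R' U T U1 r)
    (h' : C4 Q b a S R' R T U T1 r') :
    ∃ Q' : Ω → Subgroup G, W2 Q' ∧ (∀ c, Q' c ≤ Q c) ∧ (∃ c d, Alp Q' c d) ∧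
      ∀ c d, Alp Q' c d → Alp Q c d := by
  have te := h.cf.te
  obtain ⟨ab, hi⟩ := h.gdih fun u hu v hv u1 v1 => by
    obtain ⟨k, k1, k2, -, -, k3⟩ := h.torus h' hu hv u1 v1
    exact ⟨k, k1, k2, k3⟩
  obtain ⟨ab', hi'⟩ := h'.gdih fun u hu v hv u1 v1 => by
    obtain ⟨k, k1, k2, -, -, k3⟩ := h'.torus h hu hv u1 v1
    exact ⟨k, k1, k2, k3⟩
  have s1 : Syl 2 (F4 (Q a)) U1 := h.cut ab hi
  have s2 : Syl 2 (F4 (Q b)) T1 := h'.cut ab' hi'
  have eqv : ∀ (g : G) (c : Ω), F4 (Q (g • c)) = cj g (F4 (Q c)) := fun g c => by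
    rw [te.eqv, F4_cj]
  have te' : TE fun c => F4 (Q c) := by
    refine ⟨eqv, fun c d x hc hd i => te.ti c d x (F4_le _ hc) (F4_le _ hd) i, fun c => ?_, te.tr⟩
    obtain ⟨g, rfl⟩ := te.tr a c
    obtain ⟨x, hx, -, -, x2, -, x1, -⟩ := h.r2
    exact ⟨g * x * g⁻¹, (eqv g a).ge (conj_mem_cj g (s1.le (AChx.leU h hx))), conj_ne x1 g,
      H26.Gold.conj_sq x2 g⟩
  have om : Om U1 = U := le_antisymm
    (fun x hx => h.ord4 ((mem_Om ab).1 hx).1 ((mem_Om ab).1 hx).2)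
    fun x hx => mem_Om' (AChx.leU h hx) (h.eaU.sq hx)
  refine ⟨fun c => F4 (Q c), w2_of_abl te' s1 ab (h.r2.mono (AChx.leU h)) (by rw [om, h.card]),
    fun c => F4_le _, ⟨a, b, ⟨h.cf.adj.1, ?_⟩, ?_⟩, fun c d hcd => ⟨?_, fun hb => hcd.2 ?_⟩⟩
  · obtain ⟨x, hx, -, -, x2, -, x1, -⟩ := h'.r2
    exact ⟨x, s2.le (AChx.leU h' hx), ⟨x1, x2⟩, h.cf.Sa (h.cf.TS hx)⟩
  · rintro ⟨P, p1, p2⟩
    have e1 := Nat.le_of_dvd (H24.card_pos _)
      (h.cf.sylU.card_dvd p1.pi (le_inf (p1.le.trans (F4_le _)) p2))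
    have e2 := ACdx.three h.r2
    rw [p1.card_eq s1, h.card] at e1
    nlinarith
  · obtain ⟨hne, x, hx, i, xc⟩ := hcd.1
    exact ⟨hne, x, F4_le _ hx, i, xc⟩
  · obtain ⟨P, p1, p2⟩ := hb
    refine ⟨_, syl_inf p1 ⟨F4_le _, fun g hg => mem_N_iff_cj.2 ?_⟩, inf_le_right.trans p2⟩
    rw [← eqv, te.fix hg]

end ACo
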