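import Mathlib
import Cfsg.Agent.H22.AC0
import Cfsg.Agent.H22.ACN

set_option autoImplicit false
set_option linter.unusedSectionVars false
set_option linter.unusedVariables false

namespace ACo

open Cfsg H24 H26 H26.Gold H23.TC H3.B71 Subgroup MulAction
open scoped commutatorElement Pointwise

universe u

variable {G Ω : Type u} [Group G] [Finite G] [MulAction G Ω] [Finite Ω] {Q K : Ω → Subgroup G}
  {a b b' c d e : Ω} {A B E F H M P R R' S S' S₀ S₁ S₂ T T' U U1 V W X Y : Subgroup G}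
  {f g k r s t u v w x y z : G}

namespace ACjx

theorem conjx (hR : Syl 2 M R) (h1 : Syl 2 M R') (hx : TwoE x) (hM : x ∈ N[M]) (hn : x ∈ N[R])
    (hn' : x ∈ N[R']) : ∃ g ∈ M, R = cj g R' ∧ g⁻¹ * x * g * x⁻¹ ∈ R' := by
  obtain ⟨P, hP, hle⟩ := Sylow_superset p2 (M := M ⊔ zpowers x)
    (hR.pi.sup hx.isPi (zpowers_le.2 hn)) (sup_le_sup_right hR.le _)
  obtain ⟨P', hP', hle'⟩ := Sylow_superset p2 (M := M ⊔ zpowers x)
    (h1.pi.sup hx.isPi (zpowers_le.2 hn')) (sup_le_sup_right h1.le _)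
  obtain ⟨m, hm, e⟩ := Sylow_trans p2 hP' hP
  obtain ⟨g, hg, z, hz, rfl⟩ := (mem_sup_of_norm (zpowers_le.2 hM)).1 hm
  rw [cj_mul, cj_of_mem (hle' (mem_sup_right hz))] at e
  have e1 : P ⊓ M = R :=
    hR.eq_of_le (hP.pi.of_le inf_le_left) (le_inf (le_sup_left.trans hle) hR.le) inf_le_right
  have e2 : P' ⊓ M = R' :=
    h1.eq_of_le (hP'.pi.of_le inf_le_left) (le_inf (le_sup_left.trans hle') h1.le) inf_le_right
  refine ⟨g, hg, ?_, ?_⟩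
  · rw [← e1, ← e2, cj_inf, ← e, cj_of_mem hg]
  · rw [← e2]
    refine mem_inf.2 ⟨mul_mem (mem_cj.1 (e ▸ hle (mem_sup_right (mem_zpowers x))))
      (inv_mem (hle' (mem_sup_right (mem_zpowers x)))), ?_⟩
    have : g⁻¹ * x * g * x⁻¹ = g⁻¹ * (x * g * x⁻¹) := by group
    rw [this]; exact mul_mem (inv_mem hg) (cN hM hg)

theorem memo (h : W2 Q) (hR : Syl 2 (Q c) R) : x ∈ Om R ↔ x ∈ R ∧ x * x = 1 := by
  refine ⟨fun hx => ?_, fun hx => mem_Om' hx.1 hx.2⟩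
  induction hx using closure_induction with
  | mem x hx => exact hx
  | one => exact ⟨one_mem _, mul_one 1⟩
  | mul x y _ _ hx hy =>
    exact ⟨mul_mem hx.1 hy.1, H23.TC.sq_mul hx.2 hy.2 (mem_C'.1 (h.cz c R hR x hx.1 hx.2) y hy.1)⟩
  | inv x _ hx => rwa [inv_sq hx.2]

theorem omC (h : W2 Q) (hR : Syl 2 (Q c) R) : Om R ≤ C[R] := fun x hx =>
  h.cz c R hR x ((memo h hR).1 hx).1 ((memo h hR).1 hx).2

theorem key (h : W2 Q) (hne : c ≠ e) (hx : x ∈ Q e) (i : Inv x) (hR : Syl 2 (Q c) R)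
    (hn : x ∈ N[R]) : ∃ S R1 R' U T g, Cf Q c e S R1 R' U T ∧ x ∈ T ∧ g ∈ Q c ∧ R = cj g R1 ∧
      g⁻¹ * x * g * x⁻¹ ∈ R1 := by
  have x2 := twoE_of_sq i.2
  have xc : x • c = c := h.te.fix_N hR.le hR.pi (h.te.ne_bot hR) hn
  obtain ⟨S, R1, R', U, T, cf, hle⟩ := exists_cf h.te ⟨hne, x, hx, i, xc⟩ x2.isPi
    (zpowers_le.2 (mem_inf.2 ⟨xc, h.te.fix hx⟩))
  have xS := hle (mem_zpowers x)
  obtain ⟨g, hg, e1, e2⟩ := conjx hR cf.sa x2 (h.te.stab_le xc) hn (cf.na xS)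
  exact ⟨S, R1, R', U, T, g, cf, cf.eT ▸ mem_inf.2 ⟨hx, xS⟩, hg, e1, e2⟩

theorem omcard (te : TE Q) (hR : Syl 2 (Q c) R) (hR' : Syl 2 (Q d) R') : ♯(Om R) = ♯(Om R') := by
  obtain ⟨g, -, rfl⟩ := te.syl_conj hR hR'
  rw [Om_cj, card_cj]

end ACjx

open ACjx

/-! ### ACj -/
theorem W2.cen0 (h : W2 Q) (hne : c ≠ e) (hx : x ∈ Q e) (i : Inv x) (hR : Syl 2 (Q c) R)
    (hn : x ∈ N[R]) : x ∈ C[Om R] := by
  by_cases hb : Beta Q c e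
  · exact C_anti (Om_le R) (cen h.te h.four hb hne hx (twoE_of_sq i.2) hR hn)
  obtain ⟨S, R1, R', U, T, g, cf, xT, hg, rfl, e2⟩ := key h hne hx i hR hn
  rw [Om_cj, ← cj_C, mem_cj]
  have e3 := mul_mem (cents_symm (omC h cf.sa) e2) ((h.al _ _ _ _ _ _ _ cf hb).1 ▸ cf.cent xT)
  rwa [inv_mul_cancel_right] at e3
theorem W2.act (h : W2 Q) (hne : c ≠ e) (hb : ¬ Beta Q c e) (hx : x ∈ Q e) (i : Inv x)
    (hR : Syl 2 (Q c) R) (hn : x ∈ N[R]) :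
    R ⊓ C{x} = Om R ∧ ∀ y ∈ R, x⁻¹ * (y * x * y⁻¹) ∈ Om R := by
  have c0 := h.cen0 hne hx i hR hn
  obtain ⟨S, R1, R', U, T, g, cf, xT, hg, e1, e2⟩ := key h hne hx i hR hn
  obtain ⟨eU, hN⟩ := h.al _ _ _ _ _ _ _ cf hb
  constructor
  · refine (eq_of_card_ge (le_inf (Om_le R) fun u hu => mem_C1.2 (mem_C.1 c0 u hu)) ?_).symm
    rw [omcard h.te hR cf.sa, ← eU]
    refine Nat.le_of_dvd (H24.card_pos _) (cf.sylU.card_dvd (hR.pi.of_le inf_le_left) fun y hy => ?_)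
    exact mem_inf.2 ⟨hR.le hy.1, h.te.fix_comm hx (twoE_of_sq i.2) i.1 (mem_C1.1 hy.2)⟩
  · intro y hy
    rw [e1] at hy ⊢
    rw [Om_cj, mem_cj, ← eU]
    obtain ⟨z, hz, rfl⟩ := mem_cj'.1 hy
    set w := g⁻¹ * x * g * x⁻¹ with hw
    have s1 : w⁻¹ * z * w * z⁻¹ ∈ U := by
      have := mul_mem (mul_mem (inv_mem (cf.sq e2 (hN e2) hb))
        (cf.sq (mul_mem e2 hz) (hN (mul_mem e2 hz)) hb)) (inv_mem (cf.sq hz (hN hz) hb))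
      convert this using 1; group
    have s2 : x⁻¹ * (z * x * z⁻¹) ∈ U := by
      by_cases zU : z ∈ U
      · rw [mem_C.1 (cf.cent xT) z zU, mul_inv_cancel_right, inv_mul_cancel]; exact one_mem _
      · exact (cf.ph hz zU (hN hz)).mem x xT
    have := mul_mem (cN' (C_le_N _ (cf.cent xT)) s1) s2
    convert this using 1
    rw [hw]; group
theorem W2.om (h : W2 Q) (hR : Syl 2 (Q c) R) : (x ∈ Om R ↔ x ∈ R ∧ x * x = 1) ∧ EA (Om R) ∧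
    Om R ≤ C[R] ∧ R2 (Om R) ∧ Om R ≠ R := by
  refine ⟨memo h hR, ea_of_sq fun a ha => ((memo h hR).1 ha).2, omC h hR, ?_, fun e => ?_⟩
  · obtain ⟨a, ha, b, hb, a2, b2, r⟩ := h.four c R hR
    exact ⟨a, mem_Om' ha a2, b, mem_Om' hb b2, a2, b2, r⟩
  · obtain ⟨y, hy, y2⟩ := h.ne c R hR
    exact y2 ((memo h hR).1 (e.symm ▸ hy)).2
theorem W2.sq (h : W2 Q) (hab : Alp Q a b) (hR : Syl 2 (Q c) R) (hy : y ∈ R) : y * y ∈ Om R := by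
  obtain ⟨S, R1, R', U, T, cf, -⟩ := exists_cf h.te hab.1 (isPi_bot _) bot_le
  obtain ⟨eU, hN⟩ := h.al _ _ _ _ _ _ _ cf hab.2
  obtain ⟨g, -, rfl⟩ := h.te.syl_conj cf.sa hR
  obtain ⟨z, hz, rfl⟩ := mem_cj'.1 hy
  rw [Om_cj, ← H23.TC.conj_mul, ← eU]
  exact conj_mem_cj g (cf.sq hz (hN hz) hab.2)
theorem Ln.le (h : Ln Q c E) : E ≤ Q c := by
  obtain ⟨R, hR, rfl⟩ := h
  exact (Om_le R).trans hR.le
theorem Ln.cj (h : Ln Q c E) (te : TE Q) (g : G) : Ln Q (g • c) (H24.cj g E) := by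
  obtain ⟨R, hR, rfl⟩ := h
  exact ⟨_, te.syl_cj hR g, (Om_cj g R).symm⟩
theorem Ln.ea (h : Ln Q c E) (hw : W2 Q) : EA E := by
  obtain ⟨R, hR, rfl⟩ := h
  exact (hw.om (x := 1) hR).2.1
theorem Ln.card (h : Ln Q c E) (te : TE Q) (h' : Ln Q d F) : ♯E = ♯F := by
  obtain ⟨R, hR, rfl⟩ := h
  obtain ⟨R', hR', rfl⟩ := h'
  exact omcard te hR hR'
theorem Ln.eq_Om (h : Ln Q c E) (hw : W2 Q) (hR : Syl 2 (Q c) R) (hle : E ≤ R) : E = Om R :=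
  eq_of_card_ge (fun _ hx => mem_Om' (hle hx) ((h.ea hw).sq hx)) (h.card hw.te ⟨R, hR, rfl⟩).ge
theorem Ln.of_card (h : Ln Q c E) (hw : W2 Q) (hF : F ≤ Q d) (hea : EA F) (hc : ♯E ≤ ♯F) :
    Ln Q d F := by
  obtain ⟨R, hR, hle⟩ := Sylow_superset p2 hea.two hF
  exact ⟨R, hR, eq_of_card_ge (fun _ hx => mem_Om' (hle hx) (hea.sq hx))
    ((h.card hw.te ⟨R, hR, rfl⟩).ge.trans hc)⟩
theorem W2.exists_ln (h : W2 Q) (hB : TwoG B) (hs : B ≤ stabilizer G c) :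
    ∃ R, Syl 2 (Q c) R ∧ B ≤ N[R] ∧ Q c ⊓ B ≤ R ∧ B ≤ N[Om R] ∧
      ∀ e x, x ∈ Q e → x ∈ B → Inv x → x ∈ C[Om R] := by
  obtain ⟨R, r1, r2, r3⟩ := h.te.exists_syl hB hs
  refine ⟨R, r1, r2, r3, r2.trans (N_le_N_Om R), fun e x hx xB i => ?_⟩
  by_cases hce : c = e
  · subst hce
    exact cents_symm (omC h r1) (r3 (mem_inf.2 ⟨hx, xB⟩))
  · exact h.cen0 hce hx i r1 (r2 xB)
theorem Ln.cen (h : Ln Q c E) (hw : W2 Q) (hx : x ∈ Q e) (i : Inv x) (hn : x ∈ N[E]) :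
    x ∈ C[E] := by
  have two := (h.ea hw).two
  have ne : E ≠ ⊥ := by
    obtain ⟨R, hR, rfl⟩ := h
    obtain ⟨a, ha, -, -, -, -, a1, -⟩ := (hw.om (x := 1) hR).2.2.2.1
    exact fun e => a1 (mem_bot.1 (e ▸ ha))
  obtain ⟨R, r1, -, r3, -, r5⟩ := hw.exists_ln (c := c)
    (two.sup (twoE_of_sq i.2).isPi (zpowers_le.2 hn))
    (sup_le (fun y hy => hw.te.fix (h.le hy)) (zpowers_le.2 (hw.te.fix_N h.le two ne hn)))
  rw [h.eq_Om hw r1 ((le_inf h.le le_sup_left).trans r3)]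
  exact r5 e x hx (mem_sup_right (mem_zpowers x)) i
theorem Ln.syl (h : Ln Q c E) (hw : W2 Q) (hab : Alp Q c d) (hs : E ≤ stabilizer G d) :
    Syl 2 (Q c ⊓ stabilizer G d) E := by
  obtain ⟨S, R, R', U, T, cf, hle⟩ := exists_cf hw.te hab.1 (h.ea hw).two
    (le_inf (fun y hy => hw.te.fix (h.le hy)) hs)
  have e := h.eq_Om hw cf.sa ((le_inf h.le hle).trans (cf.eU.ge.trans cf.lU))
  rw [e, ← (hw.al _ _ _ _ _ _ _ cf hab.2).1]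
  exact cf.sylU
theorem AP.symm (h : AP Q a b U T) (hw : W2 Q) : AP Q b a T U :=
  ⟨h.alp.symm hw.te, h.lb, h.la, cents_symm h.cent⟩
theorem AP.cj (h : AP Q a b U T) (hw : W2 Q) (g : G) :
    AP Q (g • a) (g • b) (H24.cj g U) (H24.cj g T) :=
  ⟨h.alp.smul hw.te g, h.la.cj hw.te g, h.lb.cj hw.te g, cj_C g U ▸ cj_mono g h.cent⟩
theorem AP.ea (h : AP Q a b U T) (hw : W2 Q) : EA (U ⊔ T) := ea_of_sq fun x hx => by
  obtain ⟨u, hu, t, ht, rfl⟩ := (mem_sup_of_norm (h.cent.trans (C_le_N U))).1 hx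
  exact H23.TC.sq_mul ((h.la.ea hw).sq hu) ((h.lb.ea hw).sq ht) (mem_C.1 (h.cent ht) u hu)
theorem AP.cf (h : AP Q a b U T) (hw : W2 Q) (hB : TwoG B)
    (hs : B ≤ stabilizer G a ⊓ stabilizer G b) (hP : U ⊔ T ≤ B) :
    ∃ S R R', Cf Q a b S R R' U T ∧ B ≤ S := by
  obtain ⟨S, R, R', U', T', cf, hle⟩ := exists_cf hw.te h.alp.1 hB hs
  have e1 := h.la.eq_Om hw cf.sa
    ((le_inf h.la.le (le_sup_left.trans (hP.trans hle))).trans (cf.eU.ge.trans cf.lU))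
  have e2 := h.lb.eq_Om hw cf.sb
    ((le_inf h.lb.le (le_sup_right.trans (hP.trans hle))).trans (cf.eT.ge.trans cf.lT))
  rw [← (hw.al _ _ _ _ _ _ _ cf h.alp.2).1] at e1
  rw [← (hw.al _ _ _ _ _ _ _ cf.symm (h.alp.symm hw.te).2).1] at e2
  subst e1 e2
  exact ⟨S, R, R', cf, hle⟩
theorem AP.act (h : AP Q a b U T) (hw : W2 Q) (hR : Syl 2 (Q a) R) (hU : U ≤ R) (hT : T ≤ N[R]) :
    R ≤ N[U ⊔ T] ∧ ∀ y ∈ R, y ∉ U → Ph U T y ∧ Tv (U ⊔ T) U y := by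
  have e := h.la.eq_Om hw hR hU
  have RC : R ≤ C[U] := e ▸ cents_symm (omC hw hR)
  have act := fun t (ht : t ∈ T) (t1 : t ≠ 1) =>
    hw.act h.alp.1.1 h.alp.2 (h.lb.le ht) ⟨t1, (h.lb.ea hw).sq ht⟩ hR (hT ht)
  have mem : ∀ y ∈ R, ∀ t ∈ T, t⁻¹ * (y * t * y⁻¹) ∈ U := fun y hy t ht => by
    by_cases t1 : t = 1
    · simp [t1]
    · exact e ▸ (act t ht t1).2 y hy
  refine ⟨fun y hy => mem_N_of_cj_le ?_, fun y hy yU => ?_⟩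
  · rw [cj_sup]
    refine sup_le ((cj_of_mem_C (RC hy)).le.trans le_sup_left) fun w hw' => ?_
    obtain ⟨t, ht, rfl⟩ := mem_cj'.1 hw'
    have := mul_mem (mem_sup_right ht) (mem_sup_left (T := T) (mem y hy t ht))
    rwa [mul_inv_cancel_left] at this
  · have p : Ph U T y := ⟨h.cent, mem y hy, C_le_N _ (RC hy), fun t ht c => by
      by_contra t1
      exact yU (e ▸ (act t ht t1).1.le (mem_inf.2 ⟨hy, mem_C1.2 c⟩))⟩
    exact ⟨p, p.tv (RC hy)⟩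
theorem W2.exists_ap (h : W2 Q) (hab : Alp Q a b) (hB : TwoG B)
    (hs : B ≤ stabilizer G a ⊓ stabilizer G b) :
    ∃ U T, AP Q a b U T ∧ B ≤ N[U] ∧ B ≤ N[T] ∧ TwoG (B ⊔ (U ⊔ T)) := by
  obtain ⟨S, R, R', U, T, cf, hle⟩ := exists_cf h.te hab.1 hB hs
  have e1 := (h.al _ _ _ _ _ _ _ cf hab.2).1
  have e2 := (h.al _ _ _ _ _ _ _ cf.symm (hab.symm h.te).2).1
  exact ⟨U, T, ⟨hab, ⟨R, cf.sa, e1⟩, ⟨R', cf.sb, e2⟩, cf.cent⟩,
    e1 ▸ hle.trans (cf.na.trans (N_le_N_Om R)), e2 ▸ hle.trans (cf.nb.trans (N_le_N_Om R')),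
    cf.syl.pi.of_le (sup_le hle (sup_le cf.US cf.TS))⟩

end ACo
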