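import Mathlib
import Cfsg.Agent.H22.AC0
import Cfsg.Agent.H22.ACj
import Cfsg.Agent.H22.ACd

set_option autoImplicit false
set_option linter.unusedSectionVars false
set_option linter.unusedVariables false

namespace ACo

open Cfsg H24 H26 H26.Gold H23.TC H3.B71 Subgroup MulAction
open scoped commutatorElement Pointwise

universe u

variable {G Ω : Type u} [Group G] [Finite G] [MulAction G Ω] [Finite Ω] {Q K : Ω → Subgroup G}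
  {a b b' c d e : Ω} {A B E F H M P R R' S S' S₀ S₁ S₂ T T' U U1 V W X Y : Subgroup G}
  {f g k r s t u v w x y z : G}

/-! ### ACk -/
namespace ACkx

theorem inv (hw : W2 Q) (h : Ln Q c E) : ∃ x ∈ E, Inv x := by
  obtain ⟨R, hR, rfl⟩ := h
  obtain ⟨x, hx, -, -, x2, -, x1, -⟩ := (hw.om (x := 1) hR).2.2.2.1
  exact ⟨x, hx, x1, x2⟩

theorem stab (h : AP Q a b U T) (hw : W2 Q) : U ⊔ T ≤ stabilizer G a ⊓ stabilizer G b := by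
  obtain ⟨u, hu, iu⟩ := inv hw h.la
  obtain ⟨t, ht, it⟩ := inv hw h.lb
  have hP := h.ea hw
  intro p hp
  exact ⟨hw.te.fix_comm (h.la.le hu) (twoE_of_sq iu.2) iu.1 (EA.comm hP hp (mem_sup_left hu)),
    hw.te.fix_comm (h.lb.le ht) (twoE_of_sq it.2) it.1 (EA.comm hP hp (mem_sup_right ht))⟩

theorem cf (h : AP Q a b U T) (hw : W2 Q) : ∃ S R R', Cf Q a b S R R' U T ∧ U ⊔ T ≤ S :=
  h.cf hw (EA.two (h.ea hw)) (stab h hw) le_rfl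

theorem infU (h : AP Q a b U T) (hw : W2 Q) : Q a ⊓ (U ⊔ T) = U := by
  obtain ⟨S, R, R', hc, hS⟩ := cf h hw
  refine le_antisymm ?_ (le_inf h.la.le le_sup_left)
  nth_rewrite 2 [hc.eU]
  exact inf_le_inf_left _ hS

theorem infT (h : AP Q a b U T) (hw : W2 Q) : Q b ⊓ (U ⊔ T) = T := by
  rw [sup_comm]; exact infU (h.symm hw) hw

theorem exy (h : AP Q a b U T) (hw : W2 Q) (hR : Syl 2 (Q a) R) (hU : U ≤ R) :
    ∃ y ∈ R, y ∉ U := by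
  by_contra hn
  push Not at hn
  exact (hw.om (x := 1) hR).2.2.2.2 ((h.la.eq_Om hw hR hU).symm.trans (le_antisymm hU hn))

theorem data (h : AP Q a b U T) (hw : W2 Q) :
    ∃ R y, Syl 2 (Q a) R ∧ U ⊔ T ≤ N[R] ∧ y ∈ R ∧ y ∉ U ∧ Tv (U ⊔ T) U y := by
  obtain ⟨S, R, R', hc, hS⟩ := cf h hw
  obtain ⟨y, hy, hyU⟩ := exy h hw hc.sa hc.lU
  exact ⟨R, y, hc.sa, hS.trans hc.na, hy, hyU,
    ((h.act hw hc.sa hc.lU ((le_sup_right.trans hS).trans hc.na)).2 y hy hyU).2⟩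

theorem dih (h : AP Q a b U T) (hw : W2 Q) (hy : Tv (U ⊔ T) U y) :
    ∃ g ∈ N[U ⊔ T], g • b = a ∧ g • a = b ∧ ∃ σ ∈ Q a, σ ∈ N[U ⊔ T] ∧ TwoE σ ∧
      σ⁻¹ * y ∈ C[U ⊔ T] := by
  obtain ⟨S, R, R', hc, hS⟩ := cf h hw
  obtain ⟨s, hs, hsT⟩ := exy (h.symm hw) hw hc.sb hc.lT
  have hn : s ∈ N[U ⊔ T] := by
    rw [sup_comm]
    exact ((h.symm hw).act hw hc.sb hc.lT ((le_sup_left.trans hS).trans hc.nb)).1 hs
  obtain ⟨g, hg, h1, h2, h3⟩ := hc.dih h.alp.2 (h.la.ea hw) (h.lb.ea hw) hy hs hsT hn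
  exact ⟨g, hg, h1, h2, _, h1 ▸ hw.te.conj (hc.sb.le hs) g, cmem hg hn,
    (hc.sb.pi.piElt hs).conj g, h3⟩

theorem infc (h : AP Q a b U T) (hw : W2 Q) (hg : g ∈ N[U ⊔ T]) :
    Q (g • a) ⊓ (U ⊔ T) = cj g U := by
  rw [hw.te.eqv]
  nth_rewrite 1 [← cj_of_mem_N hg]
  rw [← cj_inf, infU h hw]

theorem ob_smul (hg : g ∈ N[P]) (hc : c ∈ Ob P a) : g • c ∈ Ob P a := by
  obtain ⟨k, hk, rfl⟩ := hc
  exact ⟨g * k, mul_mem hg hk, mul_smul _ _ _⟩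

theorem ob_self (P : Subgroup G) (a : Ω) : a ∈ Ob P a := ⟨1, one_mem _, one_smul _ _⟩

theorem parity {Γ : Set Ω} (hΓ : ∀ g ∈ H, ∀ c ∈ Γ, g • c ∈ Γ) (ha : a ∈ Γ) (hy : y ∈ H)
    (y2 : TwoE y) (ya : y • a = a) (hu : ∀ c ∈ Γ, y • c = c → c = a) (hg : g ∈ H) (g2 : TwoE g) :
    ∃ c ∈ Γ, g • c = c := by
  classical
  have : Fact (Nat.Prime 2) := ⟨p2⟩
  let Δ : SubMulAction H Ω := ⟨Γ, fun k c hc => hΓ k k.2 c hc⟩
  haveI : Fintype Δ := Fintype.ofFinite _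
  have key : ∀ k : H, TwoE (k : G) → ∃ n, (MulAction.toPermHom H Δ k) ^ 2 ^ n = 1 := fun k hk => by
    obtain ⟨n, hn⟩ := hk.exists_pow p2
    refine ⟨n, ?_⟩
    rw [← map_pow, ← hn, orderOf_coe, pow_orderOf_eq_one, map_one]
  by_cases hd : 2 ∣ Fintype.card Δ
  · obtain ⟨n, hn⟩ := key ⟨y, hy⟩ y2
    obtain ⟨c, hc, hne⟩ := Equiv.Perm.exists_fixed_point_of_prime' hd hn (a := ⟨a, ha⟩)
      (Subtype.ext ya)
    exact absurd (Subtype.ext (hu c c.2 (congrArg Subtype.val hc))) hne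
  · obtain ⟨n, hn⟩ := key ⟨g, hg⟩ g2
    obtain ⟨c, hc⟩ := Equiv.Perm.exists_fixed_point_of_prime hd hn
    exact ⟨c, c.2, congrArg Subtype.val hc⟩

theorem inU (h : AP Q a b U T) (hw : W2 Q) (hg : g ∈ Q a) (hn : g ∈ N[U ⊔ T]) (hx : x ∈ U ⊔ T) :
    x⁻¹ * (g * x * g⁻¹) ∈ U := by
  rw [← infU h hw]
  refine mem_inf.2 ⟨?_, mul_mem (inv_mem hx) (cN hn hx)⟩
  have := mul_mem (cN' (hw.te.stab_le (stab h hw hx).1) hg) (inv_mem hg)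
  simpa [mul_assoc] using this

end ACkx

theorem AP.ob (h : AP Q a b U T) (hw : W2 Q) : b ∈ Ob (U ⊔ T) a := by
  obtain ⟨R, y, -, -, -, -, hy⟩ := ACkx.data h hw
  obtain ⟨g, hg, -, h2, -⟩ := ACkx.dih h hw hy
  exact ⟨g, hg, h2⟩

theorem AP.ln (h : AP Q a b U T) (hw : W2 Q) (hc : c ∈ Ob (U ⊔ T) a) : Ln Q c (Q c ⊓ (U ⊔ T)) := by
  obtain ⟨g, hg, rfl⟩ := hc
  rw [ACkx.infc h hw hg]
  exact h.la.cj hw.te g

theorem ACkx.pair0 (h : AP Q a b U T) (hw : W2 Q) (hd : d ∈ Ob (U ⊔ T) a) (hne : a ≠ d) :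
    AP Q a d U (Q d ⊓ (U ⊔ T)) ∧ U ⊔ (Q d ⊓ (U ⊔ T)) = U ⊔ T := by
  have hP := h.ea hw
  have hl := h.ln hw hd
  obtain ⟨R, y, hR, hn, hy, hyU, tv⟩ := ACkx.data h hw
  have nU : ∀ x ∈ Q d ⊓ (U ⊔ T), y * x = x * y → x = 1 := fun x hx hc => by
    by_contra h1
    exact hne (hw.te.ti a d x (h.la.le ((tv.fix x hx.2).1 (conj_of_comm hc))) hx.1
      ⟨h1, EA.sq hP hx.2⟩)
  have hc : Q d ⊓ (U ⊔ T) ≤ C[U] := inf_le_right.trans (cents_of_le (EA.le_C hP) le_sup_left)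
  obtain ⟨x, hx, ix⟩ := ACkx.inv hw hl
  refine ⟨⟨⟨⟨hne, x, hx.1, ix, (ACkx.stab h hw hx.2).1⟩, fun hb => ix.1 (nU x hx ?_)⟩,
    h.la, hl, hc⟩, le_antisymm (sup_le le_sup_left inf_le_right) fun p hp => ?_⟩
  · exact mem_C.1 (cen hw.te hw.four hb hne hx.1 (twoE_of_sq ix.2) hR (hn hx.2)) y hy
  · have ph : Ph U (Q d ⊓ (U ⊔ T)) y :=
      ⟨hc, fun t ht => tv.comm t ht.2, C_le_N _ tv.cent, nU⟩
    obtain ⟨t, ht, e⟩ := ph.surj (h.la.card hw.te hl).le (tv.comm p hp)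
    have : p * t⁻¹ ∈ U := (tv.fix _ (mul_mem hp (inv_mem ht.2))).1 (by
      calc y * (p * t⁻¹) * y⁻¹ = p * (p⁻¹ * (y * p * y⁻¹)) * (t⁻¹ * (y * t * y⁻¹))⁻¹ * t⁻¹ := by
            group
        _ = p * t⁻¹ := by rw [e]; group)
    simpa using mul_mem (mem_sup_left this) (mem_sup_right ht : t ∈ U ⊔ (Q d ⊓ (U ⊔ T)))

theorem AP.pair (h : AP Q a b U T) (hw : W2 Q) (hc : c ∈ Ob (U ⊔ T) a) (hd : d ∈ Ob (U ⊔ T) a)
    (hne : c ≠ d) : AP Q c d (Q c ⊓ (U ⊔ T)) (Q d ⊓ (U ⊔ T)) ∧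
      (Q c ⊓ (U ⊔ T)) ⊔ (Q d ⊓ (U ⊔ T)) = U ⊔ T := by
  obtain ⟨g, hg, rfl⟩ := hc
  have hd' := ACkx.ob_smul (inv_mem hg) hd
  obtain ⟨h1, h2⟩ := ACkx.pair0 h hw hd' (fun e => hne (by rw [e, smul_inv_smul]))
  have e : H24.cj g (Q (g⁻¹ • d) ⊓ (U ⊔ T)) = Q d ⊓ (U ⊔ T) := by
    rw [cj_inf, ← hw.te.eqv, smul_inv_smul, cj_of_mem_N hg]
  have h3 := h1.cj hw g
  rw [e, smul_inv_smul] at h3
  rw [ACkx.infc h hw hg]
  refine ⟨h3, ?_⟩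
  rw [← e, ← cj_sup, h2, cj_of_mem_N hg]

theorem AP.fixp (h : AP Q a b U T) (hw : W2 Q) (hg : g ∈ N[U ⊔ T]) (h2 : TwoE g) :
    ∃ c ∈ Ob (U ⊔ T) a, g • c = c := by
  have hP := h.ea hw
  obtain ⟨R, y, hR, hn, hy, hyU, tv⟩ := ACkx.data h hw
  refine ACkx.parity (H := N[U ⊔ T]) (fun k hk c hc => ACkx.ob_smul hk hc) (ACkx.ob_self _ a) tv.nE
    (hR.pi.piElt hy) (hw.te.fix (hR.le hy)) (fun c hc e => ?_) hg h2
  obtain ⟨x, hx, ix⟩ := ACkx.inv hw (h.ln hw hc)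
  have hN : y ∈ N[Q c ⊓ (U ⊔ T)] :=
    inf_normalizer_le_normalizer_inf ⟨hw.te.stab_le e, tv.nE⟩
  obtain ⟨z, hz, z1⟩ := exists_ne_one (tv.meet inf_le_right hN (ne_bot_of_mem hx ix.1))
  exact hw.te.ti c a z hz.2.1 (h.la.le hz.1) ⟨z1, EA.sq hP hz.2.2⟩

theorem AP.fh (h : AP Q a b U T) (hw : W2 Q) (hv : v ∈ Q d) (i : Inv v) (hs : H24.cj v U = T) :
    ∃ e, Alp Q e a ∧ Alp Q e b ∧ v • e = e ∧ e ≠ d ∧ Ln Q e (Q e ⊓ (U ⊔ T)) ∧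
      Q e ⊓ (U ⊔ T) = (U ⊔ T) ⊓ C{v} ∧ ∀ u ∈ U, u * (v * u * v⁻¹) ∈ Q e := by
  have hP := h.ea hw
  have hs' : H24.cj v T = U := by rw [← hs, ← cj_mul, i.2, cj_one]
  have hn : v ∈ N[U ⊔ T] := mem_N_iff_cj.2 (by rw [cj_sup, hs, hs', sup_comm])
  have vU : ∀ u ∈ U, v * u * v⁻¹ ∈ T := fun u hu => hs ▸ conj_mem_cj v hu
  have hab := h.alp.1.1
  have nU : ∀ u ∈ U, v * u * v⁻¹ = u → u = 1 := fun u hu e => by
    by_contra h1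
    exact hab (hw.te.ti a b u (h.la.le hu) (h.lb.le (e ▸ vU u hu))
      ⟨h1, EA.sq hP (mem_sup_left hu)⟩)
  obtain ⟨u0, hu0, iu⟩ := ACkx.inv hw h.la
  have va : v • a = b := hw.te.ti _ _ _ (hw.te.conj (h.la.le hu0) v) (h.lb.le (vU u0 hu0))
    ⟨conj_ne iu.1 v, conj_sq iu.2 v⟩
  have vb : v • b = a := by rw [← va, ← mul_smul, i.2, one_smul]
  obtain ⟨e, he, ve⟩ := h.fixp hw hn (twoE_of_sq i.2)
  have ea : e ≠ a := fun k => hab (by rw [← va, ← k, ve])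
  have eb : e ≠ b := fun k => hab (by rw [← vb, ← k, ve])
  obtain ⟨p1, p2'⟩ := h.pair hw he (ACkx.ob_self _ a) ea
  have hl := h.ln hw he
  have vC : v ∈ C[Q e ⊓ (U ⊔ T)] :=
    hl.cen hw hv i (inf_normalizer_le_normalizer_inf ⟨hw.te.stab_le ve, hn⟩)
  have eq : Q e ⊓ (U ⊔ T) = (U ⊔ T) ⊓ C{v} := by
    refine le_antisymm (fun x hx => ⟨hx.2, mem_C1.2 (mem_C.1 vC x hx)⟩) fun p hp => ?_
    have hp1 := hp.1
    rw [← p2', ACkx.infU h hw] at hp1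
    obtain ⟨x, hx, u, hu, rfl⟩ := (mem_sup_of_norm (norm_of_cent
      (cents_of_le (le_sup_left.trans (EA.le_C hP)) inf_le_right))).1 hp1
    have c1 : v * x * v⁻¹ = x := conj_eq_of_mem_C vC hx
    have c2 : v * (x * u) * v⁻¹ = x * u := conj_of_comm (mem_C1.1 hp.2).symm
    rw [H23.TC.conj_mul, c1] at c2
    rw [nU u hu (mul_left_cancel c2), mul_one]
    exact hx
  refine ⟨e, p1.alp, (h.pair hw he (h.ob hw) eb).1.alp, ve, fun k => ?_, hl, eq, fun u hu => ?_⟩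
  · subst k
    obtain ⟨R, hR, hle⟩ := Sylow_superset p2
      ((EA.two (hl.ea hw)).sup (twoE_of_sq i.2).isPi (zpowers_le.2 (C_le_N _ vC)))
      (sup_le inf_le_left (zpowers_le.2 hv))
    have : v ∈ Q e ⊓ (U ⊔ T) := by
      rw [hl.eq_Om hw hR (le_sup_left.trans hle)]
      exact mem_Om' (hle (mem_sup_right (mem_zpowers v))) i.2
    exact iu.1 (nU u0 hu0 (conj_of_comm (EA.comm hP this.2 (mem_sup_left hu0))))
  · have m1 : u ∈ U ⊔ T := mem_sup_left hu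
    have m2 : v * u * v⁻¹ ∈ U ⊔ T := mem_sup_right (vU u hu)
    have : u * (v * u * v⁻¹) ∈ (U ⊔ T) ⊓ C{v} := by
      refine ⟨mul_mem m1 m2, mem_C1.2 (comm_of_conj ?_).symm⟩
      rw [H23.TC.conj_mul, EA.comm hP m1 m2]
      congr 1
      calc v * (v * u * v⁻¹) * v⁻¹ = (v * v) * u * (v * v)⁻¹ := by group
        _ = u := by rw [i.2]; group
    rw [← eq] at this
    exact this.1

theorem AP.elat (h : AP Q a b U T) (hw : W2 Q) (hR : Syl 2 (Q a) R) (hU : U ≤ R) (hT : T ≤ N[R])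
    (hy : Tv (U ⊔ T) U y) : ∃ x ∈ R, x⁻¹ * y ∈ C[U ⊔ T] := by
  have hP := h.ea hw
  obtain ⟨g, -, -, -, σ, hσ, hn, h2, hc⟩ := ACkx.dih h hw hy
  have σC : σ ∈ C[U] := by
    have := mul_mem hy.cent (inv_mem (C_anti le_sup_left hc))
    simpa using this
  have hRC : R ≤ C[U] := by
    rw [h.la.eq_Om hw hR hU]
    exact cents_symm (hw.om (x := 1) hR).2.2.1
  have hM : Syl 2 (Q a ⊓ N[U ⊔ T] ⊓ C[U]) R :=
    hR.of_le (le_inf (le_inf hR.le (h.act hw hR hU hT).1) hRC) (inf_le_left.trans inf_le_left)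
  obtain ⟨m, hm, hx⟩ := conj_into hM ⟨⟨hσ, hn⟩, σC⟩ h2
  refine ⟨_, hx, ?_⟩
  have key : (m * σ * m⁻¹)⁻¹ * σ ∈ C[U ⊔ T] := by
    refine inv_mem_iff.1 (mem_C'.2 fun p hp => comm_of_conj ?_)
    have a1 := ACkx.inU h hw (inv_mem hm.1.1) (inv_mem hm.1.2) hp
    have a2 := ACkx.inU h hw hσ hn hp
    rw [inv_inv] at a1
    set μ := p⁻¹ * (m⁻¹ * p * m) with hμ
    set ς := p⁻¹ * (σ * p * σ⁻¹) with hς
    have b1 : σ * μ * σ⁻¹ = μ := conj_eq_of_mem_C σC a1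
    have b2 : m * ς * m⁻¹ = ς := conj_eq_of_mem_C hm.2 a2
    have b3 : ς * μ = μ * ς := EA.comm hP (mem_sup_left a2) (mem_sup_left a1)
    calc ((m * σ * m⁻¹)⁻¹ * σ)⁻¹ * p * (((m * σ * m⁻¹)⁻¹ * σ)⁻¹)⁻¹
        = σ⁻¹ * (m * (p * ς * (σ * μ * σ⁻¹)) * m⁻¹) * σ := by rw [hμ, hς]; group
      _ = σ⁻¹ * (m * (p * μ) * m⁻¹ * (m * ς * m⁻¹)) * σ := by
          rw [b1, mul_assoc p, b3]; group
      _ = p := by rw [b2, hμ, hς]; group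
  have := mul_mem key hc
  simpa [mul_assoc] using this



end ACo
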