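import Mathlib
import Cfsg.Agent.H22.AC0
import Cfsg.Agent.H22.ACk
import Cfsg.Agent.H22.ACG

set_option autoImplicit false
set_option linter.unusedSectionVars false
set_option linter.unusedVariables false

namespace ACo

open Cfsg H24 H26 H26.Gold H23.TC H3.B71 Subgroup MulAction
open scoped commutatorElement Pointwise

universe u

variable {G Ω : Type u} [Group G] [Finite G] [MulAction G Ω] [Finite Ω] {Q K : Ω → Subgroup G}
  {a b b' c d e : Ω} {A B E F H M P R R' S S' S₀ S₁ S₂ T T' U U1 V W X Y : Subgroup G}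
  {f g k r s t u v w x y z : G}

namespace AClx

/-- `(x y)² = (y x)²` -/
def D4 (x y : G) : Prop := x * y * (x * y) = y * x * (y * x)

theorem D4.symm (h : D4 x y) : D4 y x := Eq.symm h

theorem inv_eq (i : Inv x) : x⁻¹ = x := inv_eq_of_mul_eq_one_right i.2

theorem D4.comm (h : D4 x y) (iy : Inv y) : x * (y * x * y⁻¹) = y * x * y⁻¹ * x := by
  rw [inv_eq iy]; simpa only [D4, mul_assoc] using h

theorem D4.swap (h : D4 x y) (ix : Inv x) (iy : Inv y) :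
    x * (y * x * y⁻¹) = y * (x * y * x⁻¹) := by
  rw [inv_eq ix, inv_eq iy]; simpa only [D4, mul_assoc] using h

theorem d4_of (iy : Inv y) (h : x * (y * x * y⁻¹) = y * x * y⁻¹ * x) : D4 x y := by
  rw [inv_eq iy] at h; simpa only [D4, mul_assoc] using h

theorem d4_of_pow (ix : Inv x) (iy : Inv y) (h : (x * y) ^ 4 = 1) : D4 x y := by
  have : (x * y * (x * y))⁻¹ = x * y * (x * y) :=
    inv_eq_of_mul_eq_one_right (by rw [← h]; simp only [pow_succ, pow_zero, one_mul, mul_assoc])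
  rw [D4, ← this]
  simp only [mul_inv_rev, inv_eq ix, inv_eq iy, mul_assoc]

theorem inv_conj (i : Inv x) (g : G) : Inv (g * x * g⁻¹) :=
  ⟨fun e => i.1 (conj_eq_one_iff.1 e), by rw [_root_.conj_mul, i.2, mul_one, mul_inv_cancel]⟩

theorem D4.inv (h : D4 x y) (ix : Inv x) (iy : Inv y) (hn : x * y ≠ y * x) :
    Inv (x * (y * x * y⁻¹)) := by
  refine ⟨fun e => hn ?_, ?_⟩
  · rw [← mul_inv_eq_iff_eq_mul.1 ((eq_inv_of_mul_eq_one_right e).trans (inv_eq ix))]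
  · calc x * (y * x * y⁻¹) * (x * (y * x * y⁻¹))
        = x * (y * x * y⁻¹ * x) * (y * x * y⁻¹) := by simp only [mul_assoc]
      _ = x * x * (y * x * y⁻¹ * (y * x * y⁻¹)) := by rw [← h.comm iy]; simp only [mul_assoc]
      _ = 1 := by rw [ix.2, (inv_conj ix y).2, one_mul]

theorem D4.two (h : D4 x y) (ix : Inv x) (iy : Inv y) : TwoG (zpowers x ⊔ zpowers y) := by
  have h1 : TwoG (zpowers x ⊔ zpowers (y * x * y⁻¹)) :=
    (twoE_of_sq ix.2).isPi.sup (twoE_of_sq (inv_conj ix y).2).isPi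
      (norm_zpowers_of_cent (zpowers_le.2 (mem_C1.2 (h.comm iy).symm)))
  have h2 : y ∈ N[zpowers x ⊔ zpowers (y * x * y⁻¹)] := by
    rw [mem_N_iff_cj, cj_sup, cj_zpowers, cj_zpowers, sup_comm]
    congr 2
    calc y * (y * x * y⁻¹) * y⁻¹ = y * y * x * (y * y)⁻¹ := by group
      _ = x := by rw [iy.2]; simp
  exact (h1.sup (twoE_of_sq iy.2).isPi (zpowers_le.2 h2)).of_le (sup_le_sup_right le_sup_left _)

theorem om (h : W2 Q) (hR : Syl 2 (Q c) R) (hx : x ∈ R) (i : Inv x) : x ∈ Om R := mem_Om' hx i.2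

theorem stepL (h : W2 Q) (ht : t ∈ Q b) (hs : s ∈ Q b') (it : Inv t) (is : Inv s) (h4 : D4 t s)
    (hn : t * s ≠ s * t) : s • b ≠ b ∧ ∃ T, Ln Q b T ∧ t ∈ T ∧ H24.cj s T ≤ C[T] := by
  have tB : t ∈ zpowers t ⊔ zpowers s := mem_sup_left (mem_zpowers t)
  have sB : s ∈ zpowers t ⊔ zpowers s := mem_sup_right (mem_zpowers s)
  have hm : s • b ≠ b := fun e => by
    obtain ⟨R, hR, -, h1, -, h2⟩ := h.exists_ln (c := b) (h4.two it is)
      (sup_le (zpowers_le.2 (h.te.fix ht)) (zpowers_le.2 e))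
    exact hn (mem_C.1 (h2 b' s hs sB is) t (om h hR (h1 ⟨ht, tB⟩) it))
  refine ⟨hm, ?_⟩
  have ht' := h.te.conj ht s
  have ss : s • s • b = b := by rw [← mul_smul, is.2, one_smul]
  have tM : t ∈ stabilizer G b ⊓ stabilizer G (s • b) :=
    ⟨h.te.fix ht, h.te.fix_comm ht' (twoE_of_sq (inv_conj it s).2) (inv_conj it s).1 (h4.comm is)⟩
  have sM : s ∈ N[stabilizer G b ⊓ stabilizer G (s • b)] := by
    rw [mem_N_iff_cj, cj_inf, ← stab_cj, ← stab_cj, ss, inf_comm]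
  obtain ⟨S, hS, nS, lS⟩ := exists_syl_inv (h4.two it is)
    (sup_le (zpowers_le.2 (norm_self _ tM)) (zpowers_le.2 sM))
  obtain ⟨S', R, R', U, T, cf, hle⟩ := exists_cf h.te
    (h.te.adj_of_comm hm.symm ht ht' it (inv_conj it s) (h4.comm is)) hS.pi hS.le
  obtain rfl : S = S' := (hS.eq_of_le cf.syl.pi hle cf.syl.le).symm
  have hU : Om R ≤ U := by
    by_cases hb : Beta Q b (s • b)
    · rw [cf.beta_iff.1 hb]; exact Om_le R
    · exact (h.al _ _ _ _ _ _ _ cf hb).1.ge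
  refine ⟨Om R, ⟨R, cf.sa, rfl⟩, om h cf.sa (cf.lU (cf.eU ▸ ⟨ht, lS ⟨tM, tB⟩⟩)) it,
    le_trans ?_ (cf.cent.trans (C_anti hU))⟩
  rintro _ ⟨u, hu, rfl⟩
  have hu' := cf.eU ▸ hU hu
  exact cf.eT ▸ ⟨h.te.conj hu'.1 s, H24.conj_mem (nS sB) hu'.2⟩

theorem nc (h : W2 Q) (hT : Ln Q b T) (is : Inv s) (hm : s • b ≠ b) (hc : H24.cj s T ≤ C[T])
    (hx : x ∈ T) (h1 : x ≠ 1) : Inv x ∧ D4 s x ∧ s * x ≠ x * s :=
  have ix : Inv x := ⟨h1, (hT.ea h).sq hx⟩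
  ⟨ix, (d4_of is (mem_C.1 (hc (conj_mem_cj s hx)) x hx)).symm,
    fun e => hm (h.te.fix_comm (hT.le hx) (twoE_of_sq ix.2) h1 e)⟩

theorem stepN (h : W2 Q) (hT : Ln Q b T) (hs : s ∈ Q b') (is : Inv s) (hm : s • b ≠ b)
    (hc : H24.cj s T ≤ C[T]) : ∃ z ∈ T, z ≠ 1 ∧ Alp Q b' (z • b') := by
  by_contra hn
  have key : ∀ x ∈ T, x ≠ 1 →
      x • b' ≠ b' ∧ s * (x * s * x⁻¹) = x * s * x⁻¹ * s ∧ Beta Q b' (x • b') := fun x hx h1 => by
    obtain ⟨ix, d4, n⟩ := nc h hT is hm hc hx h1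
    have m := (stepL h hs (hT.le hx) is ix d4 n).1
    refine ⟨m, d4.comm ix, by_contra fun hb => hn ⟨x, hx, h1, ?_, hb⟩⟩
    exact h.te.adj_of_comm m.symm hs (h.te.conj hs x) is (inv_conj is x) (d4.comm ix)
  obtain ⟨R, hR, e⟩ := id hT
  obtain ⟨v, hv, w, hw, v2, w2, v1, w1, vw, c⟩ : R2 T := e ▸ (h.om (x := 1) hR).2.2.2.1
  have hne : b' ≠ b := fun e => hm (e ▸ h.te.fix hs)
  refine ns4 h.te h.four (.inl h.ne) hs is hm (hT.le hv) (hT.le hw) ⟨v1, v2⟩ ⟨w1, w2⟩ vw c ?_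
    fun u hu iu R' hR' sR hN => (mem_C.1 (h.cen0 hne hu iu hR' hN) s (om h hR' sR is)).symm
  rintro x (rfl | rfl | rfl)
  · exact key _ hv v1
  · exact key _ hw w1
  · exact key _ (mul_mem hv hw) fun e =>
      vw ((eq_inv_of_mul_eq_one_left e).trans (inv_eq ⟨w1, w2⟩))

/-- the third point -/
theorem third (h : W2 Q) (hs : s ∈ Q b') (hz : z ∈ Q b) (iz : Inv z) (hT : Ln Q b' T)
    (hc : H24.cj z T ≤ C[T]) (ha : Alp Q b' (z • b')) :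
    ∃ e, Alp Q e b' ∧ ∀ u ∈ T, u * (z * u * z⁻¹) ∈ Q e := by
  obtain ⟨e, h1, -, -, -, -, -, h2⟩ :=
    AP.fh (⟨ha, hT, hT.cj h.te z, hc⟩ : AP Q b' (z • b') T (H24.cj z T)) h hz iz rfl
  exact ⟨e, h1, h2⟩

end AClx

/-! ### ACl -/
theorem W2.d8a (h : W2 Q) (ht : t ∈ Q b) (hs : s ∈ Q b') (it : Inv t) (is : Inv s)
    (h4 : (t * s) ^ 4 = 1) (hn : t * s ≠ s * t) :
    ∃ e T, Ln Q b T ∧ t ∈ T ∧ H24.cj s T ≤ C[T] ∧ s • b ≠ b ∧ Alp Q e b ∧ Alp Q e b' ∧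
      T ≤ stabilizer G e ∧ s • e = e ∧ ∃ z ∈ T, z ≠ 1 ∧ z * (s * z * s⁻¹) ∈ Q e := by
  obtain ⟨hm, T, hT, tT, hc⟩ := AClx.stepL h ht hs it is (AClx.d4_of_pow it is h4) hn
  obtain ⟨z, zT, z1, az⟩ := AClx.stepN h hT hs is hm hc
  obtain ⟨iz, d4, n⟩ := AClx.nc h hT is hm hc zT z1
  have zQ := hT.le zT
  obtain ⟨hm1, T1, hT1, sT, hc1⟩ := AClx.stepL h hs zQ is iz d4 n
  obtain ⟨e, ae, he⟩ := AClx.third h hs zQ iz hT1 hc1 az
  obtain ⟨s1, s1T, s11, as⟩ := AClx.stepN h hT1 zQ iz hm1 hc1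
  obtain ⟨is1, d5, n5⟩ := AClx.nc h hT1 iz hm1 hc1 s1T s11
  obtain ⟨-, T2, hT2, zT2, hc2⟩ := AClx.stepL h zQ (hT1.le s1T) iz is1 d5 n5
  obtain ⟨e', ae', he'⟩ := AClx.third h zQ (hT1.le s1T) is1 hT2 hc2 as
  obtain rfl : e = e' :=
    h.te.ti _ _ _ (d5.swap iz is1 ▸ he s1 s1T) (he' z zT2) (d5.inv iz is1 n5)
  have hf := he s sT
  have i := d4.inv is iz n
  refine ⟨e, T, hT, tT, hc, hm, ae', ae, fun x hx => ?_, ?_, z, zT, z1, d4.swap is iz ▸ hf⟩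
  · refine h.te.fix_comm hf (twoE_of_sq i.2) i.1 ?_
    rw [d4.swap is iz, ← mul_assoc x, (hT.ea h).comm hx zT, mul_assoc z x,
      mem_C.1 (hc (conj_mem_cj s zT)) x hx, ← mul_assoc]
  · refine h.te.fix_comm hf (twoE_of_sq i.2) i.1 ?_
    rw [mul_assoc s _ s, ← d4.comm iz]

end ACo
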