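import Mathlib
import Cfsg.Agent.H22.AC0
import Cfsg.Agent.H22.ACl
import Cfsg.Agent.H22.AC1

set_option autoImplicit false
set_option linter.unusedSectionVars false
set_option linter.unusedVariables false

namespace ACo

open Cfsg H24 H26 H26.Gold H23.TC H3.B71 Subgroup MulAction
open scoped commutatorElement Pointwise

universe u

variable {G Ω : Type u} [Group G] [Finite G] [MulAction G Ω] [Finite Ω] {Q K : Ω → Subgroup G}
  {a b b' c d e : Ω} {A B E F H M P R R' S S' S₀ S₁ S₂ T T' U U1 V W X Y : Subgroup G}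
  {f g k r s t u v w x y z : G}

namespace ACmx

theorem nb (h : W2 Q) (hce : c ≠ e) (hb : ¬ Beta Q c e) (hne : c ≠ d) (hR : Syl 2 (Q c) R) (hz : z ∈ R)
    (z2 : z * z = 1) (hy : y ∈ Q d) (iy : Inv y) (hn : y ∈ N[R]) (hf : z * y ∈ Q e) (i : Inv (z * y)) :
    ¬ Beta Q c d := fun hβ => by
  have c1 : z * y ∈ C[R] := mul_mem (h.cz c R hR z hz z2) (cen h.te h.four hβ hne hy (twoE_of_sq iy.2) hR hn)
  have := (h.act hce hb hf i hR (C_le_N _ c1)).1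
  exact (h.om (x := 1) hR).2.2.2.2 (le_antisymm (Om_le _) (this ▸ le_inf le_rfl fun r hr =>
    H24.mem_C1.2 (c1 r hr)))

theorem le_C (hw : W2 Q) (hE : Ln Q c E) (hle : E ≤ B)
    (h : ∀ e x, x ∈ Q e → x ∈ B → Inv x → x ∈ C[U]) : E ≤ C[U] := fun x hx => by
  by_cases h1 : x = 1
  · rw [h1]; exact one_mem _
  · exact h c x (hE.le hx) (hle hx) ⟨h1, (hE.ea hw).sq hx⟩

theorem inv_cj (i : Inv x) (g : G) : Inv (g * x * g⁻¹) :=
  ⟨conj_ne i.1 g, by rw [_root_.conj_mul, i.2, mul_one, mul_inv_cancel]⟩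

/-- the swapping configuration -/
theorem key (h : W2 Q) (he : Alp Q e c) (hT : Ln Q c T) (hv : v ∈ Q d) (iv : Inv v) (hm : v • c ≠ c)
    (hc : cj v T ≤ C[T]) (hz : z ∈ T) (z1 : z ≠ 1) (hf : z * (v * z * v⁻¹) ∈ Q e) :
    ∀ u ∈ T, u * (v * u * v⁻¹) ∈ Q e := by
  have iz : Inv z := ⟨z1, (hT.ea h).sq hz⟩
  have zc : v * z * v⁻¹ ∈ cj v T := conj_mem_cj v hz
  have zQ := h.te.conj (hT.le hz) v
  have cm : z * (v * z * v⁻¹) = v * z * v⁻¹ * z := hc zc z hz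
  have two : TwoG T := (hT.ea h).two
  obtain ⟨R, r1, r2, r3⟩ := h.te.exists_syl (c := c) (two.sup (two.cj v) (norm_of_cent hc))
    (sup_le (fun x hx => h.te.fix (hT.le hx)) fun x hx =>
      h.te.fix_comm (hT.le hz) (twoE_of_sq iz.2) z1 (hc hx z hz).symm)
  have i : Inv (z * (v * z * v⁻¹)) := ⟨fun e => hm (h.te.ti _ _ z
    (by rwa [← eq_inv_of_mul_eq_one_left e |>.trans (inv_sq (inv_cj iz v).2)] at zQ) (hT.le hz) iz),
    sq_mul iz.2 (inv_cj iz v).2 cm⟩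
  have nβ := nb h (Ne.symm he.1.1) (he.symm h.te).2 hm.symm r1 (r3 ⟨hT.le hz, Subgroup.mem_sup_left hz⟩) iz.2 zQ
    (inv_cj iz v) (r2 (Subgroup.mem_sup_right zc)) hf i
  obtain ⟨e1, -, -, -, -, -, -, h1⟩ := AP.fh ⟨⟨h.te.adj_of_comm hm.symm (hT.le hz) zQ iz (inv_cj iz v) cm, nβ⟩,
    hT, hT.cj h.te v, hc⟩ h hv iv rfl
  exact h.te.ti _ _ _ (h1 z hz) hf i ▸ h1

end ACmx

/-! ### ACm -/
open ACmx in
theorem W2.d8 (h : W2 Q) (ht : t ∈ Q b) (hs : s ∈ Q b') (it : Inv t) (is : Inv s)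
    (h4 : (t * s) ^ 4 = 1) (hn : t * s ≠ s * t) :
    ∃ e R U T T', LC Q e b b' R U T T' ∧ t ∈ T ∧ s ∈ T' := by
  obtain ⟨e, T, lT, tT, cT, sb, ab, ab', Te, se, z, hz, z1, hf⟩ := h.d8a ht hs it is h4 hn
  have eT := lT.ea h
  have si : s⁻¹ = s := inv_sq is.2
  have k1 := key h ab lT hs is sb cT hz z1 hf
  have sN : zpowers s ≤ N[T ⊔ cj s T] := zpowers_le.2 (mem_N_of_cj_le (by
    rw [cj_sup, ← cj_mul, is.2, cj_one, sup_comm]))
  obtain ⟨R₀, r1, -, r3, -, r5⟩ := h.exists_ln (c := e)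
    ((eT.two.sup (eT.two.cj s) (norm_of_cent cT)).sup (twoE_of_sq is.2).isPi sN)
    (sup_le (sup_le Te (cj_le_of_mem_N Te (le_normalizer (show s ∈ stabilizer G e from se))))
      (zpowers_le.2 se))
  have lU : Ln Q e (Om R₀) := ⟨R₀, r1, rfl⟩
  have eU := lU.ea h
  have TU : T ≤ C[Om R₀] := le_C h lT (le_sup_left.trans le_sup_left) r5
  have sU : s ∈ C[Om R₀] := r5 _ s hs (Subgroup.mem_sup_right (mem_zpowers s)) is
  have fU : ∀ u ∈ T, u * (s * u * s⁻¹) ∈ Om R₀ := fun u hu => mem_Om' (r3 ⟨k1 u hu, Subgroup.mem_sup_left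
    (mul_mem (Subgroup.mem_sup_left hu) (Subgroup.mem_sup_right (conj_mem_cj s hu)))⟩)
    (sq_mul (eT.sq hu) (by rw [_root_.conj_mul, eT.sq hu, mul_one, mul_inv_cancel]) (cT (conj_mem_cj s hu) u hu))
  have f1 : ∀ u ∈ T, u ≠ 1 → u * (s * u * s⁻¹) ≠ 1 := fun u hu u1 e => by
    have iu : Inv u := ⟨u1, eT.sq hu⟩
    have uQ := h.te.conj (lT.le hu) s
    rw [← (eq_inv_of_mul_eq_one_left e).trans (inv_sq (inv_cj iu s).2)] at uQ
    exact sb (h.te.ti _ _ u uQ (lT.le hu) iu)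
  generalize Om R₀ = U at *
  have vs : ∀ v ∈ T, v * s * v⁻¹ = v * (s * v * s⁻¹) * s := fun v hv => by
    rw [inv_sq (eT.sq hv)]; group
  have ab0 : Abl (U ⊔ zpowers s) := eU.abl.sup (abl_zpowers s) (cents_symm (zpowers_le.2 sU))
  have two0 : TwoG (U ⊔ zpowers s) := eU.two.sup (twoE_of_sq is.2).isPi (norm_of_cent (zpowers_le.2 sU))
  have sE : s ∈ U ⊔ zpowers s := Subgroup.mem_sup_right (mem_zpowers s)
  have TN : T ≤ N[U ⊔ zpowers s] := fun v hv => mem_N_of_cj_le (by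
    rw [cj_sup, cj_zpowers, mem_N_iff_cj.1 (C_le_N _ (TU hv)), vs v hv]
    exact sup_le le_sup_left (zpowers_le.2 (mul_mem (Subgroup.mem_sup_left (fU v hv)) sE)))
  have fixs : C[U ⊔ zpowers s] ≤ stabilizer G b' := fun x hx =>
    h.te.fix_comm hs (twoE_of_sq is.2) is.1 (hx s sE).symm
  obtain ⟨R₁, q1, -, q3, -, q5⟩ := h.exists_ln (c := b') two0 (ab0.le_C.trans fixs)
  have l0 : Ln Q b' (Om R₁) := ⟨R₁, q1, rfl⟩
  have s0 : s ∈ Om R₁ := mem_Om' (q3 ⟨hs, sE⟩) is.2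
  have c0 : Om R₁ ≤ C[U ⊔ zpowers s] := cents_sup (cents_symm (le_C h lU le_sup_left q5))
    (cents_symm (zpowers_le.2 ((l0.ea h).abl.le_C s0)))
  have TN' : T ≤ N[C[U ⊔ zpowers s]] := TN.trans (N_le_NC _)
  obtain ⟨S₁, hS, leS⟩ := Sylow_superset (M := C[U ⊔ zpowers s] ⊔ T) p2 (two0.sup eT.two TN)
    (sup_le_sup_right ab0.le_C T)
  obtain ⟨k, hk, kS⟩ := Sylow_Jsub p2 (syl_inf hS ⟨le_sup_left, sup_le le_normalizer TN'⟩) (l0.ea h).two c0
  have l' : Ln Q b' (cj k (Om R₁)) := by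
    have := l0.cj h.te k
    rwa [show k • b' = b' from fixs hk] at this
  have s' : s ∈ cj k (Om R₁) := by
    have := conj_mem_cj k s0
    rwa [← hk s sE, mul_inv_cancel_right] at this
  generalize cj k (Om R₁) = T' at *
  have eT' := l'.ea h
  have SU : S₁ ≤ C[U] := hS.le.trans (sup_le (C_anti le_sup_left) TU)
  have i0 : Inv (z * (s * z * s⁻¹)) := ⟨f1 z hz z1, eU.sq (fU z hz)⟩
  obtain ⟨R, p1, p2', p3⟩ := h.te.exists_syl (c := e) hS.pi fun x hx =>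
    h.te.fix_comm hf (twoE_of_sq i0.2) i0.1 (SU hx _ (fU z hz)).symm
  have TS : T ≤ S₁ := le_sup_right.trans leS
  have UR : U = Om R := lU.eq_Om h p1 ((le_inf lU.le (le_sup_left.trans (le_sup_left.trans leS))).trans p3)
  have mv : ∀ v ∈ T, v ≠ 1 → v • b' ≠ b' := fun v hv v1 e => by
    have := h.te.conj hs v
    rw [e, vs v hv, mul_mem_cancel_right hs] at this
    exact ab'.1.1 (h.te.ti _ _ _ (lU.le (fU v hv)) this ⟨f1 v hv v1, eU.sq (fU v hv)⟩)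
  refine ⟨e, R, U, T, T', ⟨p1, UR, ab, ab', lT, l', TS.trans p2', (kS.trans inf_le_right).trans p2',
    fun v hv x hx => ?_, fun v hv x hx c => ?_⟩, tT, s'⟩
  · by_cases v1 : v = 1
    · rw [v1]; simp
    have kv : cj v T' ≤ C[U ⊔ zpowers s] ⊓ S₁ := cj_le_of_mem_N kS
      (inf_normalizer_le_normalizer_inf ⟨TN' hv, le_normalizer (TS hv)⟩)
    obtain ⟨R', o1, -, o3, -, o5⟩ := h.exists_ln (c := b') (hS.pi.of_le (inf_le_right (a := C[U ⊔ zpowers s])))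
      (inf_le_left.trans fixs)
    have cv : cj v T' ≤ C[T'] := by
      have := le_C h (l'.cj h.te v) kv o5
      rwa [← l'.eq_Om h o1 ((le_inf l'.le kS).trans o3)] at this
    have k2 := key h ab' l' (lT.le hv) ⟨v1, eT.sq hv⟩ (mv v hv v1) cv s' is.1 (by
      rw [vs v hv, ← mul_assoc, ← sU _ (fU v hv), mul_assoc, is.2, mul_one]
      exact lU.le (fU v hv)) x hx
    have xS : x ∈ S₁ := (kS hx).2
    have : x * (v * x * v⁻¹) ∈ U := UR ▸ mem_Om' (p3 ⟨k2, mul_mem xS (cmem (TS hv) xS)⟩)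
      (sq_mul (eT'.sq hx) (by rw [_root_.conj_mul, eT'.sq hx, mul_one, mul_inv_cancel]) (cv (conj_mem_cj v hx) x hx))
    convert inv_mem this using 1
    rw [mul_inv_rev, mul_inv_rev, mul_inv_rev, inv_inv, inv_sq (eT.sq hv), inv_sq (eT'.sq hx)]
    simp only [mul_assoc]
  · by_contra hc
    push Not at hc
    exact mv v hv hc.1 (h.te.fix_comm (l'.le hx) (twoE_of_sq (eT'.sq hx)) hc.2 c)

end ACo
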