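import Mathlib
import Cfsg.Agent.H22.AC0
import Cfsg.Agent.H22.ACk
import Cfsg.Agent.H22.AC1

set_option autoImplicit false
set_option linter.unusedSectionVars false
set_option linter.unusedVariables false

namespace ACo

open Cfsg H24 H26 H26.Gold H23.TC H3.B71 Subgroup MulAction
open scoped commutatorElement Pointwise

universe u

variable {G Ω : Type u} [Group G] [Finite G] [MulAction G Ω] [Finite Ω] {Q K : Ω → Subgroup G}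
  {a b b' c d e : Ω} {A B E F H M P R R' S S' S₀ S₁ S₂ T T' U U1 V W X Y : Subgroup G}
  {f g k r s t u v w x y z : G}

/-! ### ACn -/

namespace ACnx

theorem bij_of (F : G → G → G) (h1 : ∀ s ∈ A, ∀ u ∈ B, F s u ∈ R)
    (h2 : ∀ s ∈ A, ∀ u ∈ B, ∀ s' ∈ A, ∀ u' ∈ B, F s u = F s' u' → s = s' ∧ u = u') :
    ♯A * ♯B ≤ ♯R ∧ (♯R ≤ ♯A * ♯B → ∀ x ∈ R, ∃ s ∈ A, ∃ u ∈ B, F s u = x) := by
  let Φ : A × B → R := fun p => ⟨F p.1 p.2, h1 _ p.1.2 _ p.2.2⟩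
  have hi : Function.Injective Φ := fun p q e => by
    have := h2 _ p.1.2 _ p.2.2 _ q.1.2 _ q.2.2 (congrArg Subtype.val e)
    exact Prod.ext (Subtype.ext this.1) (Subtype.ext this.2)
  refine ⟨by simpa [Nat.card_prod] using Nat.card_le_card_of_injective Φ hi, fun hc x hx => ?_⟩
  obtain ⟨p, hp⟩ := (hi.bijective_of_nat_card_le (by simpa [Nat.card_prod] using hc)).2 ⟨x, hx⟩
  exact ⟨_, p.1.2, _, p.2.2, congrArg Subtype.val hp⟩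

theorem cnt (φ : G → G) (hU : U ≤ R) (h1 : ∀ y ∈ R, φ y ∈ V)
    (h2 : ∀ y ∈ R, ∀ y' ∈ R, φ y = φ y' → y⁻¹ * y' ∈ U) :
    ♯R ≤ ♯V * ♯U ∧ (♯V * ♯U ≤ ♯R → ∀ v ∈ V, ∃ y ∈ R, φ y = v) := by
  classical
  have hσ : ∀ v : G, ∃ z : G, (∃ y ∈ R, φ y = v) → z ∈ R ∧ φ z = v := fun v => by
    by_cases h : ∃ y ∈ R, φ y = v
    · obtain ⟨y, hy⟩ := h; exact ⟨y, fun _ => hy⟩
    · exact ⟨1, fun h' => absurd h' h⟩
  choose σ hσ using hσ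
  let Φ : R → V × U := fun y => (⟨φ y, h1 _ y.2⟩, ⟨(σ (φ y))⁻¹ * y,
    h2 _ (hσ _ ⟨y, y.2, rfl⟩).1 _ y.2 (hσ _ ⟨y, y.2, rfl⟩).2⟩)
  have hi : Function.Injective Φ := fun p q e => by
    have e1 : φ p = φ q := congrArg (fun z : V × U => (z.1 : G)) e
    have e2 : (σ (φ p))⁻¹ * p = (σ (φ q))⁻¹ * q := congrArg (fun z : V × U => (z.2 : G)) e
    rw [e1] at e2
    exact Subtype.ext (mul_left_cancel e2)
  refine ⟨by simpa [Nat.card_prod] using Nat.card_le_card_of_injective Φ hi, fun hc v hv => ?_⟩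
  obtain ⟨y, hy⟩ := (hi.bijective_of_nat_card_le (by simpa [Nat.card_prod] using hc)).2
    (⟨v, hv⟩, 1)
  exact ⟨y, y.2, congrArg (fun z : V × U => (z.1 : G)) hy⟩

theorem ln_ne (h : Ln Q c E) (hw : W2 Q) : ∃ t ∈ E, t ≠ 1 := by
  obtain ⟨R, hR, rfl⟩ := h
  obtain ⟨a, ha, -, -, -, -, h1, -⟩ := (hw.om (x := 1) hR).2.2.2.1
  exact ⟨a, ha, h1⟩

theorem mem_C_sup (h1 : x ∈ C[A]) (h2 : x ∈ C[B]) : x ∈ C[A ⊔ B] :=
  mem_C_iff_le_C1.2 (sup_le (mem_C_iff_le_C1.1 h1) (mem_C_iff_le_C1.1 h2))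

/-- the action of an involution of the line `T` on `R` -/
theorem act (h : AP Q a b U T) (hw : W2 Q) (hR : Syl 2 (Q a) R) (hU : U ≤ R) (hT : T ≤ N[R])
    (ht : t ∈ T) (h1 : t ≠ 1) : R ⊓ C{t} = U ∧ ∀ y ∈ R, t⁻¹ * (y * t * y⁻¹) ∈ U := by
  rw [h.la.eq_Om hw hR hU]
  exact hw.act h.alp.1.1 h.alp.2 (h.lb.le ht) ⟨h1, (h.lb.ea hw).sq ht⟩ hR (hT ht)

theorem card_le (h : AP Q a b U T) (hw : W2 Q) (hR : Syl 2 (Q a) R) (hU : U ≤ R) (hT : T ≤ N[R])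
    (ht : t ∈ T) (h1 : t ≠ 1) :
    ♯R ≤ ♯U * ♯U ∧ (♯U * ♯U ≤ ♯R → ∀ v ∈ U, ∃ y ∈ R, t⁻¹ * (y * t * y⁻¹) = v) := by
  obtain ⟨k1, k2⟩ := act h hw hR hU hT ht h1
  refine cnt _ hU k2 fun y hy y' hy' e => ?_
  rw [← k1]
  refine mem_inf.2 ⟨mul_mem (inv_mem hy) hy', mem_C1.2 ?_⟩
  have e' := mul_left_cancel e
  calc y⁻¹ * y' * t = y⁻¹ * (y' * t * y'⁻¹) * y' := by group
    _ = t * (y⁻¹ * y') := by rw [← e']; group

end ACnx

theorem LC.symm (h : LC Q e b b' R U T T') (hw : W2 Q) : LC Q e b' b R U T' T := by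
  refine ⟨h.syl, h.eU, h.ab', h.ab, h.lb', h.lb, h.nT', h.nT, fun s hs t ht => ?_,
    fun s hs t ht e => (h.nd t ht s hs e.symm).symm⟩
  have := inv_mem (h.comm _ (inv_mem ht) _ (inv_mem hs))
  convert this using 1; group

theorem LC.ap (h : LC Q e b b' R U T T') (hw : W2 Q) : AP Q e b U T := by
  refine ⟨h.ab, ⟨R, h.syl, h.eU⟩, h.lb, fun t ht => ?_⟩
  by_cases h1 : t = 1
  · rw [h1]; exact one_mem _
  · rw [h.eU]
    exact hw.cen0 h.ab.1.1 (h.lb.le ht) ⟨h1, (h.lb.ea hw).sq ht⟩ h.syl (h.nT ht)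

theorem LC.tv (h : LC Q e b b' R U T T') (hw : W2 Q) (hs : s ∈ T') (h1 : s ≠ 1) :
    Ph U T s ∧ Tv (U ⊔ T) U s := by
  have hc : s ∈ C[U] := ((h.symm hw).ap hw).cent hs
  have hp : Ph U T s := ⟨(h.ap hw).cent, fun t ht => h.comm t ht s hs, C_le_N _ hc,
    fun t ht e => (h.nd t ht s hs e.symm).resolve_right h1⟩
  exact ⟨hp, hp.tv hc⟩

namespace ACnx

theorem UR (h : LC Q e b b' R U T T') : U ≤ R := h.eU ▸ Om_le R

theorem UC (h : LC Q e b b' R U T T') (hw : W2 Q) : U ≤ C[U ⊔ T] :=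
  le_sup_left.trans ((h.ap hw).ea hw).le_C

theorem TC (h : LC Q e b b' R U T T') (hw : W2 Q) : T ≤ C[U ⊔ T] :=
  le_sup_right.trans ((h.ap hw).ea hw).le_C

theorem RN (h : LC Q e b b' R U T T') (hw : W2 Q) : R ≤ N[U ⊔ T] :=
  ((h.ap hw).act hw h.syl (UR h) h.nT).1

theorem RC (h : LC Q e b b' R U T T') (hw : W2 Q) : R ≤ C[U] :=
  cents_symm (h.eU ▸ (hw.om (x := 1) h.syl).2.2.1)

theorem faith (h : LC Q e b b' R U T T') (hw : W2 Q) (hs : s ∈ T') (hc : s ∈ C[U ⊔ T]) :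
    s = 1 := by
  obtain ⟨t, ht, t1⟩ := ln_ne h.lb hw
  exact (h.nd t ht s hs (mem_C.1 hc t (mem_sup_right ht))).resolve_left t1

theorem main (h : LC Q e b b' R U T T') (hw : W2 Q) :
    ♯R = ♯U * ♯U ∧ ∀ x ∈ R, ∃ s ∈ T', x⁻¹ * s ∈ C[U ⊔ T] := by
  have hξ : ∀ s : G, ∃ x : G, s ∈ T' → x ∈ R ∧ x⁻¹ * s ∈ C[U ⊔ T] := fun s => by
    by_cases hs : s ∈ T'
    · by_cases h1 : s = 1
      · exact ⟨1, fun _ => ⟨one_mem _, by rw [h1]; simp⟩⟩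
      · obtain ⟨x, hx⟩ := (h.ap hw).elat hw h.syl (UR h) h.nT (h.tv hw hs h1).2
        exact ⟨x, fun _ => hx⟩
    · exact ⟨1, fun h' => absurd h' hs⟩
  choose ξ hξ using hξ
  obtain ⟨k1, k2⟩ := bij_of (A := T') (B := U) (R := R) (fun s u => ξ s * u)
    (fun s hs u hu => mul_mem (hξ s hs).1 (UR h hu)) fun s hs u hu s' hs' u' hu' e => by
      have e0 : ξ s * u = ξ s' * u' := e
      have e1 : s'⁻¹ * s = ((ξ s')⁻¹ * s')⁻¹ * (u' * u⁻¹) * ((ξ s)⁻¹ * s) := by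
        have : ξ s = ξ s' * u' * u⁻¹ := by rw [← e0]; group
        rw [this]; group
      have e2 : s'⁻¹ * s = 1 := faith h hw (mul_mem (inv_mem hs') hs) (by
        rw [e1]
        exact mul_mem (mul_mem (inv_mem (hξ s' hs').2) (UC h hw (mul_mem hu' (inv_mem hu))))
          (hξ s hs).2)
      have e3 : s = s' := (inv_mul_eq_one.1 e2).symm
      subst e3
      exact ⟨rfl, mul_left_cancel e0⟩
  obtain ⟨t, ht, t1⟩ := ln_ne h.lb hw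
  have k3 := (card_le (h.ap hw) hw h.syl (UR h) h.nT ht t1).1
  have k4 : ♯T' = ♯U := h.lb'.card hw.te (h.ap hw).la
  rw [k4] at k1 k2
  refine ⟨le_antisymm k3 k1, fun x hx => ?_⟩
  obtain ⟨s, hs, u, hu, rfl⟩ := k2 k3 x hx
  refine ⟨s, hs, ?_⟩
  have : (ξ s * u)⁻¹ * s = u⁻¹ * ((ξ s)⁻¹ * s) := by group
  rw [this]
  exact mul_mem (inv_mem (UC h hw hu)) (hξ s hs).2

end ACnx

theorem LC.mq (h : LC Q e b b' R U T T') (hw : W2 Q) : MQ Q := by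
  intro c R₁ h1
  obtain ⟨g, -, rfl⟩ := hw.te.syl_conj h.syl h1
  rw [Om_cj, card_cj, card_cj, ← h.eU]
  exact (ACnx.main h hw).1

theorem LC.onto (h : LC Q e b b' R U T T') (hw : W2 Q) (hx : x ∈ R) :
    ∃ s ∈ T', x⁻¹ * s ∈ C[U ⊔ T] := (ACnx.main h hw).2 x hx

namespace ACnx

/-- corresponding elements -/
structure Tr (R U T T' : Subgroup G) (x s t : G) : Prop where
  mx : x ∈ R
  ms : s ∈ T'
  mt : t ∈ T
  cs : x⁻¹ * s ∈ C[U ⊔ T]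
  ct : x⁻¹ * t ∈ C[U ⊔ T']

theorem Tr.mul (h : LC Q e b b' R U T T') (hw : W2 Q) {x' s' t' : G} (p : Tr R U T T' x s t)
    (q : Tr R U T T' x' s' t') : Tr R U T T' (x * x') (s * s') (t * t') := by
  have key : ∀ (P : Subgroup G) (s s' : G), x' ∈ N[P] → x⁻¹ * s ∈ C[P] → x'⁻¹ * s' ∈ C[P] →
      (x * x')⁻¹ * (s * s') ∈ C[P] := fun P s s' k1 k2 k3 => by
    have := mul_mem (cN' (N_le_NC P k1) k2) k3
    convert this using 1; group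
  exact ⟨mul_mem p.mx q.mx, mul_mem p.ms q.ms, mul_mem p.mt q.mt,
    key _ _ _ (RN h hw q.mx) p.cs q.cs, key _ _ _ (RN (h.symm hw) hw q.mx) p.ct q.ct⟩

theorem Tr.cT (h : LC Q e b b' R U T T') (hw : W2 Q) (p : Tr R U T T' x s t) :
    x⁻¹ * s * t ∈ C[U ⊔ T] := mul_mem p.cs (TC h hw p.mt)

theorem Tr.cT' (h : LC Q e b b' R U T T') (hw : W2 Q) (p : Tr R U T T' x s t) :
    x⁻¹ * s * t ∈ C[U ⊔ T'] := by
  have h' := h.symm hw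
  have k : s⁻¹ * (x⁻¹ * s * x⁻¹⁻¹) ∈ U := by
    by_cases h1 : s = 1
    · rw [h1]; simp
    · exact (act (h'.ap hw) hw h.syl (UR h) h.nT' p.ms h1).2 _ (inv_mem p.mx)
  have := mul_mem (mul_mem (TC h' hw p.ms) (UC h' hw k)) p.ct
  convert this using 1; group

theorem Tr.sqU (h : LC Q e b b' R U T T') (hw : W2 Q) (p : Tr R U T T' x s t) :
    x⁻¹ * s * t * (x⁻¹ * s * t) ∈ U := by
  have c1 := mem_C.1 (p.cT h hw) t (mem_sup_right p.mt)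
  have c2 := mem_C.1 (p.cT' h hw) s (mem_sup_right p.ms)
  have k1 : x * x ∈ U := h.eU ▸ hw.sq h.ab h.syl p.mx
  have k2 := h.comm t p.mt s p.ms
  rw [(h.lb.ea hw).inv p.mt, (h.lb'.ea hw).inv p.ms] at k2
  have i1 := (h.lb.ea hw).inv p.mt
  have i2 := (h.lb'.ea hw).inv p.ms
  generalize hζ : x⁻¹ * s * t = ζ at c1 c2
  have ex : x⁻¹ = ζ * t * s := by rw [← hζ, mul_assoc _ t t, (h.lb.ea hw).sq p.mt, mul_one,
    mul_assoc _ s s, (h.lb'.ea hw).sq p.ms, mul_one]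
  have e : ζ * ζ = (x * x)⁻¹ * (t * (s * t * s))⁻¹ := by
    rw [mul_inv_rev x, ex, eq_mul_inv_iff_mul_eq]
    calc ζ * ζ * (t * (s * t * s)) = ζ * (ζ * t) * s * t * s := by group
      _ = ζ * (t * ζ) * s * t * s := by rw [c1]
      _ = ζ * t * (ζ * s) * t * s := by group
      _ = _ := by rw [← c2]; group
  rw [e]
  exact mul_mem (inv_mem k1) (inv_mem k2)

theorem Tr.sq (h : LC Q e b b' R U T T') (hw : W2 Q) (p : Tr R U T T' x s t) :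
    x⁻¹ * s * t * (x⁻¹ * s * t) = 1 := by
  have hc := p.cT h hw
  have hU := p.sqU h hw
  generalize x⁻¹ * s * t = ζ at hc hU
  have ha := h.ap hw
  have hb := ha.symm hw
  have ea := ha.ea hw
  by_contra hne
  have z2 : TwoE ζ := twoE_of_sq2 (twoE_of_sq (ea.sq (mem_sup_left hU)))
  obtain ⟨t₀, ht₀, t1⟩ := ln_ne h.lb hw
  have hBC : (U ⊔ T) ⊔ zpowers ζ ≤ C[U ⊔ T] := sup_le ea.le_C (zpowers_le.2 hc)
  obtain ⟨R₁, h1, h2, h3⟩ := hw.te.exists_syl (B := (U ⊔ T) ⊔ zpowers ζ) (c := b)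
    (ea.two.sup z2.isPi (zpowers_le.2 (C_le_N _ hc))) fun g hg =>
      hw.te.fix_comm (h.lb.le ht₀) (twoE_of_sq (ea.sq (mem_sup_right ht₀))) t1
        (mem_C.1 (hBC hg) t₀ (mem_sup_right ht₀)).symm
  have hT : T ≤ R₁ := (le_inf h.lb.le (le_sup_right.trans le_sup_left)).trans h3
  have hUN : U ≤ N[R₁] := (le_sup_left.trans le_sup_left).trans h2
  have hζ : ζ ∈ N[R₁] := h2 (mem_sup_right (mem_zpowers ζ))
  have hn : R₁ ≤ N[U ⊔ T] := sup_comm T U ▸ (hb.act hw h1 hT hUN).1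
  have k1 := (act hb hw h1 hT hUN hU hne).1
  have k2 : R₁ ≤ T := by
    intro y hy
    have c1 : ζ * y * ζ⁻¹ * y⁻¹ ∈ C[U ⊔ T] := by
      have := mul_mem hc (cN (N_le_NC _ (hn hy)) (inv_mem hc))
      convert this using 1; group
    have c2 : ζ * y * ζ⁻¹ * y⁻¹ ∈ T := by
      rw [← k1]
      exact mem_inf.2 ⟨mul_mem (cN hζ hy) (inv_mem hy), mem_C1.2 (mem_C.1 c1 _ (mem_sup_left hU)).symm⟩
    have c3 := mem_C.1 hc _ (mem_sup_right c2)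
    have c4 := ea.sq (mem_sup_right c2)
    generalize hτ : ζ * y * ζ⁻¹ * y⁻¹ = τ at c3 c4
    have c5 : ζ * y = τ * y * ζ := by rw [← hτ]; group
    rw [← k1]
    refine ⟨hy, mem_C1.2 ?_⟩
    calc y * (ζ * ζ) = τ * τ * y * ζ * ζ := by rw [c4]; group
      _ = τ * (ζ * y) * ζ := by rw [c5]; group
      _ = ζ * (τ * y * ζ) := by rw [← mul_assoc τ, c3]; group
      _ = ζ * ζ * y := by rw [← c5]; group
  exact (hw.om (x := 1) h1).2.2.2.2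
    (le_antisymm (Om_le _) (k2.trans (h.lb.eq_Om hw h1 hT).le))

theorem exists_tr (h : LC Q e b b' R U T T') (hw : W2 Q) (hx : x ∈ R) :
    ∃ s t, Tr R U T T' x s t := by
  obtain ⟨s, hs, k1⟩ := h.onto hw hx
  obtain ⟨t, ht, k2⟩ := (h.symm hw).onto hw hx
  exact ⟨s, t, hx, hs, ht, k1, k2⟩

theorem Tr.cR (h : LC Q e b b' R U T T') (hw : W2 Q) (p : Tr R U T T' x s t) :
    x⁻¹ * s * t ∈ C[R] := by
  refine mem_C.2 fun x' hx' => ?_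
  obtain ⟨s', t', q⟩ := exists_tr h hw hx'
  have k0 := (p.mul h hw q).sq h hw
  have kγ := h.comm t p.mt s' q.ms
  have ea := (h.ap hw).ea hw
  have a1 := mem_C.1 (p.cT h hw) _ (mem_sup_left kγ)
  have a2 := mem_C.1 (q.cT h hw) _ (mem_sup_left kγ)
  have a3 := ea.sq (mem_sup_left kγ)
  have a4 := mem_C.1 (p.cT h hw) _ (mem_sup_right q.mt)
  have a5 := mem_C.1 (p.cT' h hw) _ (mem_sup_right q.ms)
  have a6 := ea.comm (mem_sup_left kγ) (mem_sup_right q.mt)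
  have a7 := (((h.symm hw).ap hw).ea hw).comm (mem_sup_left kγ) (mem_sup_right q.ms)
  have b1 := p.sq h hw
  have b2 := q.sq h hw
  have e0 : (x * x')⁻¹ * (s * s') * (t * t') =
      x'⁻¹ * ((x⁻¹ * s * t) * (t⁻¹ * (s' * t * s'⁻¹)) * s' * t') := by group
  have e1 : x' = s' * t' * (x'⁻¹ * s' * t')⁻¹ := by group
  have e2 : x'⁻¹ = (x'⁻¹ * s' * t') * t'⁻¹ * s'⁻¹ := by group
  rw [e0, e2] at k0
  rw [e1]
  generalize x⁻¹ * s * t = ζ at *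
  generalize t⁻¹ * (s' * t * s'⁻¹) = γ at *
  generalize x'⁻¹ * s' * t' = ζ' at *
  have e3 : ζ' * t'⁻¹ * s'⁻¹ * (ζ * γ * s' * t') = ζ' * ζ * γ := by
    calc ζ' * t'⁻¹ * s'⁻¹ * (ζ * γ * s' * t') = ζ' * t'⁻¹ * s'⁻¹ * (ζ * (γ * s') * t') := by group
      _ = ζ' * t'⁻¹ * s'⁻¹ * ((ζ * s') * (γ * t')) := by rw [a7]; group
      _ = ζ' * t'⁻¹ * ((ζ * t') * γ) := by rw [← a5, a6]; group
      _ = _ := by rw [← a4]; group
  rw [e3] at k0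
  have e4 : ζ' * ζ * (ζ' * ζ) = 1 := by
    calc ζ' * ζ * (ζ' * ζ) = ζ' * ζ * (ζ' * ζ) * (γ * γ) := by rw [a3, mul_one]
      _ = ζ' * ζ * ζ' * (ζ * γ) * γ := by group
      _ = ζ' * ζ * (ζ' * γ) * ζ * γ := by rw [← a1]; group
      _ = _ := by rw [← a2, ← k0]; group
  have e5 : ζ' * ζ = ζ * ζ' := by
    rw [← inv_sq e4, mul_inv_rev, inv_sq b1, inv_sq b2]
  rw [inv_sq b2]
  calc s' * t' * ζ' * ζ = s' * (t' * ζ) * ζ' := by rw [mul_assoc _ ζ', e5]; group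
    _ = (s' * ζ) * t' * ζ' := by rw [a4]; group
    _ = _ := by rw [a5]; group

end ACnx

theorem LC.zeta (h : LC Q e b b' R U T T') (hw : W2 Q) (hs : s ∈ T') (h1 : s ≠ 1) :
    ∃ x ∈ R, x ∉ U ∧ ∃ t ∈ T, t ≠ 1 ∧ x⁻¹ * s ∈ C[U ⊔ T] ∧ x⁻¹ * t ∈ C[U ⊔ T'] ∧
      x⁻¹ * s * t ∈ C[R] ∧ x⁻¹ * s * t * (x⁻¹ * s * t) = 1 := by
  obtain ⟨x, hx, k1⟩ := (h.ap hw).elat hw h.syl (ACnx.UR h) h.nT (h.tv hw hs h1).2
  obtain ⟨t, ht, k2⟩ := (h.symm hw).onto hw hx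
  have p : ACnx.Tr R U T T' x s t := ⟨hx, hs, ht, k1, k2⟩
  have hU : x ∉ U := fun hu => h1 (ACnx.faith h hw hs (by
    simpa using mul_mem (ACnx.UC h hw hu) k1))
  refine ⟨x, hx, hU, t, ht, fun e => hU ?_, k1, k2, p.cR h hw, p.sq h hw⟩
  rw [e, mul_one, inv_mem_iff] at k2
  rw [← (ACnx.act ((h.symm hw).ap hw) hw h.syl (ACnx.UR h) h.nT' hs h1).1]
  exact ⟨hx, mem_C1.2 (mem_C.1 k2 s (mem_sup_right hs)).symm⟩

theorem AP.surj (h : AP Q a b U T) (hw : W2 Q) (hm : MQ Q) (hR : Syl 2 (Q a) R) (hU : U ≤ R)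
    (hT : T ≤ N[R]) (ht : t ∈ T) (h1 : t ≠ 1) (hu : u ∈ U) : ∃ y ∈ R, y * t * y⁻¹ = t * u := by
  obtain ⟨y, hy, e⟩ := (ACnx.card_le h hw hR hU hT ht h1).2
    (by rw [hm a R hR, ← h.la.eq_Om hw hR hU]) u hu
  exact ⟨y, hy, by rw [← e]; group⟩

theorem AP.all (h : AP Q a b U T) (hw : W2 Q) (hm : MQ Q) (hp : x ∈ U ⊔ T) (h1 : x ≠ 1) :
    ∃ c ∈ Ob (U ⊔ T) a, x ∈ Q c := by
  have ea := h.ea hw
  obtain ⟨u, hu, t, ht, rfl⟩ := (mem_sup_of_norm (norm_of_cent h.cent)).1 hp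
  by_cases t1 : t = 1
  · exact ⟨a, ⟨1, one_mem _, one_smul _ _⟩, by rw [t1, mul_one]; exact h.la.le hu⟩
  obtain ⟨u₀, hu₀, u1⟩ := ACnx.ln_ne h.la hw
  obtain ⟨R, hR, h2, h3⟩ := hw.te.exists_syl (B := U ⊔ T) (c := a) ea.two fun g hg =>
    hw.te.fix_comm (h.la.le hu₀) (twoE_of_sq (ea.sq (mem_sup_left hu₀))) u1
      (ea.comm hg (mem_sup_left hu₀))
  have hU : U ≤ R := (le_inf h.la.le le_sup_left).trans h3
  have hT : T ≤ N[R] := le_sup_right.trans h2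
  obtain ⟨y, hy, e⟩ := h.surj hw hm hR hU hT ht t1 hu
  obtain ⟨g, hg, e'⟩ := h.ob hw
  refine ⟨y • b, ⟨y * g, mul_mem ((h.act hw hR hU hT).1 hy) hg, by rw [mul_smul, e']⟩, ?_⟩
  rw [ea.comm (mem_sup_left hu) (mem_sup_right ht), ← e]
  exact hw.te.conj (h.lb.le ht) y

end ACo
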