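import Mathlib
import Cfsg.Agent.H22.AC0
import Cfsg.Agent.H22.ACk

set_option autoImplicit false
set_option linter.unusedSectionVars false
set_option linter.unusedVariables false

namespace ACo

open Cfsg H24 H26 H26.Gold H23.TC H3.B71 Subgroup MulAction
open scoped commutatorElement Pointwise

universe u

variable {G Ω : Type u} [Group G] [Finite G] [MulAction G Ω] [Finite Ω] {Q K : Ω → Subgroup G}
  {a b b' c d e : Ω} {A B E F H M P R R' S S' S₀ S₁ S₂ T T' U U1 V W X Y : Subgroup G}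
  {f g k r s t u v w x y z : G}

/-! ### ACo -/
theorem No8.comm (h : No8 Q) (te : TE Q) (ht : t ∈ Q b) (hs : s ∈ Q b') (it : Inv t) (is : Inv s)
    (h2 : TwoE (t * s)) : t * s = s * t := by
  obtain ⟨n, hn⟩ := h2.exists_pow p2
  have h3 : (t * s) ^ 2 ^ n = 1 := hn ▸ pow_orderOf_eq_one _
  clear hn h2
  induction n generalizing s b' with
  | zero => exact h _ _ _ _ ht hs it is (by rw [pow_zero, pow_one] at h3; rw [h3, one_pow])
  | succ n ih =>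
    have e : t * (s * t * s⁻¹) = (t * s) ^ 2 := by rw [inv_sq is.2, sq]; group
    have i' : Inv (s * t * s⁻¹) := ⟨conj_ne it.1 s, conj_sq it.2 s⟩
    have k := ih (te.conj ht s) i' (by rw [e, ← pow_mul, mul_comm, ← pow_succ, h3])
    refine h _ _ _ _ ht hs it is ?_
    have := sq_mul it.2 i'.2 k
    rwa [e, ← pow_add] at this

namespace ACox

/-- the point involutions of `Y` at the points of the orbit of `b` -/
def DY (Q : Ω → Subgroup G) (Y : Subgroup G) (b : Ω) (x : G) : Prop :=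
  x ∈ Y ∧ Inv x ∧ ∃ y ∈ Y, x ∈ Q (y • b)

/-- the subgroup generated by those in `S` -/
def AS (Q : Ω → Subgroup G) (Y : Subgroup G) (b : Ω) (S : Subgroup G) : Subgroup G :=
  closure {x | DY Q Y b x ∧ x ∈ S}

theorem DY.conj (h : DY Q Y b x) (te : TE Q) (hg : g ∈ Y) : DY Q Y b (g * x * g⁻¹) := by
  obtain ⟨h1, h2, y, hy, h3⟩ := h
  exact ⟨cmem hg h1, ⟨conj_ne h2.1 g, conj_sq h2.2 g⟩, g * y, mul_mem hg hy,
    by rw [mul_smul]; exact te.conj h3 g⟩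

theorem mem_AS (h : DY Q Y b x) (hx : x ∈ S) : x ∈ AS Q Y b S := subset_closure ⟨h, hx⟩
theorem AS_le_iff : AS Q Y b S ≤ H ↔ ∀ x, DY Q Y b x → x ∈ S → x ∈ H :=
  (closure_le _).trans ⟨fun h x h1 h2 => h ⟨h1, h2⟩, fun h x h1 => h x h1.1 h1.2⟩
theorem AS_le : AS Q Y b S ≤ S := AS_le_iff.2 fun _ _ h => h
theorem AS_Y : AS Q Y b S ≤ Y := AS_le_iff.2 fun _ h _ => h.1

theorem cj_AS (te : TE Q) (hg : g ∈ Y) : cj g (AS Q Y b S) = AS Q Y b (cj g S) :=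
  H6.ZD.cj_closure g fun x => ⟨fun h => ⟨by simpa [mul_assoc] using h.1.conj te (inv_mem hg),
    conj_mem_cj_iff.1 h.2⟩, fun h => ⟨h.1.conj te hg, conj_mem_cj g h.2⟩⟩

theorem cent (h8 : No8 Q) (te : TE Q) (hS : TwoG S) (hx : x ∈ Q e) (i : Inv x) (xS : x ∈ S) :
    x ∈ C[AS Q Y b S] :=
  mem_C_iff_le_C1.2 (AS_le_iff.2 fun d hd dS => by
    obtain ⟨-, i', y, -, h⟩ := hd
    exact mem_C1.2 (h8.comm te h hx i' i (hS.piElt (mul_mem dS xS))))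

theorem ea (h8 : No8 Q) (te : TE Q) (hS : TwoG S) : EA (AS Q Y b S) := by
  have ab : Abl (AS Q Y b S) := abl_iff.2 (AS_le_iff.2 fun d hd dS => by
    obtain ⟨-, i', y, -, h⟩ := hd
    exact cent h8 te hS h i' dS)
  have : AS Q Y b S ≤ Om (AS Q Y b S) := AS_le_iff.2 fun d hd dS => mem_Om' (mem_AS hd dS) hd.2.1.2
  exact ea_of_sq fun a ha => ((mem_Om ab).1 (this ha)).2

theorem AS_eq (te : TE Q) (h1 : Syl 2 Y S₁) (h2 : Syl 2 Y S₂) (h : AS Q Y b S₁ ≤ S₂) :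
    AS Q Y b S₁ = AS Q Y b S₂ := by
  refine eq_of_card_ge (AS_le_iff.2 fun d hd dS => mem_AS hd (h (mem_AS hd dS))) ?_
  obtain ⟨g, hg, rfl⟩ := Sylow_trans p2 h1 h2
  rw [← cj_AS te hg, card_cj]

theorem move (te : TE Q) (h0 : Syl 2 Y S₀) (hM : M ≤ Y) (hA : AS Q Y b S₀ ≤ M) (hP : TwoG P)
    (PM : P ≤ M) : ∃ S', Syl 2 Y S' ∧ P ≤ S' ∧ ∃ g ∈ M, AS Q Y b S' = cj g (AS Q Y b S₀) := by
  obtain ⟨P1, s1, l1⟩ := Sylow_superset p2 hP PM
  obtain ⟨g, hg, l2⟩ := Sylow_Jsub p2 s1 (h0.pi.of_le AS_le) hA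
  obtain ⟨S', s', l3⟩ := Sylow_superset p2 s1.pi (s1.le.trans hM)
  refine ⟨S', s', l1.trans l3, g, hg, ?_⟩
  rw [cj_AS te (hM hg)] at l2 ⊢
  exact (AS_eq te (h0.cj_mem (hM hg)) s' (l2.trans l3)).symm

theorem fe (te : TE Q) (h0 : Syl 2 Y S₀) (hE : E ≤ S₀) (hc : E ≤ C[AS Q Y b S₀]) (hP : TwoG P)
    (PY : P ≤ Y) (hn : P ≤ N[E]) :
    ∃ S', Syl 2 Y S' ∧ P ≤ S' ∧ E ≤ S' ∧ E ≤ C[AS Q Y b S'] := by
  obtain ⟨S', s', l, g, hg, e⟩ := move (M := Y ⊓ N[E]) te h0 inf_le_left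
    (le_inf AS_Y (norm_of_cent (cents_symm hc))) ((h0.pi.of_le hE).sup hP hn)
    (sup_le (le_inf (hE.trans h0.le) (norm_self E)) (le_inf PY hn))
  refine ⟨S', s', le_sup_right.trans l, le_sup_left.trans l, ?_⟩
  have := cent_cj hc g
  rwa [cj_of_mem_N hg.2, ← e] at this

theorem pr (te : TE Q) (h0 : Syl 2 Y S₀) (hE : E ≤ S₀) (hc : E ≤ C[AS Q Y b S₀])
    (hz : DY Q Y b z) (hn : z ∈ N[E]) : z ∈ C[E] := by
  obtain ⟨S', -, l, -, k⟩ := fe te h0 hE hc (twoE_of_sq hz.2.1.2).isPi (zpowers_le.2 hz.1)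
    (zpowers_le.2 hn)
  exact cents_symm k (mem_AS hz (l (mem_zpowers z)))

theorem mem_of_C (te : TE Q) (hS : Syl 2 Y S) (hz : DY Q Y b z) (hc : z ∈ C[AS Q Y b S]) :
    z ∈ AS Q Y b S := by
  obtain ⟨S', s', l⟩ := Sylow_superset p2 (M := Y) ((hS.pi.of_le AS_le).sup
    (twoE_of_sq hz.2.1.2).isPi (zpowers_le.2 (C_le_N _ hc))) (sup_le AS_Y (zpowers_le.2 hz.1))
  rw [AS_eq te hS s' (le_sup_left.trans l)]
  exact mem_AS hz (l (mem_sup_right (mem_zpowers z)))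

theorem key (h8 : No8 Q) (te : TE Q) (h1 : Syl 2 Y S₁) (h2 : Syl 2 Y S₂) (hv : v ∈ AS Q Y b S₁)
    (vS : v ∈ S₂) (hz : DY Q Y b z) (zS : z ∈ S₂) (hu : u ∈ C[Y]) (uu : u * u = 1)
    (hm : u * (z * (v * z * v⁻¹)) ∈ Q e) : v * z = z * v := by
  have vv : v * v = 1 := (ea h8 te h1.pi).sq hv
  have hw := hz.conj te (h2.le vS)
  have zw : z * (v * z * v⁻¹) = v * z * v⁻¹ * z :=
    (ea h8 te h2.pi).comm (mem_AS hz zS) (mem_AS hw (cmem vS zS))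
  obtain ⟨f, hf⟩ : ∃ f, f = z * (v * z * v⁻¹) := ⟨_, rfl⟩
  have ff : f * f = 1 := hf ▸ sq_mul hz.2.1.2 hw.2.1.2 zw
  have fY : f ∈ Y := hf ▸ mul_mem hz.1 hw.1
  have fv : f * v = v * f := by
    rw [hf]
    nth_rewrite 2 [zw]
    rw [show v * (v * z * v⁻¹ * z) = v * v * z * v⁻¹ * z by group, vv, inv_sq vv]
    rw [show z * (v * z * v) * v = z * v * z * (v * v) by group, vv]
    group
  rw [← hf] at hm
  obtain ⟨S', s', l1, l2, k⟩ := fe (E := zpowers v) te h1 (zpowers_le.2 (AS_le hv))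
    (zpowers_le.2 ((ea h8 te h1.pi).le_C hv)) (twoE_of_sq ff).isPi (zpowers_le.2 fY)
    (zpowers_le.2 (C_le_N _ (by rw [C_zpowers]; exact mem_C1.2 fv)))
  have fS := l1 (mem_zpowers f)
  have fC : f ∈ C[AS Q Y b S'] := by
    by_cases e1 : u * f = 1
    · rw [eq_inv_of_mul_eq_one_right e1]
      exact C_anti AS_Y (inv_mem hu)
    refine mem_C_iff_le_C1.2 (AS_le_iff.2 fun d hd dS => mem_C1.2 ?_)
    obtain ⟨dY, i', y, -, h⟩ := hd
    have uf := mem_C'.1 hu f fY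
    have ud := mem_C'.1 hu d dY
    have := h8.comm te hm h ⟨e1, sq_mul uu ff uf⟩ i' (by
      rw [mul_assoc]
      exact (twoE_of_sq uu).mul (s'.pi.piElt (mul_mem fS dS)) (mem_C'.1 hu _ (mul_mem fY dY)))
    rw [← mul_assoc, ← ud, mul_assoc, mul_assoc] at this
    exact (mul_left_cancel this).symm
  have := pr (E := zpowers v ⊔ zpowers f) te s' (sup_le l2 l1) (sup_le k (zpowers_le.2 fC)) hz
    (mem_N_of_cj_le (by
      rw [cj_sup, cj_zpowers, cj_zpowers]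
      refine sup_le (zpowers_le.2 ?_) (zpowers_le.2 ?_)
      · rw [show z * v * z⁻¹ = f * v by rw [hf, inv_sq hz.2.1.2]; group]
        exact mul_mem (mem_sup_right (mem_zpowers f)) (mem_sup_left (mem_zpowers v))
      · rw [show z * f * z⁻¹ = f by rw [hf]; nth_rewrite 1 [zw]; group]
        exact mem_sup_right (mem_zpowers f)))
  exact mem_C.1 this v (mem_sup_left (mem_zpowers v))

theorem ln_ne (h : Ln Q c E) (hw : W2 Q) : E ≠ ⊥ := by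
  obtain ⟨R, hR, rfl⟩ := h
  obtain ⟨x, hx, -, -, -, -, h1, -⟩ := (hw.om (x := 1) hR).2.2.2.1
  exact ne_bot_of_mem hx h1

/-- the data -/
structure Cx (Q : Ω → Subgroup G) (a b : Ω) (U T Y : Subgroup G) : Prop where
  w : W2 Q
  h8 : No8 Q
  ap : AP Q a b U T
  TY : T ≤ Y
  Ya : Y ≤ stabilizer G a
  UY : U ≤ C[Y]

theorem Cx.line (h : Cx Q a b U T Y) (hS : Syl 2 Y S) (hy : y ∈ Y) (hz : z ∈ Q (y • b)) (i : Inv z)
    (zS : z ∈ S) : Ln Q (y • b) (Q (y • b) ⊓ S) := by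
  have te := h.w.te
  have s0 : Syl 2 (Q b ⊓ Y) T :=
    (h.ap.lb.syl h.w (h.ap.alp.symm te) (h.TY.trans h.Ya)).of_le (le_inf h.ap.lb.le h.TY)
      (inf_le_inf_left _ h.Ya)
  have s1 := s0.cj y
  rw [cj_inf, ← te.eqv, cj_of_mem hy] at s1
  obtain ⟨T1, s2, n2, -⟩ := exists_syl_inv (M := Q (y • b) ⊓ Y) (B := AS Q Y b S) (hS.pi.of_le AS_le)
    (norm_inf (fun g hg => te.stab_le (te.fix_comm hz (twoE_of_sq i.2) i.1
      (mem_C.1 (cent h.h8 te hS.pi hz i zS) g hg))) (norm_of_le AS_Y))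
  obtain ⟨k, hk, e⟩ := Sylow_trans p2 s1 s2
  have l1 := (h.ap.lb.cj te y).cj te k
  rw [← e, te.fix hk.1] at l1
  have c1 : AS Q Y b S ≤ C[T1] := AS_le_iff.2 fun d hd dS => by
    obtain ⟨y', -, h'⟩ := hd.2.2
    exact l1.cen h.w h' hd.2.1 (n2 (mem_AS hd dS))
  have l2 : T1 ≤ S := fun x hx => by
    by_cases x1 : x = 1
    · exact x1 ▸ one_mem _
    exact AS_le (mem_of_C te hS ⟨(s2.le hx).2, ⟨x1, (l1.ea h.w).sq hx⟩, y, hy, (s2.le hx).1⟩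
      (cents_symm c1 hx))
  rwa [s2.eq_of_le (hS.pi.inf_right _) (le_inf l1.le l2) (inf_le_inf_left _ hS.le)]

theorem Cx.alpha (h : Cx Q a b U T Y) (h1 : Syl 2 Y S₁) (h2 : Syl 2 Y S₂) (hv : v ∈ AS Q Y b S₁)
    (vS : v ∈ S₂) (hy : y ∈ Y) (l : Ln Q (y • b) (Q (y • b) ⊓ S₂))
    (al : Alp Q (y • b) (v • y • b)) : False := by
  have te := h.w.te
  have vv : v * v = 1 := (ea h.h8 te h1.pi).sq hv
  obtain ⟨E, hE⟩ : ∃ E, E = Q (y • b) ⊓ S₂ := ⟨_, rfl⟩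
  rw [← hE] at l
  have dy : ∀ x ∈ E, x ≠ 1 → DY Q Y b x := fun x hx x1 =>
    ⟨h2.le (hE ▸ hx).2, ⟨x1, (l.ea h.w).sq hx⟩, y, hy, l.le hx⟩
  have ES : E ≤ S₂ := hE ▸ inf_le_right
  have l1 : E ≤ AS Q Y b S₂ := fun x hx => by
    by_cases x1 : x = 1
    · exact x1 ▸ one_mem _
    exact mem_AS (dy x hx x1) (ES hx)
  have l2 : cj v E ≤ AS Q Y b S₂ := by
    have := cj_mono v l1
    rwa [cj_AS te (h2.le vS), cj_of_mem vS] at this
  have ce : cj v E ≤ C[E] := (ea h.h8 te h2.pi).abl.cents l2 l1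
  have ap : AP Q (y • b) (v • y • b) E (cj v E) := ⟨al, l, l.cj te v, ce⟩
  have vn : v ∈ N[E ⊔ cj v E] := mem_N_of_cj_le (by
    rw [cj_sup, ← cj_mul, vv, cj_one, sup_comm])
  obtain ⟨d, hd, fd⟩ := ap.fixp h.w vn (twoE_of_sq vv)
  have ld := ap.ln h.w hd
  obtain ⟨f, ⟨f1, f2⟩, c1, n1, -⟩ := two_cent1 (twoE_of_sq vv) (ld.ea h.w).two
    (norm_inf (zpowers_le.2 (te.stab_le fd)) (zpowers_le.2 vn) (mem_zpowers v)) (ln_ne ld h.w)
  obtain ⟨z, hz, _, hw0, rfl⟩ := (mem_sup_of_norm (norm_of_cent ce)).1 f2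
  obtain ⟨w, hw, rfl⟩ := mem_cj'.1 hw0
  have hi : E ⊓ cj v E = ⊥ := eq_bot_of_le (te.bot al.1.1 h2.pi)
    (le_inf (inf_le_inf l.le (l.cj te v).le) (inf_le_left.trans ES))
  have e : z * (v * w * v⁻¹) = w * (v * z * v⁻¹) := by
    rw [mem_C.1 (ce (conj_mem_cj v hz)) w hw, ← conj_of_comm c1, H23.TC.conj_mul,
      show v * (v * w * v⁻¹) * v⁻¹ = v * v * w * (v * v)⁻¹ by group, vv]
    group
  obtain rfl := (mul_eq_mul_of_inf hi hz hw (conj_mem_cj v hw) (conj_mem_cj v hz) e).1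
  by_cases z1 : z = 1
  · exact n1 (by simp [z1])
  have := key h.h8 te h1 h2 hv vS (dy z hz z1) (ES hz) (one_mem _) (one_mul 1) (by rwa [one_mul])
  exact n1 (by rw [conj_of_comm this]; exact (l.ea h.w).sq hz)

theorem Cx.beta (h : Cx Q a b U T Y) (h1 : Syl 2 Y S₁) (h2 : Syl 2 Y S₂) (hv : v ∈ AS Q Y b S₁)
    (vS : v ∈ S₂) (hy : y ∈ Y) (hz : z ∈ Q (y • b)) (i : Inv z) (zS : z ∈ S₂)
    (ad : Adj Q (y • b) (v • y • b)) (be : Beta Q (y • b) (v • y • b)) : v * z = z * v := by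
  have te := h.w.te
  have vv : v * v = 1 := (ea h.h8 te h1.pi).sq hv
  have dz : DY Q Y b z := ⟨h2.le zS, i, y, hy, hz⟩
  have dw := dz.conj te (h2.le vS)
  have zw : z * (v * z * v⁻¹) = v * z * v⁻¹ * z :=
    (ea h.h8 te h2.pi).comm (mem_AS dz zS) (mem_AS dw (cmem vS zS))
  have al : Alp Q (y • b) a := by
    have := h.ap.alp.smul te y
    rw [mem_stabilizer_iff.1 (h.Ya hy)] at this
    exact this.symm te
  obtain ⟨c, hc⟩ : ∃ c, c = y • b := ⟨_, rfl⟩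
  rw [← hc] at hz ad be al
  have eU := h.ap.la.ea h.w
  have fx : ∀ g, g * z = z * g → g * (v * z * v⁻¹) = v * z * v⁻¹ * g →
      g ∈ stabilizer G c ⊓ stabilizer G (v • c) := fun g e1 e2 =>
    ⟨te.fix_comm hz (twoE_of_sq i.2) i.1 e1,
      te.fix_comm (te.conj hz v) (twoE_of_sq dw.2.1.2) dw.2.1.1 e2⟩
  have UH : U ≤ stabilizer G c ⊓ stabilizer G (v • c) := fun u hu =>
    fx u (mem_C'.1 (h.UY hu) _ dz.1) (mem_C'.1 (h.UY hu) _ dw.1)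
  have zH := fx z rfl zw
  obtain ⟨S4, s4, n4, l4⟩ := exists_syl_inv (M := stabilizer G c ⊓ stabilizer G (v • c))
    (B := (U ⊔ S₂) ⊓ N[stabilizer G c ⊓ stabilizer G (v • c)])
    ((eU.two.sup' h2.pi (norm_of_cent (cents_of_le h.UY h2.le))).inf_left _) inf_le_right
  have vn : v ∈ N[S4] := n4 ⟨mem_sup_right vS, mem_N_of_cj_le (by
    rw [cj_inf, ← stab_cj, ← stab_cj, ← mul_smul, vv, one_smul, inf_comm])⟩
  have US : U ≤ S4 := (le_inf UH (le_inf le_sup_left (norm_of_le UH))).trans l4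
  have zS4 : z ∈ S4 := l4 ⟨zH, mem_sup_right zS, norm_self _ zH⟩
  obtain ⟨S, R, R', U', T', cf, l⟩ := exists_cf te ad s4.pi s4.le
  obtain rfl := s4.eq_of_le cf.syl.pi l cf.syl.le
  obtain rfl := cf.beta_iff.1 be
  have UN := US.trans cf.na
  have ap : AP Q c a (Om U') U := ⟨al, ⟨_, cf.sa, rfl⟩, h.ap.la, fun u hu => by
    by_cases u1 : u = 1
    · exact u1 ▸ one_mem _
    exact h.w.cen0 al.1.1 (h.ap.la.le hu) ⟨u1, eU.sq hu⟩ cf.sa (UN hu)⟩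
  obtain ⟨r, hr, rn⟩ : ∃ r ∈ U', r ∉ Om U' := by
    by_contra hn
    push Not at hn
    exact (h.w.om (x := 1) cf.sa).2.2.2.2 (le_antisymm (Om_le _) hn)
  have zU : z ∈ U' := cf.eU ▸ ⟨hz, zS4⟩
  obtain ⟨u, hu, e⟩ := ((ap.act h.w cf.sa (Om_le _) UN).2 r hr rn).1.surj
    (ap.la.card te ap.lb).le (mem_Om' zU i.2)
  have e1 : r * u * r⁻¹ = u * z := by rw [← e]; group
  have uv := mem_C.1 (h.UY hu) v (h2.le vS)
  have rT : v * r * v⁻¹ ∈ T' := by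
    rw [cf.eU] at hr
    exact cf.eT ▸ ⟨te.conj hr.1 v, cN vn hr.2⟩
  have e2 := conj_of_comm (mem_C'.1 (cf.cent rT) z zU)
  have e3 : v * r * v⁻¹ * u * (v * r * v⁻¹)⁻¹ = u * (v * z * v⁻¹) := by
    rw [show v * r * v⁻¹ * u * (v * r * v⁻¹)⁻¹ = v * (r * (v⁻¹ * (u * v)) * r⁻¹) * v⁻¹ by group, ← uv,
      inv_mul_cancel_left, e1, H23.TC.conj_mul, conj_of_comm uv]
  refine key h.h8 te h1 h2 hv vS dz zS (h.UY hu) (eU.sq hu) (e := (v * r * v⁻¹ * r) • a) ?_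
  have := te.conj (h.ap.la.le hu) (v * r * v⁻¹ * r)
  rwa [show v * r * v⁻¹ * r * u * (v * r * v⁻¹ * r)⁻¹ =
    v * r * v⁻¹ * (r * u * r⁻¹) * (v * r * v⁻¹)⁻¹ by group, e1, H23.TC.conj_mul, e2, e3, mul_assoc u,
    ← zw] at this

theorem Cx.cen (h : Cx Q a b U T Y) (h1 : Syl 2 Y S₁) (h2 : Syl 2 Y S₂) (hv : v ∈ AS Q Y b S₁)
    (vS : v ∈ S₂) : AS Q Y b S₂ ≤ C{v} := by
  have te := h.w.te
  refine AS_le_iff.2 fun z dz zS => mem_C1.2 (Eq.symm ?_)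
  have dw := dz.conj te (h2.le vS)
  obtain ⟨zY, i, y, hy, hz⟩ := id dz
  by_cases e : y • b = v • y • b
  · exact key h.h8 te h1 h2 hv vS dz zS (one_mem _) (one_mul 1) (e := y • b)
      (by rw [one_mul]; exact mul_mem hz (e ▸ te.conj hz v))
  have ad := te.adj_of_comm e hz (te.conj hz v) i dw.2.1
    ((ea h.h8 te h2.pi).comm (mem_AS dz zS) (mem_AS dw (cmem vS zS)))
  by_cases be : Beta Q (y • b) (v • y • b)
  · exact h.beta h1 h2 hv vS hy hz i zS ad be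
  · exact (h.alpha h1 h2 hv vS hy (h.line h2 hy hz i zS) ⟨ad, be⟩).elim

theorem Cx.sc (h : Cx Q a b U T Y) (h1 : Syl 2 Y S₁) (h2 : Syl 2 Y S₂) (hv : v ∈ AS Q Y b S₁)
    (vS : v ∈ S₂) : v ∈ AS Q Y b S₂ := by
  have te := h.w.te
  obtain ⟨S', s', l, g, hg, e⟩ := move (M := Y ⊓ C{v}) te h1 inf_le_left
    (le_inf AS_Y (h.cen h1 h1 hv (AS_le hv))) (h2.pi.of_le AS_le) (le_inf AS_Y (h.cen h1 h2 hv vS))
  rw [AS_eq te h2 s' l, e, ← mem_C1_iff_conj.1 hg.2]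
  exact conj_mem_cj g hv

end ACox

open ACox in
theorem W2.w2a (h : W2 Q) (hk : KD K Q) (h8 : No8 Q) (hab : Alp Q a b) : SCY K Q a b := by
  have te := h.te
  obtain ⟨U, T, ap, -⟩ := h.exists_ap hab (isPi_bot _) bot_le
  obtain ⟨u, hu, u1⟩ := exists_ne_one (ln_ne ap.la h)
  obtain ⟨t, ht, t1⟩ := exists_ne_one (ln_ne ap.lb h)
  have cx : Cx Q a b U T (K a ⊔ T) := ⟨h, h8, ap, le_sup_right,
    sup_le (te.N_eq a ▸ norm_of_cent (hk.cent a)) fun g hg => te.fix_comm (ap.la.le hu)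
      ((ap.la.ea h).two.piElt hu) u1 (mem_C'.1 (ap.cent hg) u hu),
    cents_sup (cents_symm (cents_of_le (hk.cent a) ap.la.le)) (cents_symm ap.cent)⟩
  obtain ⟨S, hS, l⟩ := Sylow_superset p2 (ap.lb.ea h).two cx.TY
  have it : Inv t := ⟨t1, (ap.lb.ea h).sq ht⟩
  refine ⟨_, S, AS Q (K a ⊔ T) b S, t, le_sup_left, cx.Ya, hS, ea h8 te hS.pi, AS_le,
    fun x hx g hg e => cx.sc (hS.cj_mem hg) hS (cj_AS te hg ▸ conj_mem_cj g hx) e,
    mem_AS ⟨cx.TY ht, it, 1, one_mem _, by rw [one_smul]; exact ap.lb.le ht⟩ (l ht), ap.lb.le ht, it⟩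

end ACo
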