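import Mathlib
import Cfsg.Agent.H22.AC0
import Cfsg.Agent.H22.ACn
import Cfsg.Agent.H22.AC1

set_option autoImplicit false
set_option linter.unusedSectionVars false
set_option linter.unusedVariables false

namespace ACo

open Cfsg H24 H26 H26.Gold H23.TC H3.B71 Subgroup MulAction
open scoped commutatorElement Pointwise

universe u

variable {G Ω : Type u} [Group G] [Finite G] [MulAction G Ω] [Finite Ω] {Q K : Ω → Subgroup G}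
  {a b b' c d e : Ω} {A B E F H M P R R' S S' S₀ S₁ S₂ T T' U U1 V W X Y : Subgroup G}
  {f g k r s t u v w x y z : G}

/-! ### ACp -/
namespace ACpx

theorem odd_pow (m : G) : ∃ j : ℕ, TwoE (m ^ (2 * j + 1)) := by
  obtain ⟨k, l, hl, e⟩ := Nat.exists_eq_two_pow_mul_odd (orderOf_pos m).ne'
  obtain ⟨j, rfl⟩ := hl
  refine ⟨j, piElt_of_pow_eq_one (piNat_self_pow p2 k) ?_⟩
  rw [← pow_mul, mul_comm, ← e, pow_orderOf_eq_one]

theorem dec (hR : Syl 2 M R) (hsq : ∀ n ∈ M, n * n ∈ E) (hx : x ∈ M) :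
    ∃ r ∈ R, r⁻¹ * x ∈ E := by
  obtain ⟨j, hj⟩ := odd_pow x
  have hm := pow_mem hx (2 * j + 1)
  obtain ⟨k, hk, hr⟩ := conj_into hR hm hj
  refine ⟨_, hr, ?_⟩
  have h1 := mul_mem (mul_mem (hsq k hk) (hsq _ (mul_mem (inv_mem hk) (inv_mem hm)))) (hsq _ hm)
  have h2 := inv_mem (pow_mem (hsq x hx) j)
  have := mul_mem h1 h2
  convert this using 1
  rw [← sq x, ← pow_mul]
  group

theorem invc (h : Inv x) (g : G) : Inv (g * x * g⁻¹) := ⟨conj_ne h.1 g, conj_sq h.2 g⟩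

theorem inQ (h : TE Q) (hs : B ≤ stabilizer G d) (hg : g ∈ Q d) (hn : g ∈ N[B]) (hx : x ∈ B) :
    x⁻¹ * (g * x * g⁻¹) ∈ Q d ⊓ B := by
  refine mem_inf.2 ⟨?_, mul_mem (inv_mem hx) (cN hn hx)⟩
  have := mul_mem (cN' (h.stab_le (hs hx)) hg) (inv_mem hg)
  simpa [mul_assoc] using this

theorem RC (h : AP Q a b U T) (hw : W2 Q) (hR : Syl 2 (Q a) R) (hU : U ≤ R) : R ≤ C[U] := by
  rw [h.la.eq_Om hw hR hU]
  exact cents_symm (hw.om (x := 1) hR).2.2.1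

end ACpx

theorem TE.adjust (h : TE Q) (hB : EA B) (hs : B ≤ stabilizer G d) (hR : Syl 2 (Q d) R)
    (h1 : R ≤ N[B]) (h2 : R ≤ C[Q d ⊓ B]) (hP : P ≤ Q d) (hP2 : TwoG P) (h3 : P ≤ N[B])
    (h4 : P ≤ C[Q d ⊓ B]) : ∃ c ∈ Q d, c ∈ C[B] ∧ H24.cj c P ≤ R := by
  have hM : Syl 2 (Q d ⊓ N[B] ⊓ C[Q d ⊓ B]) R :=
    hR.of_le (le_inf (le_inf hR.le h1) h2) (inf_le_left.trans inf_le_left)
  obtain ⟨m, hm, hle⟩ := Sylow_Jsub p2 hM hP2 (le_inf (le_inf hP h3) h4)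
  obtain ⟨r, hr, hc⟩ := ACpx.dec (E := Q d ⊓ C[B]) hM (fun n hn => mem_inf.2
    ⟨mul_mem hn.1.1 hn.1.1, mem_C'.2 fun x hx => comm_of_conj (by
      have a1 := ACpx.inQ h hs hn.1.1 hn.1.2 hx
      have a2 := conj_eq_of_mem_C hn.2 a1
      have a3 := EA.sq hB a1.2
      calc n * n * x * (n * n)⁻¹
          = x * (x⁻¹ * (n * x * n⁻¹)) * (n * (x⁻¹ * (n * x * n⁻¹)) * n⁻¹) := by group
        _ = x := by rw [a2, mul_assoc, a3, mul_one])⟩) hm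
  refine ⟨_, hc.1, hc.2, ?_⟩
  rw [cj_mul]
  exact cj_le_of_mem hle (inv_mem hr)

theorem W2.prod_alp (h : W2 Q) (hm : MQ Q) (hcd : Alp Q c d) (hu : u ∈ Q c) (hv : v ∈ Q d)
    (iu : Inv u) (iv : Inv v) (hc : u * v = v * u) :
    ∃ p, u * v ∈ Q p ∧ Alp Q p c ∧ Alp Q p d := by
  have u2 := twoE_of_sq iu.2
  have v2 := twoE_of_sq iv.2
  have ud : u • d = d := h.te.fix_comm hv v2 iv.1 hc
  have vc : v • c = c := h.te.fix_comm hu u2 iu.1 hc.symm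
  obtain ⟨U, T, hA, nU, nT, -⟩ := h.exists_ap hcd (H8.PC.two_of_comm u2 v2 hc)
    (sup_le (zpowers_le.2 ⟨h.te.fix hu, ud⟩) (zpowers_le.2 ⟨vc, h.te.fix hv⟩))
  have hs := ACkx.stab hA h
  have uU : u ∈ U := mem_syl (hA.la.syl h hcd ((le_sup_left.trans hs).trans inf_le_right))
    ⟨hu, ud⟩ u2 (nU (mem_sup_left (mem_zpowers u)))
  have vT : v ∈ T := mem_syl (hA.lb.syl h (hcd.symm h.te) ((le_sup_right.trans hs).trans inf_le_left))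
    ⟨hv, vc⟩ v2 (nT (mem_sup_right (mem_zpowers v)))
  have n1 : u * v ∉ Q c := fun k =>
    hcd.1.1 (h.te.ti c d v ((mul_mem_cancel_left hu).1 k) hv iv)
  have n2 : u * v ∉ Q d := fun k =>
    hcd.1.1 (h.te.ti c d u hu ((mul_mem_cancel_right hv).1 k) iu)
  obtain ⟨p, hp, hq⟩ := hA.all h hm (mul_mem (mem_sup_left uU) (mem_sup_right vT))
    (fun k => n1 (k ▸ one_mem _))
  exact ⟨p, hq, (hA.pair h hp (ACkx.ob_self _ c) fun k => n1 (k ▸ hq)).1.alp,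
    (hA.pair h hp (hA.ob h) fun k => n2 (k ▸ hq)).1.alp⟩

theorem W2.rad1 (h : W2 Q) (hm : MQ Q) (hb : Beta Q e d) (hne : e ≠ d) (h1 : Alp Q e b)
    (h2 : Alp Q d b) (hu : u ∈ Q e) (hv : v ∈ Q d) (iu : Inv u) (iv : Inv v) (hc : u * v = v * u)
    (hR : Syl 2 (Q b) R) (un : u ∈ N[R]) (vn : v ∈ N[R]) (hn : u * v ∉ C[R]) :
    ∃ p, u * v ∈ Q p := by
  have u2 := twoE_of_sq iu.2
  have v2 := twoE_of_sq iv.2
  have uT : u ∈ C[Om R] := h.cen0 h1.1.1.symm hu iu hR un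
  have vT : v ∈ C[Om R] := h.cen0 h2.1.1.symm hv iv hR vn
  have hE : EA (Om R) := (h.om (x := 1) hR).2.1
  have hB : zpowers u ⊔ zpowers v ≤ C[Om R] := sup_le (zpowers_le.2 uT) (zpowers_le.2 vT)
  obtain ⟨S, Re, Rd, U, T, hc', hS⟩ := exists_cf h.te (hb.adj h.te hne)
    ((EA.two hE).sup (H8.PC.two_of_comm u2 v2 hc) (norm_of_cent hB))
    (sup_le (fun t ht => ⟨h.te.fix_comm hu u2 iu.1 (mem_C.1 uT t ht),
      h.te.fix_comm hv v2 iv.1 (mem_C.1 vT t ht)⟩)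
      (sup_le (zpowers_le.2 ⟨h.te.fix hu, h.te.fix_comm hv v2 iv.1 hc⟩)
        (zpowers_le.2 ⟨h.te.fix_comm hu u2 iu.1 hc.symm, h.te.fix hv⟩)))
  have e1 : U = Re := hc'.beta_iff.1 hb
  have e2 : T = Rd := hc'.symm.beta_iff.1 (hb.symm h.te)
  have uR : u ∈ Re := hc'.lU (hc'.eU ▸ ⟨hu, hS (mem_sup_right (mem_sup_left (mem_zpowers u)))⟩)
  have vR : v ∈ Rd := hc'.lT (hc'.eT ▸ ⟨hv, hS (mem_sup_right (mem_sup_right (mem_zpowers v)))⟩)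
  have cc : Rd ≤ C[Re] := e1 ▸ e2 ▸ hc'.cent
  have ap : ∀ {c : Ω} {X : Subgroup G}, Alp Q c b → Syl 2 (Q c) X → Om R ≤ N[X] →
      AP Q c b (Om X) (Om R) := fun {c X} k1 k2 k3 =>
    ⟨k1, ⟨X, k2, rfl⟩, ⟨R, hR, rfl⟩, fun t ht => by
      by_cases t1 : t = 1
      · rw [t1]; exact one_mem _
      · exact h.cen0 k1.1.1 (hR.le (Om_le R ht)) ⟨t1, EA.sq hE ht⟩ k2 (k3 ht)⟩
  have n1 : Om R ≤ N[Re] := (le_sup_left.trans hS).trans hc'.na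
  have n2 : Om R ≤ N[Rd] := (le_sup_left.trans hS).trans hc'.nb
  rw [mem_C] at hn
  push Not at hn
  obtain ⟨y, hy, hne'⟩ := hn
  have a1 := (h.act h1.1.1.symm (h1.symm h.te).2 hu iu hR un).2 y hy
  have a2 := (h.act h2.1.1.symm (h2.symm h.te).2 hv iv hR vn).2 y hy
  have ht := mul_mem a1 a2
  set τ1 := u⁻¹ * (y * u * y⁻¹) with hτ1
  set τ2 := v⁻¹ * (y * v * y⁻¹) with hτ2
  have k1 : y * (u * v) * y⁻¹ = τ1 * τ2 * (u * v) := by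
    calc y * (u * v) * y⁻¹ = u * (τ1 * v) * τ2 := by rw [hτ1, hτ2]; group
      _ = u * v * (τ1 * τ2) := by rw [mem_C.1 vT τ1 a1]; group
      _ = _ := (mem_C.1 (mul_mem uT vT) _ ht).symm
  have t1 : τ1 * τ2 ≠ 1 := fun k => hne' (comm_of_conj (by rw [k1, k, one_mul]))
  obtain ⟨y1, hy1, f1⟩ := (ap h1 hc'.sa n1).surj h hm hc'.sa (Om_le _) n1 ht t1 (mem_Om' uR iu.2)
  obtain ⟨y2, hy2, f2⟩ := (ap h2 hc'.sb n2).surj h hm hc'.sb (Om_le _) n2 ht t1 (mem_Om' vR iv.2)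
  have f3 : y1 * v * y1⁻¹ = v := conj_of_comm (mem_C.1 (cc vR) y1 hy1)
  have := h.te.conj (hR.le (Om_le R ht)) (y⁻¹ * y1 * y2)
  refine ⟨_, (?_ : y⁻¹ * y1 * y2 * (τ1 * τ2) * (y⁻¹ * y1 * y2)⁻¹ = u * v) ▸ this⟩
  calc _ = y⁻¹ * (y1 * (y2 * (τ1 * τ2) * y2⁻¹) * y1⁻¹) * y := by group
    _ = y⁻¹ * (τ1 * τ2 * (u * v)) * y := by
        rw [f2, H23.TC.conj_mul y1, f1, f3]; group
    _ = u * v := by rw [← k1]; group

theorem ip_of (hw : W2 Q) (h : AP Q e b U T) (hR : Syl 2 (Q e) R) (hU : U ≤ R) (hT : T ≤ N[R])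
    (hy : y ∈ R) (hyU : y ∉ U) (ht : t ∈ T) (hp : y * t ∈ Q d) (i : Inv (y * t)) : IP Q e b := by
  intro U' T' R' h' hR' hU' hT'
  obtain ⟨S, _, _, hc, -⟩ := ACkx.cf h hw
  obtain ⟨S', _, _, hc', -⟩ := ACkx.cf h' hw
  obtain ⟨g, hg, eS⟩ := Sylow_trans p2 hc.syl hc'.syl
  have eU : U' = cj g U := by
    rw [hc'.eU, hc.eU, cj_inf, ← hw.te.eqv, mem_stabilizer_iff.1 hg.1, eS]
  have eT : T' = cj g T := by
    rw [hc'.eT, hc.eT, cj_inf, ← hw.te.eqv, mem_stabilizer_iff.1 hg.2, eS]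
  have y1 : g * y * g⁻¹ ∈ Q e := by
    have := hw.te.conj (hR.le hy) g
    rwa [mem_stabilizer_iff.1 hg.1] at this
  have y2 : g * y * g⁻¹ ∈ N[U' ⊔ T'] := by
    rw [eU, eT, ← cj_sup, ← cj_N]
    exact conj_mem_cj g ((h.act hw hR hU hT).1 hy)
  have y3 : g * y * g⁻¹ ∈ C[U'] := by
    rw [eU, ← cj_C]
    exact conj_mem_cj g (ACpx.RC h hw hR hU hy)
  obtain ⟨c, -, hcC, hle⟩ := hw.te.adjust (h'.ea hw) ((ACkx.stab h' hw).trans inf_le_left) hR'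
    (h'.act hw hR' hU' hT').1 (by rw [ACkx.infU h' hw]; exact ACpx.RC h' hw hR' hU')
    (zpowers_le.2 y1) ((hR.pi.piElt hy).conj g).isPi (zpowers_le.2 y2)
    (by rw [ACkx.infU h' hw]; exact zpowers_le.2 y3)
  have hτ : g * t * g⁻¹ ∈ T' := eT ▸ conj_mem_cj g ht
  have k : c * (g * y * g⁻¹) * c⁻¹ * (g * t * g⁻¹) = c * g * (y * t) * (c * g)⁻¹ := by
    nth_rewrite 1 [← conj_eq_of_mem_C hcC (mem_sup_right hτ)]
    group
  refine ⟨_, hle (conj_mem_cj c (mem_zpowers _)), fun hm => hyU ?_, _, hτ, (c * g) • d,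
    k ▸ hw.te.conj hp _, k ▸ ACpx.invc i _⟩
  have := conj_eq_of_mem_C (inv_mem hcC) (mem_sup_left hm)
  have k2 : g * y * g⁻¹ ∈ U' := by
    rw [← this] at hm
    simpa [mul_assoc] using hm
  rwa [eU, conj_mem_cj_iff] at k2

theorem IP.smul (h : IP Q e b) (hw : W2 Q) (g : G) : IP Q (g • e) (g • b) := by
  intro U T R hA hR hU hT
  have h1 := hA.cj hw g⁻¹
  have h2 := hw.te.syl_cj hR g⁻¹
  rw [inv_smul_smul] at h2
  rw [inv_smul_smul, inv_smul_smul] at h1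
  obtain ⟨y, hy, hyU, t, ht, p, hp, i⟩ := h _ _ _ h1 h2 (cj_mono _ hU) (norm_cj hT _)
  rw [mem_cj, inv_inv] at hy hyU ht
  refine ⟨_, hy, hyU, _, ht, g • p, ?_, ?_⟩
  · rw [← H23.TC.conj_mul]; exact hw.te.conj hp g
  · rw [← H23.TC.conj_mul]; exact ACpx.invc i g

theorem IP.swap (h : IP Q e b) (hw : W2 Q) : IP Q b e := by
  intro U T R hA
  obtain ⟨_, y, -, -, -, -, hy⟩ := ACkx.data hA hw
  obtain ⟨g, -, h1, h2, -⟩ := ACkx.dih hA hw hy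
  have := h.smul hw g
  rw [h1, h2] at this
  exact this U T R hA



end ACo
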