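import Mathlib
import Cfsg.Agent.H22.AC0
import Cfsg.Agent.H22.ACp
import Cfsg.Agent.H22.AC1

set_option autoImplicit false
set_option linter.unusedSectionVars false
set_option linter.unusedVariables false

namespace ACo

open Cfsg H24 H26 H26.Gold H23.TC H3.B71 Subgroup MulAction
open scoped commutatorElement Pointwise

universe u

variable {G Ω : Type u} [Group G] [Finite G] [MulAction G Ω] [Finite Ω] {Q K : Ω → Subgroup G}
  {a b b' c d e : Ω} {A B E F H M P R R' S S' S₀ S₁ S₂ T T' U U1 V W X Y : Subgroup G}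
  {f g k r s t u v w x y z : G}

/-! ### ACq -/
namespace ACqx

theorem fixa (h : AP Q a b U T) (hw : W2 Q) (hx : x ∈ C[U ⊔ T]) : x • a = a := by
  obtain ⟨u, hu, iu⟩ := ACkx.inv hw h.la
  exact hw.te.fix_comm (h.la.le hu) (twoE_of_sq iu.2) iu.1 (mem_C'.1 hx u (mem_sup_left hu))

theorem fixb (h : AP Q a b U T) (hw : W2 Q) (hx : x ∈ C[U ⊔ T]) : x • b = b := by
  obtain ⟨u, hu, iu⟩ := ACkx.inv hw h.lb
  exact hw.te.fix_comm (h.lb.le hu) (twoE_of_sq iu.2) iu.1 (mem_C'.1 hx u (mem_sup_right hu))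

theorem odd_root (ho : OddE x) : ∃ y ∈ zpowers x, y * y * x = 1 := by
  obtain ⟨m, hm⟩ := oddE_iff.1 ho
  refine ⟨x ^ m, pow_mem (mem_zpowers x) m, ?_⟩
  rw [← pow_add, ← pow_succ, ← two_mul, ← hm, pow_orderOf_eq_one]

end ACqx

open ACqx in
theorem AP.codd (h : AP Q a b U T) (hw : W2 Q) (hy : y ∈ Q a) (hn : y ∈ N[U ⊔ T])
    (hx : x ∈ C[U ⊔ T]) : x⁻¹ * (y * x * y⁻¹) ∈ (U ⊔ T) ⊔ Od[C[U ⊔ T]] := by
  have hCa : C[U ⊔ T] ≤ N[Q a] := fun g hg => hw.te.stab_le (fixa h hw hg)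
  have h0 : Q a ⊓ C[U ⊔ T] ⊴ C[U ⊔ T] := nml_inf_of_norm' hCa
  have hUC : U ≤ C[U ⊔ T] := (h.ea hw).abl.cents le_sup_left le_rfl
  have hS : Syl 2 (Q a ⊓ C[U ⊔ T]) U :=
    (h.la.syl hw h.alp (le_sup_left.trans ((ACkx.stab h hw).trans inf_le_right))).of_le
      (le_inf h.la.le hUC) (inf_le_inf_left _ fun g hg => fixb h hw hg)
  have sd := Burnside_normal_complement p2 hS
    (inf_le_left.trans (inf_le_right.trans (C_anti le_sup_left)))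
  have hm : x⁻¹ * (y * x * y⁻¹) ∈ Q a ⊓ C[U ⊔ T] := by
    refine ⟨?_, Subgroup.mul_mem _ (Subgroup.inv_mem _ hx) (cN (N_le_NC _ hn) hx)⟩
    have : x⁻¹ * (y * x * y⁻¹) = x⁻¹ * y * x * y⁻¹ := by group
    rw [this]
    exact Subgroup.mul_mem _ (cN' (hCa hx) hy) (Subgroup.inv_mem _ hy)
  rw [← sd.sup] at hm
  have : O[{2}ᶜ, Q a ⊓ C[U ⊔ T]] ⊔ U ≤ (U ⊔ T) ⊔ Od[C[U ⊔ T]] :=
    sup_le ((h0.pcore_le _).trans le_sup_right) (le_sup_left.trans le_sup_left)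
  exact this hm

set_option maxHeartbeats 400000 in
open ACqx in
theorem AP.tor (h : AP Q a b U T) (hw : W2 Q) (hm : MQ Q) (hR : Syl 2 (Q a) R) (hU : U ≤ R)
    (hT : T ≤ N[R]) (hz : z ∈ C[U ⊔ T]) (hzR : z ∈ C[R]) (z2 : z * z = 1) (ht : t ∈ T) (hs : s ∈ T)
    (t1 : t ≠ 1) (s1 : s ≠ 1) :
    ∃ k ∈ N[R], k ∈ N[U ⊔ T] ∧ k • a = a ∧ k • b = b ∧ k * t * k⁻¹ = s ∧
      z⁻¹ * (k * z * k⁻¹) ∈ U := by
  have te := hw.te
  have hP : EA (U ⊔ T) := h.ea hw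
  have hab : a ≠ b := h.alp.1.1
  have hst := ACkx.stab h hw
  have h' := h.symm hw
  obtain ⟨Rb, hRb, nRb, lRb⟩ := te.exists_syl hP.two (hst.trans inf_le_right)
  have hTb : T ≤ Rb := (le_inf h.lb.le le_sup_right).trans lRb
  have hUb : U ≤ N[Rb] := le_sup_left.trans nRb
  have RN : R ≤ N[U ⊔ T] := (h.act hw hR hU hT).1
  have RbN : Rb ≤ N[U ⊔ T] := by
    have := (h'.act hw hRb hTb hUb).1
    rwa [sup_comm] at this
  have RbT : Rb ≤ C[T] := by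
    rw [h.lb.eq_Om hw hRb hTb]; exact cents_symm (hw.om (x := 1) hRb).2.2.1
  have RU : R ≤ C[U] := by
    rw [h.la.eq_Om hw hR hU]; exact cents_symm (hw.om (x := 1) hR).2.2.1
  have nO : N[U ⊔ T] ≤ N[Od[C[U ⊔ T]]] := norm_pcore _ (N_le_NC _)
  have OC : Od[C[U ⊔ T]] ≤ C[U ⊔ T] := pcore_le _ _
  set Ns : Subgroup G := N[U ⊔ T] ⊓ Nst ((U ⊔ T) ⊔ Od[C[U ⊔ T]]) z with hNs
  have inA : ∀ y ∈ Q a, y ∈ N[U ⊔ T] → y ∈ Ns := fun y hy hn =>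
    ⟨hn, mem_Nst.2 ⟨norm_sup le_rfl nO hn, h.codd hw hy hn hz⟩⟩
  have inB : ∀ y ∈ Rb, y ∈ Ns := fun y hy => by
    refine ⟨RbN hy, mem_Nst.2 ⟨norm_sup le_rfl nO (RbN hy), ?_⟩⟩
    have := h'.codd hw (hRb.le hy) (x := z) (by rw [sup_comm]; exact RbN hy)
      (by rw [sup_comm]; exact hz)
    rwa [sup_comm T U] at this
  have inR : ∀ y ∈ R, y ∈ Ns := fun y hy => inA y (hR.le hy) (RN hy)
  obtain ⟨u, hu, iu⟩ := ACkx.inv hw h.la
  have cUT : ∀ u ∈ U, ∀ t ∈ T, u * t = t * u := fun u hu t ht =>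
    hP.comm (mem_sup_left hu) (mem_sup_right ht)
  -- every element of `T#` is conjugate to `u`
  have toU : ∀ t ∈ T, t ≠ 1 → ∃ g ∈ Ns, g * t * g⁻¹ = u := fun t ht t1 => by
    obtain ⟨y1, hy1, e1⟩ := h.surj hw hm hR hU hT ht t1 hu
    obtain ⟨y2, hy2, e2⟩ := h'.surj hw hm hRb hTb hUb hu iu.1 ht
    refine ⟨y2⁻¹ * y1, Ns.mul_mem (Ns.inv_mem (inB y2 hy2)) (inR y1 hy1), ?_⟩
    calc y2⁻¹ * y1 * t * (y2⁻¹ * y1)⁻¹ = y2⁻¹ * (y1 * t * y1⁻¹) * y2 := by group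
      _ = y2⁻¹ * (y2 * u * y2⁻¹) * y2 := by rw [e1, e2, cUT u hu t ht]
      _ = u := by group
  obtain ⟨g1, hg1, e1⟩ := toU t ht t1
  obtain ⟨g2, hg2, e2⟩ := toU s hs s1
  obtain ⟨g, hg, eg⟩ : ∃ g ∈ Ns, g * t * g⁻¹ = s := by
    refine ⟨g2⁻¹ * g1, Ns.mul_mem (Ns.inv_mem hg2) hg1, ?_⟩
    calc g2⁻¹ * g1 * t * (g2⁻¹ * g1)⁻¹ = g2⁻¹ * (g1 * t * g1⁻¹) * g2 := by group
      _ = g2⁻¹ * (g2 * s * g2⁻¹) * g2 := by rw [e1, e2]
      _ = s := by group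
  have is : Inv s := ⟨s1, hP.sq (mem_sup_right hs)⟩
  have gb : g • b = b := te.ti _ _ s (eg ▸ te.conj (h.lb.le ht) g) (h.lb.le hs) is
  obtain ⟨u', hu', t', ht', eu⟩ := (mem_sup_of_norm (norm_of_cent h.cent)).1
    (cN hg.1 (mem_sup_left hu : u ∈ U ⊔ T))
  have u1 : u' ≠ 1 := by
    rintro rfl
    rw [one_mul] at eu
    have : g • a = b := te.ti _ _ _ (te.conj (h.la.le hu) g) (eu ▸ h.lb.le ht') (iu.conj g)
    exact hab (smul_left_cancel g (this.trans gb.symm))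
  obtain ⟨y', hy', ey⟩ := h'.surj hw hm hRb hTb hUb hu' u1 ht'
  set k0 := y'⁻¹ * g with hk0
  have k0N : k0 ∈ Ns := Ns.mul_mem (Ns.inv_mem (inB y' hy')) hg
  have k0u : k0 * u * k0⁻¹ = u' := by
    calc k0 * u * k0⁻¹ = y'⁻¹ * (g * u * g⁻¹) * y' := by rw [hk0]; group
      _ = y'⁻¹ * (y' * u' * y'⁻¹) * y' := by rw [eu, ey]
      _ = u' := by group
  have k0a : k0 • a = a :=
    te.ti _ _ _ (te.conj (h.la.le hu) k0) (k0u ▸ h.la.le hu') (iu.conj k0)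
  have k0b : k0 • b = b := by
    rw [hk0, mul_smul, gb]; exact te.fix (Subgroup.inv_mem _ (hRb.le hy'))
  have k0t : k0 * t * k0⁻¹ = s := by
    calc k0 * t * k0⁻¹ = y'⁻¹ * (g * t * g⁻¹) * y'⁻¹⁻¹ := by rw [hk0]; group
      _ = s := by rw [eg]; exact conj_eq_of_mem_C (Subgroup.inv_mem _ (RbT hy')) hs
  have iU := ACkx.infU h hw
  have k0U : k0 ∈ N[U] := by
    have : zpowers k0 ≤ N[Q a ⊓ (U ⊔ T)] :=
      norm_inf (zpowers_le.2 (te.stab_le k0a)) (zpowers_le.2 k0N.1)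
    rw [iU] at this
    exact this (mem_zpowers _)
  obtain ⟨c, hcQ, hcC, hcR⟩ := te.adjust hP (hst.trans inf_le_left) hR RN (by rw [iU]; exact RU)
    (P := H24.cj k0 R) (cj_le_of_mem_N hR.le (te.stab_le k0a)) (hR.pi.cj k0)
    (cj_le_of_mem RN k0N.1) (by rw [iU]; exact cj_le_of_mem_N RU (N_le_NC _ k0U))
  set k1 := c * k0 with hk1
  have k1N : k1 ∈ Ns := Ns.mul_mem (inA c hcQ (C_le_N _ hcC)) k0N
  have k1R : k1 ∈ N[R] := mem_N_of_cj_le (by rw [hk1, cj_mul]; exact hcR)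
  have k1a : k1 • a = a := by rw [hk1, mul_smul, k0a, fixa h hw hcC]
  have k1b : k1 • b = b := by rw [hk1, mul_smul, k0b, fixb h hw hcC]
  have k1t : k1 * t * k1⁻¹ = s := by
    calc k1 * t * k1⁻¹ = c * (k0 * t * k0⁻¹) * c⁻¹ := by rw [hk1]; group
      _ = s := by rw [k0t]; exact conj_eq_of_mem_C hcC (mem_sup_right hs)
  obtain ⟨p, hp, o, ho, epo⟩ := (mem_sup_of_norm (norm_of_cent OC)).1 (mem_Nst.1 k1N.2).2
  have hpo : p * o ∈ C[R] :=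
    epo ▸ Subgroup.mul_mem _ (Subgroup.inv_mem _ hzR) (cN (N_le_NC _ k1R) hzR)
  have fixR : ∀ r ∈ R, r * p * r⁻¹ = p ∧ r * o * r⁻¹ = o := fun r hr => by
    refine mul_eq_mul_of_inf (hP.two.inf_eq_bot (Od_odd _)) (cN (RN hr) hp) hp (cN (nO (RN hr)) ho)
      ho ?_
    rw [← H23.TC.conj_mul]
    exact conj_of_comm (mem_C.1 hpo r hr)
  have pU : p ∈ U := by
    obtain ⟨y, hy, hyU⟩ := ACkx.exy h hw hR hU
    exact (((h.act hw hR hU hT).2 y hy hyU).2.fix p hp).1 (fixR y hy).1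
  have zp : z * p = p * z := mem_C'.1 hz p hp
  have op : o * p = p * o := mem_C'.1 (OC ho) p hp
  have p2' : p * p = 1 := hP.sq hp
  have ez : k1 * z * k1⁻¹ = p * (z * o) := by
    calc k1 * z * k1⁻¹ = z * (z⁻¹ * (k1 * z * k1⁻¹)) := by group
      _ = z * p * o := by rw [epo]; group
      _ = p * (z * o) := by rw [zp]; group
  have zo : z * o * (z * o) = 1 := by
    have e1 : p * (z * o) * (p * (z * o)) = 1 := by
      rw [← ez]
      calc k1 * z * k1⁻¹ * (k1 * z * k1⁻¹) = k1 * (z * z) * k1⁻¹ := by group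
        _ = 1 := by rw [z2]; group
    have e2 : p * (z * o) = z * o * p := by
      calc p * (z * o) = p * z * o := by group
        _ = z * (p * o) := by rw [← zp]; group
        _ = z * o * p := by rw [← op]; group
    rwa [sq_mul_comm e2, p2', one_mul] at e1
  have zinv : z * o * z⁻¹ = o⁻¹ := by
    rw [inv_sq z2, eq_inv_iff_mul_eq_one, ← zo]; group
  obtain ⟨o', ho', eo⟩ := odd_root ((Od_odd _).piElt ho)
  have zo' : z * o' * z⁻¹ = o'⁻¹ := by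
    obtain ⟨n, rfl⟩ := mem_zpowers_iff.1 ho'
    rw [← conj_zpow, zinv, inv_zpow]
  have o'O : o' ∈ Od[C[U ⊔ T]] := zpowers_le.2 ho ho'
  have o'C : o' ∈ C[U ⊔ T] := OC o'O
  have o'R : o' ∈ C[R] := by
    have : o ∈ C[R] := mem_C.2 fun r hr => comm_of_conj (fixR r hr).2
    exact zpowers_le.2 this ho'
  have o'p : o'⁻¹ * p = p * o'⁻¹ := mem_C'.1 (Subgroup.inv_mem _ o'C) p hp
  have oo : o' * o * o' = 1 := by
    have : o * o' = o' * o := by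
      obtain ⟨n, rfl⟩ := mem_zpowers_iff.1 ho'
      exact (Commute.self_zpow o n).eq
    calc o' * o * o' = o' * (o * o') := by group
      _ = o' * o' * o := by rw [this]; group
      _ = 1 := eo
  refine ⟨o'⁻¹ * k1, Subgroup.mul_mem _ (Subgroup.inv_mem _ (C_le_N _ o'R)) k1R,
    Subgroup.mul_mem _ (Subgroup.inv_mem _ (C_le_N _ o'C)) k1N.1, ?_, ?_, ?_, ?_⟩
  · rw [mul_smul, k1a, fixa h hw (Subgroup.inv_mem _ o'C)]
  · rw [mul_smul, k1b, fixb h hw (Subgroup.inv_mem _ o'C)]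
  · calc o'⁻¹ * k1 * t * (o'⁻¹ * k1)⁻¹ = o'⁻¹ * (k1 * t * k1⁻¹) * o'⁻¹⁻¹ := by group
      _ = s := by
        rw [k1t]; exact conj_eq_of_mem_C (Subgroup.inv_mem _ o'C) (mem_sup_right hs)
  · have : z⁻¹ * (o'⁻¹ * k1 * z * (o'⁻¹ * k1)⁻¹) = p := by
      calc z⁻¹ * (o'⁻¹ * k1 * z * (o'⁻¹ * k1)⁻¹) = z⁻¹ * (o'⁻¹ * (k1 * z * k1⁻¹) * o') := by group
        _ = z⁻¹ * (o'⁻¹ * p * (z * o) * o') := by rw [ez]; group
        _ = z⁻¹ * (p * (z * o' * z⁻¹) * (z * o) * o') := by rw [o'p, zo']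
        _ = z⁻¹ * (p * z) * (o' * o * o') := by group
        _ = p := by rw [oo, ← zp]; group
    rw [this]; exact pU

end ACo
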