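import Mathlib
import Cfsg.Agent.H22.AC0
import Cfsg.Agent.H22.ACq
import Cfsg.Agent.H22.AC1

set_option autoImplicit false
set_option linter.unusedSectionVars false
set_option linter.unusedVariables false

namespace ACo

open Cfsg H24 H26 H26.Gold H23.TC H3.B71 Subgroup MulAction
open scoped commutatorElement Pointwise

universe u

variable {G Ω : Type u} [Group G] [Finite G] [MulAction G Ω] [Finite Ω] {Q K : Ω → Subgroup G}
  {a b b' c d e : Ω} {A B E F H M P R R' S S' S₀ S₁ S₂ T T' U U1 V W X Y : Subgroup G}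
  {f g k r s t u v w x y z : G}

namespace ACrx

theorem uR (h : LC Q e b b' R U T T') : U ≤ R := h.eU ▸ Om_le R

theorem ph (h : LC Q e b b' R U T T') (hw : W2 Q) (hy : y ∈ R) (hU : y ∉ U) : Ph U T y :=
  (((h.ap hw).act hw h.syl (uR h) h.nT).2 y hy hU).1

theorem inU (h : LC Q e b b' R U T T') (hw : W2 Q) (hy : y ∈ R) (ht : t ∈ T) (t1 : t ≠ 1)
    (hc : y * t = t * y) : y ∈ U := by
  by_contra hU
  exact t1 ((ph h hw hy hU).free t ht hc)

theorem uC (h : LC Q e b b' R U T T') (hw : W2 Q) : U ≤ C[R] :=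
  h.eU ▸ (hw.om (x := 1) h.syl).2.2.1

theorem u2 (h : LC Q e b b' R U T T') (hw : W2 Q) (hu : u ∈ U) : u * u = 1 :=
  ((h.ap hw).ea hw).sq (mem_sup_left hu)

/-- an element of `R ∖ U` is inverted by at most one element of `T`, modulo `U` -/
theorem uniq (h : LC Q e b b' R U T T') (hw : W2 Q) (hx : x ∈ R) (hU : x ∉ U) (hy : x⁻¹ * y ∈ U)
    (ht : t ∈ T) (hs : s ∈ T) (h1 : x * t * (x * t) = 1) (h2 : y * s * (y * s) = 1) : t = s := by
  have ea := (h.ap hw).ea hw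
  obtain ⟨u, hu, rfl⟩ : ∃ u ∈ U, y = x * u := ⟨_, hy, by group⟩
  have c1 : u * s = s * u := ea.comm (mem_sup_left hu) (mem_sup_right hs)
  have c2 : x * u = u * x := H24.mem_C.1 (uC h hw hu) x hx
  have h3 : x * s * (x * s) = 1 := by
    calc x * s * (x * s) = x * s * (x * s) * (u * u) := by rw [u2 h hw hu, mul_one]
      _ = x * s * x * (s * u) * u := by group
      _ = x * s * x * (u * s) * u := by rw [c1]
      _ = x * s * (x * u) * (s * u) := by group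
      _ = x * (s * u) * x * (s * u) := by rw [c2]; group
      _ = x * u * s * (x * u * s) := by rw [← c1]; group
      _ = 1 := h2
  have t2 : t⁻¹ = t := ea.inv (mem_sup_right ht)
  have s2 : s⁻¹ = s := ea.inv (mem_sup_right hs)
  refine (ph h hw hx hU).inj t ht s hs ?_
  rw [t2, s2]
  calc t * (x * t * x⁻¹) = x⁻¹ * (x * t * (x * t)) * x⁻¹ := by group
    _ = x⁻¹ * (x * s * (x * s)) * x⁻¹ := by rw [h1, h3]
    _ = _ := by group

/-- the decomposition `s = x ζ τ` -/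
theorem dec (h : LC Q e b b' R U T T') (hw : W2 Q) (hs : s ∈ T') (h1 : s ≠ 1) :
    ∃ x ∈ R, x ∉ U ∧ ∃ t ∈ T, t ≠ 1 ∧ ∃ z, z ∈ C[U ⊔ T] ∧ z ∈ C[T'] ∧ z ∈ C[R] ∧ z * z = 1 ∧
      s = x * z * t ∧ x⁻¹ * s ∈ C[U ⊔ T] ∧ x * t * (x * t) = 1 := by
  have ea := (h.ap hw).ea hw
  have ea' := ((h.symm hw).ap hw).ea hw
  obtain ⟨x, hx, hxU, t, ht, t1, a1, a2, a3, a4⟩ := h.zeta hw hs h1
  have t2 : t * t = 1 := ea.sq (mem_sup_right ht)
  have zP : x⁻¹ * s * t ∈ C[U ⊔ T] := mul_mem a1 (ea.le_C (mem_sup_right ht))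
  have es : s = x * (x⁻¹ * s * t) * t := by
    rw [show x * (x⁻¹ * s * t) * t = s * (t * t) by group, t2, mul_one]
  refine ⟨x, hx, hxU, t, ht, t1, x⁻¹ * s * t, zP, ?_, a3, a4, es, a1, ?_⟩
  · have e1 : x⁻¹ * s * t = x⁻¹ * t * (t⁻¹ * (s * t * s⁻¹) * s) := by group
    rw [e1]
    have : x⁻¹ * t * (t⁻¹ * (s * t * s⁻¹) * s) ∈ C[U ⊔ T'] :=
      mul_mem a2 (ea'.le_C (mul_mem (mem_sup_left (h.comm t ht s hs)) (mem_sup_right hs)))
    exact H24.mem_C.2 fun g hg => H24.mem_C.1 this g (mem_sup_right hg)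
  · have s2 : s * s = 1 := ea'.sq (mem_sup_right hs)
    generalize x⁻¹ * s * t = z at *
    have c1 : x * z = z * x := H24.mem_C.1 a3 x hx
    have c2 : t * z = z * t := H24.mem_C.1 zP t (mem_sup_right ht)
    calc x * t * (x * t) = x * t * (x * t) * (z * z) := by rw [a4, mul_one]
      _ = x * t * x * (t * z) * z := by group
      _ = x * t * x * (z * t) * z := by rw [c2]
      _ = x * t * (x * z) * (t * z) := by group
      _ = x * (t * z) * x * (t * z) := by rw [c1]; group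
      _ = x * z * t * (x * z * t) := by rw [c2]; group
      _ = 1 := by rw [← es, s2]

end ACrx

/-! ### ACr -/
open ACrx in
theorem LC.star (h : LC Q e b b' R U T T') (hw : W2 Q) : IP Q e b := by
  have te := hw.te
  have ap := h.ap hw
  have ea := ap.ea hw
  have ea' := ((h.symm hw).ap hw).ea hw
  obtain ⟨s, hs, s1⟩ : ∃ s ∈ T', s ≠ 1 := by
    obtain ⟨R', hR', e1⟩ := h.lb'
    obtain ⟨s, hs, -, -, -, -, s1, -⟩ := (hw.om (x := 1) hR').2.2.2.1
    exact ⟨s, e1 ▸ hs, s1⟩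
  have s2 : s * s = 1 := ea'.sq (mem_sup_right hs)
  obtain ⟨x, hx, hxU, t, ht, t1, z, zP, zT, zR, z2, es, -, xt⟩ := dec h hw hs s1
  obtain ⟨τ, hτ, τ1, τt⟩ : ∃ τ ∈ T, τ ≠ 1 ∧ τ ≠ t := by
    obtain ⟨R', hR', e1⟩ := h.lb
    obtain ⟨p, hp, q, hq, -, -, p1, q1, pq, -⟩ := (hw.om (x := 1) hR').2.2.2.1
    by_cases hpt : p = t
    · exact ⟨q, e1 ▸ hq, q1, fun e2 => pq (hpt.trans e2.symm)⟩
    · exact ⟨p, e1 ▸ hp, p1, hpt⟩
  obtain ⟨k, kR, kP, ke, kb, kt, ku⟩ :=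
    ap.tor hw (h.mq hw) h.syl (uR h) h.nT zP zR z2 ht hτ t1 τ1
  have kU : k ∈ N[U] := h.eU ▸ N_le_N_Om R kR
  obtain ⟨u, hu, eu⟩ : ∃ u ∈ U, k * z * k⁻¹ = z * u := ⟨_, ku, by group⟩
  obtain ⟨y, ey⟩ : ∃ y, y = k * x * k⁻¹ := ⟨_, rfl⟩
  have hy : y ∈ R := ey ▸ H24.conj_mem kR hx
  have hyU : y ∉ U := fun a => hxU ((H24.conj_mem_iff kU).1 (ey ▸ a))
  have yτ : y * τ * (y * τ) = 1 := by
    rw [ey, ← kt, ← H23.TC.conj_mul, ← H23.TC.conj_mul, xt]; group
  have ek : k * s * k⁻¹ = y * (z * u) * τ := by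
    rw [← eu, ← kt, ey]
    conv_lhs => rw [es]
    group
  have cP : ∀ p ∈ U ⊔ T, ∀ q ∈ U ⊔ T, p * q = q * p := fun p hp q hq => ea.comm hp hq
  -- `s ^ k` centralises `T'`
  have cs : s * (k * s * k⁻¹) = k * s * k⁻¹ * s := by
    obtain ⟨s', hs', a1⟩ := h.onto hw hy
    have s'1 : s' ≠ 1 := fun e1 => by
      rw [e1, mul_one] at a1
      exact hyU (inU h hw hy ht t1 (H24.mem_C.1 ((inv_mem_iff).1 a1) t (mem_sup_right ht)).symm)
    obtain ⟨x', hx', hxU', t', ht', -, z', zP', zT', -, z2', es', a2, xt'⟩ := dec h hw hs' s'1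
    have m1 : x'⁻¹ * y ∈ U := by
      have : x'⁻¹ * s' * (y⁻¹ * s')⁻¹ ∈ C[U ⊔ T] := mul_mem a2 (inv_mem a1)
      rw [show x'⁻¹ * s' * (y⁻¹ * s')⁻¹ = x'⁻¹ * y by group] at this
      exact inU h hw (mul_mem (inv_mem hx') hy) ht t1
        (H24.mem_C.1 this t (mem_sup_right ht)).symm
    have et : t' = τ := uniq h hw hx' hxU' m1 ht' hτ xt' yτ
    subst et
    obtain ⟨u', hu', ey'⟩ : ∃ u' ∈ U, y = x' * u' := ⟨_, m1, by group⟩
    have c1 : t' * z' = z' * t' := H24.mem_C.1 zP' t' (mem_sup_right ht')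
    have c2 : t' * (u' * (z * u)) = u' * (z * u) * t' := by
      have : u' * (z * u) ∈ C[U ⊔ T] :=
        mul_mem (ea.le_C (mem_sup_left hu')) (mul_mem zP (ea.le_C (mem_sup_left hu)))
      exact H24.mem_C.1 this t' (mem_sup_right ht')
    have e2 : k * s * k⁻¹ = s' * (z'⁻¹ * (u' * (z * u))) := by
      rw [ek, ey', es']
      calc x' * u' * (z * u) * t' = x' * (u' * (z * u) * t') := by group
        _ = x' * (t' * (u' * (z * u))) := by rw [c2]
        _ = x' * (t' * z') * z'⁻¹ * (u' * (z * u)) := by group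
        _ = _ := by rw [c1]; group
    have uT : ∀ v ∈ U, v ∈ C[T'] := fun v hv =>
      H24.mem_C.2 fun g hg => ea'.comm (mem_sup_right hg) (mem_sup_left hv)
    have m2 : k * s * k⁻¹ ∈ C[T'] := by
      rw [e2]
      exact mul_mem (H24.mem_C.2 fun g hg => ea'.comm (mem_sup_right hg) (mem_sup_right hs'))
        (mul_mem (inv_mem zT') (mul_mem (uT _ hu') (mul_mem zT (uT _ hu))))
    exact H24.mem_C.1 m2 s hs
  have k2 : k * s * k⁻¹ * (k * s * k⁻¹) = 1 := by rw [← H23.TC.conj_mul, s2]; group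
  -- the product
  have hx'' : x * (t * y * t⁻¹) * u ∈ R :=
    mul_mem (mul_mem hx (H24.conj_mem (h.nT ht) hy)) (uR h hu)
  have eσ : s * (k * s * k⁻¹) = x * (t * y * t⁻¹) * u * (t * τ) := by
    have c1 : t * z = z * t := H24.mem_C.1 zP t (mem_sup_right ht)
    have c2 : y * z = z * y := H24.mem_C.1 zR y hy
    have c3 : u * t = t * u := cP _ (mem_sup_left hu) _ (mem_sup_right ht)
    rw [ek]
    conv_lhs => rw [es]
    calc x * z * t * (y * (z * u) * τ) = x * (z * t) * (y * z) * u * τ := by group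
      _ = x * t * (z * z) * y * u * τ := by rw [← c1, c2]; group
      _ = x * (t * y * t⁻¹) * (t * u) * τ := by rw [z2]; group
      _ = _ := by rw [← c3]; group
  have tτ : t * τ ≠ 1 := fun e1 => τt (by
    rw [mul_eq_one_iff_inv_eq, ea.inv (mem_sup_right ht)] at e1; exact e1.symm)
  have nU : x * (t * y * t⁻¹) * u ∉ U := fun a => by
    have a1 : x * (t * y * t⁻¹) ∈ U := by simpa using mul_mem a (inv_mem hu)
    have a2 := (ph h hw hy hyU).mem t ht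
    have xU : x ∈ N[U] := h.eU ▸ N_le_N_Om R (norm_self R hx)
    have xx : x * x ∈ U := h.eU ▸ hw.sq h.ab h.syl hx
    have tU : t ∈ N[U] := C_le_N U (ap.cent ht)
    have a3 : t * y * t⁻¹ * y⁻¹ ∈ U := by
      have := inv_mem (H24.conj_mem tU a2)
      have e1 : (t * (t⁻¹ * (y * t * y⁻¹)) * t⁻¹)⁻¹ = t * y * t⁻¹ * y⁻¹ := by group
      rwa [e1] at this
    have a4 : x⁻¹ * y ∈ U := by
      have e1 : x⁻¹ * y = (x * x)⁻¹ * (x * (t * y * t⁻¹ * y⁻¹) * x⁻¹)⁻¹ * (x * (t * y * t⁻¹)) := by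
        group
      rw [e1]
      exact mul_mem (mul_mem (inv_mem xx) (inv_mem (H24.conj_mem xU a3))) a1
    exact τt (uniq h hw hx hxU a4 ht hτ xt yτ).symm
  have nC : s * (k * s * k⁻¹) ∉ C[R] := fun a => by
    have a1 := H24.mem_C.1 a _ hx''
    rw [eσ] at a1
    generalize x * (t * y * t⁻¹) * u = w at *
    refine nU (inU h hw hx'' (mul_mem ht hτ) tτ ?_)
    have : w * (w * (t * τ)) = w * (t * τ * w) := by rw [a1]; group
    exact mul_left_cancel this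
  have iσ : Inv (s * (k * s * k⁻¹)) := ⟨fun e1 => nC (e1 ▸ one_mem _), sq_mul s2 k2 cs⟩
  have sQ : s ∈ Q b' := h.lb'.le hs
  have kQ := te.conj sQ k
  have is : Inv s := ⟨s1, s2⟩
  have ik : Inv (k * s * k⁻¹) := ⟨conj_ne s1 k, k2⟩
  obtain ⟨p, hp⟩ : ∃ p, s * (k * s * k⁻¹) ∈ Q p := by
    by_cases hb : b' = k • b'
    · exact ⟨k • b', mul_mem (hb ▸ sQ) kQ⟩
    by_cases hβ : Beta Q b' (k • b')
    · have a1 : Alp Q (k • b') e := by
        have := (h.ab'.symm te).smul te k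
        rwa [ke] at this
      exact hw.rad1 (h.mq hw) hβ hb (h.ab'.symm te) a1 sQ kQ is ik cs h.syl (h.nT' hs)
        (mul_mem (mul_mem kR (h.nT' hs)) (inv_mem kR)) nC
    · obtain ⟨p, hp, -⟩ := hw.prod_alp (h.mq hw) ⟨te.adj_of_comm hb sQ kQ is ik cs, hβ⟩ sQ kQ is ik cs
      exact ⟨p, hp⟩
  rw [eσ] at hp iσ
  exact ip_of hw ap h.syl (uR h) h.nT hx'' nU (mul_mem ht hτ) hp iσ

end ACo
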