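import Mathlib
import Cfsg.Agent.H22.AC0
import Cfsg.Agent.H22.ACp
import Cfsg.Agent.H22.ACm
import Cfsg.Agent.H22.AC1

set_option autoImplicit false
set_option linter.unusedSectionVars false
set_option linter.unusedVariables false

namespace ACo

open Cfsg H24 H26 H26.Gold H23.TC H3.B71 Subgroup MulAction
open scoped commutatorElement Pointwise

universe u

variable {G Ω : Type u} [Group G] [Finite G] [MulAction G Ω] [Finite Ω] {Q K : Ω → Subgroup G}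
  {a b b' c d e : Ω} {A B E F H M P R R' S S' S₀ S₁ S₂ T T' U U1 V W X Y : Subgroup G}
  {f g k r s t u v w x y z : G}

/-! ### ACs -/

namespace ACsx

theorem ea_sup (hA : EA A) (hB : EA B) (h : B ≤ C[A]) : EA (A ⊔ B) := ea_of_sq fun x hx => by
  obtain ⟨a, ha, b, hb, rfl⟩ := (mem_sup_of_norm (norm_of_cent h)).1 hx
  exact sq_mul (hA.sq ha) (hB.sq hb) (mem_C.1 (h hb) a ha)

theorem fixC (h : TE Q) (hx : x ∈ Q a) (i : Inv x) (hP : P ≤ C{x}) : P ≤ stabilizer G a :=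
  fun g hg => h.fix_comm hx (twoE_of_sq i.2) i.1 (mem_C1.1 (hP hg))

/-- the frame at three points -/
structure Fr (Q : Ω → Subgroup G) (e d b : Ω) (R R' P : Subgroup G) : Prop where
  w : W2 Q
  mq : MQ Q
  ne : e ≠ d
  be : Beta Q e d
  a1 : Alp Q e b
  a2 : Alp Q d b
  se : Syl 2 (Q e) R
  sd : Syl 2 (Q d) R'
  sb : Syl 2 (Q b) P
  com : R' ≤ C[R]
  n1 : Om P ≤ N[R]
  n2 : Om P ≤ N[R']
  m1 : Om R ≤ N[P]
  m2 : Om R' ≤ N[P]

theorem omC (h : W2 Q) (hne : c ≠ e) (hR : Syl 2 (Q c) R) (hP : Syl 2 (Q e) P)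
    (hn : Om P ≤ N[R]) : Om P ≤ C[Om R] := fun x hx => by
  by_cases h1 : x = 1
  · exact h1 ▸ one_mem _
  · have := (h.om (x := x) hP).1.1 hx
    exact h.cen0 hne (hP.le this.1) ⟨h1, this.2⟩ hR (hn hx)

theorem exists_fr (h : W2 Q) (hm : MQ Q) (hb : Beta Q e d) (hne : e ≠ d)
    (h1 : Alp Q e b) (h2 : Alp Q d b) (hu : u ∈ Q e) (hv : v ∈ Q d) (ht : t ∈ Q b) (iu : Inv u)
    (iv : Inv v) (it : Inv t) (uv : u * v = v * u) (ut : u * t = t * u) (vt : v * t = t * v) :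
    ∃ R R' P, Fr Q e d b R R' P := by
  have te := h.te
  have t0 : TwoG (zpowers u ⊔ zpowers v) :=
    H8.PC.two_of_comm (twoE_of_sq iu.2) (twoE_of_sq iv.2) uv
  obtain ⟨R0, s0, -, -, n0, c0⟩ := h.exists_ln t0 (fixC te ht it
    (sup_le (zpowers_le.2 (mem_C1.2 ut)) (zpowers_le.2 (mem_C1.2 vt))))
  have cu := c0 e u hu (mem_sup_left (mem_zpowers u)) iu
  have cv := c0 d v hv (mem_sup_right (mem_zpowers v)) iv
  have eT : EA (Om R0) := (h.om (x := 1) s0).2.1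
  obtain ⟨S, R, R', U, V, cf, hS⟩ := exists_cf te (hb.adj te hne) eT.two
    (le_inf (fixC te hu iu (mem_C_iff_le_C1.1 cu)) (fixC te hv iv (mem_C_iff_le_C1.1 cv)))
  have e1 : U = R := cf.beta_iff.1 hb
  have e2 : V = R' := cf.symm.beta_iff.1 (hb.symm te)
  have com : R' ≤ C[R] := e1 ▸ e2 ▸ cf.cent
  have n1 := hS.trans cf.na
  have n2 := hS.trans cf.nb
  have c1 := omC h h1.1.1 cf.sa s0 n1
  have c2 := omC h h2.1.1 cf.sb s0 n2
  have eU : EA (Om R) := (h.om (x := 1) cf.sa).2.1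
  have eV : EA (Om R') := (h.om (x := 1) cf.sb).2.1
  have eB : EA (Om R ⊔ Om R' ⊔ Om R0) := ea_sup (ea_sup eU eV
    ((Om_le R').trans (com.trans (C_anti (Om_le R))))) eT (by rw [C_sup]; exact le_inf c1 c2)
  obtain ⟨z, hz, z1, z2⟩ := TwoG.exists_inv s0.pi (te.ne_bot s0)
  have zT : z ∈ Om R0 := mem_Om' hz z2
  obtain ⟨P, sP, nP, lP, -⟩ := h.exists_ln eB.two (fixC te (s0.le hz) ⟨z1, z2⟩
    (mem_C_iff_le_C1.1 (eB.le_C (mem_sup_right zT))))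
  have eP : Om R0 = Om P := Ln.eq_Om ⟨R0, s0, rfl⟩ h sP
    (le_trans (le_inf ((Om_le _).trans s0.le) le_sup_right) lP)
  exact ⟨R, R', P, h, hm, hne, hb, h1, h2, cf.sa, cf.sb, sP, com, eP ▸ n1, eP ▸ n2,
    (le_sup_left.trans le_sup_left).trans nP, (le_sup_right.trans le_sup_left).trans nP⟩

namespace Fr

theorem symm (h : Fr Q e d b R R' P) : Fr Q d e b R' R P :=
  ⟨h.w, h.mq, h.ne.symm, h.be.symm h.w.te, h.a2, h.a1, h.sd, h.se, h.sb, centsC.1 h.com, h.n2, h.n1,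
    h.m2, h.m1⟩

theorem cU (h : Fr Q e d b R R' P) : Om P ≤ C[Om R] := omC h.w h.a1.1.1 h.se h.sb h.n1

theorem ap (h : Fr Q e d b R R' P) : AP Q e b (Om R) (Om P) :=
  ⟨h.a1, ⟨R, h.se, rfl⟩, ⟨P, h.sb, rfl⟩, h.cU⟩

theorem eU (h : Fr Q e d b R R' P) : EA (Om R) := (h.w.om (x := 1) h.se).2.1

theorem eT (h : Fr Q e d b R R' P) : EA (Om P) := (h.w.om (x := 1) h.sb).2.1

theorem UR (h : Fr Q e d b R R' P) : Om R ≤ C[R] := (h.w.om (x := 1) h.se).2.2.1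

theorem TP (h : Fr Q e d b R R' P) : Om P ≤ C[P] := (h.w.om (x := 1) h.sb).2.2.1

theorem VR (h : Fr Q e d b R R' P) : Om R' ≤ C[R] := (Om_le _).trans h.com

theorem UVR (h : Fr Q e d b R R' P) : Om R ⊔ Om R' ≤ C[R] := sup_le h.UR h.VR

theorem eUV (h : Fr Q e d b R R' P) : EA (Om R ⊔ Om R') :=
  ea_sup h.eU h.symm.eU (h.VR.trans (C_anti (Om_le _)))

theorem eB (h : Fr Q e d b R R' P) : EA (Om R ⊔ Om R' ⊔ Om P) :=
  ea_sup h.eUV h.eT (by rw [C_sup]; exact le_inf h.cU h.symm.cU)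

theorem UQ (h : Fr Q e d b R R' P) : Om R ≤ Q e := (Om_le _).trans h.se.le

theorem TQ (h : Fr Q e d b R R' P) : Om P ≤ Q b := (Om_le _).trans h.sb.le

theorem nR (h : Fr Q e d b R R' P) : R ≤ N[Om R ⊔ Om R' ⊔ Om P] := by
  rw [sup_right_comm]
  exact norm_sup (h.ap.act h.w h.se (Om_le _) h.n1).1 (norm_of_cent (centsC.1 h.VR))

theorem nR' (h : Fr Q e d b R R' P) : R' ≤ N[Om R ⊔ Om R' ⊔ Om P] := by
  rw [sup_comm (Om R)]
  exact h.symm.nR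

theorem nP (h : Fr Q e d b R R' P) : P ≤ N[Om R ⊔ Om R' ⊔ Om P] := by
  rw [sup_comm, sup_sup_distrib_left]
  exact norm_sup ((h.ap.symm h.w).act h.w h.sb (Om_le _) h.m1).1
    ((h.symm.ap.symm h.w).act h.w h.sb (Om_le _) h.m2).1

theorem BP (h : Fr Q e d b R R' P) : Om R ⊔ Om R' ⊔ Om P ≤ N[P] :=
  sup_le (sup_le h.m1 h.m2) (norm_of_cent h.TP)

theorem BR (h : Fr Q e d b R R' P) : Om R ⊔ Om R' ⊔ Om P ≤ N[R] :=
  sup_le (norm_of_cent h.UVR) h.n1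

theorem infU (h : Fr Q e d b R R' P) (hx : x ∈ Om R ⊔ Om R' ⊔ Om P) (hq : x ∈ Q e) : x ∈ Om R :=
  mem_Om' (mem_syl h.se hq (h.eB.two.piElt hx) (h.BR hx)) (h.eB.sq hx)

theorem noT (h : Fr Q e d b R R' P) (hx : x ∈ Om R ⊔ Om R') (hq : x ∈ Q b) : x = 1 := by
  by_contra h1
  have := (h.w.act h.a1.1.1 h.a1.2 hq ⟨h1, h.eUV.sq hx⟩ h.se (C_le_N _ (h.UVR hx))).1
  exact (h.w.om (x := 1) h.se).2.2.2.2
    (this.symm.trans (inf_eq_left.2 (mem_C_iff_le_C1.1 (h.UVR hx))))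

theorem phP (h : Fr Q e d b R R' P) (hx : x ∈ P) (h1 : x ∉ Om P) : Ph (Om P) (Om R) x :=
  (((h.ap.symm h.w).act h.w h.sb (Om_le _) h.m1).2 x hx h1).1

theorem cardU (h : Fr Q e d b R R' P) : ♯(Om R) = ♯(Om P) := h.ap.la.card h.w.te h.ap.lb

theorem exF (h : Fr Q e d b R R' P) :
    ∃ u ∈ Om R, ∃ v ∈ Om R', u ≠ 1 ∧ v ≠ 1 ∧ u * v ∈ C[P] := by
  obtain ⟨x, hx, h1⟩ := SetLike.exists_of_lt
    (lt_of_le_of_ne (Om_le P) (h.w.om (x := 1) h.sb).2.2.2.2)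
  obtain ⟨u, hu, -, -, -, -, u1, -⟩ := (h.w.om (x := 1) h.se).2.2.2.1
  have p1 := h.phP hx h1
  have p2 := h.symm.phP hx h1
  obtain ⟨v, hv, e⟩ := p2.surj h.symm.cardU.ge (p1.mem u hu)
  have v1 : v ≠ 1 := by
    rintro rfl
    exact p1.ne hu u1 (by rw [← e]; group)
  have hw : u * v ∈ Om R ⊔ Om R' := mul_mem (mem_sup_left hu) (mem_sup_right hv)
  have cx : x * (u * v) * x⁻¹ = u * v := by
    set a := u⁻¹ * (x * u * x⁻¹) with ha
    have aT : a ∈ Om P := p1.mem u hu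
    have e1 : x * u * x⁻¹ = u * a := by rw [ha]; group
    have e2 : x * v * x⁻¹ = v * a := by rw [← e]; group
    rw [H23.TC.conj_mul, e1, e2]
    calc u * a * (v * a) = u * (a * v) * a := by group
      _ = u * v * (a * a) := by rw [mem_C'.1 (h.symm.cU aT) v hv]; group
      _ = u * v := by rw [h.eT.sq aT, mul_one]
  refine ⟨u, hu, v, hv, u1, v1, by_contra fun hn => ?_⟩
  obtain ⟨p, hp⟩ := h.w.rad1 h.mq h.be h.ne h.a1 h.a2 (h.UQ hu) (h.symm.UQ hv) ⟨u1, h.eU.sq hu⟩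
    ⟨v1, h.symm.eU.sq hv⟩ (mem_C.1 (h.VR hv) u (Om_le _ hu)) h.sb (h.m1 hu) (h.m2 hv) hn
  have w1 : u * v ≠ 1 := fun e => hn (e ▸ one_mem _)
  have pb : b ≠ p := by
    rintro rfl
    exact w1 (h.noT hw hp)
  have wn : u * v ∈ N[P] := mul_mem (h.m1 hu) (h.m2 hv)
  by_cases hb : Beta Q b p
  · exact hn (cen h.w.te h.w.four hb pb hp (twoE_of_sq (h.eUV.sq hw)) h.sb wn)
  · exact h1 ((h.w.act pb hb hp ⟨w1, h.eUV.sq hw⟩ h.sb wn).1 ▸
      (⟨hx, mem_C1.2 (comm_of_conj cx)⟩ : x ∈ P ⊓ C{u * v}))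

/-- the twisting element -/
theorem exθ (h : Fr Q e d b R R' P) (hy : y ∈ R) (hU : y ∉ Om R) :
    ∃ θ ∈ N[Om R ⊔ Om R' ⊔ Om P], θ ∈ C[Om P] ∧ θ • e = d ∧
      ∀ u ∈ Om R, θ * u * θ⁻¹ ∈ Om R' ∧ u * (θ * u * θ⁻¹) ∈ C[P] := by
  have te := h.w.te
  obtain ⟨u0, hu0, v0, hv0, u1, v1, hF⟩ := h.exF
  have p := ((h.ap.act h.w h.se (Om_le _) h.n1).2 y hy hU).1
  obtain ⟨t0, ht0, e0⟩ := p.surj h.cardU.le hu0
  have t1 : t0 ≠ 1 := by
    rintro rfl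
    exact u1 (by rw [← e0]; group)
  obtain ⟨y1, hy1, e1⟩ := h.symm.ap.surj h.w h.mq h.sd (Om_le _) h.n2 ht0 t1 hv0
  obtain ⟨x, hx, ex⟩ := (h.ap.symm h.w).surj h.w h.mq h.sb (Om_le _) h.m1 hu0 u1 ht0
  have hψ : ∀ t ∈ Om P, t⁻¹ * (y1 * t * y1⁻¹) ∈ Om R' := fun t ht => by
    by_cases h1 : y1 ∈ Om R'
    · rw [conj_eq_of_mem_C (centsC.1 h.symm.cU h1) ht, inv_mul_cancel]; exact one_mem _
    · exact ((h.symm.ap.act h.w h.sd (Om_le _) h.n2).2 y1 hy1 h1).1.mem t ht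
  have hχ : ∀ u ∈ Om R, u⁻¹ * (x * u * x⁻¹) ∈ Om P := fun u hu => by
    by_cases h1 : x ∈ Om P
    · rw [conj_eq_of_mem_C (h.cU h1) hu, inv_mul_cancel]; exact one_mem _
    · exact (h.phP hx h1).mem u hu
  set η := y1 * y with hη
  have ηC : η ∈ C[Om R ⊔ Om R'] :=
    mul_mem (centsC.1 (sup_comm (Om R') (Om R) ▸ h.symm.UVR) hy1) (centsC.1 h.UVR hy)
  have ηN : η ∈ N[Om R ⊔ Om R' ⊔ Om P] := mul_mem (h.nR' hy1) (h.nR hy)
  have eη : ∀ t ∈ Om P, η * t * η⁻¹ = t * (t⁻¹ * (y * t * y⁻¹) * (t⁻¹ * (y1 * t * y1⁻¹))) :=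
    fun t ht => by
      have c1 := conj_eq_of_mem_C (h.com hy1) (Om_le _ (p.mem t ht))
      have c2 := mem_C.1 (h.VR (hψ t ht)) _ (Om_le _ (p.mem t ht))
      calc η * t * η⁻¹ = y1 * t * y1⁻¹ * (y1 * (t⁻¹ * (y * t * y⁻¹)) * y1⁻¹) := by rw [hη]; group
        _ = t * ((t⁻¹ * (y1 * t * y1⁻¹)) * (t⁻¹ * (y * t * y⁻¹))) := by rw [c1]; group
        _ = _ := by rw [c2]
  have hfm : ∀ t ∈ Om P, t⁻¹ * (y * t * y⁻¹) * (t⁻¹ * (y1 * t * y1⁻¹)) ∈ Om R ⊔ Om R' :=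
    fun t ht => mul_mem (mem_sup_left (p.mem t ht)) (mem_sup_right (hψ t ht))
  have e2 : η * t0 * η⁻¹ = t0 * (u0 * v0) := by
    rw [eη t0 ht0, e0, e1]; group
  have i0 : Inv (η * t0 * η⁻¹) := Inv.conj ⟨t1, h.eT.sq ht0⟩ η
  have q0 := te.conj (h.TQ ht0) η
  have bη : Beta Q b (η • b) := ⟨P, h.sb, fixC te q0 i0
    (mem_C_iff_le_C1.1 (e2 ▸ mul_mem (h.TP ht0) hF))⟩
  have w0 : u0 * v0 ∈ Om R ⊔ Om R' := mul_mem (mem_sup_left hu0) (mem_sup_right hv0)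
  have nη : b ≠ η • b := fun e => by
    rw [← e, e2] at q0
    have := h.noT w0 ((mul_mem_cancel_left (h.TQ ht0)).1 q0)
    refine h.ne (te.two (h.UQ hu0) ?_ (twoE_of_sq (h.eU.sq hu0)) u1)
    rw [eq_inv_of_mul_eq_one_left this]
    exact inv_mem (h.symm.UQ hv0)
  have hf : ∀ t ∈ Om P, t⁻¹ * (y * t * y⁻¹) * (t⁻¹ * (y1 * t * y1⁻¹)) ∈ C[P] := fun t ht => by
    have m := cN ηN (mem_sup_right ht)
    have := cen te h.w.four bη nη (te.conj (h.TQ ht) η) (h.eB.two.piElt m) h.sb (h.BP m)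
    rw [eη t ht] at this
    exact (mul_mem_cancel_left (h.TP ht)).1 this
  have xe : x • e = y • b := by
    refine te.ti _ _ _ (te.conj (h.UQ hu0) x) ?_ (Inv.conj ⟨u1, h.eU.sq hu0⟩ x)
    have : y * t0 * y⁻¹ = u0 * t0 := by
      rw [mem_C.1 (h.cU ht0) u0 hu0, ← e0]; group
    rw [ex, ← this]
    exact te.conj (h.TQ ht0) y
  have φχ : ∀ u ∈ Om R, (u⁻¹ * (x * u * x⁻¹))⁻¹ * (y * (u⁻¹ * (x * u * x⁻¹)) * y⁻¹) = u :=
    fun u hu => by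
      set c := u⁻¹ * (x * u * x⁻¹) with hc
      have cT : c ∈ Om P := hχ u hu
      have m1 : u * c ∈ Q (y • b) := by
        have := te.conj (h.UQ hu) x
        rw [xe] at this
        convert this using 1
        rw [hc]; group
      have m2 := te.conj (h.TQ cT) y
      have mU := p.mem c cT
      have m3 : u⁻¹ * (c⁻¹ * (y * c * y⁻¹)) ∈ Q (y • b) := by
        have := mul_mem (inv_mem m1) m2
        convert this using 1
        rw [mul_inv_rev u c, mem_C'.1 (h.cU (inv_mem cT)) _ (inv_mem hu)]; simp only [mul_assoc]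
      have m4 := mul_mem (inv_mem hu) mU
      by_contra hne
      have := te.two (h.UQ m4) m3 (h.eU.two.piElt m4) fun e => hne (inv_mul_eq_one.1 e).symm
      rw [← te.fix (h.se.le hy)] at this
      exact h.a1.1.1 (MulAction.injective _ this)
  have xT : x ∈ C[Om P] := centsC.1 h.TP hx
  have cθ : ∀ g, x * η * x * η * g * (x * η * x * η)⁻¹ =
      x * (η * (x * (η * g * η⁻¹) * x⁻¹) * η⁻¹) * x⁻¹ := fun g => by group
  have xf : ∀ f ∈ C[P], x * f * x⁻¹ = f := fun f hf => conj_of_comm (mem_C.1 hf x hx)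
  have key : ∀ u ∈ Om R, x * η * x * η * u * (x * η * x * η)⁻¹ =
      (u⁻¹ * (x * u * x⁻¹))⁻¹ * (y1 * (u⁻¹ * (x * u * x⁻¹)) * y1⁻¹) := fun u hu => by
    set c := u⁻¹ * (x * u * x⁻¹) with hc
    have cT : c ∈ Om P := hχ u hu
    have e3 : x * u * x⁻¹ = u * c := by rw [hc]; group
    have e4 := conj_eq_of_mem_C ηC (mem_sup_left hu)
    have e5 := hf c cT
    rw [cθ, e4, e3, H23.TC.conj_mul η u c, e4, eη c cT, H23.TC.conj_mul x u, H23.TC.conj_mul x c, e3, xf _ e5,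
      conj_eq_of_mem_C xT cT, φχ u hu]
    set ψ := c⁻¹ * (y1 * c * y1⁻¹)
    calc u * c * (c * (u * ψ)) = u * (c * c) * u * ψ := by group
      _ = ψ := by rw [h.eT.sq cT, mul_one, h.eU.sq hu, one_mul]
  refine ⟨x * η * x * η, mul_mem (mul_mem (mul_mem (h.nP hx) ηN) (h.nP hx)) ηN,
    mem_C'.2 fun t ht => comm_of_conj ?_, ?_, fun u hu => ?_⟩
  · rw [cθ, eη t ht, xf _ (mul_mem (h.TP ht) (hf t ht)), H23.TC.conj_mul η t, eη t ht,
      conj_eq_of_mem_C ηC (hfm t ht), mul_assoc t, h.eUV.sq (hfm t ht), mul_one,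
      conj_eq_of_mem_C xT ht]
  · refine te.ti _ _ _ (te.conj (h.UQ hu0) _) ?_ (Inv.conj ⟨u1, h.eU.sq hu0⟩ _)
    rw [key u0 hu0]
    exact h.symm.UQ (hψ _ (hχ u0 hu0))
  · rw [key u hu]
    refine ⟨hψ _ (hχ u hu), ?_⟩
    have := hf _ (hχ u hu)
    rwa [φχ u hu] at this

theorem false (h : Fr Q e d b R R' P) (hi : IP Q e b) : False := by
  have te := h.w.te
  obtain ⟨y, hy, hU, τ, hτ, p, hp, is⟩ := hi _ _ R h.ap h.se (Om_le _) h.n1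
  obtain ⟨θ, θN, θC, θe, hθ⟩ := h.exθ hy hU
  have ty : TwoE y := h.se.pi.piElt hy
  have yq : θ * y * θ⁻¹ ∈ Q d := θe ▸ te.conj (h.se.le hy) θ
  have eB' : Om R ⊔ Om R' ⊔ Om P = Om R' ⊔ Om R ⊔ Om P := by rw [sup_comm (Om R)]
  obtain ⟨z, hz, z1, z2⟩ := TwoG.exists_inv h.sd.pi (te.ne_bot h.sd)
  obtain ⟨c, cq, cC, hc⟩ := te.adjust (P := zpowers (θ * y * θ⁻¹)) h.eB
    (fixC te (h.sd.le hz) ⟨z1, z2⟩ (mem_C_iff_le_C1.1
      (h.eB.le_C (mem_sup_left (mem_sup_right (mem_Om' hz z2)))))) h.sd h.nR'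
    (centsC.1 fun g hg => h.symm.UR (h.symm.infU (eB' ▸ hg.2) hg.1)) (zpowers_le.2 yq)
    (ty.conj θ).isPi (zpowers_le.2 (cmem θN (h.nR hy))) (zpowers_le.2 (mem_C'.2 fun g hg => by
      have q : θ⁻¹ * g * θ⁻¹⁻¹ ∈ Q e := by
        have := te.conj hg.1 θ⁻¹
        rwa [← θe, inv_smul_smul] at this
      have := mem_C.1 (h.UR (h.infU (cN (inv_mem θN) hg.2) q)) y hy
      calc θ * y * θ⁻¹ * g = θ * (y * (θ⁻¹ * g * θ⁻¹⁻¹)) * θ⁻¹ := by group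
        _ = _ := by rw [this]; group))
  set y2 := c * θ * y * (c * θ)⁻¹ with hy2
  have y2R : y2 ∈ R' := by
    have := hc (conj_mem_cj c (mem_zpowers _))
    convert this using 1
    rw [hy2]; group
  have τc : c * θ * τ * (c * θ)⁻¹ = τ :=
    conj_eq_of_mem_C (mul_mem (C_anti le_sup_right cC) θC) hτ
  have es : c * θ * (y * τ) * (c * θ)⁻¹ = y2 * τ := by rw [H23.TC.conj_mul, τc]
  have is' : Inv (y2 * τ) := es ▸ is.conj (c * θ)
  have hp' : y2 * τ ∈ Q ((c * θ) • p) := es ▸ te.conj hp (c * θ)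
  have yU : y * y ∈ Om R := h.w.sq h.a1 h.se hy
  have y1 : y * y ≠ 1 := fun e => hU (mem_Om' hy e)
  obtain ⟨fV, fP⟩ := hθ _ yU
  have e2 : y2 * y2 = θ * (y * y) * θ⁻¹ := by
    rw [← conj_eq_of_mem_C cC (mem_sup_left (mem_sup_right fV)), hy2]; group
  rw [← e2] at fV fP
  have cy : y * y2 = y2 * y := mem_C.1 (h.com y2R) y hy
  have τ2 := h.eT.sq hτ
  have e3 : y * τ * (y2 * τ) = y * y2⁻¹ := by
    have : y2⁻¹ = τ * y2 * τ := inv_eq_of_mul_eq_one_right (by rw [← is'.2]; group)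
    rw [this]; group
  have hfm : y * y * (y2 * y2) ∈ Om R ⊔ Om R' := mul_mem (mem_sup_left yU) (mem_sup_right fV)
  have e4 : y * τ * (y2 * τ) * (y * τ * (y2 * τ)) = y * y * (y2 * y2) := by
    have c' : y * y2⁻¹ = y2⁻¹ * y := ((show Commute y y2 from cy).inv_right).eq
    rw [e3, sq_mul_comm c', ← mul_inv_rev, h.symm.eU.inv fV]
  have ne : ∀ g, y * y * (y2 * y2) ∈ Q g → e ≠ g := by
    rintro g hg rfl
    have h1 := (mul_mem_cancel_left (h.UQ yU)).1 hg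
    refine h.ne (te.two h1 (h.symm.UQ fV) (h.symm.eU.two.piElt fV) ?_)
    rw [e2]
    exact conj_ne y1 θ
  have f1 : y * y * (y2 * y2) ≠ 1 := fun e1 => ne e (e1 ▸ one_mem _) rfl
  obtain ⟨e', R1, U1, T1, T1', lc, m1, m2⟩ := h.w.d8 hp hp' is is' (by
    rw [show 4 = 2 * 2 from rfl, pow_mul, sq, sq, e4, h.eUV.sq hfm]) fun hc => f1 (by
      rw [← e4]; exact sq_mul is.2 is'.2 hc)
  have fq : y * y * (y2 * y2) ∈ Q e' := by
    have := lc.comm _ m1 _ m2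
    rw [inv_sq is.2, inv_sq is'.2, lc.eU] at this
    rw [← e4]
    convert lc.syl.le (Om_le _ this) using 1
    group
  have if0 : Inv (y * y * (y2 * y2)) := ⟨f1, h.eUV.sq hfm⟩
  have fR := fixC te fq if0 (mem_C_iff_le_C1.1 (h.UVR hfm))
  have fB := fixC te fq if0 (mem_C_iff_le_C1.1 (h.eB.le_C (mem_sup_left hfm)))
  have nb : b ≠ e' := by
    rintro rfl
    exact f1 (h.noT hfm fq)
  have b1 : Beta Q e' e := Beta.symm te ⟨R, h.se, fR⟩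
  have b2 : Beta Q e' b := Beta.symm te ⟨P, h.sb, fixC te fq if0 (mem_C_iff_le_C1.1 fP)⟩
  obtain ⟨R2, s2, n2, -⟩ := te.exists_syl (h.se.pi.sup h.eB.two h.BR) (sup_le fR fB)
  have c1 := cen te h.w.four b1 (ne e' fq).symm (h.se.le hy) ty s2 (n2 (mem_sup_left hy))
  have c2 := cen te h.w.four b2 nb.symm (h.TQ hτ) (twoE_of_sq τ2) s2
    (n2 (mem_sup_right (mem_sup_right hτ)))
  exact lc.ab.2 ⟨R2, s2, fixC te hp is (mem_C_iff_le_C1.1 (mul_mem c1 c2))⟩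

end Fr

end ACsx

theorem W2.d8b (h : W2 Q) (hm : MQ Q) (hi : IP Q e b) (hb : Beta Q e d) (hne : e ≠ d)
    (h1 : Alp Q e b) (h2 : Alp Q d b) (hu : u ∈ Q e) (hv : v ∈ Q d) (ht : t ∈ Q b) (iu : Inv u)
    (iv : Inv v) (it : Inv t) (uv : u * v = v * u) (ut : u * t = t * u) (vt : v * t = t * v) :
    False := by
  obtain ⟨R, R', P, hf⟩ := ACsx.exists_fr h hm hb hne h1 h2 hu hv ht iu iv it uv ut vt
  exact hf.false hi

end ACo
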