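import Mathlib
import Cfsg.Agent.H22.AC0
import Cfsg.Agent.H25.Std

set_option autoImplicit false
set_option linter.unusedSectionVars false
set_option linter.unusedVariables false

namespace ACo

open Cfsg H24 H26 H26.Gold H23.TC H3.B71 Subgroup MulAction
open scoped commutatorElement Pointwise

universe u

namespace ACtx

variable {G : Type u} [Group G] [Finite G] {A D K L P Q R : Subgroup G} {b c g w x y z : G}

theorem r2e (hA : EA A) (h : 2 < ♯A) : R2 A := by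
  obtain ⟨a, ha, a1⟩ := exists_ne_one (H := A) fun e => by rw [e, card_bot] at h; omega
  obtain ⟨b, hb, hba⟩ := SetLike.not_le_iff_exists.1 fun e : A ≤ zpowers a => by
    have := card_le e
    rw [card_zpowers', ord2 a1 (hA.sq ha)] at this; omega
  exact ⟨a, ha, b, hb, hA.sq ha, hA.sq hb, a1, fun e => hba (e ▸ one_mem _),
    fun e => hba (e ▸ mem_zpowers _), hA.comm ha hb⟩

theorem r2_of (h : ¬ PRankLE 2 1 L) : R2 L := by
  obtain ⟨V, h1, h2, h3⟩ := H25.LB.exists_elem_of_not_pRankLE h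
  exact (r2e h2 (by simpa using h3)).mono h1

theorem rank_of (h : ¬ PRankLE 2 1 L) : PRankAtLeast 2 2 L := by
  unfold PRankLE at h
  push Not at h
  obtain ⟨A, h1, h2, h3⟩ := h
  refine ⟨A, h1, h2, ?_⟩
  obtain ⟨n, hn⟩ := (EA.two (A := A) ⟨h1, h2⟩).card_eq_pow p2
  rw [hn] at h3 ⊢
  exact Nat.pow_le_pow_right (by omega) ((Nat.pow_lt_pow_iff_right (by omega)).1 h3)

theorem compCj (h : H23.IsCompOf K C{x}) (g : G) : H23.IsCompOf (cj g K) C{g * x * g⁻¹} := by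
  have := h.conj g
  rwa [← cj_def, ← cj_def, cj_C1] at this

theorem compCj' (h : H23.IsCompOf K C{x}) (hg : g ∈ C{x}) : H23.IsCompOf (cj g K) C{x} := by
  have := compCj h g
  rwa [mem_C1.1 hg, mul_inv_cancel_right] at this

/-- a Sylow subgroup of a quasisimple group of rank two is not almost central -/
theorem ix (hq : Qs L) (hr : R2 L) (hP : Syl 2 L P) (hQ : Q ≤ C[L]) (hi : Ix2 Q P) : False := by
  have hab : Abl P := H25.abl_iff.2 fun a ha b hb => by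
    by_cases h1 : a ∈ Q
    · exact (mem_C.1 (hQ h1) b (hP.le hb)).symm
    by_cases h2 : b ∈ Q
    · exact mem_C.1 (hQ h2) a (hP.le ha)
    have := mem_C.1 (hQ (hi.inv_mul ha hb h1 h2)) a (hP.le ha)
    calc a * b = a * (a⁻¹ * b * a) := by rw [← this]; group
      _ = b * a := by group
  obtain ⟨a, ha, b, hb, a2, b2, a1, b1, ab, -⟩ := hr.syl hP
  have := tz_abl hq.perf hP hab (mul_mem ha hb) (hQ (hi a ha b hb
    (fun e => a1 (tz_abl hq.perf hP hab ha (hQ e))) fun e => b1 (tz_abl hq.perf hP hab hb (hQ e))))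
  exact ab (by rw [← inv_sq b2]; exact eq_inv_of_mul_eq_one_left this)

/-- no cyclic subgroup of index two -/
theorem nb (hq : Qs L) (hr : R2 L) (hP : Syl 2 L P) (hy : Inv y) (hyC : y ∈ C[L]) (hPR : P ≤ R)
    (hyR : y ∈ R) (hi : Ix2 (zpowers c) R) : False := by
  by_cases hyL : y ∈ L
  · exact mc0 hq.perf hr hP (hi.mono hPR) hyL hyC hy.1 hy.2
  obtain ⟨a, ha, b, hb, a2, b2, a1, b1, ab, hc⟩ := hr.syl hP
  have k1 : ∃ u ∈ L, u ∈ zpowers c ∧ u ≠ 1 ∧ u * u = 1 := by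
    by_cases h1 : a ∈ zpowers c
    · exact ⟨a, hP.le ha, h1, a1, a2⟩
    by_cases h2 : b ∈ zpowers c
    · exact ⟨b, hP.le hb, h2, b1, b2⟩
    exact ⟨a * b, hP.le (mul_mem ha hb), hi a (hPR ha) b (hPR hb) h1 h2,
      fun e => ab (by rw [← inv_sq b2]; exact eq_inv_of_mul_eq_one_left e), sq_mul a2 b2 hc⟩
  have k0 : ∀ a ∈ P, a * a = 1 → a ∉ zpowers c → y ∉ zpowers c →
      ∃ w ∉ L, w ∈ zpowers c ∧ w * w = 1 := fun a ha a2 h1 h2 =>
    ⟨a * y, fun e => hyL ((mul_mem_cancel_left (hP.le ha)).1 e), hi a (hPR ha) y hyR h1 h2,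
      sq_mul a2 hy.2 (mem_C.1 hyC a (hP.le ha))⟩
  have k2 : ∃ w ∉ L, w ∈ zpowers c ∧ w * w = 1 := by
    by_cases h0 : y ∈ zpowers c
    · exact ⟨y, hyL, h0, hy.2⟩
    by_cases h1 : a ∈ zpowers c
    · exact k0 b hb b2 (fun h2 => ab (inv_unique h1 h2 a1 a2 b1 b2)) h0
    · exact k0 a ha a2 h1 h0
  obtain ⟨u, hu, uc, u1, u2⟩ := k1
  obtain ⟨w, hw, wc, w2⟩ := k2
  exact hw (inv_unique uc wc u1 u2 (fun e => hw (e ▸ one_mem _)) w2 ▸ hu)

/-- the diagonal configuration -/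
structure Tri (K D : Subgroup G) (y z : G) : Prop where
  comp : H23.IsCompOf D C{y}
  comp' : H23.IsCompOf (cj z D) C{y}
  card : ♯D = ♯K
  ne : cj z D ≠ D
  nc : ¬ K ≤ C[D]
  le : K ≤ D ⊔ cj z D
  cent : cj z D ≤ C[D]
  ix : Ix2 (C[D] ⊓ C[cj z D]) (C{y} ⊓ C[K])

theorem tri0 (hL2 : pLayer 2 ↥C{y} = layer ↥C{y}) (hz : Inv z) (hK : H23.IsCompOf K C{z})
    (hyK : y ∈ C[K]) (hc : z ∈ C{y}) (hmax : ∀ D, H23.IsCompOf D C{y} → ♯D ≤ ♯K)
    (hng : ¬ H23.IsCompOf K C{y}) : ∃ D, H23.IsCompOf D C{y} ∧ ♯D = ♯K ∧ cj z D ≠ D ∧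
      ¬ K ≤ C[D] ∧ K ≤ D ⊔ cj z D ∧ ∀ d ∈ D, d * (z * d * z⁻¹) ∈ K := by
  set X := C{y} with hX
  have hKX : K ≤ X := mem_C_iff_le_C1.1 hyK
  have hK1 : H23.IsCompOf (K.subgroupOf X) (centralizer {(⟨z, hc⟩ : X)}) := by
    have h1 := H25.LB.comp_subgroupOf (hK.of_le (le_inf hKX hK.1) inf_le_right)
      (inf_le_left : _ ≤ X)
    rw [inf_subgroupOf_left] at h1
    rwa [← H23.comap_centralizer_singleton_of_injective X.subtype_injective]
  obtain ⟨D, hD, hKD, hcase⟩ := H25.LB.trichotomy hL2 (t := ⟨z, hc⟩)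
    (by rw [orderOf_mk, ord2 hz.1 hz.2]) hK1
  have hD' := H23.isCompOf_map_subtype hD
  have hm := hmax _ hD'
  rw [card_map_of_injective X.subtype_injective] at hm
  rcases hcase with h | ⟨h, -⟩ | ⟨hne, -, π, hπ, hKπ⟩
  · exact absurd ⟨hKX, h ▸ hD⟩ hng
  · have := H2.card_lt_of_lt h
    rw [card_subgroupOf_of_le hKX] at this; omega
  have hle : ♯(K.subgroupOf X) ≤ ♯D := by
    rw [hKπ]; exact Nat.card_le_card_of_surjective _ π.rangeRestrict_surjective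
  rw [card_subgroupOf_of_le hKX] at hle
  refine ⟨D.map X.subtype, hD', by rw [card_map_of_injective X.subtype_injective]; omega,
    fun e => hne ?_, fun e => hKD (comm_eq_bot.2 fun k hk => mem_C.2 fun d hd => Subtype.ext
      (mem_C.1 (e hk) d ⟨d, hd, rfl⟩)), fun k hk => ?_, ?_⟩
  · refine map_injective X.subtype_injective (Eq.trans ?_ e)
    rw [cj_def, map_map, map_map]; rfl
  · obtain ⟨d, hd⟩ : (⟨k, hKX hk⟩ : X) ∈ π.range := hKπ ▸ hk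
    have := congrArg Subtype.val (hπ d ▸ hd)
    rw [← show _ = k from this]
    exact mul_mem (mem_sup_left ⟨d, d.2, rfl⟩) (mem_sup_right (conj_mem_cj z ⟨d, d.2, rfl⟩))
  · rintro _ ⟨d, hd, rfl⟩
    have : π ⟨d, hd⟩ ∈ K.subgroupOf X := hKπ ▸ ⟨_, rfl⟩
    rw [hπ] at this
    exact this

theorem tri (hL2 : pLayer 2 ↥C{y} = layer ↥C{y}) (hz : Inv z) (hK : H23.IsCompOf K C{z})
    (hyK : y ∈ C[K]) (hc : z ∈ C{y}) (hmax : ∀ D, H23.IsCompOf D C{y} → ♯D ≤ ♯K)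
    (hng : ¬ H23.IsCompOf K C{y}) : ∃ D, Tri K D y z := by
  obtain ⟨D, h1, h2, h3, h4, h5, h6⟩ := tri0 hL2 hz hK hyK hc hmax hng
  have h1' := compCj' h1 hc
  have hzK : z ∈ C[K] := mem_C_iff_le_C1.2 hK.1
  have hce : cj z D ≤ C[D] := comm_eq_bot.1 ((h1'.eq_or_comm h1).resolve_left h3)
  have zz : cj z (cj z D) = D := by rw [← cj_mul, hz.2, cj_one]
  have h4' : ¬ K ≤ C[cj z D] := fun e => h4 (by
    have := cent_cj e z
    rwa [zz, cj_of_mem_N (C_le_N K hzK)] at this)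
  have key : ∀ b ∈ C[K], ∀ E, cj b E ≤ C[D] → cj b E ≤ C[cj z D] → K ≤ C[E] := by
    intro b hb E e1 e2
    have := cent_cj (h5.trans (cents_symm (cents_sup e1 e2))) b⁻¹
    rwa [cj_inv_cj, cj_of_mem_N (C_le_N K (inv_mem hb))] at this
  have perm : ∀ b ∈ C{y} ⊓ C[K], b ∉ N[D] → z * b ∈ N[D] := fun b hb hn => by
    have h7 := compCj' h1 hb.1
    have e1 := (h7.eq_or_comm h1).resolve_left fun e => hn (mem_N_iff_cj.2 e)
    rcases h7.eq_or_comm h1' with e | e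
    · rw [mem_N_iff_cj, cj_mul, e, zz]
    · exact absurd (key b hb.2 D (comm_eq_bot.1 e1) (comm_eq_bot.1 e)) h4
  have cen : ∀ b ∈ C{y} ⊓ C[K], b ∈ N[D] → b ∈ C[D] ⊓ C[cj z D] := fun b hb hn => by
    have hn' : b ∈ N[cj z D] := by
      rcases (compCj' h1' hb.1).eq_or_comm h1' with e | e
      · exact mem_N_iff_cj.2 e
      · refine absurd (key b hb.2 _ ?_ (comm_eq_bot.1 e)) h4'
        have := cent_cj hce b
        rwa [cj_of_mem_N hn] at this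
    have hb' : ∀ x ∈ zpowers b, ∀ d ∈ D, x * (d * (z * d * z⁻¹)) = d * (z * d * z⁻¹) * x :=
      fun x hx d hd => (mem_C.1 (zpowers_le.2 hb.2 hx) _ (h6 d hd)).symm
    have e1 : b ∈ C[D] := comm_eq_bot.1 (H25.LB.comm_bot_of_centralizes_diag
      (H23.IsQuasisimple.perfect h1.quasisimple) (comm_eq_bot'.2 hce) (zpowers_le.2 hn)
      (zpowers_le.2 hn') hb') (mem_zpowers b)
    refine ⟨e1, mem_C.2 fun x hx => ?_⟩
    obtain ⟨d, hd, rfl⟩ := mem_cj'.1 hx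
    have h8 := hb' b (mem_zpowers b) d hd
    rw [← mul_assoc, ← mem_C.1 e1 d hd, mul_assoc, mul_assoc d] at h8
    exact (mul_left_cancel h8).symm
  refine ⟨D, h1, h1', h2, h3, h4, h5, hce, fun a ha b hb e1 e2 => cen _ (mul_mem ha hb) ?_⟩
  have f1 := perm a⁻¹ (inv_mem ha) fun e => e1 (cen a ha (inv_mem_iff.1 e))
  have f2 := perm b hb fun e => e2 (cen b hb e)
  have : a * b = (z * a⁻¹)⁻¹ * (z * b) := by group
  rw [this]
  exact mul_mem (inv_mem f1) f2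

/-- the weight -/
noncomputable def wt (R : Subgroup G) : ℕ :=
  open Classical in if ∃ c, Ix2 (zpowers c) R then 0 else ♯R

theorem wt_le (R : Subgroup G) : wt R ≤ ♯R := by unfold wt; split_ifs <;> omega

theorem Tri.new (h : Tri K D y z) (hy : Inv y) (hr : R2 (cj z D)) (hQ : TwoG Q) (hyQ : y ∈ Q)
    (hQC : Q ≤ C[D] ⊓ C[cj z D]) : ∃ R, Syl 2 C[D] R ∧ y ∈ R ∧ ♯Q * 2 < wt R := by
  obtain ⟨P, hP⟩ := Sylow_exists p2 (cj z D)
  have hq := Qs.of_quasisimple h.comp'.quasisimple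
  have hQ' : Q ≤ C[cj z D] := hQC.trans inf_le_right
  obtain ⟨R, hR, hle⟩ := Sylow_superset p2
    (hQ.sup hP.pi (norm_of_cent (hP.le.trans (cents_symm hQ'))))
    (sup_le (hQC.trans inf_le_left) (hP.le.trans h.cent))
  have hyR := hle (mem_sup_left hyQ)
  refine ⟨R, hR, hyR, ?_⟩
  unfold wt
  rw [if_neg fun ⟨c, hc⟩ => nb hq hr hP hy (hQ' hyQ) (le_sup_right.trans hle) hyR hc]
  by_contra hn
  exact ACtx.ix hq hr hP hQ' ((ix2_of_card (le_sup_left.trans hle) (by omega)).mono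
    (le_sup_right.trans hle))

theorem sq_step (hg : TwoE g) (h : g ∉ P) : ∃ k : ℕ, g ^ k ∉ P ∧ g ^ k * g ^ k ∈ P := by
  obtain ⟨n, hn⟩ := hg.exists_pow p2
  have h1 : g ^ 2 ^ n ∈ P := by rw [← hn, pow_orderOf_eq_one]; exact one_mem _
  clear hn
  induction n with
  | zero => exact absurd (by simpa using h1) h
  | succ n ih =>
    by_cases e : g ^ 2 ^ n ∈ P
    · exact ih e
    · exact ⟨2 ^ n, e, by rwa [← pow_add, ← two_mul, ← pow_succ'] ⟩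

theorem ix_norm (hi : Ix2 Q P) : P ≤ N[P ⊓ Q] := fun p hp => mem_N_of_finite fun x hx => by
  have h1 := cmem hp hx.1
  refine ⟨h1, ?_⟩
  by_cases e : p ∈ Q
  · exact cmem e hx.2
  by_contra hn
  have := hi.inv_mul hp h1 e hn
  rw [show p⁻¹ * (p * x * p⁻¹) = x * p⁻¹ by group] at this
  exact e (inv_mem_iff.1 ((mul_mem_cancel_left (mem_inf.1 hx).2).1 this))

/-- a `2`-group step: a common central involution or a small group -/
theorem step (hR : TwoG R) (hP : P ≤ R) (hn : ¬ R ≤ P) (hi : Ix2 Q P) :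
    ♯P ≤ 4 ∨ ∃ w ∈ P ⊓ Q, Inv w ∧ ♯P < ♯(R ⊓ C{w}) := by
  obtain ⟨g0, hg0, n0, m0⟩ := exists_norm_lt hR hP hn
  obtain ⟨k, m1, m2⟩ := sq_step (hR.piElt hg0) m0
  have hg : g0 ^ k ∈ R := pow_mem hg0 k
  have hgN : g0 ^ k ∈ N[P] := pow_mem n0 k
  generalize g0 ^ k = g at m1 m2 hg hgN
  have a1 := ix_norm hi
  have a2 : P ≤ N[cj g (P ⊓ Q)] := by
    have := norm_cj a1 g
    rwa [cj_of_mem_N hgN] at this
  by_cases hI : (P ⊓ Q) ⊓ cj g (P ⊓ Q) = ⊥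
  · left
    have b1 : Ix2 (cj g (P ⊓ Q)) (P ⊓ Q) := fun a ha b hb e1 e2 => by
      rw [mem_cj] at e1 e2 ⊢
      have c1 := cN' hgN ha.1
      have c2 := cN' hgN hb.1
      rw [show g⁻¹ * (a * b) * g = g⁻¹ * a * g * (g⁻¹ * b * g) by group]
      exact ⟨mul_mem c1 c2, hi _ c1 _ c2 (fun e => e1 ⟨c1, e⟩) fun e => e2 ⟨c2, e⟩⟩
    have b2 := b1.card_le
    have b3 := hi.card_le
    rw [inf_comm (cj g _), hI, card_bot] at b2
    rw [inf_comm] at b3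
    omega
  · right
    have a3 : g ∈ N[(P ⊓ Q) ⊓ cj g (P ⊓ Q)] := by
      rw [mem_N_iff_cj, cj_inf, ← cj_mul, cj_of_mem_N (a1 m2), inf_comm]
    have hle : P ⊔ zpowers g ≤ R := sup_le hP (zpowers_le.2 hg)
    obtain ⟨w, hw, wc, w1⟩ := two_cent (hR.of_le hle)
      (hR.of_le (inf_le_left.trans (inf_le_left.trans hP)))
      (sup_le (norm_inf a1 a2) (zpowers_le.2 a3)) hI
    refine ⟨w, hw.1, w1, lt_of_lt_of_le (H2.card_lt_of_lt (lt_of_le_of_ne le_sup_left fun e =>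
      m1 (e ▸ mem_sup_right (mem_zpowers g)))) (card_le (le_inf hle (mem_C_iff_le_C1.1 wc)))⟩

end ACtx

variable {G Ω : Type u} [Group G] [Finite G] [MulAction G Ω] [Finite Ω] {Q K : Ω → Subgroup G}
  {a b b' c d e : Ω} {A B E F H M P R R' S S' S₀ S₁ S₂ T T' U U1 V W X Y : Subgroup G}
  {f g k r s t u v w x y z : G}

/-! ### ACt -/
open ACtx in
theorem exists_terminal [IsSimpleGroup G] (hB : HasBProperty G) (ht : orderOf t = 2)
    (hE : layer ↥(centralizer ({t} : Set G)) ≠ ⊥)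
    (hr : ∀ (z : G) (L : Subgroup G), orderOf z = 2 → IsComponentOf L (centralizer ({z} : Set G)) →
      ¬ PRankLE 2 1 L) :
    ∃ (x : G) (L : Subgroup G), IsTerminalPair 2 x L ∧ PRankAtLeast 2 2 L := by
  have io : ∀ {y : G}, orderOf y = 2 → Inv y := fun h =>
    ⟨H6.ne_one_of_orderOf_two h, H6.mul_self_of_orderOf_two h⟩
  have hO : oddCore G = ⊥ :=
    (IsSimpleGroup.eq_bot_or_eq_top_of_normal (pPrimeCore 2 G) inferInstance).resolve_right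
      fun e => by
        have h1 := H2.pPrimeCore_coprime 2 G
        rw [e, card_top] at h1
        exact absurd (Nat.Coprime.eq_one_of_dvd h1.symm (ht ▸ orderOf_dvd_natCard t)) (by norm_num)
  have hL2 : ∀ y : G, Inv y → pLayer 2 ↥C{y} = layer ↥C{y} := fun y hy => by
    apply H25.LB.pLayer_eq_layer_of_comm
    have := hB y (ord2 hy.1 hy.2)
    rwa [hO, le_bot_iff, map_eq_bot_iff_of_injective _ (subtype_injective _)] at this
  obtain ⟨L0, hL0⟩ : ∃ L0 : Subgroup ↥C{t}, IsComponent L0 := by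
    by_contra hn
    exact hE (H23.layer_eq_bot_iff.2 fun L h => hn ⟨L, h⟩)
  obtain ⟨K1, ⟨z1, hz1, hK1⟩, hm1⟩ := Set.exists_max_image
    {K : Subgroup G | ∃ z, Inv z ∧ H23.IsCompOf K C{z}} (fun K => ♯K) (Set.toFinite _)
    ⟨_, t, io ht, H23.isCompOf_map_subtype hL0⟩
  obtain ⟨R1, hR1, hle1⟩ := Sylow_superset p2 (twoE_of_sq hz1.2).isPi
    (zpowers_le.2 (mem_C_iff_le_C1.2 hK1.1))
  obtain ⟨⟨K, R⟩, ⟨hc, hR, z0, hz0R, hz0, hK⟩, hm⟩ := Set.exists_max_image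
    {p : Subgroup G × Subgroup G | ♯p.1 = ♯K1 ∧ Syl 2 C[p.1] p.2 ∧
      ∃ z ∈ p.2, Inv z ∧ H23.IsCompOf p.1 C{z}} (fun p => wt p.2) (Set.toFinite _)
    ⟨⟨K1, R1⟩, rfl, hR1, z1, hle1 (mem_zpowers _), hz1, hK1⟩
  dsimp only at hc hR hz0R hK hm
  have tr : ∀ y z : G, Inv y → Inv z → H23.IsCompOf K C{z} → y ∈ C[K] → z ∈ C{y} →
      ¬ H23.IsCompOf K C{y} → ∃ D, Tri K D y z ∧ ∀ Q, TwoG Q → y ∈ Q → Q ≤ C[D] ⊓ C[cj z D] →
        ♯Q * 2 < wt R := fun y z hy hz h1 h2 h3 h4 => by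
    obtain ⟨D, hD⟩ := tri (hL2 y hy) hz h1 h2 h3 (fun D hD => hc ▸ hm1 D ⟨y, hy, hD⟩) h4
    refine ⟨D, hD, fun Q q1 q2 q3 => ?_⟩
    obtain ⟨R', r1, r2, r3⟩ := hD.new hy (r2_of (hr y _ (ord2 hy.1 hy.2) hD.comp')) q1 q2 q3
    exact r3.trans_le (hm ⟨D, R'⟩ ⟨hD.card.trans hc, r1, y, r2, hy, hD.comp⟩)
  have yD : ∀ {D : Subgroup G} {y z : G}, Tri K D y z → y ∈ C[D] ⊓ C[cj z D] := fun h =>
    ⟨mem_C_iff_le_C1.2 h.comp.1, mem_C_iff_le_C1.2 h.comp'.1⟩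
  have s1 : ∀ y ∈ R, y ∈ C[R] → Inv y → H23.IsCompOf K C{y} := fun y hyR hyC hy => by
    by_contra hn
    have hRy : R ≤ C{y} := mem_C_iff_le_C1.1 hyC
    obtain ⟨D, hD, h⟩ := tr y z0 hy hz0 hK (hR.le hyR) (hRy hz0R) hn
    have h1 := h (C[D] ⊓ C[cj z0 D] ⊓ R) (hR.pi.of_le inf_le_right) ⟨yD hD, hyR⟩ inf_le_left
    have h2 := (hD.ix.mono (le_inf hRy hR.le)).card_le
    have := wt_le R
    omega
  obtain ⟨z, hzR, hzC, hz⟩ := two_cent hR.pi hR.pi (norm_self R) (ne_bot_of_mem hz0R hz0.1)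
  have hKz := s1 z hzR hzC hz
  have s2 : ∀ y ∈ R, Inv y → H23.IsCompOf K C{y} := by
    by_contra hn
    push Not at hn
    obtain ⟨y, ⟨hyR, hy, hng⟩, hmy⟩ := Set.exists_max_image
      {y : G | y ∈ R ∧ Inv y ∧ ¬ H23.IsCompOf K C{y}} (fun y => ♯(R ⊓ C{y})) (Set.toFinite _)
      (by obtain ⟨y, h⟩ := hn; exact ⟨y, h⟩)
    obtain ⟨D, hD, h⟩ := tr y z hy hz hKz (hR.le hyR) (mem_C1.2 (mem_C.1 hzC y hyR).symm) hng
    rcases step hR.pi (inf_le_left : R ⊓ C{y} ≤ R)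
      (fun e => hng (s1 y hyR (mem_C_iff_le_C1.2 (e.trans inf_le_right)) hy))
      (hD.ix.mono (le_inf inf_le_right (inf_le_left.trans hR.le))) with e | ⟨w, hw, wi, e⟩
    · obtain ⟨c, -, hc'⟩ := mc1 hR.pi hyR e
      have h1 := h (zpowers y) (twoE_of_sq hy.2).isPi (mem_zpowers y) (zpowers_le.2 (yD hD))
      unfold wt at h1
      rw [if_pos ⟨c, hc'⟩] at h1
      omega
    · have hKw : H23.IsCompOf K C{w} := by
        by_contra hn'
        exact absurd (hmy w ⟨hw.1.1, wi, hn'⟩) (not_le.2 e)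
      have h1 := hKw.of_le hD.le (sup_le (mem_C_iff_le_C1.1 hw.2.1) (mem_C_iff_le_C1.1 hw.2.2))
      have h2 := hD.comp.of_le le_sup_left (sup_le hD.comp.1 hD.comp'.1)
      rcases h1.eq_or_comm h2 with e1 | e1
      · exact hD.ne (e1 ▸ cj_of_mem_N (C_le_N K (hR.le hzR)))
      · exact hD.nc (comm_eq_bot.1 e1)
  refine ⟨z0, K, ⟨ord2 hz0.1 hz0.2, hK, H25.LB.two_dvd_card_of_quasisimple hK.quasisimple,
    fun y hyK hy => ?_⟩, rank_of (hr z0 K (ord2 hz0.1 hz0.2) hK)⟩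
  obtain ⟨g, hg, hgy⟩ := conj_into hR hyK (twoE_of_sq (io hy).2)
  have := compCj (s2 _ hgy ⟨conj_ne (io hy).1 g, conj_sq (io hy).2 g⟩) g⁻¹
  rwa [cj_of_mem_N (C_le_N K (inv_mem hg)),
    show g⁻¹ * (g * y * g⁻¹) * g⁻¹⁻¹ = y by group] at this

end ACo
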