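import Mathlib
import Cfsg.Agent.H22.AC0
import Cfsg.Agent.H22.ACs
import Cfsg.Agent.H22.AC1

set_option autoImplicit false
set_option linter.unusedSectionVars false
set_option linter.unusedVariables false

namespace ACo

open Cfsg H24 H26 H26.Gold H23.TC H3.B71 Subgroup MulAction
open scoped commutatorElement Pointwise

universe u

variable {G Ω : Type u} [Group G] [Finite G] [MulAction G Ω] [Finite Ω] {Q K : Ω → Subgroup G}
  {a b b' c d e : Ω} {A B E F H M P R R' S S' S₀ S₁ S₂ T T' U U1 V W X Y : Subgroup G}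
  {f g k r s t u v w x y z : G}

/-! ### ACu -/
namespace ACux

theorem nK (h : KD K Q) : stabilizer G a ≤ N[K a] := fun g hg =>
  mem_N_iff_cj.2 (by rw [← h.eqv, mem_stabilizer_iff.1 hg])

theorem KY (h : YC K Q a b R U T Y) : K a ≤ Y := h.eY ▸ le_sup_left
theorem TY (h : YC K Q a b R U T Y) : T ≤ Y := h.eY ▸ le_sup_right
theorem eU (h : YC K Q a b R U T Y) : U = Om R := h.ap.la.eq_Om h.w2 h.syl h.le
theorem KR (h : YC K Q a b R U T Y) : K a ≤ C[R] := cents_of_le (h.kd.cent a) h.syl.le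

end ACux

open ACux

theorem YC.cent (h : YC K Q a b R U T Y) : Y ≤ C[U] ∧ Y ≤ N[R] ∧ Y ≤ stabilizer G a := by
  have n : Y ≤ N[R] := h.eY ▸ sup_le (norm_of_cent (KR h)) h.nT
  exact ⟨h.eY ▸ sup_le (cents_of_le (KR h) h.le) h.ap.cent, n,
    fun g hg => h.w2.te.fix_N h.syl.le h.syl.pi (h.w2.te.ne_bot h.syl) (n hg)⟩
theorem YC.dec (h : YC K Q a b R U T Y) (hg : g ∈ Y) : ∃ k ∈ K a, ∃ t ∈ T, g = k * t :=
  (mem_sup_of_norm (((TY h).trans h.cent.2.2).trans (nK h.kd))).1 (h.eY ▸ hg)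
theorem YC.inK (h : YC K Q a b R U T Y) (hx : x ∈ Y) (hy : y ∈ Y) : x⁻¹ * (y * x * y⁻¹) ∈ K a := by
  obtain ⟨k, hk, t, ht, rfl⟩ := h.dec hx
  obtain ⟨l, hl, s, hs, rfl⟩ := h.dec hy
  have n := ((TY h).trans h.cent.2.2).trans (nK h.kd)
  have e := (h.ap.lb.ea h.w2).comm ht (inv_mem hs)
  rw [show (k * t)⁻¹ * (l * s * (k * t) * (l * s)⁻¹) = t⁻¹ * (k⁻¹ * l * (s * k * (t * s⁻¹))) * l⁻¹ by
    group, e, show t⁻¹ * (k⁻¹ * l * (s * k * (s⁻¹ * t))) = t⁻¹ * (k⁻¹ * l * (s * k * s⁻¹)) * t by group]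
  exact mul_mem (cN' (n ht) (mul_mem (mul_mem (inv_mem hk) hl) (cN (n hs) hk))) (inv_mem hl)
theorem YC.cR (h : YC K Q a b R U T Y) (hx : x ∈ U ⊔ T) (hc : x ∈ C[R]) : x ∈ U := by
  obtain ⟨u, hu, t, ht, rfl⟩ := (mem_sup_of_norm (norm_of_cent h.ap.cent)).1 hx
  have o := h.w2.om (x := 1) h.syl
  rw [← eU h] at o
  obtain ⟨y, hy, yn⟩ : ∃ y ∈ R, y ∉ U := by
    by_contra hn
    push Not at hn
    exact o.2.2.2.2 (le_antisymm h.le hn)
  rw [((h.ap.act h.w2 h.syl h.le h.nT).2 y hy yn).1.free t ht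
    (mem_C.1 ((mul_mem_cancel_left (o.2.2.1 hu)).1 hc) y hy), mul_one]
  exact hu
theorem YC.sylT (h : YC K Q a b R U T Y) : Syl 2 (Q b ⊓ Y) T :=
  (h.ap.lb.syl h.w2 (h.ap.alp.symm h.w2.te) ((TY h).trans h.cent.2.2)).of_le
    (le_inf h.ap.lb.le (TY h)) (inf_le_inf_left _ h.cent.2.2)
theorem YC.cj (h : YC K Q a b R U T Y) (hg : g ∈ Y) : YC K Q a (g • b) R U (H24.cj g T) Y := by
  have e : g • a = a := h.cent.2.2 hg
  have ap := h.ap.cj h.w2 g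
  have ip := h.ip.smul h.w2 g
  rw [e] at ap ip
  rw [cj_of_mem_C (h.cent.1 hg)] at ap
  refine ⟨h.w2, h.kd, h.mq, ap, h.syl, h.le, (cj_le_of_mem (TY h) hg).trans h.cent.2.1, ip, ?_⟩
  rw [← cj_of_mem_N (nK h.kd (h.cent.2.2 hg)), ← cj_sup, ← h.eY, cj_of_mem hg]
theorem YC.line (h : YC K Q a b R U T Y) (hT : Syl 2 (Q b ⊓ Y) T') : YC K Q a b R U T' Y := by
  obtain ⟨k, hk, rfl⟩ := Sylow_trans p2 h.sylT hT
  have := h.cj hk.2
  rwa [h.w2.te.fix hk.1] at this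
theorem YC.y1 (h : YC K Q a b R U T Y) (hg : g ∈ Y) (ht : t ∈ T) (hc : g * t * g⁻¹ ∈ C[T]) :
    g * t * g⁻¹ ∈ U ⊔ T := by
  have te := h.w2.te
  by_cases t1 : t = 1
  · simp [t1]
  have it : Inv t := ⟨t1, (h.ap.lb.ea h.w2).sq ht⟩
  have tb := h.ap.lb.le ht
  have tY := TY h ht
  have hw := h.inK tY hg
  have sb := te.conj tb g
  have al := (h.cj hg).ap.alp
  have is : Inv (g * t * g⁻¹) := ⟨conj_ne t1 g, conj_sq it.2 g⟩
  have sY := cmem hg tY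
  rw [inv_sq it.2] at hw
  generalize g * t * g⁻¹ = s at *
  generalize g • b = b' at *
  by_cases e : b = b'
  · exact mem_sup_right (mem_syl h.sylT ⟨e ▸ sb, sY⟩ (twoE_of_sq is.2) (C_le_N _ hc))
  have ts := mem_C.1 hc t ht
  have o := h.w2.om (x := t * s) h.syl
  rw [← eU h] at o
  obtain ⟨u, hu, -, -, u2, -, u1, -⟩ := o.2.2.2.1
  have ua := h.ap.la.le hu
  have c := fun y (hy : y ∈ Y) => mem_C.1 (h.cent.1 hy) u hu
  by_cases be : Beta Q b b'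
  · exact (h.w2.d8b h.mq (h.ip.swap h.w2) be e (h.ap.alp.symm te) (al.symm te) tb sb ua it is
      ⟨u1, u2⟩ ts (c t tY).symm (c s sY).symm).elim
  obtain ⟨p, hp, a1, -⟩ := h.w2.prod_alp h.mq ⟨te.adj_of_comm e tb sb it is ts, be⟩ tb sb it is ts
  have w2 := sq_mul it.2 is.2 ts
  have iw : Inv (t * s) := ⟨fun e1 => e (te.ti _ _ s (by
    rw [eq_inv_of_mul_eq_one_right e1]; exact inv_mem tb) sb is), w2⟩
  by_cases e2 : a = p
  · subst e2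
    exact (mul_mem_cancel_left (mem_sup_right ht)).1 (mem_sup_left (o.1.2
      ⟨mem_syl h.syl hp (twoE_of_sq w2) (C_le_N _ (KR h hw)), w2⟩))
  · exact (h.w2.d8b h.mq h.ip ⟨R, h.syl, fun r hr => te.fix_comm hp (twoE_of_sq w2) iw.1
      (mem_C.1 (KR h hw) r hr)⟩ e2 h.ap.alp a1 ua hp tb ⟨u1, u2⟩ iw it (c _ (mul_mem tY sY))
      (c t tY) (by rw [mul_assoc, ← ts])).elim

end ACo
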