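import Mathlib
import Cfsg.Agent.H22.AC0
import Cfsg.Agent.H22.ACu
import Cfsg.Agent.H22.AC1

set_option autoImplicit false
set_option linter.unusedSectionVars false
set_option linter.unusedVariables false

namespace ACo

open Cfsg H24 H26 H26.Gold H23.TC H3.B71 Subgroup MulAction
open scoped commutatorElement Pointwise

universe u

variable {G Ω : Type u} [Group G] [Finite G] [MulAction G Ω] [Finite Ω] {Q K : Ω → Subgroup G}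
  {a b b' c d e : Ω} {A B E F H M P R R' S S' S₀ S₁ S₂ T T' U U1 V W X Y : Subgroup G}
  {f g k r s t u v w x y z : G}

/-! ### ACv -/

namespace ACvx

theorem TY (h : YC K Q a b R U T Y) : T ≤ Y := h.eY ▸ le_sup_right

theorem eaU (h : YC K Q a b R U T Y) : EA U := h.ap.la.ea h.w2

theorem eaT (h : YC K Q a b R U T Y) : EA T := h.ap.lb.ea h.w2

theorem cU (h : YC K Q a b R U T Y) (hu : u ∈ U) (hy : y ∈ Y) : u * y = y * u :=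
  mem_C.1 (h.cent.1 hy) u hu

theorem moves (h : YC K Q a b R U T Y) (ht : t ∈ T) (hu : t⁻¹ * (y * t * y⁻¹) ∈ U)
    (h1 : t⁻¹ * (y * t * y⁻¹) ≠ 1) : y • b ≠ b := fun e => by
  have h2 := h.w2.te.conj (h.ap.lb.le ht) y
  rw [e] at h2
  exact h.ap.alp.1.1 (h.w2.te.ti _ _ _ (h.ap.la.le hu) (mul_mem (inv_mem (h.ap.lb.le ht)) h2)
    ⟨h1, (eaU h).sq hu⟩)

theorem step (h : YC K Q a b R U T Y) (ht : t ∈ T) (t1 : t ≠ 1) (hB : TwoG B) (hBY : B ≤ Y)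
    (hU : ∀ y ∈ B, t⁻¹ * (y * t * y⁻¹) ∈ U) :
    ∃ T₁, YC K Q a b R U T₁ Y ∧ t ∈ T₁ ∧ ∀ y ∈ B, t⁻¹ * (y * t * y⁻¹) ≠ 1 → ∀ v ∈ T₁,
      v⁻¹ * (y * v * y⁻¹) ∈ U ∧ (v⁻¹ * (y * v * y⁻¹) = 1 → v = 1) := by
  have te := h.w2.te
  have t2 := (eaT h).sq ht
  have hc : ∀ y ∈ B, ∀ x ∈ Y ⊓ C{t}, x * (y * t * y⁻¹) = y * t * y⁻¹ * x := fun y hy x hx => by
    have e1 := cU h (hU y hy) hx.1
    have e2 := mem_C1.1 hx.2
    calc x * (y * t * y⁻¹) = x * t * (t⁻¹ * (y * t * y⁻¹)) := by group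
      _ = t * (x * (t⁻¹ * (y * t * y⁻¹))) := by rw [e2]; group
      _ = _ := by rw [← e1]; group
  have hn : B ≤ N[Y ⊓ C{t}] := fun y hy => mem_N_of_finite fun x hx => by
    refine ⟨Y.mul_mem (Y.mul_mem (hBY hy) hx.1) (Y.inv_mem (hBY hy)), mem_C1.2 ?_⟩
    have := hc y⁻¹ (inv_mem hy) x hx
    calc y * x * y⁻¹ * t = y * (x * (y⁻¹ * t * y⁻¹⁻¹)) * y⁻¹ := by group
      _ = _ := by rw [this]; group
  obtain ⟨S, hS, hBS, -⟩ := exists_syl_inv hB hn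
  have fb : ∀ x ∈ Y ⊓ C{t}, x • b = b := fun x hx =>
    te.fix_comm (h.ap.lb.le ht) (twoE_of_sq t2) t1 (mem_C1.1 hx.2)
  have hN : Y ⊓ C{t} ⊓ Q b ⊴ Y ⊓ C{t} := nml_inf_of_norm fun x hx => te.stab_le (fb x hx)
  have h1 := hS.inf_nml' hN
  have hT0 : T ≤ Y ⊓ C{t} ⊓ Q b := fun x hx =>
    ⟨⟨TY h hx, mem_C1.2 ((eaT h).comm hx ht)⟩, h.ap.lb.le hx⟩
  have hle : Y ⊓ C{t} ⊓ Q b ≤ Q b ⊓ Y := fun x hx => ⟨hx.2, hx.1.1⟩
  have h2 : Syl 2 (Q b ⊓ Y) (Y ⊓ C{t} ⊓ Q b ⊓ S) :=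
    h.sylT.of_card (inf_le_left.trans hle) (h1.card_eq (h.sylT.of_le hT0 hle))
  have h3 := h.line h2
  refine ⟨_, h3, mem_syl_of_C h1 (hT0 ht) (twoE_of_sq t2) (mem_C.2 fun x hx => mem_C1.1 hx.1.2),
    fun y hy y1 v hv => ?_⟩
  have mv := moves h ht (hU y hy) y1
  have hvS : y * v * y⁻¹ ∈ S := H24.conj_mem (hBS hy) hv.2
  have hvQ := te.conj hv.1.2 y
  have hC : y * v * y⁻¹ ∈ C[Y ⊓ C{t} ⊓ Q b ⊓ S] := mem_C.2 fun x hx =>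
    te.comm mv.symm hS.pi hx.1.2 hvQ hx.2 hvS
      (te.fix_comm (te.conj (h.ap.lb.le ht) y) ((twoE_of_sq t2).conj y)
        (fun e => t1 (conj_eq_one_iff.1 e)) (hc y hy x hx.1.1)) (fb _ (hS.le hvS))
  refine ⟨h3.cR (mul_mem (inv_mem (mem_sup_right hv)) (h3.y1 (hBY hy) hv hC))
    (centralizer_le h.syl.le (h.kd.cent a (h.inK hv.1.1.1 (hBY hy)))), fun e => ?_⟩
  by_contra v1
  rw [inv_mul_eq_one] at e
  rw [← e] at hvQ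
  exact mv (te.two hvQ hv.1.2 (hS.pi.piElt hv.2) v1)

end ACvx

open ACvx

theorem YC.lc (h : YC K Q a b R U T Y) (hg : g ∈ Y) (ht : t ∈ T) (hs : s ∈ T)
    (h4 : (t * (g * s * g⁻¹)) ^ 4 = 1) (hn : t * (g * s * g⁻¹) ≠ g * s * g⁻¹ * t) :
    ∃ T₁ k, YC K Q a b R U T₁ Y ∧ k ∈ K a ∧ LC Q a b (k • b) R U T₁ (H24.cj k T₁) := by
  have te := h.w2.te
  have h' := h.cj hg
  have hσ : g * s * g⁻¹ ∈ H24.cj g T := conj_mem_cj g hs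
  generalize g * s * g⁻¹ = σ at h4 hn hσ
  have it : Inv t := ⟨fun e => hn (by simp [e]), (eaT h).sq ht⟩
  have iσ : Inv σ := ⟨fun e => hn (by simp [e]), (eaT h').sq hσ⟩
  have eU : U = Om R := h.ap.la.eq_Om h.w2 h.syl h.le
  obtain ⟨e, R0, U0, T0, T0', hl, ht0, hσ0⟩ := h.w2.d8 (h.ap.lb.le ht) (h'.ap.lb.le hσ) it iσ h4 hn
  have hf0 := hl.comm t ht0 σ hσ0
  have f1 : t⁻¹ * (σ * t * σ⁻¹) ≠ 1 := fun e' => hn (by
    rw [inv_mul_eq_one] at e'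
    exact (eq_mul_inv_iff_mul_eq.1 e'))
  have ap0 := hl.ap h.w2
  have f2 := (ap0.la.ea h.w2).sq hf0
  have fQ := h.kd.cent a (h.inK (TY h ht) (TY h' hσ))
  have ea : a = e := by
    by_contra hne
    obtain ⟨u, hu, u1, u2⟩ : ∃ u ∈ U, u ≠ 1 ∧ u * u = 1 := by
      obtain ⟨u, hu, u1, u2⟩ := TwoG.exists_inv h.syl.pi (te.ne_bot h.syl)
      exact ⟨u, eU ▸ mem_Om' hu u2, u1, u2⟩
    exact h.w2.d8b h.mq h.ip ⟨R, h.syl, fun x hx => te.fix_comm (ap0.la.le hf0) (twoE_of_sq f2) f1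
      (mem_C.1 fQ x (h.syl.le hx))⟩ hne h.ap.alp hl.ab (h.ap.la.le hu) (ap0.la.le hf0)
      (h.ap.lb.le ht) ⟨u1, u2⟩ ⟨f1, f2⟩ it (mem_C.1 fQ u (h.ap.la.le hu))
      (mem_C.1 (h.ap.cent ht) u hu) (mem_C.1 (ap0.cent ht0) _ hf0)
  subst ea
  have fU : t⁻¹ * (σ * t * σ⁻¹) ∈ U :=
    eU ▸ mem_Om' (mem_syl_of_C h.syl (ap0.la.le hf0) (twoE_of_sq f2) fQ) f2
  obtain ⟨T₁, h1, ht1, k1⟩ := step h ht it.1 (twoE_of_sq iσ.2).isPi (zpowers_le.2 (TY h' hσ))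
    (fun y hy => by
      rcases (mem_zp iσ.2).1 hy with rfl | rfl
      · simp
      · exact fU)
  replace k1 := k1 σ (mem_zpowers σ) f1
  have sw : ∀ x y : G, x * x = 1 → y * y = 1 →
      y⁻¹ * (x * y * x⁻¹) = (x⁻¹ * (y * x * y⁻¹))⁻¹ := fun x y hx hy => by
    rw [mul_inv_rev, mul_inv_rev, mul_inv_rev, inv_inv, inv_inv, inv_sq hx, inv_sq hy]
    group
  obtain ⟨T', h2, -, k2⟩ := step h' hσ iσ.1 (eaT h1).two (TY h1) (fun y hy => by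
    rw [sw y σ ((eaT h1).sq hy) iσ.2]
    exact inv_mem (k1 y hy).1)
  have k3 : ∀ y ∈ T₁, y ≠ 1 → ∀ v ∈ T',
      v⁻¹ * (y * v * y⁻¹) ∈ U ∧ (v⁻¹ * (y * v * y⁻¹) = 1 → v = 1) := fun y hy y1 =>
    k2 y hy fun e' => y1 ((k1 y hy).2 (by
      rw [sw y σ ((eaT h1).sq hy) iσ.2] at e'
      exact inv_eq_one.1 e'))
  obtain ⟨m, hm, em⟩ := Sylow_trans p2 (h1.cj hg).sylT h2.sylT
  obtain ⟨k, hk, τ, hτ, ek⟩ := h1.dec (mul_mem hm.2 hg)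
  have e1 : k • b = g • b := by
    rw [← te.fix hm.1, ← mul_smul, ek, mul_smul, te.fix (h1.ap.lb.le hτ)]
  have e2 : H24.cj k T₁ = T' := by
    rw [em, ← cj_mul, ek, cj_mul, cj_of_mem_N (le_normalizer hτ)]
  refine ⟨T₁, k, h1, hk, ?_⟩
  rw [e1, e2]
  refine ⟨h.syl, eU, h.ap.alp, h2.ap.alp, h1.ap.lb, h2.ap.lb, h1.nT, h2.nT, fun y hy v hv => ?_,
    fun y hy v hv hc => ?_⟩
  · by_cases y1 : y = 1
    · subst y1
      simp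
    · rw [sw v y ((eaT h2).sq hv) ((eaT h1).sq hy)]
      exact inv_mem (k3 y hy y1 v hv).1
  · by_cases y1 : y = 1
    · exact Or.inl y1
    · exact Or.inr ((k3 y hy y1 v hv).2 (by rw [hc]; group))

end ACo
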