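import Mathlib
import Cfsg.Agent.H22.AC0
import Cfsg.Agent.H22.ACu
import Cfsg.Agent.H22.ACq
import Cfsg.Agent.H22.AC1

set_option autoImplicit false
set_option linter.unusedSectionVars false
set_option linter.unusedVariables false

namespace ACo

open Cfsg H24 H26 H26.Gold H23.TC H3.B71 Subgroup MulAction
open scoped commutatorElement Pointwise

universe u

variable {G Ω : Type u} [Group G] [Finite G] [MulAction G Ω] [Finite Ω] {Q K : Ω → Subgroup G}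
  {a b b' c d e : Ω} {A B E F H M P R R' S S' S₀ S₁ S₂ T T' U U1 V W X Y : Subgroup G}
  {f g k r s t u v w x y z : G}

/-! ### ACz -/
namespace ACzx

theorem eU (h : YC K Q a b R U T Y) : U = Om R := h.ap.la.eq_Om h.w2 h.syl h.le

theorem eaT (h : YC K Q a b R U T Y) : EA T := h.ap.lb.ea h.w2

theorem memU (h : YC K Q a b R U T Y) : x ∈ U ↔ x ∈ R ∧ x * x = 1 := by
  rw [eU h]; exact (h.w2.om h.syl).1

theorem UC (h : YC K Q a b R U T Y) : U ≤ C[R] := by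
  rw [eU h]; exact (h.w2.om (x := 1) h.syl).2.2.1

theorem r2T (h : YC K Q a b R U T Y) : R2 T := by
  obtain ⟨R', hR', e⟩ := h.ap.lb
  rw [e]; exact (h.w2.om (x := 1) hR').2.2.2.1

theorem cU (h : YC K Q a b R U T Y) (ht : t ∈ T) (t1 : t ≠ 1) (hx : x ∈ R) (hc : x * t = t * x) :
    x ∈ U := by
  have := (h.w2.act h.ap.alp.1.1 h.ap.alp.2 (h.ap.lb.le ht) ⟨t1, (eaT h).sq ht⟩ h.syl (h.nT ht)).1
  rw [eU h, ← this]; exact ⟨hx, mem_C1.2 hc⟩

theorem uniq (h : YC K Q a b R U T Y) (ht : t ∈ T) (hs : s ∈ T) (hx : x ∈ R) (hU : x ∉ U)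
    (h1 : t * x * t⁻¹ = x⁻¹) (h2 : s * x * s⁻¹ = x⁻¹) : t = s := by
  by_contra hne
  refine hU (cU h (mul_mem (inv_mem ht) hs) (fun e => hne (inv_mul_eq_one.1 e)) hx ?_)
  have : s * x * s⁻¹ = t * x * t⁻¹ := h2.trans h1.symm
  calc x * (t⁻¹ * s) = t⁻¹ * (t * x * t⁻¹) * s := by group
    _ = t⁻¹ * s * x := by rw [← this]; group

theorem iv_mul (h : YC K Q a b R U T Y) (ht : t ∈ T) (hx : x ∈ R) (hu : u ∈ U)
    (h1 : t * x * t⁻¹ = x⁻¹) : t * (x * u) * t⁻¹ = (x * u)⁻¹ := by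
  have c1 : u * t = t * u := mem_C.1 (h.ap.cent ht) u hu
  have c2 : x * u = u * x := mem_C.1 (UC h hu) x hx
  have u2 := inv_sq ((memU h).1 hu).2
  calc t * (x * u) * t⁻¹ = t * x * t⁻¹ * (t * u * t⁻¹) := by group
    _ = x⁻¹ * u := by rw [h1, ← c1, mul_inv_cancel_right]
    _ = (x * u)⁻¹ := by rw [c2, mul_inv_rev, u2]

theorem near (h : YC K Q a b R U T Y) (hs : s ∈ T) (s1 : s ≠ 1) (hx : x ∈ R) (hy : y ∈ R)
    (h1 : x⁻¹ * g ∈ C[U ⊔ T]) (h2 : y⁻¹ * g ∈ C[U ⊔ T]) : x⁻¹ * y ∈ U := by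
  refine cU h hs s1 (mul_mem (inv_mem hx) hy) ?_
  have := mul_mem h1 (inv_mem h2)
  rw [show x⁻¹ * g * (y⁻¹ * g)⁻¹ = x⁻¹ * y by group] at this
  exact mem_C'.1 this s (mem_sup_right hs)

theorem KY (h : YC K Q a b R U T Y) (hk : k ∈ K a) : k ∈ Y := h.eY ▸ mem_sup_left hk

theorem TY (h : YC K Q a b R U T Y) (ht : t ∈ T) : t ∈ Y := h.eY ▸ mem_sup_right ht

theorem KC (h : YC K Q a b R U T Y) (hk : k ∈ K a) : k ∈ C[R] :=
  mem_C.2 fun x hx => mem_C.1 (h.kd.cent a hk) x (h.syl.le hx)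

/-- the data attached to `t` -/
structure D (R U T : Subgroup G) (k t x z : G) : Prop where
  xR : x ∈ R
  xU : x ∉ U
  xs : x⁻¹ * (k * t * k⁻¹) ∈ C[U ⊔ T]
  es : k * t * k⁻¹ = x * z * t
  zP : z ∈ C[U ⊔ T]
  zR : z ∈ C[R]
  zT : z ∈ C[U ⊔ H24.cj k T]
  z2 : z * z = 1
  iv : t * x * t⁻¹ = x⁻¹

theorem exD (h : YC K Q a b R U T Y) (hk : k ∈ K a)
    (hl : LC Q a b (k • b) R U T (H24.cj k T)) (ht : t ∈ T) (t1 : t ≠ 1) :
    ∃ x z, D R U T k t x z := by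
  have hs := conj_mem_cj k ht
  obtain ⟨x, xR, xU, t', ht', t1', h1, h2, h3, h4⟩ := hl.zeta h.w2 hs (conj_ne t1 k)
  have t2 := (eaT h).sq ht
  have s2 := conj_sq t2 k
  have hκ := KC h (h.inK (TY h ht) (KY h hk))
  generalize hσ : k * t * k⁻¹ = σ at *
  obtain rfl : t = t' := by
    by_contra hne
    refine xU (cU h (mul_mem ht ht') (fun e => hne ?_) xR ?_)
    · rw [← inv_sq t2]; exact inv_eq_of_mul_eq_one_right e
    · have e : t * t' = t⁻¹ * σ * x * (x⁻¹ * σ * t') := by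
        rw [inv_sq t2]
        calc t * t' = t * (σ * σ) * t' := by rw [s2, mul_one]
          _ = _ := by group
      have c1 : Commute x (t⁻¹ * σ) := mem_C.1 hκ x xR
      have c2 : Commute x (x⁻¹ * σ * t') := mem_C.1 h3 x xR
      rw [e]; exact ((c1.mul_right (Commute.refl x)).mul_right c2).eq
  have es : σ = x * (x⁻¹ * σ * t) * t := by
    calc σ = σ * (t * t) := by rw [t2, mul_one]
      _ = _ := by group
  have zP : x⁻¹ * σ * t ∈ C[U ⊔ T] := mul_mem h1 ((h.ap.ea h.w2).le_C (mem_sup_right ht))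
  have ea := ((hl.symm h.w2).ap h.w2).ea h.w2
  refine ⟨x, x⁻¹ * σ * t, xR, xU, hσ ▸ h1, hσ ▸ es, zP, h3, ?_, h4, ?_⟩
  · have e : x⁻¹ * σ * t = x⁻¹ * t * (t⁻¹ * (σ * t * σ⁻¹) * σ) := by group
    rw [e]
    exact mul_mem h2 (ea.le_C (mul_mem (mem_sup_left (hl.comm t ht σ hs)) (mem_sup_right hs)))
  · generalize x⁻¹ * σ * t = z at *
    have c1 : z * t = t * z := mem_C'.1 zP t (mem_sup_right ht)
    have c2 : z * x = x * z := mem_C'.1 h3 x xR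
    have e : x * t * x * t = 1 := by
      calc x * t * x * t = x * t * x * (z * z) * t := by rw [h4, mul_one]
        _ = x * t * (x * z) * z * t := by group
        _ = x * (t * z) * (x * z * t) := by rw [← c2, ← mul_assoc, ← mul_assoc, ← mul_assoc, mul_assoc (x * t * z) x z, ← c2]; group
        _ = 1 := by rw [← c1, ← mul_assoc x z t, ← es, s2]
    rw [inv_sq t2]
    calc t * x * t = x⁻¹ * (x * t * x * t) := by group
      _ = x⁻¹ := by rw [e, mul_one]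

theorem zz (h : YC K Q a b R U T Y) (hk : k ∈ K a)
    (hl : LC Q a b (k • b) R U T (H24.cj k T)) (ht : t ∈ T) (hs : s ∈ T) (t1 : t ≠ 1) (s1 : s ≠ 1)
    (d : D R U T k t x z) (d' : D R U T k s y w) : w⁻¹ * z ∈ U := by
  obtain ⟨m, mR, -, ma, -, e, hz⟩ :=
    h.ap.tor h.w2 h.mq h.syl h.le h.nT d.zP d.zR d.z2 ht hs t1 s1
  have xR := conj_mem mR d.xR
  have xU : m * x * m⁻¹ ∉ U := fun hu => by
    have := ((memU h).1 hu).2
    rw [← H23.TC.conj_mul, conj_eq_one_iff'] at this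
    exact d.xU ((memU h).2 ⟨d.xR, this⟩)
  have iv : s * (m * x * m⁻¹) * s⁻¹ = (m * x * m⁻¹)⁻¹ := by
    calc s * (m * x * m⁻¹) * s⁻¹ = m * (t * x * t⁻¹) * m⁻¹ := by rw [← e]; group
      _ = _ := by rw [d.iv]; group
  obtain ⟨s', hs', h1⟩ := hl.onto h.w2 xR
  obtain ⟨ρ, hρ, rfl⟩ := mem_cj'.1 hs'
  have ρ1 : ρ ≠ 1 := by
    rintro rfl
    exact xU (by simpa using near h hs s1 (one_mem R) xR (by simp) h1)
  obtain ⟨x₀, z₀, d₀⟩ := exD h hk hl hρ ρ1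
  have i0 := iv_mul h hρ d₀.xR (near h hs s1 d₀.xR xR d₀.xs h1) d₀.iv
  rw [mul_inv_cancel_left] at i0
  obtain rfl := uniq h hρ hs xR xU i0 iv
  have u1 := near h hs s1 d'.xR xR d'.xs h1
  have mk : m * k * m⁻¹ ∈ K a := by
    have := conj_mem_cj m hk
    rwa [← h.kd.eqv, ma] at this
  have h' := h.cj (KY h hk)
  have ea := h'.ap.ea h.w2
  have eaP := h.ap.ea h.w2
  generalize hu : z⁻¹ * (m * z * m⁻¹) = u at hz
  generalize hv : y⁻¹ * (m * x * m⁻¹) = v at u1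
  have cP : w⁻¹ * v * z * u ∈ C[U ⊔ T] := mul_mem (mul_mem (mul_mem (inv_mem d'.zP)
    (eaP.le_C (mem_sup_left u1))) d.zP) (eaP.le_C (mem_sup_left hz))
  have cT : w⁻¹ * v * z * u ∈ C[U ⊔ H24.cj k T] := mul_mem (mul_mem (mul_mem (inv_mem d'.zT)
    (ea.le_C (mem_sup_left u1))) d.zT) (ea.le_C (mem_sup_left hz))
  have cR : w⁻¹ * v * z * u ∈ C[R] := mul_mem (mul_mem (mul_mem (inv_mem d'.zR)
    (UC h u1)) d.zR) (UC h hz)
  have hs1 := conj_mem_cj k hs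
  have eσ : m * k * m⁻¹ * k⁻¹ * (k * ρ * k⁻¹) * (m * k * m⁻¹ * k⁻¹)⁻¹ =
      k * ρ * k⁻¹ * (w⁻¹ * v * z * u) := by
    calc _ = m * (k * (m⁻¹ * ρ * m) * k⁻¹) * m⁻¹ := by group
      _ = m * (x * z * t) * m⁻¹ := by rw [← d.es, ← e]; group
      _ = y * w * (w⁻¹ * v * z * u * ρ) := by rw [← hu, ← hv, ← e]; group
      _ = _ := by rw [mem_C'.1 cP ρ (mem_sup_right hs), d'.es]; group
  have hy := h'.y1 (mul_mem (KY h mk) (inv_mem (KY h hk))) hs1 (by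
    rw [eσ]
    exact centralizer_le (by exact_mod_cast le_sup_right)
      (mul_mem (ea.le_C (mem_sup_right hs1)) cT))
  rw [eσ] at hy
  have hc := h'.cR ((mul_mem_cancel_left (mem_sup_right hs1)).1 hy) cR
  have e2 : w⁻¹ * z = w⁻¹ * v * z * u * (v * u)⁻¹ := by
    rw [mul_assoc w⁻¹ v z, mem_C.1 d.zP v (mem_sup_left u1)]; group
  rw [e2]
  exact mul_mem hc (inv_mem (mul_mem u1 hz))

theorem kap (h : YC K Q a b R U T Y) (hk : k ∈ K a)
    (hl : LC Q a b (k • b) R U T (H24.cj k T)) (ht : t ∈ T) (t1 : t ≠ 1) :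
    k * t * k⁻¹ * t ∈ R := by
  obtain ⟨τ, hτ, τ1, ne⟩ : ∃ τ ∈ T, τ ≠ 1 ∧ τ ≠ t := by
    obtain ⟨p, hp, q, hq, -, -, p1, q1, pq, -⟩ := r2T h
    by_cases e : p = t
    · exact ⟨q, hq, q1, fun e' => pq (e.trans e'.symm)⟩
    · exact ⟨p, hp, p1, e⟩
  have hs := mul_mem (inv_mem hτ) ht
  have s1 : τ⁻¹ * t ≠ 1 := fun e => ne (inv_mul_eq_one.1 e)
  obtain ⟨x, z, d⟩ := exD h hk hl hτ τ1
  obtain ⟨y, w, d'⟩ := exD h hk hl hs s1
  have hz := zz h hk hl hs hτ s1 τ1 d' d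
  rw [inv_sq d.z2] at hz
  have hy := conj_mem (h.nT hτ) d'.xR
  have e : k * t * k⁻¹ * t = x * (τ * y * τ⁻¹) * (z * w) := by
    calc _ = k * τ * k⁻¹ * (k * (τ⁻¹ * t) * k⁻¹) * t := by group
      _ = x * (z * (τ * y * τ⁻¹)) * (τ * w) * τ⁻¹ * (t * t) := by rw [d.es, d'.es]; group
      _ = _ := by
        rw [(eaT h).sq ht, mem_C'.1 d.zR _ hy, mem_C.1 d'.zP τ (mem_sup_right hτ)]; group
  rw [e]
  exact mul_mem (mul_mem d.xR hy) (h.le hz)

theorem kiv (ht : t * t = 1) (hs : s * s = 1) : t * (s * t) * t⁻¹ = (s * t)⁻¹ := by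
  rw [mul_inv_rev, inv_sq hs, ← mul_assoc, mul_inv_cancel_right, inv_sq ht]

theorem kpt (h : YC K Q a b R U T Y) (hk : k ∈ K a)
    (hl : LC Q a b (k • b) R U T (H24.cj k T)) (ht : t ∈ T) (t1 : t ≠ 1) :
    (k * k) • b = (k * t * k⁻¹ * t) • b := by
  have t2 := (eaT h).sq ht
  have c := mem_C'.1 (KC h hk) _ (kap h hk hl ht t1)
  have i := kiv t2 (conj_sq t2 k)
  have es : k * t * k⁻¹ = k * t * k⁻¹ * t * t := by rw [mul_assoc _ t t, t2, mul_one]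
  generalize k * t * k⁻¹ * t = κ at *
  have e : k * k * t * (k * k)⁻¹ = κ * t * κ⁻¹ := by
    calc _ = k * (k * t * k⁻¹) * k⁻¹ := by group
      _ = k * κ * t * k⁻¹ := by rw [es]; group
      _ = κ * (k * t * k⁻¹) := by rw [c]; group
      _ = κ * (t * t) * κ * t := by rw [es, t2]; group
      _ = κ * t * (t * κ * t⁻¹) * (t * t) := by group
      _ = _ := by rw [i, t2, mul_one]
  exact h.w2.te.ti _ _ _ (h.w2.te.conj (h.ap.lb.le ht) _) (e ▸ h.w2.te.conj (h.ap.lb.le ht) _)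
    ⟨conj_ne t1 _, conj_sq t2 _⟩

end ACzx

open ACzx

theorem YC.nolc (h : YC K Q a b R U T Y) (hk : k ∈ K a)
    (hl : LC Q a b (k • b) R U T (H24.cj k T)) : False := by
  obtain ⟨p, hp, q, hq, p2', q2, p1, q1, pq, -⟩ := r2T h
  have hP := kap h hk hl hp p1
  have hQ := kap h hk hl hq q1
  have ip := kiv p2' (conj_sq p2' k)
  have iq := kiv q2 (conj_sq q2 k)
  have e := (kpt h hk hl hp p1).symm.trans (kpt h hk hl hq q1)
  have qU : k * q * k⁻¹ * q ∉ U := fun hu => by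
    have h2 := inv_sq ((memU h).1 hu).2
    rw [mul_inv_rev, inv_sq q2, inv_sq (conj_sq q2 k)] at h2
    rcases hl.nd q hq _ (conj_mem_cj k hq) h2 with e' | e'
    exacts [q1 e', conj_ne q1 k e']
  generalize k * p * k⁻¹ * p = x at *
  generalize k * q * k⁻¹ * q = y at *
  have hg := mul_mem (inv_mem hP) hQ
  have gb : (x⁻¹ * y) • b = b := by rw [mul_smul, ← e, inv_smul_smul]
  have gU : x⁻¹ * y ∈ U := by
    generalize x⁻¹ * y = g at *
    have h1 : q⁻¹ * (g * q * g⁻¹) ∈ Q b :=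
      mul_mem (inv_mem (h.ap.lb.le hq)) (by simpa [gb] using h.w2.te.conj (h.ap.lb.le hq) g)
    have h2 : q⁻¹ * (g * q * g⁻¹) ∈ R := by
      rw [show q⁻¹ * (g * q * g⁻¹) = q⁻¹ * g * q * g⁻¹ by group]
      exact mul_mem (conj_mem' (h.nT hq) hg) (inv_mem hg)
    refine cU h hq q1 hg ?_
    by_contra hne
    refine h.ap.alp.1.1 (h.w2.te.two (h.syl.le h2) h1 (h.syl.pi.piElt h2) fun e' => hne ?_)
    calc g * q = q * (q⁻¹ * (g * q * g⁻¹)) * g := by group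
      _ = q * g := by rw [e', mul_one]
  have i0 := iv_mul h hp hP gU ip
  rw [mul_inv_cancel_left] at i0
  exact pq (uniq h hp hq hQ qU i0 iq)

end ACo
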