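import Mathlib
import Cfsg.Agent.H22.AC0
import Cfsg.Agent.H22.ACv
import Cfsg.Agent.H22.ACz
import Cfsg.Agent.H22.ACr
import Cfsg.Agent.H22.AC1

set_option autoImplicit false
set_option linter.unusedSectionVars false
set_option linter.unusedVariables false

namespace ACo

open Cfsg H24 H26 H26.Gold H23.TC H3.B71 Subgroup MulAction
open scoped commutatorElement Pointwise

universe u

variable {G Ω : Type u} [Group G] [Finite G] [MulAction G Ω] [Finite Ω] {Q K : Ω → Subgroup G}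
  {a b b' c d e : Ω} {A B E F H M P R R' S S' S₀ S₁ S₂ T T' U U1 V W X Y : Subgroup G}
  {f g k r s t u v w x y z : G}

namespace ACwx

theorem eaT (h : YC K Q a b R U T Y) : EA T := (h.ap.ea h.w2).of_le le_sup_right

theorem TY (h : YC K Q a b R U T Y) : T ≤ Y := h.eY ▸ le_sup_right

/-- conjugates of elements of `T` generating a `2`-group commute -/
theorem comm (h : YC K Q a b R U T Y) (hg : g ∈ Y) (ht : t ∈ T) (hs : s ∈ T)
    (h2 : TwoE (t * (g * s * g⁻¹))) : t * (g * s * g⁻¹) = g * s * g⁻¹ * t := by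
  have four : ∀ g ∈ Y, ∀ s ∈ T, (t * (g * s * g⁻¹)) ^ 4 = 1 →
      t * (g * s * g⁻¹) = g * s * g⁻¹ * t := by
    intro g hg s hs h4
    by_contra hn
    obtain ⟨T₁, k, h1, hk, hl⟩ := h.lc hg ht hs h4 hn
    exact h1.nolc hk hl
  obtain ⟨n, hn⟩ := h2.exists_pow p2
  have h3 : (t * (g * s * g⁻¹)) ^ 2 ^ n = 1 := hn ▸ pow_orderOf_eq_one _
  clear hn h2
  have t2 := (eaT h).sq ht
  induction n generalizing g s with
  | zero => exact four g hg s hs (by rw [pow_zero, pow_one] at h3; rw [h3, one_pow])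
  | succ n ih =>
    have s2 : g * s * g⁻¹ * (g * s * g⁻¹) = 1 := conj_sq ((eaT h).sq hs) g
    have e : t * (g * s * g⁻¹ * t * (g * s * g⁻¹)⁻¹) = (t * (g * s * g⁻¹)) ^ 2 := by
      rw [inv_sq s2, sq]; simp only [mul_assoc]
    have k := ih (cmem hg (TY h hs)) ht (by rw [e, ← pow_mul, mul_comm, ← pow_succ, h3])
    refine four g hg s hs ?_
    have := sq_mul t2 (conj_sq t2 _) k
    rwa [e, ← pow_add] at this

end ACwx

/-! ### ACw -/
theorem W2.w2b (h : W2 Q) (hk : KD K Q) (hl : LC Q a b b' R U T T') : SCY K Q a b := by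
  have hY : YC K Q a b R U T (K a ⊔ T) :=
    ⟨h, hk, hl.mq h, hl.ap h, hl.syl, hl.eU ▸ Om_le R, hl.nT, hl.star h, rfl⟩
  generalize hYe : K a ⊔ T = Y at hY
  have TY := ACwx.TY hY
  have eaP := hY.ap.ea h
  obtain ⟨S, hS, TS⟩ := Sylow_superset p2 (ACwx.eaT hY).two TY
  obtain ⟨YU, -, Ya⟩ := hY.cent
  have TU : T ≤ N[U] := hY.ap.cent.trans (C_le_N _)
  have dec : ∀ x ∈ (U ⊔ T) ⊓ Y, ∃ u ∈ U, ∃ t ∈ T, x = u * t ∧ u ∈ S := by
    intro x hx
    obtain ⟨u, hu, t, ht, rfl⟩ := (mem_sup_of_norm TU).1 hx.1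
    have uY : u ∈ Y := (mul_mem_cancel_right (TY ht)).1 hx.2
    exact ⟨u, hu, t, ht, rfl, mem_syl_of_C hS uY (eaP.two.piElt (mem_sup_left hu))
      (mem_C.2 fun y hy => (mem_C.1 (YU hy) u hu).symm)⟩
  obtain ⟨R', hR', eT⟩ := hl.lb
  obtain ⟨t, ht, -, -, t2, -, t1, -⟩ := (h.om (x := 1) hR').2.2.2.1
  rw [← eT] at ht
  refine ⟨Y, S, (U ⊔ T) ⊓ Y, t, hYe ▸ le_sup_left, Ya, hS, eaP.of_le inf_le_left, fun x hx => ?_,
    fun x hx g hg hgS => ⟨?_, cmem hg hx.2⟩, ⟨mem_sup_right ht, TY ht⟩, hl.lb.le ht, t1, t2⟩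
  · obtain ⟨u, hu, s, hs, rfl, uS⟩ := dec x hx
    exact mul_mem uS (TS hs)
  · obtain ⟨u, hu, s, hs, rfl, uS⟩ := dec x hx
    have e : g * (u * s) * g⁻¹ = u * (g * s * g⁻¹) := by
      rw [H23.TC.conj_mul, conj_of_comm (mem_C.1 (YU hg) u hu).symm]
    rw [e] at hgS ⊢
    have sS : g * s * g⁻¹ ∈ S := (mul_mem_cancel_left uS).1 hgS
    refine mul_mem (mem_sup_left hu) (hY.y1 hg hs (mem_C.2 fun r hr => ?_))
    exact ACwx.comm hY hg hr hs (hS.pi.piElt (mul_mem (TS hr) sS))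


end ACo
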