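import Mathlib
import Cfsg.Agent.H22.AC0

set_option autoImplicit false
set_option linter.unusedSectionVars false
set_option linter.unusedVariables false

namespace ACo

open Cfsg H24 H26 H26.Gold H23.TC H3.B71 Subgroup MulAction
open scoped commutatorElement Pointwise

universe u

variable {G Ω : Type u} [Group G] [Finite G] [MulAction G Ω] [Finite Ω] {Q K : Ω → Subgroup G}
  {a b b' c d e : Ω} {A B E F H M P R R' S S' S₀ S₁ S₂ T T' U U1 V W X Y : Subgroup G}
  {f g k r s t u v w x y z : G}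

/-! ### ACx -/
namespace ACxx

theorem sol_of_perf (h : ∀ L, L ⊴ H → ⁅L, L⁆ = L → L = ⊥) : Sol H := by
  obtain ⟨L, hL⟩ := exists_minimal_of_wellFoundedLT (fun L : Subgroup G => L ⊴ H ∧ (Sol L → Sol H))
    ⟨H, Nml.refl H, id⟩
  have e : ⁅L, L⁆ = L :=
    le_antisymm (der1_le L) (hL.2 ⟨hL.1.1.der1, fun h => hL.1.2 (sol_of_der1 h)⟩ (der1_le L))
  exact hL.1.2 (h L hL.1.1 e ▸ sol_bot)

theorem sup_eq (x y : G) : zpowers x ⊔ zpowers y = closure {x, y} := by
  rw [zpowers_eq_closure, zpowers_eq_closure, ← Subgroup.closure_union]; rfl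

/-- the hypothesis -/
def Hn (M : Subgroup G) : Prop := ∀ z : G, orderOf z = 2 → z ∈ M →
  ¬ (PRankLE 2 1 ↥(C{z} ⊓ M) ∨ (Group.IsSolvable ↥(C{z} ⊓ M) ∧
    ∀ S : Sylow 2 ↥(C{z} ⊓ M), IsElementaryAbelian 2 (S : Subgroup ↥(C{z} ⊓ M)) ∨
      ∃ n : ℕ, Nonempty (↥(S : Subgroup ↥(C{z} ⊓ M)) ≃* DihedralGroup n)))

theorem r2_of (h : ¬ PRankLE 2 1 H) : R2 H := by
  simp only [PRankLE, not_forall, not_le] at h
  obtain ⟨A, hA, h2, hc⟩ := h
  haveI := Fintype.ofFinite A
  rw [Nat.card_eq_fintype_card, pow_one] at hc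
  obtain ⟨a, ha⟩ := Fintype.exists_ne_of_one_lt_card (α := A) (by omega) 1
  obtain ⟨b, hb⟩ : ∃ b : A, b ≠ 1 ∧ b ≠ a := by
    classical
    by_contra hn
    have : (Finset.univ : Finset A) ⊆ {1, a} := fun x _ => by
      by_contra hx
      exact hn ⟨x, by simpa [not_or] using hx⟩
    have h1 := (Finset.card_le_card this).trans Finset.card_le_two
    rw [Finset.card_univ] at h1
    omega
  have sq : ∀ x : A, (x.1.1 : G) * x.1.1 = 1 := fun x => by
    have := congrArg Subtype.val (h2 x.1 x.2)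
    simpa [sq] using this
  refine ⟨a.1.1, a.1.2, b.1.1, b.1.2, sq a, sq b, fun e => ha (Subtype.ext (Subtype.ext e)),
    fun e => hb.1 (Subtype.ext (Subtype.ext e)), fun e => hb.2 (Subtype.ext (Subtype.ext e.symm)), ?_⟩
  exact congrArg (fun x : A => (x.1.1 : G)) (hA.is_comm.comm a b)

theorem cent (hR : Syl 2 M R) (h1 : R ≠ ⊥) : ∃ z ∈ R, Inv z ∧ R ≤ C{z} := by
  obtain ⟨z, hz, z1, z2⟩ := TwoG.exists_inv (hR.pi.inf_left C[R])
    ((hR.pi.nil p2).center_ne_bot h1)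
  exact ⟨z, hz.1, ⟨z1, z2⟩, mem_C_iff_le_C1.1 hz.2⟩

theorem four (h : Hn M) (hR : Syl 2 M R) (h1 : R ≠ ⊥) : R2 R := by
  obtain ⟨z, hz, iz, hc⟩ := cent hR h1
  exact (r2_of fun e => h z (ord2 iz.1 iz.2) (hR.le hz) (.inl e)).syl
    (hR.of_le (le_inf hc hR.le) inf_le_right)

theorem sol_dih (ix : Inv x) (iy : Inv y) (hR : Syl 2 H (closure {x, y})) (hz : z ∈ zpowers (x * y))
    (iz : Inv z) (hc : H ≤ C{z}) : Sol H := by
  refine sol_of_perf fun L hL hp => ?_
  have hU := hR.inf_nml hL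
  have i2 : Ix2 (zpowers (x * y)) (closure {x, y}) := fun a ha b hb h1 h2 => by
    obtain ⟨i, rfl | rfl⟩ := (H6.mem_closure_pair_iff ix.2 iy.2).1 ha
    · exact absurd (zpow_mem (mem_zpowers _) i) h1
    obtain ⟨j, rfl | rfl⟩ := (H6.mem_closure_pair_iff ix.2 iy.2).1 hb
    · exact absurd (zpow_mem (mem_zpowers _) j) h2
    rw [H6.left_mul_zpow ix.2 iy.2 i, mul_assoc, ← mul_assoc x x, ix.2, one_mul]
    exact mul_mem (zpow_mem (mem_zpowers _) _) (zpow_mem (mem_zpowers _) _)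
  have key : ∀ u ∈ closure {x, y} ⊓ L, u * u = 1 → u ≠ 1 → u = z := fun u hu u2 u1 => by
    obtain ⟨k, hk, e⟩ := thompson hp hU (i2.mono inf_le_left) hu u2
    have := inv_unique e hz (conj_ne u1 k) (conj_sq u2 k) iz.1 iz.2
    have e2 : u = k⁻¹ * z * k := by rw [← this]; group
    rw [e2, mem_C1.1 (hc (hL.le (inv_mem hk))), inv_mul_cancel_right]
  have le : closure {x, y} ⊓ L ≤ zpowers (x * y) := fun u hu => by
    obtain ⟨i, rfl | rfl⟩ := (H6.mem_closure_pair_iff ix.2 iy.2).1 hu.1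
    · exact zpow_mem (mem_zpowers _) i
    · by_cases e : x * (x * y) ^ i = 1
      · rw [e]; exact one_mem _
      · rw [key _ hu (H6.refl_mul_self ix.2 iy.2 i) e]; exact hz
  refine perfect_eq_bot hp (OddG.sol (hU.isPi_compl_of_eq_bot ?_))
  by_contra h1
  obtain ⟨u, hu, u1, u2⟩ := TwoG.exists_inv hU.pi h1
  obtain rfl := key u hu u2 u1
  exact u1 (tz_abl hp hU ((abl_zpowers _).of_le le) hu (mem_C_iff_le_C1.2 (hL.le.trans hc)))

theorem nd (h : Hn M) (hR : Syl 2 M R) : ¬ Dh R := by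
  rintro ⟨x, y, ix, iy, hxy, rfl⟩
  rw [sup_eq] at hR
  have mx : x ∈ closure ({x, y} : Set G) := subset_closure (by simp)
  have my : y ∈ closure ({x, y} : Set G) := subset_closure (by simp)
  obtain ⟨z, hz, z1, z2⟩ := exists_zp_inv (hR.pi.piElt (mul_mem mx my))
    (fun e => hxy (by rw [← inv_sq ix.2]; exact inv_eq_of_mul_eq_one_right e))
  have c1 : x * z = z * x := by
    obtain ⟨k, rfl⟩ := hz
    have := H6.conj_zpow_left ix.2 iy.2 k
    rw [zpow_neg, inv_sq z2] at this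
    exact comm_of_conj this
  have c2 : y * z = z * y := by
    have e : y = x * (x * y) := by rw [← mul_assoc, ix.2, one_mul]
    have c : x * y * z = z * (x * y) := (abl_zpowers _).comm (mem_zpowers _) hz
    calc y * z = x * (x * y * z) := by rw [← mul_assoc, ← e]
      _ = z * y := by rw [c, ← mul_assoc, c1, mul_assoc, ← e]
  have hc : closure {x, y} ≤ C{z} := (closure_le _).2 (by
    rintro _ (rfl | rfl)
    exacts [mem_C1.2 c1, mem_C1.2 c2])
  have hR' : Syl 2 (C{z} ⊓ M) (closure {x, y}) := hR.of_le (le_inf hc hR.le) inf_le_right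
  refine h z (ord2 z1 z2) (hR.le (zpowers_le.2 (mul_mem mx my) hz))
    (.inr ⟨sol_dih ix iy hR' hz ⟨z1, z2⟩ inf_le_left, fun S => .inr ⟨orderOf (x * y), ?_⟩⟩)
  obtain ⟨g, -, e⟩ := Sylow_trans p2 hR' (syl_of_sylow p2 S)
  obtain ⟨φ⟩ := H6.closure_pair_dihedral x y (ord2 ix.1 ix.2) (ord2 iy.1 iy.2) hxy
  exact ⟨(((S : Subgroup ↥(C{z} ⊓ M)).equivMapOfInjective _ (subtype_injective _)).trans
    (MulEquiv.subgroupCongr e)).trans ((cjEquiv g _).symm.trans φ)⟩

theorem nsol (h : Hn M) (hR : Syl 2 M R) (he : ∀ x ∈ R, x * x = 1) (hz : z ∈ M) (iz : Inv z) :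
    ¬ Sol (M ⊓ C{z}) := fun hs => by
  refine h z (ord2 iz.1 iz.2) hz (.inr ⟨by rwa [inf_comm] at hs, fun S => .inl (ea_of_sq ?_)⟩)
  intro a ha
  have hS := syl_of_sylow p2 S
  obtain ⟨g, -, e⟩ := conj_into hR a.2.2 (hS.pi.piElt ⟨a, ha, rfl⟩)
  have := he _ e
  rw [← H23.TC.conj_mul, conj_eq_one_iff'] at this
  exact Subtype.ext this

theorem eight (h : Hn M) (hR : Syl 2 M R) (h1 : R ≠ ⊥) : 8 ≤ ♯R := by
  obtain ⟨a, ha, b, hb, a2, b2, a1, b1, ab, hc⟩ := four h hR h1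
  have le : zpowers a ⊔ zpowers b ≤ R := sup_le (zpowers_le.2 ha) (zpowers_le.2 hb)
  have ne : zpowers a ⊔ zpowers b ≠ R := fun e => nd h hR ⟨a, b, ⟨a1, a2⟩, ⟨b1, b2⟩, ab, e.symm⟩
  have lt : zpowers a < zpowers a ⊔ zpowers b := lt_of_le_of_ne le_sup_left fun e => by
    rcases (mem_zp a2).1 (e ▸ mem_sup_right (mem_zpowers b)) with e' | e'
    exacts [b1 e', ab e'.symm]
  have c1 := H24.card_lt lt
  have c2 := H24.card_lt (lt_of_le_of_ne le ne)
  rw [card_zpowers', ord2 a1 a2] at c1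
  obtain ⟨i, hi⟩ := (hR.pi.of_le le).card_eq_pow p2
  obtain ⟨j, hj⟩ := hR.pi.card_eq_pow p2
  rw [hi] at c1 c2
  rw [hj] at c2 ⊢
  have k1 : 1 < i := (Nat.pow_lt_pow_iff_right (a := 2) (by norm_num)).1 c1
  have k2 : i < j := (Nat.pow_lt_pow_iff_right (by norm_num)).1 c2
  exact Nat.pow_le_pow_right (n := 2) (i := 3) (by norm_num) (by omega)

theorem dh_cj (h : Dh R) (g : G) : Dh (cj g R) := by
  obtain ⟨a, b, ia, ib, ab, rfl⟩ := h
  exact ⟨_, _, ⟨conj_ne ia.1 g, conj_sq ia.2 g⟩, ⟨conj_ne ib.1 g, conj_sq ib.2 g⟩,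
    fun e => ab (conj_inj' e), by rw [cj_sup, cj_zpowers, cj_zpowers]⟩

noncomputable def KL (L : Subgroup G) (x : G ⧸ N[L]) : Subgroup G := cj x.out L

theorem KL_mk (L : Subgroup G) (g : G) : KL L (g : G ⧸ N[L]) = cj g L :=
  cj_eq_cj_iff.2 (QuotientGroup.eq.1 (QuotientGroup.out_eq' _).symm)

end ACxx

open ACxx

theorem cx_of_standard [IsSimpleGroup G] {L : Subgroup G} (hL : IsStandardSubgroup L)
    (hn : ∀ z : G, orderOf z = 2 → z ∈ centralizer (L : Set G) →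
      ¬ (PRankLE 2 1 ↥(centralizer ({z} : Set G) ⊓ centralizer (L : Set G)) ∨
        (Group.IsSolvable ↥(centralizer ({z} : Set G) ⊓ centralizer (L : Set G)) ∧
          ∀ S : Sylow 2 ↥(centralizer ({z} : Set G) ⊓ centralizer (L : Set G)),
            IsElementaryAbelian 2 (S : Subgroup ↥(centralizer ({z} : Set G) ⊓ centralizer (L : Set G))) ∨
            ∃ n : ℕ, Nonempty (↥(S : Subgroup ↥(centralizer ({z} : Set G) ⊓ centralizer (L : Set G))) ≃*
              DihedralGroup n)))) :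
    ∃ (Ω : Type u) (_ : MulAction G Ω) (_ : Finite Ω) (K Q : Ω → Subgroup G) (a : Ω), CX K Q := by
  have hH : Hn C[L] := hn
  obtain ⟨hq, ⟨hev, hti⟩, -, hN⟩ := hL
  have eK : ∀ (g : G) (a : G ⧸ N[L]), KL L (g • a) = cj g (KL L a) := fun g a => by
    induction a using QuotientGroup.induction_on with
    | H x => rw [MulAction.Quotient.smul_mk, KL_mk, KL_mk, smul_eq_mul, cj_mul]
  have base : ∀ (x : G) R, Syl 2 C[KL L (x : G ⧸ N[L])] R → Syl 2 C[L] (cj x⁻¹ R) := fun x R h => by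
    have := h.cj x⁻¹
    rwa [KL_mk, cj_C, cj_inv_cj] at this
  have nb : ∀ R, Syl 2 C[L] R → R ≠ ⊥ := fun R h => Hall.ne_bot h p2 rfl hev.two_dvd
  refine ⟨G ⧸ N[L], inferInstance, inferInstance, KL L, fun a => C[KL L a], ((1 : G) : G ⧸ N[L]),
    inferInstance, ⟨fun a => (Qs.of_quasisimple hq).cj _, eK, fun a => le_CC _⟩, fun _ => rfl,
    ⟨fun g a => by rw [eK, cj_C], fun a b x ha hb ix => ?_, fun a => ?_, fun a b => ?_⟩,
    fun c R h => ?_, fun c R h hd => ?_, ?_⟩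
  · induction a using QuotientGroup.induction_on with
    | H g =>
    induction b using QuotientGroup.induction_on with
    | H k =>
    rw [KL_mk, ← cj_C] at ha hb
    by_contra hne
    have h1 := hti (g⁻¹ * k) fun e => hne (QuotientGroup.eq.2 (by rwa [hN]))
    have h2 : g⁻¹ * x * g ∈ C[L] ⊓ cj (g⁻¹ * k) C[L] :=
      ⟨mem_cj.1 ha, mem_cj.2 (by convert mem_cj.1 hb using 1; group)⟩
    have h3 := eq_one_of_odd_sq ((oddG_iff.2 h1).piElt h2) (by simpa using conj_sq ix.2 g⁻¹)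
    exact ix.1 (by
      have : x = g * (g⁻¹ * x * g) * g⁻¹ := by group
      rw [this, h3]; group)
  · obtain ⟨x, hx, ho⟩ := exists_orderOf_eq (H := C[KL L a]) p2 (by
      rw [KL, ← cj_C, card_cj]; exact hev.two_dvd)
    exact ⟨x, hx, H6.ne_one_of_orderOf_two ho, H6.mul_self_of_orderOf_two ho⟩
  · exact MulAction.exists_smul_eq G a b
  · induction c using QuotientGroup.induction_on with
    | H x => simpa using (four hH (base x R h) (nb _ (base x R h))).cj x
  · induction c using QuotientGroup.induction_on with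
    | H x => exact nd hH (base x R h) (dh_cj hd _)
  · by_cases hne : NE fun a => C[KL L a]
    · exact .inl hne
    right
    simp only [NE, not_forall, not_exists, not_and, not_not] at hne
    obtain ⟨c, R, h, he⟩ := hne
    induction c using QuotientGroup.induction_on with
    | H x =>
    have h0 := base x R h
    have he0 : ∀ y ∈ cj x⁻¹ R, y * y = 1 := fun y hy => by
      obtain ⟨w, hw, rfl⟩ := mem_cj'.1 hy
      exact conj_sq (he w hw) _
    refine ⟨fun c R' h' => ?_, fun c z hz iz hs => ?_⟩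
    · induction c using QuotientGroup.induction_on with
      | H x' =>
      have h1 := base x' R' h'
      obtain ⟨g, -, e⟩ := Sylow_trans p2 h0 h1
      refine ⟨fun y hy => ?_, by simpa using eight hH h1 (nb _ h1)⟩
      obtain ⟨w, hw, e'⟩ := mem_cj'.1 (e ▸ conj_mem_cj x'⁻¹ hy)
      have := conj_sq (he0 w hw) g
      rw [← e', ← H23.TC.conj_mul, conj_eq_one_iff'] at this
      exact this
    · induction c using QuotientGroup.induction_on with
      | H x' =>
      simp only [KL_mk] at hz hs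
      refine nsol hH h0 he0 (z := x'⁻¹ * z * x'⁻¹⁻¹) ?_ ⟨conj_ne iz.1 _, conj_sq iz.2 _⟩ ?_
      · rw [← cj_C] at hz; simpa using mem_cj.1 hz
      · have := hs.cj x'⁻¹
        rwa [cj_inf, cj_C, cj_C1, cj_inv_cj] at this

end ACo
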