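import Mathlib
import Cfsg.Agent.H22.AC0
import Cfsg.Agent.H22.ACE
import Cfsg.Agent.H22.ACc
import Cfsg.Agent.H22.ACe
import Cfsg.Agent.H22.ACi
import Cfsg.Agent.H22.ACw
import Cfsg.Agent.H22.ACo
import Cfsg.Agent.H22.AC1

set_option autoImplicit false
set_option linter.unusedSectionVars false
set_option linter.unusedVariables false

namespace ACo

open Cfsg H24 H26 H26.Gold H23.TC H3.B71 Subgroup MulAction
open scoped commutatorElement Pointwise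

universe u

variable {G Ω : Type u} [Group G] [Finite G] [MulAction G Ω] [Finite Ω] {Q K : Ω → Subgroup G}
  {a b b' c d e : Ω} {A B E F H M P R R' S S' S₀ S₁ S₂ T T' U U1 V W X Y : Subgroup G}
  {f g k r s t u v w x y z : G}

/-! ### ACy -/
namespace ACyx

theorem scy (hw : W2 Q) (hk : KD K Q) (hab : Alp Q a b) : ∃ c d, Alp Q c d ∧ SCY K Q c d := by
  by_cases h8 : No8 Q
  · exact ⟨a, b, hab, hw.w2a hk h8 hab⟩
  · unfold No8 at h8
    push Not at h8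
    obtain ⟨b, b', t, s, ht, hs, it, is, h4, hn⟩ := h8
    obtain ⟨e, R, U, T, T', hl, -⟩ := hw.d8 ht hs it is h4 hn
    exact ⟨e, b, hl.ab, hw.w2b hk hl⟩

theorem nb (h : Cf Q a b S R R' U T) (hb : ¬ Beta Q a b) : ¬ Beta Q b a :=
  fun k => hb (k.symm h.te)

theorem eaT (h : CX K Q) (hc : Cf Q a b S R R' U T) (hb : ¬ Beta Q a b) : EA T :=
  h.a1k hc hb (hc.symm.r2 (nb hc hb) h.four h.nd)

theorem eaU (h : CX K Q) (hc : Cf Q a b S R R' U T) (hb : ¬ Beta Q a b) : EA U :=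
  hc.ea hb (eaT h hc hb)

theorem caseA (h : CX K Q) (hc : Cf Q a b S R R' U T) (hb : ¬ Beta Q a b) (hn : ¬ R ≤ N[U ⊔ T]) :
    False := by
  have hU := eaU h hc hb
  have hT := eaT h hc hb
  obtain ⟨U1, r, h1⟩ := hc.c4 hb hU hT (hc.r2 hb h.four h.nd) hn
  have hn' : ¬ R' ≤ N[T ⊔ U] := fun k => by
    have e1 := (hc.symm.card_le).resolve_right (nb hc hb)
    rw [inf_eq_left.2 k, ← h.te.card hc.sa hc.sb, h1.cardR, ← hc.card] at e1
    have := Nat.mul_pos (card_pos U) (card_pos U)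
    omega
  obtain ⟨T1, r', h2⟩ := hc.symm.c4 (nb hc hb) hT hU (hc.symm.r2 (nb hc hb) h.four h.nd) hn'
  obtain ⟨Q', hw, hle, ⟨c, d, hcd⟩, hal⟩ := h1.w2 h2
  obtain ⟨c, d, hcd, Y, S, A, t, k1, k2, k3, k4, k5, k6, k7, k8, k9⟩ :=
    scy hw ⟨h.kd.qs, h.kd.eqv, fun a => (h.kd.cent a).trans (C_anti (hle a))⟩ hcd
  exact h.fin (hal c d hcd) ⟨Y, S, A, t, k1, k2, k3, k4, k5, k6, k7, hle d k8, k9⟩

end ACyx

theorem CX.false (h : CX K Q) (a : Ω) : False := by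
  by_cases hbo : Bo Q
  · exact h.not_bo a hbo
  unfold Bo at hbo
  push Not at hbo
  obtain ⟨a, b, hab, hb⟩ := hbo
  have hN : ∀ {a b : Ω} {S R R' U T : Subgroup G}, Cf Q a b S R R' U T → ¬ Beta Q a b →
      R ≤ N[U ⊔ T] := fun hc hb => by
    by_contra hn
    exact ACyx.caseA h hc hb hn
  obtain ⟨S, R, R', U, T, hc, -⟩ := exists_cf h.te hab (B := ⊥) (isPi_bot _) bot_le
  rcases h.ne with hne | hen
  swap
  · exact hc.elk hb hen (hN hc hb)
  have hO : ∀ {a b : Ω} {S R R' U T : Subgroup G}, Cf Q a b S R R' U T → ¬ Beta Q a b →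
      ∀ y ∈ R, y * y = 1 → y ∈ U := fun hc hb => by
    refine (hc.c3 hb (ACyx.eaU h hc hb) (ACyx.eaT h hc hb) (hN hc hb)).resolve_left fun he => ?_
    obtain ⟨x, hx, h2⟩ := hne _ _ hc.sa
    exact h2 (EA.sq he hx)
  suffices hw : W2 Q by
    obtain ⟨c, d, hcd, hs⟩ := ACyx.scy hw h.kd ⟨hab, hb⟩
    exact h.fin hcd hs
  refine ⟨h.te, h.four, hne, fun c R1 hR u hu u2 => ?_,
    fun a b S R R' U T hc hb => ⟨le_antisymm (fun u hu => mem_Om' (hc.lU hu)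
      (EA.sq (ACyx.eaU h hc hb) hu)) ((closure_le _).2 fun y hy => hO hc hb y hy.1 hy.2),
      hN hc hb⟩⟩
  obtain ⟨g, -, rfl⟩ := h.te.syl_conj hc.sa hR
  obtain ⟨u, hu0, rfl⟩ := mem_cj'.1 hu
  have u2' : u * u = 1 := by
    rw [← H23.TC.conj_mul] at u2
    exact conj_eq_one_iff'.1 u2
  have hU := hO hc hb u hu0 u2'
  refine mem_C.2 fun y hy => ?_
  obtain ⟨y, hy0, rfl⟩ := mem_cj'.1 hy
  refine conj_comm ?_ g
  by_cases hyU : y ∈ U
  · exact EA.comm (ACyx.eaU h hc hb) hyU hU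
  · exact comm_of_conj ((hc.inv hy0 hyU (hN hc hb hy0) u hU).trans (inv_sq u2'))



end ACo
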