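import Mathlib
import Cfsg.Agent.H22.MacW1

/-!
# A normal subgroup `ℤ₄ × ℤ₄` in a 2-group: coordinates
-/

set_option autoImplicit false
set_option linter.unusedSectionVars false
set_option synthInstance.maxSize 100000
set_option synthInstance.maxHeartbeats 400000

namespace H22

open Subgroup
open scoped commutatorElement

variable {G : Type*} [Group G] [Finite G]

/-- doubling -/
def dbl (x : ZMod 2) : ZMod 4 := if x = 0 then 0 else 2

/-- lifting -/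
def lft (x : ZMod 2) : ZMod 4 := if x = 0 then 0 else 1

/-- coordinates on a normal subgroup `ℤ₄ × ℤ₄` -/
structure H4 (W : Subgroup G) where
  ι : ZMod 4 → ZMod 4 → G
  p : G → ZMod 2
  q : G → ZMod 2
  r : G → ZMod 2
  s : G → ZMod 2
  σ : G → ZMod 2
  mul : ∀ i j i' j', ι i j * ι i' j' = ι (i + i') (j + j')
  inj : ∀ {i j i' j'}, ι i j = ι i' j' → i = i' ∧ j = j'
  mem : ∀ i j, ι i j ∈ W
  surj : ∀ x ∈ W, ∃ i j, x = ι i j
  act : ∀ g i j, g * ι i j * g⁻¹ = ι ((1 + dbl (p g)) * i + (lft (σ g) + dbl (r g)) * j)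
    (dbl (q g) * i + (1 + dbl (s g)) * j)

theorem nonempty_H4 {W : Subgroup G} [hn : W.Normal] (hW : Nat.card W ≤ 16) {a b : G} (ha : a ∈ W)
    (hb : b ∈ W) (hab : Commute a b) (ha4 : a ^ 4 = 1) (hb4 : b ^ 4 = 1) (ha1 : a ^ 2 ≠ 1)
    (hb1 : b ^ 2 ≠ 1) (hne : a ^ 2 ≠ b ^ 2) (hz : ∀ g, Commute g (a ^ 2)) :
    ∃ F : H4 W, F.ι 1 0 = a ∧ F.ι 0 1 = b := by
  obtain ⟨f, hf⟩ := exists_pairHom (n := 2) ha4 hb4 hab
  let ι : ZMod 4 → ZMod 4 → G := fun i j => f (Multiplicative.ofAdd (i, j))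
  have hι : ∀ i j : ℤ, ι i j = a ^ i * b ^ j := hf
  have hmul : ∀ i j i' j', ι i j * ι i' j' = ι (i + i') (j + j') := fun i j i' j' =>
    (map_mul f _ _).symm
  have hmem : ∀ i j, ι i j ∈ W := fun i j => by
    obtain ⟨i, rfl⟩ := ZMod.intCast_surjective i
    obtain ⟨j, rfl⟩ := ZMod.intCast_surjective j
    rw [hι]; exact W.mul_mem (W.zpow_mem ha i) (W.zpow_mem hb j)
  have hfi : Function.Injective f := by
    rw [injective_iff_map_eq_one]
    rintro ⟨i, j⟩ e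
    obtain ⟨i, rfl⟩ := ZMod.intCast_surjective i
    obtain ⟨j, rfl⟩ := ZMod.intCast_surjective j
    have e1 : a ^ i * b ^ j = 1 := (hf i j).symm.trans e
    have e2 : a ^ i ∈ zpowers a ⊓ zpowers b :=
      ⟨zpow_mem_zpowers a i, by
        rw [eq_inv_of_mul_eq_one_left e1]; exact (zpowers b).inv_mem (zpow_mem_zpowers b j)⟩
    rw [zpowers_inf_eq_bot_of_two_pow (k := 1) ha4 hb4 ha1 hb1 hne, mem_bot] at e2
    rw [e2, one_mul] at e1
    have o1 := orderOf_dvd_iff_zpow_eq_one.2 e2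
    have o2 := orderOf_dvd_iff_zpow_eq_one.2 e1
    rw [orderOf_eq_prime_pow (p := 2) (n := 1) ha1 ha4] at o1
    rw [orderOf_eq_prime_pow (p := 2) (n := 1) hb1 hb4] at o2
    rw [(ZMod.intCast_zmod_eq_zero_iff_dvd i _).2 o1, (ZMod.intCast_zmod_eq_zero_iff_dvd j _).2 o2]
    rfl
  have hinj : ∀ {i j i' j'}, ι i j = ι i' j' → i = i' ∧ j = j' := fun e =>
    Prod.ext_iff.1 (Multiplicative.ofAdd.injective (hfi e))
  have hsurj : ∀ x ∈ W, ∃ i j, x = ι i j := fun x hx => by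
    have hi : Function.Injective fun p : ZMod 4 × ZMod 4 => (⟨ι p.1 p.2, hmem _ _⟩ : W) :=
      fun p p' e => Prod.ext (hinj (congrArg Subtype.val e)).1 (hinj (congrArg Subtype.val e)).2
    obtain ⟨⟨i, j⟩, e⟩ := (hi.bijective_of_nat_card_le (by simpa using hW)).2 ⟨x, hx⟩
    exact ⟨i, j, (congrArg Subtype.val e).symm⟩
  have e10 : ι 1 0 = a := by simpa using hι 1 0
  have e01 : ι 0 1 = b := by simpa using hι 0 1
  have e00 : ι 0 0 = 1 := by simpa using hι 0 0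
  have hpow : ∀ (i j : ZMod 4) (k : ℤ), ι i j ^ k = ι (i * k) (j * k) := fun i j k => by
    show f _ ^ k = f _
    rw [← map_zpow, ← ofAdd_zsmul]; simp [mul_comm]
  have h1 : ∀ g, ∃ p q : ZMod 2, g * a * g⁻¹ = ι (1 + dbl p) (dbl q) := fun g => by
    obtain ⟨i, j, e⟩ := hsurj _ (hn.conj_mem a ha g)
    have h2 : ι (i + i) (j + j) = ι (1 + 1) (0 + 0) := by
      rw [← hmul, ← hmul, ← e, e10, conj_mul, ← sq, (hz g).eq, mul_inv_cancel_right]
    have h3 : ∀ i j : ZMod 4, i + i = 1 + 1 ∧ j + j = 0 + 0 →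
        ∃ p q : ZMod 2, i = 1 + dbl p ∧ j = dbl q := by decide
    obtain ⟨p, q, rfl, rfl⟩ := h3 i j (hinj h2)
    exact ⟨p, q, e⟩
  have h2 : ∀ g, ∃ σ r s : ZMod 2, g * b * g⁻¹ = ι (lft σ + dbl r) (1 + dbl s) := fun g => by
    obtain ⟨i, j, e⟩ := hsurj _ (hn.conj_mem b hb g)
    have h2 : ι (i + i) (j + j) = g * b ^ 2 * g⁻¹ := by rw [← hmul, ← e, conj_mul, sq]
    have h3 : ∀ i j : ZMod 4, ¬ (i + i = 0 ∧ j + j = 0) → ¬ (i + i = 1 + 1 ∧ j + j = 0 + 0) →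
        ∃ σ r s : ZMod 2, i = lft σ + dbl r ∧ j = 1 + dbl s := by decide
    obtain ⟨σ, r, s, rfl, rfl⟩ := h3 i j (fun h => hb1 (by
      rw [h.1, h.2, e00] at h2; simpa using h2.symm)) fun h => hne (by
        rw [h.1, h.2, ← hmul, e10, ← sq, eq_mul_inv_iff_mul_eq, ← (hz g).eq] at h2
        exact mul_left_cancel h2)
    exact ⟨σ, r, s, e⟩
  choose p q hpq using h1
  choose σ r s hσ using h2
  refine ⟨⟨ι, p, q, r, s, σ, hmul, hinj, hmem, hsurj, fun g i j => ?_⟩, e10, e01⟩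
  obtain ⟨i, rfl⟩ := ZMod.intCast_surjective i
  obtain ⟨j, rfl⟩ := ZMod.intCast_surjective j
  rw [hι, ← conj_mul, ← conj_zpow, ← conj_zpow, hpq, hσ, hpow, hpow, hmul]

namespace H4
variable {W : Subgroup G} (F : H4 W)

theorem zero : F.ι 0 0 = 1 := by
  have := F.mul 0 0 0 0
  simpa using this

theorem eq_one_iff {i j : ZMod 4} : F.ι i j = 1 ↔ i = 0 ∧ j = 0 :=
  ⟨fun h => F.inj (h.trans F.zero.symm), by rintro ⟨rfl, rfl⟩; exact F.zero⟩

theorem inv (i j : ZMod 4) : (F.ι i j)⁻¹ = F.ι (-i) (-j) :=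
  inv_eq_of_mul_eq_one_right (by rw [F.mul]; simp [F.zero])

theorem law (g g' : G) : F.σ (g * g') = F.σ g + F.σ g' ∧ F.q (g * g') = F.q g + F.q g' ∧
    F.p (g * g') = F.p g + F.p g' + F.σ g * F.q g' ∧
    F.s (g * g') = F.s g + F.s g' + F.q g * F.σ g' ∧
    F.r (g * g') = F.r g + F.r g' + F.p g * F.σ g' + F.σ g * F.s g' + F.σ g * F.σ g' := by
  have key : ∀ i j, g * g' * F.ι i j * (g * g')⁻¹ = g * (g' * F.ι i j * g'⁻¹) * g⁻¹ :=
    fun i j => by group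
  have h1 := key 1 0
  have h2 := key 0 1
  rw [F.act, F.act, F.act] at h1 h2
  obtain ⟨e1, e2⟩ := F.inj h1
  obtain ⟨e3, e4⟩ := F.inj h2
  simp only [mul_one, mul_zero, add_zero, zero_add] at e1 e2 e3 e4
  have a1 : ∀ p q σ r p' q' P : ZMod 2,
      1 + dbl P = (1 + dbl p) * (1 + dbl p') + (lft σ + dbl r) * dbl q' → P = p + p' + σ * q' := by
    intro p q; revert p; decide
  have a2 : ∀ q s p' q' Q : ZMod 2,
      dbl Q = dbl q * (1 + dbl p') + (1 + dbl s) * dbl q' → Q = q + q' := by decide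
  have a3 : ∀ p σ r σ' r' s' S R : ZMod 2,
      lft S + dbl R = (1 + dbl p) * (lft σ' + dbl r') + (lft σ + dbl r) * (1 + dbl s') →
      S = σ + σ' ∧ R = r + r' + p * σ' + σ * s' + σ * σ' := by decide +kernel
  have a4 : ∀ q s σ' r' s' S : ZMod 2,
      1 + dbl S = dbl q * (lft σ' + dbl r') + (1 + dbl s) * (1 + dbl s') →
      S = s + s' + q * σ' := by decide
  exact ⟨(a3 _ _ _ _ _ _ _ _ e3).1, a2 _ _ _ _ _ e2, a1 _ 0 _ _ _ _ _ e1, a4 _ _ _ _ _ _ e4,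
    (a3 _ _ _ _ _ _ _ _ e3).2⟩

theorem σ_mul (g g' : G) : F.σ (g * g') = F.σ g + F.σ g' := (F.law g g').1
theorem q_mul (g g' : G) : F.q (g * g') = F.q g + F.q g' := (F.law g g').2.1
theorem p_mul (g g' : G) : F.p (g * g') = F.p g + F.p g' + F.σ g * F.q g' := (F.law g g').2.2.1
theorem s_mul (g g' : G) : F.s (g * g') = F.s g + F.s g' + F.q g * F.σ g' := (F.law g g').2.2.2.1
theorem r_mul (g g' : G) : F.r (g * g') =
    F.r g + F.r g' + F.p g * F.σ g' + F.σ g * F.s g' + F.σ g * F.σ g' := (F.law g g').2.2.2.2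

theorem commute_iff (g : G) (i j : ZMod 4) : Commute g (F.ι i j) ↔
    dbl (F.p g) * i + (lft (F.σ g) + dbl (F.r g)) * j = 0 ∧ dbl (F.q g) * i + dbl (F.s g) * j = 0 := by
  rw [Commute, SemiconjBy, ← mul_inv_eq_iff_eq_mul, F.act]
  constructor
  · intro e
    obtain ⟨e1, e2⟩ := F.inj e
    exact ⟨by linear_combination e1, by linear_combination e2⟩
  · rintro ⟨e1, e2⟩
    congr 1
    · linear_combination e1
    · linear_combination e2

/-- the coordinates of `g` -/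
def Co (g : G) (p q r s σ : ZMod 2) : Prop :=
  F.p g = p ∧ F.q g = q ∧ F.r g = r ∧ F.s g = s ∧ F.σ g = σ

theorem mem_C {g : G} : g ∈ centralizer (W : Set G) ↔ F.Co g 0 0 0 0 0 := by
  constructor
  · intro h
    have h1 := (F.commute_iff g 1 0).1 (h _ (F.mem _ _)).symm
    have h2 := (F.commute_iff g 0 1).1 (h _ (F.mem _ _)).symm
    revert h1 h2
    unfold Co
    generalize F.p g = p, F.q g = q, F.r g = r, F.s g = s, F.σ g = σ
    revert p q r s σ; decide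
  · rintro ⟨h1, h2, h3, h4, h5⟩ x hx
    obtain ⟨i, j, rfl⟩ := F.surj x hx
    exact ((F.commute_iff g i j).2 (by simp [h1, h2, h3, h4, h5, dbl, lft])).symm

theorem law_inv (g : G) : F.σ g⁻¹ = F.σ g ∧ F.q g⁻¹ = F.q g ∧ F.p g⁻¹ = F.p g + F.σ g * F.q g ∧
    F.s g⁻¹ = F.s g + F.q g * F.σ g ∧
    F.r g⁻¹ = F.r g + F.σ g * (F.p g + F.s g + F.q g + 1) := by
  obtain ⟨h1, h2, h3, h4, h5⟩ := F.mem_C.1 (one_mem (centralizer (W : Set G)))
  obtain ⟨e1, e2, e3, e4, e5⟩ := F.law g g⁻¹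
  rw [mul_inv_cancel] at e1 e2 e3 e4 e5
  rw [h5] at e1; rw [h2] at e2; rw [h1] at e3; rw [h4] at e4; rw [h3] at e5
  revert e1 e2 e3 e4 e5
  generalize F.p g = p, F.q g = q, F.r g = r, F.s g = s, F.σ g = σ,
    F.p g⁻¹ = p', F.q g⁻¹ = q', F.r g⁻¹ = r', F.s g⁻¹ = s', F.σ g⁻¹ = σ'
  revert p q r s σ p' q' r' s' σ'; decide +kernel

theorem σ_inv (g : G) : F.σ g⁻¹ = F.σ g := (F.law_inv g).1
theorem q_inv (g : G) : F.q g⁻¹ = F.q g := (F.law_inv g).2.1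
theorem p_inv (g : G) : F.p g⁻¹ = F.p g + F.σ g * F.q g := (F.law_inv g).2.2.1
theorem s_inv (g : G) : F.s g⁻¹ = F.s g + F.q g * F.σ g := (F.law_inv g).2.2.2.1
theorem r_inv (g : G) : F.r g⁻¹ = F.r g + F.σ g * (F.p g + F.s g + F.q g + 1) :=
  (F.law_inv g).2.2.2.2

variable {F}

theorem Co.mul {g g' : G} {p q r s p' q' r' s' : ZMod 2} (h : F.Co g p q r s 0)
    (h' : F.Co g' p' q' r' s' 0) : F.Co (g * g') (p + p') (q + q') (r + r') (s + s') 0 := by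
  obtain ⟨rfl, rfl, rfl, rfl, h5⟩ := h
  obtain ⟨rfl, rfl, rfl, rfl, h5'⟩ := h'
  simp [Co, F.p_mul, F.q_mul, F.r_mul, F.s_mul, F.σ_mul, h5, h5']

theorem Co.inv {g : G} {p q r s : ZMod 2} (h : F.Co g p q r s 0) : F.Co g⁻¹ p q r s 0 := by
  obtain ⟨rfl, rfl, rfl, rfl, h5⟩ := h
  simp [Co, F.p_inv, F.q_inv, F.r_inv, F.s_inv, F.σ_inv, h5]

theorem Co.mul_C {g c : G} {p q r s : ZMod 2} (h : F.Co g p q r s 0)
    (hc : c ∈ centralizer (W : Set G)) : F.Co (g * c) p q r s 0 := by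
  simpa using h.mul (F.mem_C.1 hc)

theorem Co.inv_mul_mem {g g' : G} {p q r s : ZMod 2} (h : F.Co g p q r s 0)
    (h' : F.Co g' p q r s 0) : g⁻¹ * g' ∈ centralizer (W : Set G) := by
  simpa only [F.mem_C, CharTwo.add_self_eq_zero] using h.inv.mul h'

theorem Co.sq_mem {g : G} {p q r s : ZMod 2} (h : F.Co g p q r s 0) :
    g * g ∈ centralizer (W : Set G) := by
  simpa only [F.mem_C, CharTwo.add_self_eq_zero] using h.mul h

theorem co_self {g : G} (h : F.σ g = 0) : F.Co g (F.p g) (F.q g) (F.r g) (F.s g) 0 :=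
  ⟨rfl, rfl, rfl, rfl, h⟩

theorem Co.conj {g k : G} {p q r s : ZMod 2} (h : F.Co k p q r s 0) :
    F.Co (g * k * g⁻¹) (p + F.σ g * q) q (r + F.σ g * (p + s + q)) (s + F.σ g * q) 0 := by
  obtain ⟨rfl, rfl, rfl, rfl, h5⟩ := h
  simp only [Co, F.p_mul, F.q_mul, F.r_mul, F.s_mul, F.σ_mul, F.p_inv, F.q_inv, F.r_inv, F.s_inv,
    F.σ_inv, h5]
  generalize F.p g = p, F.q g = q, F.r g = r, F.s g = s, F.σ g = σ,
    F.p k = p', F.q k = q', F.r k = r', F.s k = s'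
  revert p q r s σ p' q' r' s'; decide +kernel

theorem Co.comm {g k : G} {p q r s : ZMod 2} (h : F.Co k p q r s 0) (hg : F.σ g = 1) :
    F.Co ⁅g, k⁆ q 0 (p + s + q) q 0 := by
  have := (h.conj (g := g)).mul h.inv
  rw [hg] at this
  have e : ∀ p q r s : ZMod 2, p + 1 * q + p = q ∧ q + q = 0 ∧ r + 1 * (p + s + q) + r = p + s + q ∧
      s + 1 * q + s = q := by decide
  obtain ⟨e1, e2, e3, e4⟩ := e p q r s
  rw [e1, e2, e3, e4] at this
  exact this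

end H4

end H22
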