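import Mathlib
import Cfsg.Agent.H22.MacW2

/-!
# MacWilliams' theorem: the case of a normal subgroup `ℤ₄ × ℤ₄`
-/

set_option autoImplicit false
set_option linter.unusedSectionVars false
set_option synthInstance.maxSize 100000
set_option synthInstance.maxHeartbeats 400000

namespace H22

open Subgroup
open scoped commutatorElement

variable {G : Type*} [Group G] [Finite G]

theorem exists_order_four (hG : IsPGroup 2 G) {y : G} (h : y * y ≠ 1) :
    ∃ k : ℕ, (y ^ k) ^ 4 = 1 ∧ y ^ k * y ^ k ≠ 1 := by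
  obtain ⟨k, h1, h2⟩ := H3.exists_pow_not_mem_pow_mem hG (N := ⊥) (x := y * y) h
  refine ⟨2 ^ k, ?_, fun e => h1 ?_⟩
  · rw [← mem_bot.1 h2, ← sq, ← pow_mul, ← pow_mul, ← pow_mul]; congr 1; ring
  · rw [mem_bot, ← e, (Commute.refl y).mul_pow]

theorem relIndex_le_mul (M T U : Subgroup G) :
    M.relIndex U ≤ M.relIndex (U ⊓ T) * T.relIndex U := by
  rw [inf_comm, relIndex_inf_mul_relIndex]
  exact relIndex_le_of_le_left inf_le_left index_ne_zero_of_finite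

theorem Sec.le_two_of_zpowers' {M F K : Subgroup G} (h : Sec M F) {c : G}
    (hn : c ∈ normalizer (K : Set G)) (hc : F ≤ zpowers c ⊔ K) (hk : F ⊓ K ≤ M) :
    M.relIndex F ≤ 2 := by
  have hF : F ≤ normalizer (K : Set G) := hc.trans (sup_le (zpowers_le.2 hn) Subgroup.le_normalizer)
  rw [← relIndex_subgroupOf hF]
  refine Sec.le_two_of_zpowers (K := K.subgroupOf (normalizer (K : Set G))) (c := ⟨c, hn⟩)
    ⟨fun x hx => h.sq x hx, fun x hx y hy => h.comm x hx y hy⟩ (fun x hx => ?_)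
    fun x hx => hk ⟨hx.1, hx.2⟩
  obtain ⟨k, a, ha, e⟩ := (H3.mem_zpowers_sup_iff hn).1 (hc hx)
  have : x = ⟨c, hn⟩ ^ k * ⟨a, Subgroup.le_normalizer ha⟩ := Subtype.ext e
  rw [this]
  exact mul_mem (mem_sup_left (zpow_mem_zpowers _ k)) (mem_sup_right ha)

theorem relIndex_le_two_of_map {M U : Subgroup G} (f : G → ZMod 2)
    (h : ∀ x ∈ U, ∀ y ∈ U, f x = f y → x⁻¹ * y ∈ M) : M.relIndex U ≤ 2 :=
  (relIndex_le_of_map f Finset.univ (fun _ _ => Finset.mem_univ _) h).trans (by simp)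

theorem relIndex_le_four_of_map {M U : Subgroup G} (f g : G → ZMod 2)
    (h : ∀ x ∈ U, ∀ y ∈ U, f x = f y → g x = g y → x⁻¹ * y ∈ M) : M.relIndex U ≤ 4 :=
  (relIndex_le_of_map (fun x => (f x, g x)) Finset.univ (fun _ _ => Finset.mem_univ _)
    fun x hx y hy e => h x hx y hy (congrArg Prod.fst e) (congrArg Prod.snd e)).trans (by simp)

namespace H4
variable {W : Subgroup G} (F : H4 W)

include F in
theorem W_comm {x y : G} (hx : x ∈ W) (hy : y ∈ W) : Commute x y := by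
  obtain ⟨i, j, rfl⟩ := F.surj x hx
  obtain ⟨i', j', rfl⟩ := F.surj y hy
  rw [Commute, SemiconjBy, F.mul, F.mul, add_comm i, add_comm j]

include F in
theorem W_le : W ≤ centralizer (W : Set G) := fun _ hx _ hy => F.W_comm hy hx

include F in
theorem normal : W.Normal := ⟨fun x hx g => by
  obtain ⟨i, j, rfl⟩ := F.surj x hx
  rw [F.act]; exact F.mem _ _⟩

/-- the involutions of `W` -/
def V : Subgroup G where
  carrier := {x | x ∈ W ∧ x * x = 1}
  one_mem' := ⟨W.one_mem, mul_one 1⟩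
  inv_mem' := fun {x} hx => ⟨W.inv_mem hx.1, by rw [← mul_inv_rev, hx.2, inv_one]⟩
  mul_mem' := fun {x y} hx hy => ⟨W.mul_mem hx.1 hy.1, by
    rw [mul_assoc, ← mul_assoc y, (F.W_comm hy.1 hx.1).eq, mul_assoc, hy.2, mul_one, hx.2]⟩

instance : F.V.Normal := ⟨fun x hx g => ⟨F.normal.conj_mem x hx.1 g, conj_mul_self hx.2 g⟩⟩

theorem mem_V {i j : ZMod 4} : F.ι i j ∈ F.V ↔ i + i = 0 ∧ j + j = 0 := by
  rw [← F.eq_one_iff, ← F.mul]; exact ⟨fun h => h.2, fun h => ⟨F.mem i j, h⟩⟩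

theorem V_le : F.V ≤ centralizer (W : Set G) := fun _ hx => F.W_le hx.1

theorem V_cent {g v : G} (hg : F.σ g = 0) (hv : v ∈ F.V) : Commute g v := by
  obtain ⟨i, j, rfl⟩ := F.surj v hv.1
  rw [F.commute_iff, hg]
  have := F.mem_V.1 hv
  clear hv
  revert this
  generalize F.p g = p, F.q g = q, F.r g = r, F.s g = s
  revert p q r s i j; decide +kernel

theorem card_V : 4 ≤ Nat.card F.V := by
  have : Function.Injective fun x : ZMod 2 × ZMod 2 =>
      (⟨F.ι (dbl x.1) (dbl x.2), F.mem_V.2 (by revert x; decide)⟩ : F.V) := fun x y e => by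
    have := F.inj (congrArg Subtype.val e)
    clear e; revert x y; decide
  simpa using Nat.card_le_card_of_injective _ this

/-- the centralizer of the involutions of `W` -/
def T : Subgroup G where
  carrier := {g | F.σ g = 0}
  one_mem' := (F.mem_C.1 (one_mem _)).2.2.2.2
  inv_mem' := fun {x} hx => (F.σ_inv x).trans hx
  mul_mem' := fun {x y} hx hy => by
    rw [Set.mem_ofPred_eq, F.σ_mul, hx, hy, add_zero]

theorem T_index (U : Subgroup G) : F.T.relIndex U ≤ 2 :=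
  (relIndex_le_of_map F.σ Finset.univ (fun _ _ => Finset.mem_univ _) fun g _ k _ e => by
    show F.σ _ = 0
    rw [F.σ_mul, F.σ_inv, e, CharTwo.add_self_eq_zero]).trans (by simp)

include F in
theorem C_normal : (centralizer (W : Set G)).Normal := by
  have := F.normal; infer_instance

variable {F}
variable (hG : IsPGroup 2 G) (hΩ : ∀ x ∈ centralizer (W : Set G), x ^ 4 = 1 → x ∈ W)

include hΩ in
theorem mem_V_of {x : G} (hx : x ∈ centralizer (W : Set G)) (h : x * x = 1) : x ∈ F.V :=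
  ⟨hΩ x hx (by rw [show 4 = 2 * 2 from rfl, pow_mul, sq x, h, one_pow]), h⟩

include hG hΩ in
theorem Co.L1 {t : G} {p q r s : ZMod 2} (h : F.Co t p q r s 0) (hd : p * s + q * r = 1)
    {y : G} (hy : y ∈ centralizer (W : Set G)) (hc : Commute t y) : y * y = 1 := by
  by_contra hne
  obtain ⟨k, h1, h2⟩ := exists_order_four hG hne
  obtain ⟨i, j, e⟩ := F.surj _ (hΩ _ (pow_mem hy k) h1)
  have h3 := hc.pow_right k
  rw [e] at h2 h3
  rw [F.mul, Ne, F.eq_one_iff] at h2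
  rw [F.commute_iff] at h3
  obtain ⟨rfl, rfl, rfl, rfl, h5⟩ := h
  rw [h5] at h3
  revert hd h2 h3
  generalize F.p t = p, F.q t = q, F.r t = r, F.s t = s
  clear e; revert p q r s i j; decide +kernel

include hG hΩ in
theorem Co.sq_mem_V {t : G} {p q r s : ZMod 2} (h : F.Co t p q r s 0) (hd : p * s + q * r = 1) :
    t * t ∈ F.V :=
  mem_V_of hΩ h.sq_mem (h.L1 hG hΩ hd h.sq_mem ((Commute.refl t).mul_right (Commute.refl t)))

include hG hΩ in
theorem Co.inverts {t : G} {p q r s : ZMod 2} (h : F.Co t p q r s 0) (hd : p * s + q * r = 1)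
    {d : G} (hd' : d ∈ centralizer (W : Set G)) : t * d * t⁻¹ * d ∈ F.V := by
  have h1 := h.sq_mem_V hG hΩ hd
  have h2 := F.V.mul_mem ((h.mul_C hd').sq_mem_V hG hΩ hd) (F.V.inv_mem h1)
  have h3 : d * (t * t)⁻¹ = (t * t)⁻¹ * d := (hd' _ (W.inv_mem h1.1)).symm
  rwa [show t * d * (t * d) * (t * t)⁻¹ = t * d * t * (d * (t * t)⁻¹) by group, h3,
    show t * d * t * ((t * t)⁻¹ * d) = t * d * t⁻¹ * d by group] at h2

theorem Co.exists_invol {t : G} {p q r s : ZMod 2} (h : F.Co t p q r s 0)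
    (hd : (p + 1) * (s + 1) + q * r = 1) (ht : t * t ∈ F.V) :
    ∃ t', F.Co t' p q r s 0 ∧ t' * t' = 1 := by
  obtain ⟨i, j, e⟩ := F.surj _ ht.1
  have h1 := F.mem_V.1 (e ▸ ht)
  have key : ∀ p q r s : ZMod 2, ∀ i j : ZMod 4, (p + 1) * (s + 1) + q * r = 1 →
      i + i = 0 ∧ j + j = 0 → ∃ u v : ZMod 4,
      (1 + dbl p) * u + (lft 0 + dbl r) * v + i + u = 0 ∧
      dbl q * u + (1 + dbl s) * v + j + v = 0 := by decide +kernel
  obtain ⟨u, v, e1, e2⟩ := key p q r s i j hd h1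
  refine ⟨_, h.mul_C (F.W_le (F.mem u v)), ?_⟩
  obtain ⟨rfl, rfl, rfl, rfl, h5⟩ := h
  rw [show t * F.ι u v * (t * F.ι u v) = t * F.ι u v * t⁻¹ * (t * t) * F.ι u v by group, F.act, e,
    F.mul, F.mul, h5, e1, e2, F.zero]

include hG hΩ in
theorem Co.L4 {t : G} {p q r s : ZMod 2} (h : F.Co t p q r s 0)
    (hd : (p + 1) * (s + 1) + q * r = 1) {d : G} (hd' : d ∈ centralizer (W : Set G))
    (hi : t * d * t⁻¹ = d⁻¹) : d ∈ F.V := by
  refine mem_V_of hΩ hd' ?_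
  by_contra hne
  obtain ⟨k, h1, h2⟩ := exists_order_four hG hne
  obtain ⟨i, j, e⟩ := F.surj _ (hΩ _ (pow_mem hd' k) h1)
  have h3 : t * d ^ k * t⁻¹ = (d ^ k)⁻¹ := by rw [← conj_pow, hi, inv_pow]
  rw [e] at h2 h3
  rw [F.mul, Ne, F.eq_one_iff] at h2
  rw [F.act, F.inv] at h3
  have h4 := F.inj h3
  obtain ⟨rfl, rfl, rfl, rfl, h5⟩ := h
  rw [h5] at h4
  clear h3
  revert hd h2 h4
  generalize F.p t = p, F.q t = q, F.r t = r, F.s t = s
  clear e; revert p q r s i j; decide +kernel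

variable (hno : ∀ A : Subgroup G, A.Normal → (∀ a ∈ A, a * a = 1) → Nat.card A ≤ 4)

include hG hΩ hno in
theorem Co.L2 {t : G} {p q r s : ZMod 2} (h : F.Co t p q r s 0)
    (hd : (p + 1) * (s + 1) + q * r = 1) (ht : t * t ∈ F.V) (h0 : ¬ (p = 0 ∧ q = 0 ∧ r = 0 ∧ s = 0))
    (hinv : ∀ g, F.σ g * q = 0 ∧ F.σ g * (p + s + q) = 0) : False := by
  obtain ⟨t, h, ht⟩ := h.exists_invol hd ht
  have htV : t ∉ F.V := fun e => h0 (by
    obtain ⟨e1, e2, e3, e4, -⟩ := F.mem_C.1 (F.V_le e)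
    obtain ⟨rfl, rfl, rfl, rfl, -⟩ := h
    exact ⟨e1, e2, e3, e4⟩)
  have h1 : ∀ g, t⁻¹ * (g * t * g⁻¹) ∈ F.V := fun g => by
    have h2 := h.conj (g := g)
    rw [(hinv g).1, (hinv g).2, add_zero, add_zero, add_zero] at h2
    refine h.L4 hG hΩ hd (h.inv_mul_mem h2) ?_
    rw [mul_inv_rev, mul_inv_cancel_left, inv_inv, inv_eq_of_mul_eq_one_right ht,
      inv_eq_of_mul_eq_one_right (conj_mul_self ht g)]
  have hm : ∀ {x}, x ∈ zpowers t ⊔ F.V → x ∈ F.V ∨ t⁻¹ * x ∈ F.V := fun hx =>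
    mem_zpowers_sup_two (le_normalizer_of_normal (mem_top t)) (ht ▸ one_mem _) hx
  have m1 : t ∈ zpowers t ⊔ F.V := mem_sup_left (mem_zpowers t)
  have h3 := hno (zpowers t ⊔ F.V) ⟨fun x hx g => ?_⟩ fun x hx => ?_
  · have h4 := two_mul_card_le_of_lt (le_sup_right : F.V ≤ zpowers t ⊔ F.V) fun e => htV (e m1)
    have := F.card_V
    omega
  · rcases hm hx with e | e
    · exact mem_sup_right (Normal.conj_mem inferInstance x e g)
    · have := mul_mem (mul_mem m1 (mem_sup_right (h1 g)))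
        (mem_sup_right (Normal.conj_mem inferInstance _ e g))
      simpa [mul_assoc] using this
  · rcases hm hx with e | e
    · exact e.2
    · rw [← mul_inv_cancel_left t x, ← sq, (F.V_cent h.2.2.2.2 e).mul_pow, sq, sq, ht, e.2, one_mul]

section Main
variable {t s : G} (ht : F.Co t 1 0 0 1 0) (hs : F.Co s 0 0 1 0 0)

include hG hΩ hno in
theorem m1 {s : G} (hs : F.Co s 0 0 1 0 0) : s * s ∉ F.V := fun h =>
  hs.L2 hG hΩ hno (by decide) h (by decide) fun g => by simp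

include hG hΩ hno hs in
theorem m2 {u : G} {p q r s' : ZMod 2} (hu : F.Co u p q r s' 0) (hq : q = 1) : p + s' = 0 := by
  by_contra hp
  wlog hr : r = 1 generalizing u r
  · refine this (r := r + 1) (u := u * s) (by simpa using hu.mul hs) ?_
    revert hr; generalize r = r; revert r; decide
  subst hq hr
  have e : p * s' + 1 * 1 = 1 ∧ (p + 1) * (s' + 1) + 1 * 1 = 1 := by
    revert hp; generalize p = p, s' = s'; revert p s'; decide
  obtain ⟨u, hu, hu2⟩ := hu.exists_invol e.2 (hu.sq_mem_V hG hΩ e.1)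
  have h1 := hs.conj (g := u)
  simp only [hu.2.2.2.2, zero_mul, add_zero] at h1
  have h2 := hu.L4 hG hΩ e.2 (hs.inv_mul_mem h1) (by
    rw [← conj_mul, show u * (u * s * u⁻¹) * u⁻¹ = (u * u) * s * (u * u)⁻¹ by group, hu2]; group)
  refine m1 hG hΩ hno hs (mem_V_of hΩ hs.sq_mem (hu.L1 hG hΩ e.1 hs.sq_mem ?_))
  rw [Commute, SemiconjBy, ← mul_inv_eq_iff_eq_mul, ← conj_mul,
    ← mul_inv_cancel_left s (u * s * u⁻¹), ← sq, (F.V_cent hs.2.2.2.2 h2).mul_pow, sq, sq, h2.2,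
    mul_one]

theorem hodd {s x : G} (hs : F.Co s 0 0 1 0 0) (hc : Commute s x) {i j : ZMod 4}
    (e : (x : G ⧸ F.V) = F.ι i j) : j + j = 0 := by
  have h1 := hc.mul_right (F.V_cent hs.2.2.2.2 (QuotientGroup.eq.1 e))
  rw [mul_inv_cancel_left, F.commute_iff] at h1
  obtain ⟨e1, e2, e3, e4, e5⟩ := hs
  rw [e1, e3, e5] at h1
  have := h1.1
  revert this; generalize i = i, j = j; revert i j; decide

include hG hΩ in
theorem Co.inverts' {t : G} {p q r s : ZMod 2} (h : F.Co t p q r s 0) (hd : p * s + q * r = 1)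
    {d : G} (hd' : d ∈ centralizer (W : Set G)) :
    (t : G ⧸ F.V) * d * (t : G ⧸ F.V)⁻¹ = (d : G ⧸ F.V)⁻¹ :=
  eq_inv_of_mul_eq_one_left ((QuotientGroup.eq_one_iff _).2 (h.inverts hG hΩ hd hd'))

include hG hΩ ht in
theorem m3a {d e : G} (hd : d ∈ centralizer (W : Set G)) (he : e ∈ centralizer (W : Set G)) :
    Commute (d : G ⧸ F.V) e := by
  have h1 := ht.inverts' hG hΩ (by decide) (mul_mem hd he)
  rw [QuotientGroup.mk_mul, ← conj_mul, ht.inverts' hG hΩ (by decide) hd,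
    ht.inverts' hG hΩ (by decide) he, ← mul_inv_rev] at h1
  exact (inv_injective h1).symm

include hG hΩ ht in
theorem m3b {s d : G} (hs : F.Co s 0 0 1 0 0) (hd : d ∈ centralizer (W : Set G)) :
    Commute (s : G ⧸ F.V) d := by
  have h1 := (ht.mul hs).inverts' hG hΩ (by decide) hd
  rw [← ht.inverts' hG hΩ (by decide) hd, QuotientGroup.mk_mul, mul_inv_rev, ← mul_assoc,
    mul_left_inj, mul_assoc, mul_assoc, mul_right_inj, ← mul_assoc, mul_inv_eq_iff_eq_mul] at h1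
  exact h1

include hG hΩ hno in
theorem z_mem {s : G} (hs : F.Co s 0 0 1 0 0) : F.ι 2 0 ∈ zpowers s := by
  obtain ⟨k, h1, h2⟩ := exists_order_four hG fun e => m1 hG hΩ hno hs (mem_V_of hΩ hs.sq_mem e)
  obtain ⟨i, j, e⟩ := F.surj _ (hΩ _ (pow_mem hs.sq_mem k) h1)
  have h3 := hodd hs (((Commute.refl s).mul_right (Commute.refl s)).pow_right k) (congrArg _ e)
  have h4 : (s * s) ^ k ∈ zpowers s := pow_mem (mul_mem (mem_zpowers s) (mem_zpowers s)) k
  have h5 := mul_mem h4 h4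
  rw [e, F.mul] at h2 h5
  rw [Ne, F.eq_one_iff] at h2
  have : ∀ i : ZMod 4, i + i ≠ 0 → i + i = 2 := by decide
  rwa [h3, this i fun e => h2 ⟨e, h3⟩] at h5

include hG hΩ hno ht in
theorem m4 (hC : SR 4 (centralizer (W : Set G))) {s : G} (hs : F.Co s 0 0 1 0 0) :
    centralizer (W : Set G) ≤ zpowers (F.ι 0 1) ⊔ zpowers s := by
  set C := centralizer (W : Set G)
  have hc : ∀ {d e : G}, d ∈ C → e ∈ C → Commute (d : G ⧸ F.V) e := m3a hG hΩ ht
  let Φ : Subgroup G :=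
    { carrier := {x | x ∈ C ∧ ∃ d ∈ C, (x : G ⧸ F.V) = d * d}
      one_mem' := ⟨C.one_mem, 1, C.one_mem, by simp⟩
      inv_mem' := by
        rintro x ⟨hx, d, hd, e⟩
        exact ⟨C.inv_mem hx, d⁻¹, C.inv_mem hd, by simp [e]⟩
      mul_mem' := by
        rintro x y ⟨hx, d, hd, e⟩ ⟨hy, d', hd', e'⟩
        refine ⟨C.mul_mem hx hy, d * d', C.mul_mem hd hd', ?_⟩
        rw [QuotientGroup.mk_mul, QuotientGroup.mk_mul, e, e', (hc hd hd').mul_mul_mul_comm] }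
  have hΦ : Φ ≤ C := fun x hx => hx.1
  have hsec : Sec Φ C := ⟨fun x hx => ⟨C.mul_mem hx hx, x, hx, rfl⟩, fun x hx y hy =>
    ⟨C.mul_mem (C.mul_mem (C.mul_mem hx hy) (C.inv_mem hx)) (C.inv_mem hy), 1, C.one_mem, by
      simpa [commutatorElement_def, mul_inv_eq_one, mul_inv_eq_iff_eq_mul] using (hc hx hy).eq⟩⟩
  have hb : F.ι 0 1 ∈ C := F.W_le (F.mem 0 1)
  have hy := hs.sq_mem
  have hsq : ∀ d ∈ C, ((s * d * (s * d) : G) : G ⧸ F.V) = (s * s : G) * ((d : G ⧸ F.V) * d) :=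
    fun d hd => by
      simp only [QuotientGroup.mk_mul]
      rw [(m3b hG hΩ ht hs hd).symm.mul_mul_mul_comm]
  have h1 : s * s ∉ Φ := by
    rintro ⟨-, d, hd, e⟩
    refine m1 hG hΩ hno (hs.mul_C (C.inv_mem hd)) ((QuotientGroup.eq_one_iff _).1 ?_)
    rw [hsq _ (C.inv_mem hd), e]; simp
  have hm1 : ∀ {x}, x ∈ zpowers (s * s) ⊔ Φ → x ∈ Φ ∨ (s * s)⁻¹ * x ∈ Φ := fun hx =>
    mem_zpowers_sup_two (hsec.le_normalizer hΦ hy) (hsec.sq _ hy) hx
  have hA1 : zpowers (s * s) ⊔ Φ ≤ C := sup_le (zpowers_le.2 hy) hΦ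
  have h2 : F.ι 0 1 ∉ zpowers (s * s) ⊔ Φ := fun h => by
    rcases hm1 h with ⟨-, d, hd, e⟩ | ⟨-, d, hd, e⟩
    · refine absurd (hodd hs (x := d * d) ?_ e.symm) (by decide)
      have h3 : d⁻¹ * (s * d * s⁻¹) ∈ F.V := QuotientGroup.eq.1 (by
        simp [(m3b hG hΩ ht hs hd).eq])
      rw [Commute, SemiconjBy, ← mul_inv_eq_iff_eq_mul, ← conj_mul,
        ← mul_inv_cancel_left d (s * d * s⁻¹), ← sq, (show Commute d _ from
          (hd _ h3.1).symm).mul_pow, sq, sq, h3.2, mul_one]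
    · refine absurd (hodd (hs.mul_C hd) ((Commute.refl _).mul_right (Commute.refl _))
        (i := 0) (j := 1) ?_) (by decide)
      rw [hsq d hd, ← e, ← QuotientGroup.mk_mul, mul_inv_cancel_left]
  have hsec1 : Sec (zpowers (s * s) ⊔ Φ) C := hsec.mono le_sup_right le_rfl
  have h3 : C ≤ zpowers (F.ι 0 1) ⊔ (zpowers (s * s) ⊔ Φ) := by
    by_contra h
    have e1 := two_mul_card_le_of_lt (le_sup_right : Φ ≤ zpowers (s * s) ⊔ Φ)
      fun e => h1 (e (mem_sup_left (mem_zpowers _)))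
    have e2 := two_mul_card_le_of_lt
      (le_sup_right : zpowers (s * s) ⊔ Φ ≤ zpowers (F.ι 0 1) ⊔ _)
      fun e => h2 (e (mem_sup_left (mem_zpowers _)))
    have e3 := two_mul_card_le_of_lt (sup_le (zpowers_le.2 hb) hA1) h
    have e4 := Nat.mul_le_mul_left (Nat.card Φ) (hC Φ C le_rfl hsec)
    rw [H2.card_mul_relIndex hΦ] at e4
    have : 0 < Nat.card Φ := Nat.card_pos
    omega
  set H := zpowers (F.ι 0 1) ⊔ zpowers s
  have mb : F.ι 0 1 ∈ H := mem_sup_left (mem_zpowers _)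
  have ms : s * s ∈ H := mem_sup_right (mul_mem (mem_zpowers _) (mem_zpowers _))
  have h4 : ∀ x ∈ C, ∃ h ∈ H ⊓ C, h⁻¹ * x ∈ Φ := fun x hx => by
    rcases mem_zpowers_sup_two (hsec1.le_normalizer hA1 hb) (hsec1.sq _ hb) (h3 hx) with e | e <;>
    rcases hm1 e with e | e
    · exact ⟨1, one_mem _, by simpa using e⟩
    · exact ⟨_, ⟨ms, hy⟩, e⟩
    · exact ⟨_, ⟨mb, hb⟩, e⟩
    · exact ⟨_, mul_mem ⟨mb, hb⟩ ⟨ms, hy⟩, by rwa [mul_inv_rev, mul_assoc]⟩
  have h5 : ∀ n : ℕ, ∀ x ∈ C, ∃ h ∈ H ⊓ C, ∃ d ∈ C, (x : G ⧸ F.V) = h * (d : G ⧸ F.V) ^ 2 ^ n := by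
    intro n
    induction n with
    | zero => exact fun x hx => ⟨1, one_mem _, x, hx, by simp⟩
    | succ n ih =>
      intro x hx
      obtain ⟨h, hh, d, hd, e⟩ := ih x hx
      obtain ⟨h', hh', -, d', hd', e'⟩ := h4 d hd
      refine ⟨h * h' ^ 2 ^ n, mul_mem hh (pow_mem hh' _), d', hd', ?_⟩
      rw [QuotientGroup.mk_mul, QuotientGroup.mk_inv, inv_mul_eq_iff_eq_mul] at e'
      rw [e, e', ((hc hh'.2 hd').mul_right (hc hh'.2 hd')).mul_pow, ← sq, ← pow_mul, pow_succ',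
        QuotientGroup.mk_mul, QuotientGroup.mk_pow, mul_assoc]
  have hV : F.V ≤ H := fun v hv => by
    obtain ⟨i, j, rfl⟩ := F.surj v hv.1
    have mz : F.ι 2 0 ∈ H := mem_sup_right (z_mem hG hΩ hno hs)
    have mb2 := mul_mem mb mb
    have := mul_mem mz mb2
    rw [F.mul] at mb2 this
    rw [F.mul] at this
    have e : ∀ i : ZMod 4, i + i = 0 → i = 0 ∨ i = 2 := by decide
    obtain ⟨e1, e2⟩ := F.mem_V.1 hv
    rcases e i e1 with rfl | rfl <;> rcases e j e2 with rfl | rfl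
    exacts [F.zero ▸ one_mem _, mb2, mz, this]
  intro x hx
  obtain ⟨n, hn⟩ := IsPGroup.iff_card.1 hG
  obtain ⟨h, hh, d, -, e⟩ := h5 n x hx
  rw [← QuotientGroup.mk_pow, ← hn, pow_card_eq_one', QuotientGroup.mk_one, mul_one] at e
  exact (H.mul_mem_cancel_left (H.inv_mem hh.1)).1 (hV (QuotientGroup.eq.1 e.symm))

theorem Co.diff {g k : G} (hg : g ∈ F.T) (hk : k ∈ F.T) :
    F.Co (g⁻¹ * k) (F.p g + F.p k) (F.q g + F.q k) (F.r g + F.r k) (F.s g + F.s k) 0 :=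
  (co_self hg).inv.mul (co_self hk)

variable (F) in
/-- the preimage of the nilpotent element -/
def M : Subgroup G where
  carrier := {g | ∃ r, F.Co g 0 0 r 0 0}
  one_mem' := ⟨0, F.mem_C.1 (one_mem _)⟩
  inv_mem' := fun ⟨r, h⟩ => ⟨r, h.inv⟩
  mul_mem' := fun ⟨r, h⟩ ⟨r', h'⟩ => ⟨r + r', by simpa using h.mul h'⟩

include hG hΩ hno ht in
theorem m5 (hC : SR 4 (centralizer (W : Set G))) {s : G} (hs : F.Co s 0 0 1 0 0) :
    F.M ≤ zpowers (F.ι 0 1) ⊔ zpowers s ∧ F.ι 0 1 ∈ normalizer (zpowers s : Set G) := by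
  constructor
  · rintro g ⟨r, h⟩
    have two : ∀ a : ZMod 2, a = 0 ∨ a = 1 := by decide
    rcases two r with rfl | rfl
    · exact m4 hG hΩ hno ht hC hs (F.mem_C.2 h)
    · simpa using mul_mem (mem_sup_right (mem_zpowers s))
        (m4 hG hΩ hno ht hC hs (hs.inv_mul_mem h))
  · refine mem_normalizer_of_conj_mem ?_
    rintro _ ⟨k, rfl⟩
    rw [← conj_zpow]
    refine zpow_mem ?_ k
    obtain ⟨e1, e2, e3, e4, e5⟩ := id hs
    rw [show F.ι 0 1 * s * (F.ι 0 1)⁻¹ = F.ι 0 1 * (s * (F.ι 0 1)⁻¹ * s⁻¹) * s by group, F.inv,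
      F.act, F.mul, e1, e2, e3, e4, e5]
    exact mul_mem (z_mem hG hΩ hno hs) (mem_zpowers s)

include hG hΩ hno ht hs in
theorem main (hC : SR 4 (centralizer (W : Set G))) : SR 16 (⊤ : Subgroup G) := by
  have two : ∀ a : ZMod 2, a = 0 ∨ a = 1 := by decide
  have hM : SR 4 F.M := SR.of_le (S := zpowers (F.ι 0 1) ⊔ zpowers s)
    ((sr_two_of_isCyclic (S := zpowers s) inferInstance).ext fun M U hU h hk =>
      h.le_two_of_zpowers' (m5 hG hΩ hno ht hC hs).2 hU hk) (m5 hG hΩ hno ht hC hs).1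
  refine sr_of_le fun N U _ hN h => ?_
  rw [h.filter hN (inf_le_left : U ⊓ F.M ≤ U)]
  have h1 := hM N _ (inf_le_right : U ⊓ F.M ≤ _) (h.mono le_rfl inf_le_left)
  set M' := U ⊓ F.M ⊔ N
  have key : ∀ g ∈ U ⊓ F.T, ∀ k ∈ U ⊓ F.T, F.p g = F.p k → F.q g = F.q k → F.s g = F.s k →
      g⁻¹ * k ∈ M' := fun g hg k hk e1 e2 e3 =>
    mem_sup_left ⟨U.mul_mem (U.inv_mem hg.1) hk.1, F.r g + F.r k, by
      simpa only [e1, e2, e3, CharTwo.add_self_eq_zero] using Co.diff hg.2 hk.2⟩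
  have hsl : (∃ k ∈ U ⊓ F.T, F.q k = 1) → ∀ g ∈ F.T, F.s g = F.p g := by
    rintro ⟨k, hk, hq⟩ g hg
    have e1 := m2 hG hΩ hno hs (co_self hk.2) hq
    have e2 := m2 hG hΩ hno hs (co_self hg)
    have e3 := m2 hG hΩ hno hs ((co_self hg).mul (co_self hk.2))
    revert hq e1 e2 e3
    generalize F.p g = p, F.q g = q, F.s g = s, F.p k = p', F.q k = q', F.s k = s'
    revert p q s p' q' s'; decide
  have hq0 : (¬ ∃ k ∈ U ⊓ F.T, F.q k = 1) → ∀ g ∈ U ⊓ F.T, F.q g = 0 := fun hq g hg =>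
    (two _).resolve_right fun e => hq ⟨g, hg, e⟩
  have h4 : M'.relIndex (U ⊓ F.T) ≤ 4 := by
    by_cases hq : ∃ k ∈ U ⊓ F.T, F.q k = 1
    · exact (relIndex_le_of_map (fun g => (F.p g, F.q g)) Finset.univ (fun _ _ => Finset.mem_univ _)
        fun g hg k hk e => key g hg k hk (congrArg Prod.fst e) (congrArg Prod.snd e) (by
          rw [hsl hq g hg.2, hsl hq k hk.2]; exact congrArg Prod.fst e)).trans (by simp)
    · exact (relIndex_le_of_map (fun g => (F.p g, F.s g)) Finset.univ (fun _ _ => Finset.mem_univ _)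
        fun g hg k hk e => key g hg k hk (congrArg Prod.fst e)
          ((hq0 hq g hg).trans (hq0 hq k hk).symm) (congrArg Prod.snd e)).trans (by simp)
  by_cases hU : U ≤ F.T
  · rw [inf_of_le_left hU] at h4
    exact Nat.mul_le_mul h1 h4
  obtain ⟨g, hg, hgT⟩ := SetLike.not_le_iff_exists.1 hU
  have hσ : F.σ g = 1 := (two _).resolve_left hgT
  have h5 := relIndex_le_mul M' F.T U
  have h6 := F.T_index U
  suffices h7 : N.relIndex (U ⊓ F.M) ≤ 2 ∨ M'.relIndex (U ⊓ F.T) ≤ 2 by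
    rcases h7 with h7 | h7
    · exact Nat.mul_le_mul h7 (h5.trans (Nat.mul_le_mul h4 h6))
    · exact Nat.mul_le_mul h1 (h5.trans (Nat.mul_le_mul h7 h6))
  by_cases hq : ∃ k ∈ U ⊓ F.T, F.q k = 1
  · right
    obtain ⟨k, hk, hqk⟩ := id hq
    have hc := (co_self hk.2).comm hσ
    rw [hqk] at hc
    have hc' := h.inf.comm g hg k hk.1
    refine (relIndex_le_of_map F.q Finset.univ (fun _ _ => Finset.mem_univ _)
      fun x hx y hy e => ?_).trans (by simp)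
    by_cases hp : F.p x = F.p y
    · exact key x hx y hy hp e (by rw [hsl hq x hx.2, hsl hq y hy.2, hp])
    have hy' := (co_self hy.2).mul hc
    have hp' : F.p x = F.p y + 1 := by revert hp; generalize F.p x = a, F.p y = b; revert a b; decide
    have := key x hx _ ⟨U.mul_mem hy.1 hc'.2, hy'.2.2.2.2⟩ (hp'.trans hy'.1.symm)
      (by rw [hy'.2.1, e, add_zero]) (by rw [hy'.2.2.2.1, hsl hq x hx.2, hsl hq y hy.2, hp'])
    rwa [← mul_assoc, M'.mul_mem_cancel_right (mem_sup_right hc'.1)] at this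
  by_cases hp : ∃ k ∈ U ⊓ F.T, F.p k + F.s k = 1
  · left
    obtain ⟨k, hk, hpk⟩ := hp
    have hc := (co_self hk.2).comm hσ
    rw [hpk, hq0 hq k hk, add_zero] at hc
    exact (h.mono le_rfl inf_le_left).le_two_of_zpowers' (m5 hG hΩ hno ht hC hc).2
      (inf_le_right.trans (m5 hG hΩ hno ht hC hc).1)
      (inf_le_right.trans (zpowers_le.2 (h.comm g hg k hk.1)))
  · right
    have hp' : ∀ x ∈ U ⊓ F.T, F.s x = F.p x := fun x hx => by
      have : ¬ F.p x + F.s x = 1 := fun e => hp ⟨x, hx, e⟩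
      revert this; generalize F.p x = a, F.s x = b; revert a b; decide
    exact (relIndex_le_of_map F.p Finset.univ (fun _ _ => Finset.mem_univ _)
      fun x hx y hy e => key x hx y hy e ((hq0 hq x hx).trans (hq0 hq y hy).symm)
        (by rw [hp' x hx, hp' y hy, e])).trans (by simp)

end Main

theorem top_A {g₀ : G} (h₀ : F.σ g₀ = 1)
    (hn : ¬ ((∃ t, F.Co t 1 0 0 1 0) ∧ ∃ s, F.Co s 0 0 1 0 0)) {M U : Subgroup G} (h : Sec M U)
    (hM : U ⊓ centralizer (W : Set G) ≤ M) : M.relIndex U ≤ 4 := by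
  have two : ∀ a : ZMod 2, a = 0 ∨ a = 1 := by decide
  have add : ∀ {a b : ZMod 2}, a = b → a + b = 0 := by decide
  have add' : ∀ {a b : ZMod 2}, a ≠ b → a = b + 1 := by decide
  have mU : ∀ {x y}, x ∈ U ⊓ F.T → y ∈ U ⊓ F.T → x⁻¹ * y ∈ U := fun hx hy =>
    U.mul_mem (U.inv_mem hx.1) hy.1
  suffices H : M.relIndex (U ⊓ F.T) ≤ 4 ∧ ∀ g ∈ U, F.σ g = 1 → M.relIndex (U ⊓ F.T) ≤ 2 by
    by_cases hU : U ≤ F.T
    · simpa only [inf_of_le_left hU] using H.1
    obtain ⟨g, hg, hgT⟩ := SetLike.not_le_iff_exists.1 hU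
    exact (relIndex_le_mul M F.T U).trans
      (Nat.mul_le_mul (H.2 g hg ((two _).resolve_left hgT)) (F.T_index U))
  by_cases hN : ∃ s, F.Co s 0 0 1 0 0
  · obtain ⟨s, hs⟩ := id hN
    have hτ : ∀ x r, ¬ F.Co x 1 0 r 1 0 := fun x r hx => by
      rcases two r with rfl | rfl
      · exact hn ⟨⟨x, hx⟩, hN⟩
      · exact hn ⟨⟨_, hx.mul hs⟩, hN⟩
    have hq : ∀ x ∈ F.T, F.q x = 0 := fun x hx => (two _).resolve_right fun e =>
      hτ _ _ (by simpa only [e] using (co_self hx).comm h₀)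
    have key : ∀ x ∈ U ⊓ F.T, ∀ y ∈ U ⊓ F.T, F.p x + F.s x = F.p y + F.s y → F.r x = F.r y →
        x⁻¹ * y ∈ M := fun x hx y hy e1 e2 => by
      have h1 := Co.diff hx.2 hy.2
      have e3 : F.s x + F.s y = F.p x + F.p y := by
        revert e1; generalize F.p x = a, F.p y = b, F.s x = c, F.s y = d; revert a b c d; decide
      rw [hq x hx.2, hq y hy.2, add_zero, add e2, e3] at h1
      rcases two (F.p x + F.p y) with e | e <;> rw [e] at h1
      · exact hM ⟨mU hx hy, F.mem_C.2 h1⟩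
      · exact absurd h1 (hτ _ _)
    refine ⟨relIndex_le_four_of_map _ _ key, fun g hg hσ => ?_⟩
    by_cases hp : ∃ k ∈ U ⊓ F.T, F.p k + F.s k = 1
    · obtain ⟨k, hk, hpk⟩ := hp
      have hc := (co_self hk.2).comm hσ
      rw [hpk, hq k hk.2, add_zero] at hc
      have hc' := h.inf.comm g hg k hk.1
      refine relIndex_le_two_of_map (fun x => F.p x + F.s x) fun x hx y hy e => ?_
      by_cases hr : F.r x = F.r y
      · exact key x hx y hy e hr
      have hy' := (co_self hy.2).mul hc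
      have := key x hx _ ⟨U.mul_mem hy.1 hc'.2, hy'.2.2.2.2⟩
        (by rw [hy'.1, hy'.2.2.2.1, add_zero, add_zero, e]) (by rw [hy'.2.2.1, add' hr])
      rwa [← mul_assoc, M.mul_mem_cancel_right hc'.1] at this
    · exact relIndex_le_two_of_map F.r fun x hx y hy e => key x hx y hy
        (((two _).resolve_right fun e => hp ⟨x, hx, e⟩).trans
          ((two _).resolve_right fun e => hp ⟨y, hy, e⟩).symm) e
  have key : ∀ x ∈ U ⊓ F.T, ∀ y ∈ U ⊓ F.T, F.p x = F.p y → F.q x = F.q y →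
      x⁻¹ * y ∈ M := fun x hx y hy e1 e2 => by
    have h1 := Co.diff hx.2 hy.2
    rw [add e1, add e2] at h1
    have h2 := h1.comm h₀
    rcases two (F.s x + F.s y) with e | e <;> rw [e] at h1 h2
    · rcases two (F.r x + F.r y) with e | e <;> rw [e] at h1
      · exact hM ⟨mU hx hy, F.mem_C.2 h1⟩
      · exact absurd ⟨_, h1⟩ hN
    · exact absurd ⟨_, h2⟩ hN
  refine ⟨relIndex_le_four_of_map _ _ key, fun g hg hσ => ?_⟩
  by_cases hp : ∃ k ∈ U ⊓ F.T, F.q k = 1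
  · obtain ⟨k, hk, hqk⟩ := hp
    have hc := (co_self hk.2).comm hσ
    rw [hqk] at hc
    have hc' := h.inf.comm g hg k hk.1
    refine relIndex_le_two_of_map F.q fun x hx y hy e => ?_
    by_cases hr : F.p x = F.p y
    · exact key x hx y hy hr e
    have hy' := (co_self hy.2).mul hc
    have := key x hx _ ⟨U.mul_mem hy.1 hc'.2, hy'.2.2.2.2⟩
      (by rw [hy'.1, add' hr]) (by rw [hy'.2.1, add_zero, e])
    rwa [← mul_assoc, M.mul_mem_cancel_right hc'.1] at this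
  · exact relIndex_le_two_of_map F.p fun x hx y hy e => key x hx y hy e
      (((two _).resolve_right fun e => hp ⟨x, hx, e⟩).trans
        ((two _).resolve_right fun e => hp ⟨y, hy, e⟩).symm)

theorem co_of {g : G} {p q r s σ : ZMod 2} (h1 : g * F.ι 1 0 * g⁻¹ = F.ι (1 + dbl p) (dbl q))
    (h2 : g * F.ι 0 1 * g⁻¹ = F.ι (lft σ + dbl r) (1 + dbl s)) : F.Co g p q r s σ := by
  rw [F.act] at h1 h2
  obtain ⟨e1, e2⟩ := F.inj h1
  obtain ⟨e3, e4⟩ := F.inj h2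
  simp only [mul_one, mul_zero, add_zero, zero_add] at e1 e2 e3 e4
  have a1 : ∀ a b : ZMod 2, dbl a = dbl b → a = b := by decide
  have a2 : ∀ a b c d : ZMod 2, lft a + dbl b = lft c + dbl d → a = c ∧ b = d := by decide
  exact ⟨a1 _ _ (add_left_cancel e1), a1 _ _ e2, (a2 _ _ _ _ e3).2, a1 _ _ (add_left_cancel e4),
    (a2 _ _ _ _ e3).1⟩

include hG hΩ hno in
theorem main' (hW : Nat.card W ≤ 16) (hC : SR 4 (centralizer (W : Set G))) (hσ : ∀ g, F.σ g = 0)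
    {t s : G} (ht : F.Co t 1 0 0 1 0) {i j i' j' : ZMod 4}
    (h1 : ¬ (i + i = 0 ∧ j + j = 0)) (h2 : ¬ (i' + i' = 0 ∧ j' + j' = 0))
    (h3 : ¬ (i + i = i' + i' ∧ j + j = j' + j')) (hs1 : s * F.ι i j * s⁻¹ = F.ι i j)
    (hs2 : s * F.ι i' j' * s⁻¹ = F.ι (i + i + i') (j + j + j')) : SR 16 (⊤ : Subgroup G) := by
  have := F.normal
  have four : ∀ i j, F.ι i j ^ 4 = 1 := fun i j => by
    have e : ∀ i : ZMod 4, i + i + (i + i) = 0 := by decide
    rw [show 4 = 2 * 2 from rfl, pow_mul, sq, sq, F.mul, F.mul, e, e, F.zero]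
  obtain ⟨F', ea, eb⟩ := nonempty_H4 hW (F.mem i j) (F.mem i' j') (F.W_comm (F.mem _ _) (F.mem _ _))
    (four _ _) (four _ _) (by rwa [sq, F.mul, Ne, F.eq_one_iff])
    (by rwa [sq, F.mul, Ne, F.eq_one_iff]) (by rw [sq, sq, F.mul, F.mul]; exact fun e => h3 (F.inj e))
    fun g => F.V_cent (hσ g) (by
      rw [sq, F.mul, F.mem_V]; generalize i = i, j = j; revert i j; decide)
  have hinv : ∀ w ∈ W, t * w * t⁻¹ = w⁻¹ := fun w hw => by
    obtain ⟨i, j, rfl⟩ := F.surj w hw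
    obtain ⟨e1, e2, e3, e4, e5⟩ := ht
    rw [F.act, F.inv, e1, e2, e3, e4, e5]
    congr 1 <;> generalize i = i, j = j <;> revert i j <;> decide
  refine main (F := F') hG hΩ hno (t := t) (s := s) (co_of ?_ ?_) (co_of ?_ ?_) hC
  · rw [hinv _ (F'.mem _ _), F'.inv]; rfl
  · rw [hinv _ (F'.mem _ _), F'.inv]; rfl
  · rw [ea, hs1, ← ea]; rfl
  · rw [eb, hs2, ← F.mul, ← F.mul, ← ea, ← eb, F'.mul, F'.mul]; rfl

include F hG hΩ hno in
theorem sr_sixteen (hW : Nat.card W ≤ 16) (hC : SR 4 (centralizer (W : Set G))) :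
    SR 16 (⊤ : Subgroup G) := by
  by_cases hn : (∃ t, F.Co t 1 0 0 1 0) ∧ ∃ s, F.Co s 0 0 1 0 0
  · obtain ⟨⟨t, ht⟩, s, hs⟩ := hn
    exact main hG hΩ hno ht hs hC
  by_cases hσ : ∃ g, F.σ g = 1
  · obtain ⟨g, hg⟩ := hσ
    exact hC.ext (b := 4) fun M U _ h hM => top_A hg hn h hM
  have two : ∀ a : ZMod 2, a = 0 ∨ a = 1 := by decide
  have hσ' : ∀ g, F.σ g = 0 := fun g => (two _).resolve_right fun e => hσ ⟨g, e⟩
  by_cases hτ : ∃ t, F.Co t 1 0 0 1 0
  · obtain ⟨t, ht⟩ := id hτ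
    by_cases h2 : ∃ s, F.Co s 0 1 0 0 0
    · obtain ⟨s, e1, e2, e3, e4, e5⟩ := h2
      refine main' hG hΩ hno hW hC hσ' ht (s := s) (i := 0) (j := 1) (i' := 1) (j' := 0)
        (by decide) (by decide) (by decide) ?_ ?_ <;> rw [F.act, e1, e2, e3, e4, e5] <;> rfl
    by_cases h3 : ∃ s, F.Co s 1 1 1 1 0
    · obtain ⟨s, e1, e2, e3, e4, e5⟩ := h3
      refine main' hG hΩ hno hW hC hσ' ht (s := s) (i := 1) (j := 1) (i' := 0) (j' := 1)
        (by decide) (by decide) (by decide) ?_ ?_ <;> rw [F.act, e1, e2, e3, e4, e5] <;> rfl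
    refine hC.ext (b := 4) fun M U _ h hM => relIndex_le_four_of_map F.p F.s fun x hx y hy e1 e2 =>
      hM ⟨U.mul_mem (U.inv_mem hx) hy, ?_⟩
    have h1 := Co.diff (F := F) (hσ' x) (hσ' y)
    rw [e1, e2, CharTwo.add_self_eq_zero, CharTwo.add_self_eq_zero] at h1
    rcases two (F.q x + F.q y) with e | e <;> rcases two (F.r x + F.r y) with e' | e' <;>
      rw [e, e'] at h1
    · exact F.mem_C.2 h1
    · exact absurd ⟨hτ, _, h1⟩ hn
    · exact absurd ⟨_, h1⟩ h2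
    · exact absurd ⟨_, h1.mul ht⟩ h3
  refine hC.ext (b := 4) fun M U _ h hM => relIndex_le_four_of_map (fun x => F.q x + F.r x)
    (fun x => F.p x + F.s x + F.q x) fun x hx y hy e1 e2 => hM ⟨U.mul_mem (U.inv_mem hx) hy, ?_⟩
  have h1 := Co.diff (F := F) (hσ' x) (hσ' y)
  have key : ∀ p q r s p' q' r' s' : ZMod 2, q + r = q' + r' → p + s + q = p' + s' + q' →
      (p + p' = 0 ∧ q + q' = 0 ∧ r + r' = 0 ∧ s + s' = 0) ∨
      (p + p' = 1 ∧ q + q' = 0 ∧ r + r' = 0 ∧ s + s' = 1) ∨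
      ((p + p') * (s + s') + (q + q') * (r + r') = 1 ∧
        (p + p' + 1) * (s + s' + 1) + (q + q') * (r + r') = 1) := by decide +kernel
  rcases key _ _ _ _ _ _ _ _ e1 e2 with ⟨a, b, c, d⟩ | ⟨a, b, c, d⟩ | ⟨a, b⟩
  · rw [a, b, c, d] at h1; exact F.mem_C.2 h1
  · rw [a, b, c, d] at h1; exact absurd ⟨_, h1⟩ hτ
  · exact (h1.L2 hG hΩ hno b (h1.sq_mem_V hG hΩ a) (fun e => by
      rw [e.1, e.2.1] at a; simp at a) fun g => by simp [hσ' g]).elim

end H4

end H22
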