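import Mathlib
import Cfsg.Agent.H22.MacW3

/-!
# MacWilliams' theorem and Harada's theorem on sectional 2-rank at most four
-/

set_option autoImplicit false
set_option linter.unusedSectionVars false

namespace H22

open Subgroup
open scoped commutatorElement

variable {G : Type*} [Group G] [Finite G]

theorem nonempty_UT {W : Subgroup G} {z h e : G} (hz : z * z = 1) (hh : h * h = 1) (hz1 : z ≠ 1)
    (hh1 : h ∉ zpowers z) (hzc : ∀ g, Commute z g) (hhc : ∀ g, ⁅h, g⁆ ∈ zpowers z)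
    (hec : ∀ g, g * e * g⁻¹ * e⁻¹ ∈ zpowers h ⊔ zpowers z) (hhW : h ∈ W) (heW : e ∈ W)
    (hW : ∀ w ∈ W, w ∈ zpowers h ⊔ zpowers z ∨ e⁻¹ * w ∈ zpowers h ⊔ zpowers z) :
    Nonempty (UT (centralizer (W : Set G))) := by
  let ι : ZMod 2 → ZMod 2 → G := fun i j => z ^ i.val * h ^ j.val
  have v1 : (1 : ZMod 2).val = 1 := rfl
  have hmul : ∀ i j i' j', ι i j * ι i' j' = ι (i + i') (j + j') := fun i j i' j' => by
    simp only [ι, pow_val_add hz, pow_val_add hh]
    exact ((hzc _).pow_left _).symm.mul_mul_mul_comm _ _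
  have hzn : (zpowers z).Normal := ⟨fun w hw g => by
    obtain ⟨k, rfl⟩ := hw
    rw [← ((hzc g).zpow_left k).eq, mul_inv_cancel_right]; exact zpow_mem_zpowers z k⟩
  have hsurj : ∀ w ∈ zpowers h ⊔ zpowers z, ∃ i j : ZMod 2, w = ι i j := by
    intro w hw
    rcases mem_zpowers_sup_two (le_normalizer_of_normal (mem_top h))
      (by rw [hh]; exact one_mem _) hw with e | e <;>
    rcases mem_zpowers_two hz e with e | e
    · exact ⟨0, 0, by simpa [ι] using e⟩
    · exact ⟨1, 0, by simp [ι, v1, e]⟩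
    · exact ⟨0, 1, by simp [ι, v1, inv_mul_eq_one.1 e]⟩
    · exact ⟨1, 1, by simp [ι, v1, inv_mul_eq_iff_eq_mul.1 e, (hzc h).eq]⟩
  have hone : ∀ i j, ι i j = 1 → i = 0 ∧ j = 0 := fun i j e => by
    have two : ∀ a : ZMod 2, a = 0 ∨ a = 1 := by decide
    rcases two i with rfl | rfl <;> rcases two j with rfl | rfl
    · exact ⟨rfl, rfl⟩
    · exact absurd (by rw [show h = 1 by simpa [ι, v1] using e]; exact one_mem _) hh1
    · exact absurd (by simpa [ι, v1] using e) hz1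
    · refine absurd ?_ hh1
      rw [eq_inv_of_mul_eq_one_right (show z * h = 1 by simpa [ι, v1] using e)]
      exact inv_mem (mem_zpowers z)
  have e0 : ι 0 0 = 1 := by simp [ι]
  have hinj : ∀ {i j i' j'}, ι i j = ι i' j' → i = i' ∧ j = j' := fun {i j i' j'} e => by
    have := hone (i + i') (j + j') (by
      rw [← hmul, e, hmul, CharTwo.add_self_eq_zero, CharTwo.add_self_eq_zero, e0])
    revert this; generalize i = i, j = j, i' = i', j' = j'; revert i j i' j'; decide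
  have hact1 : ∀ g, ∃ a : ZMod 2, g * h * g⁻¹ = ι a 1 := fun g => by
    have h1 : ⁅g, h⁆ ∈ zpowers z := by
      rw [← commutatorElement_inv]; exact (zpowers z).inv_mem (hhc g)
    rcases mem_zpowers_two hz h1 with e | e
    · exact ⟨0, by simpa [ι, v1, commutatorElement_def, mul_inv_eq_one] using e⟩
    · exact ⟨1, by simpa [ι, v1, commutatorElement_def, mul_inv_eq_iff_eq_mul] using e⟩
  have hact2 : ∀ g, ∃ b c : ZMod 2, g * e * g⁻¹ = ι c b * e := fun g => by
    obtain ⟨i, j, e'⟩ := hsurj _ (hec g)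
    exact ⟨j, i, mul_inv_eq_iff_eq_mul.1 e'⟩
  choose a ha using hact1
  choose b c hbc using hact2
  have hact : ∀ g i j, g * ι i j * g⁻¹ = ι (i + a g * j) j := fun g i j => by
    have h1 : g * z ^ i.val * g⁻¹ = ι i 0 := by
      rw [← ((hzc g).pow_left _).eq]; simp [ι]
    show g * (z ^ i.val * h ^ j.val) * g⁻¹ = _
    rw [← conj_mul, h1, ← conj_pow, ha]
    fin_cases j
    · show _ * _ ^ 0 = ι (i + _ * 0) 0; simp
    · show _ * _ ^ 1 = ι (i + _ * 1) 1; simp [hmul]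
  have eh : h = ι 0 1 := by simp [ι, v1]
  have law : ∀ g g', c (g * g') = c g + c g' + a g * b g' ∧ b (g * g') = b g + b g' :=
    fun g g' => by
      have h1 : g * g' * e * (g * g')⁻¹ = g * (g' * e * g'⁻¹) * g⁻¹ := by group
      rw [hbc, hbc, ← conj_mul, hact, hbc, ← mul_assoc, mul_left_inj, hmul] at h1
      obtain ⟨e1, e2⟩ := hinj h1
      exact ⟨by rw [e1]; ring, by rw [e2]; ring⟩
  refine ⟨⟨a, b, c, fun g g' => ?_, fun g g' => (law g g').2, fun g g' => (law g g').1,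
    fun {g} => ⟨fun hg => ?_, fun ⟨h1, h2, h3⟩ w hw => ?_⟩⟩⟩
  · have h1 : g * g' * h * (g * g')⁻¹ = g * (g' * h * g'⁻¹) * g⁻¹ := by group
    rw [ha, ha, hact] at h1
    rw [(hinj h1).1]; ring
  · have h1 := ha g
    have h2 := hbc g
    rw [← hg h hhW, mul_inv_cancel_right] at h1
    rw [← hg e heW, mul_inv_cancel_right, eq_comm, mul_eq_right] at h2
    exact ⟨(hinj (eh.symm.trans h1)).1.symm, (hone _ _ h2).2, (hone _ _ h2).1⟩
  · have h4 : ∀ w ∈ zpowers h ⊔ zpowers z, Commute w g := fun w hw => by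
      obtain ⟨i, j, rfl⟩ := hsurj w hw
      have := hact g i j
      rw [h1, zero_mul, add_zero, mul_inv_eq_iff_eq_mul] at this
      exact this.symm
    have h5 : Commute e g := by
      have := hbc g
      rw [h2, h3, e0, one_mul, mul_inv_eq_iff_eq_mul] at this
      exact this.symm
    rcases hW w hw with e' | e'
    · exact h4 w e'
    · simpa using (h5.mul_left (h4 _ e')).eq

/-- **MacWilliams' theorem** -/
theorem macwilliams (hG : IsPGroup 2 G)
    (hno : ∀ A : Subgroup G, A.Normal → (∀ a ∈ A, a * a = 1) → Nat.card A ≤ 4) :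
    SR 16 (⊤ : Subgroup G) := by
  classical
  by_cases hn : ∀ A : Subgroup G, A.Normal → IsMulCommutative A → IsCyclic A
  · by_cases hc : IsCyclic G
    · exact (sr_two_of_isCyclic (S := ⊤) inferInstance).mono (by norm_num)
    suffices ∃ r : G, (zpowers r).index = 2 by
      obtain ⟨r, hr⟩ := this
      exact (sr_four_of_index_two hr).mono (by norm_num)
    rcases (H13.cyclic_normal_abelian 2 hG hn hc).2 with ⟨n, ⟨e⟩⟩ | ⟨n, h8, e⟩ | e
    · have : NeZero n := ⟨by
        rintro rfl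
        have := Finite.of_equiv _ (e.trans QuaternionGroup.quaternionGroupZeroEquivDihedralGroupZero).toEquiv
        exact not_finite (DihedralGroup 0)⟩
      have hn0 := NeZero.pos n
      refine ⟨e.symm (QuaternionGroup.a 1), Nat.eq_of_mul_eq_mul_left (show 0 < 2 * n by omega) ?_⟩
      have h1 := (zpowers (e.symm (QuaternionGroup.a 1))).card_mul_index
      rw [Nat.card_zpowers, e.symm.orderOf_eq, QuaternionGroup.orderOf_a_one,
        Nat.card_congr e.toEquiv, Nat.card_eq_fintype_card, QuaternionGroup.card] at h1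
      omega
    · exact exists_zpowers_index_two (Or.inl ⟨n, by omega, e⟩)
    · exact exists_zpowers_index_two (Or.inr e)
  push Not at hn
  obtain ⟨A, hAn, hA, hnc⟩ := hn
  have four : ∀ {x : G}, x * x = 1 → x ^ 4 = 1 := fun {x} e => by
    rw [show 4 = 2 * 2 from rfl, pow_mul, sq x, e, one_pow]
  let Ω : ∀ A : Subgroup G, IsMulCommutative A → Subgroup G := fun A hA =>
    { carrier := {x | x ∈ A ∧ x * x = 1}
      one_mem' := ⟨A.one_mem, mul_one 1⟩
      inv_mem' := fun {x} hx => ⟨A.inv_mem hx.1, by rw [← mul_inv_rev, hx.2, inv_one]⟩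
      mul_mem' := fun {x y} hx hy => ⟨A.mul_mem hx.1 hy.1, by
        rw [mul_assoc, ← mul_assoc y, H13.isMulCommutative_iff_forall_mem.1 hA y hy.1 x hx.1,
          mul_assoc, hy.2, mul_one, hx.2]⟩ }
  have hΩn : ∀ A hA, A.Normal → (Ω A hA).Normal := fun A hA hn =>
    ⟨fun x hx g => ⟨hn.conj_mem x hx.1 g, conj_mul_self hx.2 g⟩⟩
  obtain ⟨x, y, hx1, hx2, hy2, hyx⟩ : ∃ x y : A, x ≠ 1 ∧ x ^ 2 = 1 ∧ y ^ 2 = 1 ∧ y ∉ zpowers x := by
    by_contra hcon
    push Not at hcon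
    exact hnc (H2.UniqueOrderP.isCyclic_of_comm (hG.to_subgroup A) hcon)
  obtain ⟨W, hAW, hmax⟩ := Finite.exists_le_maximal
    (p := fun A : Subgroup G => A.Normal ∧ IsMulCommutative A ∧ ∀ a ∈ A, a ^ 4 = 1) (a := Ω A hA)
    ⟨hΩn A hA hAn, H13.isMulCommutative_of_le hA fun x hx => hx.1, fun a ha => four ha.2⟩
  have hΩ := alperin_omega hG hmax
  obtain ⟨hWn, hWc, hW4⟩ := hmax.prop
  have hc := H13.isMulCommutative_iff_forall_mem.1 hWc
  set V := Ω W hWc
  have hVn : V.Normal := hΩn W hWc hWn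
  have hV4 := hno V hVn fun a ha => ha.2
  have hxV : (x : G) ∈ Ω A hA := ⟨x.2, by rw [← sq]; exact congrArg Subtype.val hx2⟩
  have hyV : (y : G) ∈ Ω A hA := ⟨y.2, by rw [← sq]; exact congrArg Subtype.val hy2⟩
  have hV3 : 3 ≤ Nat.card V := three_le_card_of_mem (w := x) (w' := y) ⟨hAW hxV, hxV.2⟩
    ⟨hAW hyV, hyV.2⟩ (fun e => hx1 (Subtype.ext e))
    (fun e => hyx (by rw [show y = 1 from Subtype.ext e]; exact one_mem _))
    fun e => hyx (by rw [← show x = y from Subtype.ext e]; exact mem_zpowers x)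
  have hC : SR 4 (centralizer (W : Set G)) := by
    refine (sr_top_iff.1 (sr_of_central _ _ rfl (hG.to_subgroup _) fun x hx g =>
      Subtype.ext (g.2 _ (hΩ x x.2 (congrArg Subtype.val hx))).symm)).mono (le_trans ?_ hV4)
    exact Nat.card_le_card_of_injective (fun x => ⟨x.1.1, hΩ _ x.1.2
      (four (congrArg Subtype.val x.2)), congrArg Subtype.val x.2⟩)
      fun x y e => Subtype.ext (Subtype.ext (Subtype.mk.inj e))
  obtain ⟨z, hzV, hz1, -, hzc⟩ := exists_central_sq hG (K := ⊤) (U := V) (H := ⊥) le_top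
    le_normalizer_of_normal le_normalizer_of_normal
    (fun e => by have := card_le_of_le e; rw [card_bot] at this; omega)
  have hzc' : ∀ g, Commute z g := fun g =>
    commutatorElement_eq_one_iff_commute.1 (mem_bot.1 (hzc g (mem_top g)))
  have hz2 : Nat.card (zpowers z) = 2 := by
    rw [Nat.card_zpowers, orderOf_eq_two_of_mul_self hzV.2 hz1]
  have hzn : (zpowers z).Normal := ⟨fun w hw g => by
    obtain ⟨k, rfl⟩ := hw
    rw [← ((hzc' g).zpow_left k).eq, mul_inv_cancel_right]; exact zpow_mem_zpowers z k⟩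
  obtain ⟨h, hhV, hh1, -, hhc⟩ := exists_central_sq hG (K := ⊤) (U := V) (H := zpowers z) le_top
    le_normalizer_of_normal le_normalizer_of_normal
    (fun e => by have := card_le_of_le e; omega)
  have hVe : zpowers h ⊔ zpowers z = V :=
    eq_of_le_of_card_ge (sup_le (zpowers_le.2 hhV) (zpowers_le.2 hzV)) (by
      rw [(H13.four_of_commute (x := h) (z := z) (by rw [sq, hhV.2]) (by rw [sq, hzV.2])
        hz1 hh1 (hzc' h).symm).1]; exact hV4)
  have hsq : ∀ w ∈ W, w * w ∈ V := fun w hw => ⟨W.mul_mem hw hw, by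
    rw [← hW4 w hw]; simp [pow_succ, mul_assoc]⟩
  have hdiv : ∀ x ∈ W, ∀ y ∈ W, x * x = y * y → x⁻¹ * y ∈ V := fun x hx y hy e =>
    ⟨W.mul_mem (W.inv_mem hx) hy, by
      rw [← sq, (show Commute x y from hc x hx y hy).inv_left.mul_pow, inv_pow, sq, sq, e,
        inv_mul_cancel]⟩
  by_cases hab : ∃ a ∈ W, ∃ b ∈ W, a ^ 2 ≠ 1 ∧ b ^ 2 ≠ 1 ∧ a ^ 2 ≠ b ^ 2
  · have hW : Nat.card W ≤ 16 := by
      have h1 := relIndex_le_of_map (K := V) (N := W) (fun x => x * x) (V : Set G).toFinite.toFinset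
        (fun g hg => (Set.Finite.mem_toFinset _).2 (hsq g hg)) hdiv
      rw [← Set.ncard_eq_toFinset_card, ← Nat.card_coe_set_eq, SetLike.coe_sort_coe] at h1
      rw [← H2.card_mul_relIndex (show V ≤ W from fun x hx => hx.1)]
      exact Nat.mul_le_mul hV4 (h1.trans hV4)
    obtain ⟨a, ha, b, hb, h1, h2, h3⟩ := hab
    have hab : Commute a b := hc a ha b hb
    have hVe' : zpowers (a ^ 2) ⊔ zpowers (b ^ 2) = V := by
      have ma : a ^ 2 ∈ V := sq a ▸ hsq a ha
      have mb : b ^ 2 ∈ V := sq b ▸ hsq b hb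
      exact eq_of_le_of_card_ge (sup_le (zpowers_le.2 ma) (zpowers_le.2 mb)) (by
        rw [(H13.four_of_commute (by rw [sq, ma.2]) (by rw [sq, mb.2]) h2
          (fun e => (mem_zpowers_two mb.2 e).elim h1 h3) (hab.pow_pow 2 2)).1]; exact hV4)
    have hbn : a ^ 2 ∈ normalizer (zpowers (b ^ 2) : Set G) := mem_normalizer_of_conj_mem (by
      rintro _ ⟨k, rfl⟩
      rw [((hab.pow_pow 2 2).zpow_right k).eq, mul_inv_cancel_right]; exact zpow_mem_zpowers _ k)
    have b4 : b ^ 2 * b ^ 2 = 1 := by rw [← pow_add]; exact hW4 b hb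
    suffices ∃ a ∈ W, ∃ b ∈ W, a ^ 2 = z ∧ b ^ 2 ≠ 1 ∧ a ^ 2 ≠ b ^ 2 by
      obtain ⟨a, ha, b, hb, h1, h2, h3⟩ := this
      obtain ⟨F, -⟩ := nonempty_H4 hW ha hb (hc a ha b hb) (hW4 a ha) (hW4 b hb) (h1 ▸ hz1) h2 h3
        fun g => h1 ▸ (hzc' g).symm
      exact H4.sr_sixteen (F := F) hG hΩ hno hW hC
    rcases mem_zpowers_sup_two hbn (by rw [← pow_add, hW4 a ha]; exact one_mem _) (hVe' ▸ hzV) with
      e | e <;> rcases mem_zpowers_two b4 e with e | e
    · exact absurd e hz1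
    · exact ⟨b, hb, a, ha, e.symm, h1, h3.symm⟩
    · exact ⟨a, ha, b, hb, inv_mul_eq_one.1 e, h2, h3⟩
    · exact ⟨a * b, W.mul_mem ha hb, b, hb, by rw [hab.mul_pow, ← e, mul_inv_cancel_left], h2,
        by rw [hab.mul_pow]; simpa using h1⟩
  obtain ⟨e, he, h1, h2⟩ : ∃ e ∈ W, (∀ g, g * e * g⁻¹ * e⁻¹ ∈ V) ∧
      ∀ w ∈ W, w ∈ V ∨ e⁻¹ * w ∈ V := by
    by_cases hWV : W ≤ V
    · exact ⟨1, W.one_mem, by simp, fun w hw => Or.inl (hWV hw)⟩
    obtain ⟨e, he, heV⟩ := SetLike.not_le_iff_exists.1 hWV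
    have key : ∀ w ∈ W, w ∉ V → e⁻¹ * w ∈ V := fun w hw hwV => hdiv e he w hw (by
      by_contra hne
      exact hab ⟨e, he, w, hw, fun h => heV ⟨he, sq e ▸ h⟩, fun h => hwV ⟨hw, sq w ▸ h⟩,
        by rwa [sq, sq]⟩)
    refine ⟨e, he, fun g => ?_, fun w hw => (em _).imp_right (key w hw)⟩
    have := hVn.conj_mem _ (key _ (hWn.conj_mem e he g) fun h => heV (by
      simpa [mul_assoc] using hVn.conj_mem _ h g⁻¹)) e
    rwa [mul_inv_cancel_left] at this
  rw [← hVe] at h1 h2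
  obtain ⟨F⟩ := nonempty_UT hzV.2 hhV.2 hz1 hh1 hzc' (fun g => hhc g (mem_top g)) h1 hhV.1 he h2
  exact hC.ext (b := 4) fun M U _ hs hM => (F.top_le hs hM).1

/-- **Harada's theorem** -/
theorem harada_eight (hG : IsPGroup 2 G) {A : Subgroup G} (hAC : centralizer (A : Set G) ≤ A)
    (hA2 : ∀ x ∈ A, x * x = 1) (hA : Nat.card A = 8) : SR 16 (⊤ : Subgroup G) := by
  by_cases hno : ∀ A : Subgroup G, A.Normal → (∀ a ∈ A, a * a = 1) → Nat.card A ≤ 4
  · exact macwilliams hG hno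
  push Not at hno
  obtain ⟨B, hBn, hB2, hB⟩ := hno
  obtain ⟨E, h1, h2, h3⟩ := H3.exists_normal_card_eq' hG B 3 (by
    obtain ⟨k, hk⟩ := IsPGroup.iff_card.1 (hG.to_subgroup B)
    rw [hk] at hB ⊢
    exact Nat.pow_le_pow_right two_pos ((Nat.pow_lt_pow_iff_right one_lt_two).1
      (show 2 ^ 2 < 2 ^ k from hB)))
  exact harada_normal hG (fun x hx => hB2 x (h2 hx)) h3 hAC hA2 hA

end H22
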