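import Mathlib
import Cfsg.Agent.H22.MacW4

/-!
# Applications of Harada's theorem
-/

set_option autoImplicit false
set_option linter.unusedSectionVars false
set_option synthInstance.maxSize 100000
set_option synthInstance.maxHeartbeats 400000

namespace H22

open Subgroup
open scoped commutatorElement

variable {G : Type*} [Group G] [Finite G]

theorem harada_E16 (hG : IsPGroup 2 G) {Q E : Subgroup G} (hEQ : E ≤ Q)
    (hE : ∀ x ∈ E, x * x = 1) (hE16 : Nat.card E = 16) (hQ32 : Nat.card Q = 32) {s : G}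
    (hsQ : s ∈ Q) (hsE : s ∉ E) (hs : s * s = 1) (hfix : Nat.card ↥(E ⊓ centralizer {s}) = 4)
    (hC : centralizer (((center Q).map Q.subtype : Subgroup G) : Set G) = Q) :
    SR 16 (⊤ : Subgroup G) := by
  have hc := comm_of_sq hE
  have hi : E.relIndex Q = 2 := by
    have := H2.card_mul_relIndex hEQ
    rw [hE16, hQ32] at this; omega
  have hdec : ∀ a ∈ Q, a ∈ E ∨ s⁻¹ * a ∈ E := fun a ha => (em _).imp_right fun e =>
    (mul_mem_iff_of_index_two (H := E.subgroupOf Q) hi (a := ⟨s, hsQ⟩⁻¹) (b := ⟨a, ha⟩)).2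
      (by simp [mem_subgroupOf, e, hsE])
  set B := E ⊓ centralizer {s}
  have hB : ∀ b ∈ B, Commute s b := fun b hb => (mem_centralizer_singleton_iff.1 hb.2).symm
  have hn : s ∈ normalizer (B : Set G) := mem_normalizer_of_conj_mem fun b hb => by
    rwa [(hB b hb).eq, mul_inv_cancel_right]
  have m1 : s ∈ zpowers s ⊔ B := mem_sup_left (mem_zpowers s)
  refine harada_eight hG (A := zpowers s ⊔ B) (fun x hx => ?_) (fun x hx => ?_) ?_
  · have hxs : Commute s x := hx s m1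
    have hxQ : x ∈ Q := hC.le (by
      rintro _ ⟨z, hz, rfl⟩
      have hz' : ∀ q ∈ Q, Commute q z := fun q hq =>
        congrArg Subtype.val (mem_center_iff.1 hz ⟨q, hq⟩)
      refine hx _ (mem_sup_right ⟨(hdec z z.2).resolve_right fun e => ?_,
        mem_centralizer_singleton_iff.2 (hz' s hsQ).symm⟩)
      have : E ≤ B := fun w hw => ⟨hw, mem_centralizer_singleton_iff.2 (by
        simpa using ((hz' w (hEQ hw)).mul_right (hc w hw _ e).inv_right).eq)⟩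
      have := card_le_of_le this
      omega)
    rcases hdec x hxQ with e | e
    · exact mem_sup_right ⟨e, mem_centralizer_singleton_iff.2 hxs.symm⟩
    · simpa using mul_mem m1 (mem_sup_right (S := zpowers s) (T := B) ⟨e,
        mem_centralizer_singleton_iff.2 ((Commute.refl s).inv_right.mul_right hxs).symm⟩)
  · rcases mem_zpowers_sup_two hn (hs ▸ one_mem _) hx with e | e
    · exact hE x e.1
    · rw [← mul_inv_cancel_left s x, ← sq, (hB _ e).mul_pow, sq, sq, hs, hE _ e.1, one_mul]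
  · rw [H2.card_sup_zpowers_of_pow_prime_mem Nat.prime_two hn (fun e => hsE e.1)
      (by rw [sq, hs]; exact one_mem _), hfix]

theorem exists_index_two_cent (h : (∃ m : ℕ, 2 ≤ m ∧ Nonempty (G ≃* DihedralGroup m)) ∨
    Cfsg.IsQuasiDihedral G) : ∃ r : G, (zpowers r).index = 2 ∧
      ∀ s, s ∉ zpowers r → ∀ x ∈ zpowers r, Commute s x → x * x = 1 := by
  suffices ∃ r y : G, (zpowers r).index = 2 ∧ y ∉ zpowers r ∧
      ∀ x ∈ zpowers r, Commute y x → x * x = 1 by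
    obtain ⟨r, y, h1, h2, h3⟩ := this
    refine ⟨r, h1, fun s hs x hx hc => h3 x hx ?_⟩
    obtain ⟨k, hk⟩ := (mul_mem_iff_of_index_two h1 (a := s⁻¹) (b := y)).2 (by simp [hs, h2])
    obtain ⟨l, rfl⟩ := hx
    rw [← mul_inv_cancel_left s y, ← show r ^ k = _ from hk]
    exact hc.mul_left ((Commute.refl r).zpow_zpow k l)
  rcases h with ⟨m, hm, ⟨e⟩⟩ | ⟨n, hn, hc, x, y, hx, hy, hxy⟩
  · have : NeZero m := ⟨by omega⟩
    refine ⟨e.symm (DihedralGroup.r 1), e.symm (DihedralGroup.sr 0),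
      Nat.eq_of_mul_eq_mul_left (show 0 < m by omega) ?_, ?_, ?_⟩
    · have h1 := (zpowers (e.symm (DihedralGroup.r 1))).card_mul_index
      rwa [Nat.card_zpowers, e.symm.orderOf_eq, DihedralGroup.orderOf_r_one,
        Nat.card_congr e.toEquiv, DihedralGroup.nat_card, mul_comm 2] at h1
    · rintro ⟨k, hk⟩
      have := e.symm.injective ((map_zpow _ _ _).trans hk)
      rw [DihedralGroup.r_one_zpow] at this
      cases this
    · rintro _ ⟨k, rfl⟩ hc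
      have h1 := congrArg e hc.eq
      apply e.injective
      simp only [map_mul, map_zpow, MulEquiv.apply_symm_apply, DihedralGroup.r_one_zpow,
        DihedralGroup.sr_mul_r, DihedralGroup.r_mul_sr, DihedralGroup.sr.injEq, map_one,
        DihedralGroup.r_mul_r] at h1 ⊢
      rw [DihedralGroup.one_def]; congr 1; linear_combination h1
  · obtain ⟨k, rfl⟩ : ∃ k, n = k + 3 := ⟨n - 3, by omega⟩
    have h4 : ((2 ^ (k + 3 - 1) - 1 : ℕ) : ℤ) = 4 * 2 ^ k - 1 := by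
      rw [Nat.cast_sub Nat.one_le_two_pow, show k + 3 - 1 = k + 2 from rfl]; push_cast; ring
    have key : ∀ l : ℤ, Commute y (x ^ l) → x ^ l * x ^ l = 1 := fun l hc => by
      have h1 : x ^ l = x ^ ((4 * 2 ^ k - 1) * l) := by
        rw [zpow_mul, ← h4, zpow_natCast, ← hxy, conj_zpow, hc.eq, mul_inv_cancel_right]
      rw [zpow_eq_zpow_iff_modEq, hx, Int.modEq_iff_dvd] at h1
      rw [← zpow_add, ← orderOf_dvd_iff_zpow_eq_one, hx]
      refine Int.dvd_of_dvd_mul_right_of_gcd_one (b := 2 * 2 ^ k - 1) (by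
        convert h1 using 1; ring) ?_
      rw [← Int.isCoprime_iff_gcd_eq_one]
      push_cast
      exact IsCoprime.pow_left ⟨2 ^ k, -1, by ring⟩
    refine ⟨x, y, Nat.eq_of_mul_eq_mul_left (show 0 < 2 ^ (k + 3) by positivity) ?_, ?_, ?_⟩
    · have h1 := (zpowers x).card_mul_index
      rwa [Nat.card_zpowers, hx, hc, pow_succ] at h1
    · rintro ⟨l, rfl⟩
      have h1 := key 1 ((Commute.refl x).zpow_zpow l 1)
      rw [zpow_one, ← sq] at h1
      have := Nat.le_of_dvd two_pos (orderOf_dvd_of_pow_eq_one h1)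
      have h5 : 0 < 2 ^ k := by positivity
      rw [hx, pow_add] at this
      omega
    · rintro _ ⟨l, rfl⟩; exact key l

theorem centralizer_le_of_map_four {D : Type*} [Group D] [Finite D] (f : G →* D)
    (h : (∃ m : ℕ, 2 ≤ m ∧ Nonempty (D ≃* DihedralGroup m)) ∨ Cfsg.IsQuasiDihedral D)
    {A : Subgroup G} (hA : ∀ x ∈ A, x * x = 1) (hk : f.ker ≤ A) (h4 : Nat.card (A.map f) = 4) :
    centralizer (A : Set G) ≤ A := by
  obtain ⟨r, h1, h2⟩ := exists_index_two_cent h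
  have key : ∀ K : Subgroup D, K ≤ zpowers r → (∀ x ∈ K, x * x = 1) → Nat.card K ≤ 2 :=
    fun K hK h => H13.card_le_of_isCyclic_of_pow_eq_one
      (H13.isCyclic_of_le (K := zpowers r) inferInstance hK) two_pos fun a ha => by rw [sq, h a ha]
  obtain ⟨_, ⟨s, hs, rfl⟩, hsr⟩ := SetLike.not_le_iff_exists.1
    (show ¬ A.map f ≤ zpowers r from fun e => by
      have := key _ e (by rintro _ ⟨x, hx, rfl⟩; rw [← map_mul, hA x hx, map_one])
      omega)
  have h3 := key (zpowers r ⊓ (centralizer (A : Set G)).map f) inf_le_left (by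
    rintro _ ⟨hx, x, hx', rfl⟩
    exact h2 _ hsr _ hx ((show Commute s x from hx' s hs).map f))
  have h5 := H2.card_inf_mul_relIndex (zpowers r) ((centralizer (A : Set G)).map f)
  have h6 := relIndex_le_of_le_right (H := zpowers r)
    (le_top : (centralizer (A : Set G)).map f ≤ ⊤) index_ne_zero_of_finite
  rw [relIndex_top_right, h1] at h6
  have h7 : A.map f = (centralizer (A : Set G)).map f :=
    eq_of_le_of_card_ge (map_mono fun x hx y hy => comm_of_sq hA y hy x hx)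
      (by rw [h4, ← h5]; exact Nat.mul_le_mul h3 h6)
  refine (le_comap_map f _).trans ?_
  rw [← h7, comap_map_eq, sup_of_le_left hk]

section Q8Q8
open QuaternionGroup

/-- the quaternion group of order 8 -/
abbrev Q8 := QuaternionGroup 2

/-- the diagonal modulo the centre -/
def Q8.diag : Subgroup (Q8 × Q8) where
  carrier := {w | w.1 = w.2 ∨ w.1 = a 2 * w.2}
  one_mem' := Or.inl rfl
  mul_mem' := fun {x y} => by
    simp only [Set.mem_ofPred_eq]; revert x y; decide +kernel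
  inv_mem' := fun {x} => by
    simp only [Set.mem_ofPred_eq]; revert x; decide +kernel

theorem Q8.mem_diag {w : Q8 × Q8} : w ∈ Q8.diag ↔ w.1 = w.2 ∨ w.1 = a 2 * w.2 := Iff.rfl

instance : DecidablePred (· ∈ Q8.diag) := fun _ => decidable_of_iff _ Q8.mem_diag.symm

theorem Q8.swap (hG : IsPGroup 2 G) (f₁ f₂ : Q8 →* G) (h₁ : Function.Injective f₁)
    (h₂ : Function.Injective f₂) (hc : ∀ u v, Commute (f₁ u) (f₂ v)) (hz : f₁ (a 2) = f₂ (a 2))
    (hC : ∀ g, (∀ u, Commute g (f₁ u)) → (∀ u, Commute g (f₂ u)) → ∃ u v, g = f₁ u * f₂ v) :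
    SR 16 (⊤ : Subgroup G) ∨ ∃ x : G, Commute x (f₁ (a 2)) ∧ ∀ u, u = a 1 ∨ u = xa 0 →
      (x * f₁ u * x⁻¹ = f₂ u ∨ x * f₁ u * x⁻¹ = f₂ (a 2 * u)) ∧
      (x * f₂ u * x⁻¹ = f₁ u ∨ x * f₂ u * x⁻¹ = f₁ (a 2 * u)) := by
  let π : Q8 × Q8 →* G := f₁.noncommCoprod f₂ hc
  have hπ : ∀ u v, π (u, v) = f₁ u * f₂ v := fun _ _ => rfl
  have hZ : π (a 2, a 2) = 1 := by rw [hπ, ← hz, ← map_mul, ← map_one f₁]; rfl
  have hker : ∀ w, π w = 1 → w = 1 ∨ w = (a 2, a 2) := by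
    rintro ⟨u, v⟩ e
    rw [hπ] at e
    have e1 : ∀ u', u * u' = u' * u := fun u' => h₁ (by
      rw [map_mul, map_mul, eq_inv_of_mul_eq_one_left e]; exact (hc u' v).inv_right.symm)
    have e2 : ∀ u : Q8, (∀ u', u * u' = u' * u) → u = 1 ∨ u = a 2 := by decide +kernel
    rcases e2 u e1 with rfl | rfl
    · rw [map_one, one_mul, map_eq_one_iff _ h₂] at e
      exact Or.inl (by rw [e]; rfl)
    · rw [hz, ← map_mul, map_eq_one_iff _ h₂] at e
      exact Or.inr (by rw [← inv_eq_of_mul_eq_one_right e]; rfl)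
  have heq : ∀ w w', π w = π w' ↔ (w = w' ∨ w = w' * (a 2, a 2)) := fun w w' =>
    ⟨fun e => (hker (w'⁻¹ * w) (by rw [map_mul, map_inv, e, inv_mul_cancel])).imp
      (fun h => (inv_mul_eq_one.1 h).symm) inv_mul_eq_iff_eq_mul.1,
      by rintro (rfl | rfl) <;> simp [hZ]⟩
  set A := Q8.diag.map π
  have hA2 : ∀ x ∈ A, x * x = 1 := by
    rintro _ ⟨w, hw, rfl⟩
    rw [← map_mul, ← map_one π, heq]
    exact (by decide +kernel : ∀ w ∈ Q8.diag, w * w = 1 ∨ w * w = 1 * (a 2, a 2)) w hw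
  have hA8 : Nat.card A = 8 := by
    have e1 : π.ker = zpowers (a 2, a 2) := le_antisymm (fun w hw => by
      rcases hker w hw with rfl | rfl
      exacts [one_mem _, mem_zpowers _]) (zpowers_le.2 hZ)
    have e2 := H2.card_mul_relIndex (show π.ker ≤ Q8.diag from
      e1 ▸ zpowers_le.2 (Or.inl rfl))
    rw [relIndex_ker, e1, Nat.card_zpowers, orderOf_eq_two_of_mul_self (by decide) (by decide),
      Nat.card_eq_fintype_card (α := Q8.diag), show Fintype.card Q8.diag = 16 by decide +kernel] at e2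
    change 2 * Nat.card A = 16 at e2
    omega
  by_cases hAC : centralizer (A : Set G) ≤ A
  · exact Or.inl (harada_eight hG hAC hA2 hA8)
  right
  have hQA : π.range ≤ normalizer (A : Set G) := by
    rintro _ ⟨w, rfl⟩
    refine mem_normalizer_of_conj_mem ?_
    rintro _ ⟨v, hv, rfl⟩
    exact ⟨w * v * w⁻¹, (by decide +kernel : ∀ w, ∀ v ∈ Q8.diag, w * v * w⁻¹ ∈ Q8.diag) w v hv,
      by simp⟩
  have hKA : π.range ⊔ centralizer (A : Set G) ≤ normalizer (A : Set G) :=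
    sup_le hQA (centralizer_le_normalizer _)
  obtain ⟨x, hx, hxA, -, hxc⟩ := exists_central_sq hG (K := π.range ⊔ centralizer (A : Set G))
    le_sup_right (hKA.trans (H13.normalizer_le_normalizer_centralizer A)) hKA hAC
  have hx' : ∀ w ∈ Q8.diag, x * π w * x⁻¹ = π w := fun w hw => by
    rw [← hx _ ⟨w, hw, rfl⟩, mul_inv_cancel_right]
  have key : ∀ u, ∃ w ∈ Q8.diag, x * π (u, 1) * x⁻¹ = π (w * (u, 1)) := fun u => by
    obtain ⟨w, hw, e⟩ := hxc (π (u, 1)) (mem_sup_left ⟨_, rfl⟩)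
    exact ⟨w, hw, by rw [map_mul, e, commutatorElement_def, inv_mul_cancel_right]⟩
  obtain ⟨w₁, hw₁, e₁⟩ := key (a 1)
  obtain ⟨w₂, hw₂, e₂⟩ := key (xa 0)
  have hz' := hx' (a 2, 1) (by decide)
  have s1 : π (w₁ * (a 1, 1) * (w₁ * (a 1, 1))) = π (a 2, 1) := by
    rw [map_mul, ← e₁, conj_mul, ← map_mul]; exact hz'
  have s2 : π (w₂ * (xa 0, 1) * (w₂ * (xa 0, 1))) = π (a 2, 1) := by
    rw [map_mul, ← e₂, conj_mul, ← map_mul]; exact hz'
  have s3 : π (w₁ * (a 1, 1) * (w₂ * (xa 0, 1)) * (w₁ * (a 1, 1) * (w₂ * (xa 0, 1)))) =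
      π (a 2, 1) := by
    rw [map_mul, map_mul, ← e₁, ← e₂, conj_mul, conj_mul, ← map_mul, ← map_mul]; exact hz'
  rw [heq] at s1 s2 s3
  have dec : ∀ w₁ ∈ Q8.diag, ∀ w₂ ∈ Q8.diag,
      (w₁ * (a 1, 1) * (w₁ * (a 1, 1)) = (a 2, 1) ∨
        w₁ * (a 1, 1) * (w₁ * (a 1, 1)) = (a 2, 1) * (a 2, a 2)) →
      (w₂ * (xa 0, 1) * (w₂ * (xa 0, 1)) = (a 2, 1) ∨
        w₂ * (xa 0, 1) * (w₂ * (xa 0, 1)) = (a 2, 1) * (a 2, a 2)) →
      (w₁ * (a 1, 1) * (w₂ * (xa 0, 1)) * (w₁ * (a 1, 1) * (w₂ * (xa 0, 1))) = (a 2, 1) ∨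
        w₁ * (a 1, 1) * (w₂ * (xa 0, 1)) * (w₁ * (a 1, 1) * (w₂ * (xa 0, 1))) =
          (a 2, 1) * (a 2, a 2)) →
      (∃ q ∈ Q8.diag, (w₁ * (a 1, 1) = q * (a 1, 1) * q⁻¹ ∨
          w₁ * (a 1, 1) = q * (a 1, 1) * q⁻¹ * (a 2, a 2)) ∧
        (w₂ * (xa 0, 1) = q * (xa 0, 1) * q⁻¹ ∨
          w₂ * (xa 0, 1) = q * (xa 0, 1) * q⁻¹ * (a 2, a 2))) ∨
      (((w₁ * (a 1, 1) = (1, a 1) ∨ w₁ * (a 1, 1) = (1, a 1) * (a 2, a 2)) ∨
        (w₁ * (a 1, 1) = (1, a 2 * a 1) ∨ w₁ * (a 1, 1) = (1, a 2 * a 1) * (a 2, a 2))) ∧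
      ((w₂ * (xa 0, 1) = (1, xa 0) ∨ w₂ * (xa 0, 1) = (1, xa 0) * (a 2, a 2)) ∨
        (w₂ * (xa 0, 1) = (1, a 2 * xa 0) ∨ w₂ * (xa 0, 1) = (1, a 2 * xa 0) * (a 2, a 2)))) := by
    decide +kernel
  have p1 : ∀ u, π (u, 1) = f₁ u := fun u => by simp [hπ]
  have p2 : ∀ u, π (1, u) = f₂ u := fun u => by simp [hπ]
  rcases dec w₁ hw₁ w₂ hw₂ s1 s2 s3 with ⟨q, hq, d1, d2⟩ | ⟨d1, d2⟩
  · exfalso
    rw [← heq, ← e₁] at d1
    rw [← heq, ← e₂] at d2
    have c0 : ∀ w, x * π w * x⁻¹ = π (q * w * q⁻¹) → Commute ((π q)⁻¹ * x) (π w) := fun w e => by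
      rw [map_mul, map_mul, map_inv] at e
      calc (π q)⁻¹ * x * π w = (π q)⁻¹ * (x * π w * x⁻¹) * x := by group
        _ = _ := by rw [e]; group
    have c1 : ∀ u, Commute ((π q)⁻¹ * x) (f₁ u) := fun u => by
      have e : ∀ u : Q8, ∃ i j : Fin 4, u = a 1 ^ i.1 * xa 0 ^ j.1 := by decide +kernel
      obtain ⟨i, j, rfl⟩ := e u
      rw [map_mul, map_pow, map_pow, ← p1, ← p1]
      exact ((c0 _ d1).pow_right _).mul_right ((c0 _ d2).pow_right _)
    obtain ⟨u, v, e⟩ := hC _ c1 fun u => by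
      have := (c1 u).inv_right.mul_right (c0 (u, u) (by
        rw [hx' _ (Or.inl rfl), heq]
        exact (by decide +kernel : ∀ q ∈ Q8.diag, ∀ u : Q8, (u, u) = q * (u, u) * q⁻¹ ∨
          (u, u) = q * (u, u) * q⁻¹ * (a 2, a 2)) q hq u))
      rwa [hπ u u, inv_mul_cancel_left] at this
    rw [← hπ, inv_mul_eq_iff_eq_mul, ← map_mul] at e
    refine hxA ⟨q * (u, v), ?_, e.symm⟩
    have c2 : ∀ w : Q8 × Q8, (∀ d ∈ Q8.diag, w * d * w⁻¹ = d ∨ w * d * w⁻¹ = d * (a 2, a 2)) →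
        w ∈ Q8.diag := by decide +kernel
    exact c2 _ fun d hd => (heq _ _).1 (by rw [map_mul, map_mul, map_inv, ← e, hx' d hd])
  rw [← heq, ← heq, ← e₁, p1, p2, p2] at d1
  rw [← heq, ← heq, ← e₂, p1, p2, p2] at d2
  have key2 : ∀ u, u * u = a 2 → (x * f₁ u * x⁻¹ = f₂ u ∨ x * f₁ u * x⁻¹ = f₂ (a 2 * u)) →
      (x * f₂ u * x⁻¹ = f₁ u ∨ x * f₂ u * x⁻¹ = f₁ (a 2 * u)) := fun u hu h => by
    have e := hx' (u, u) (Or.inl rfl)
    rw [hπ, ← conj_mul, (hc u u).eq] at e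
    refine h.imp (fun h => ?_) fun h => ?_ <;> rw [h] at e
    · exact mul_left_cancel e
    · rw [map_mul, ← hz, (hc _ u).eq, mul_assoc, mul_right_inj, ← eq_inv_mul_iff_mul_eq,
        ← map_inv, ← map_mul] at e
      exact e
  refine ⟨x, by rw [Commute, SemiconjBy, ← mul_inv_eq_iff_eq_mul, ← p1, hz'], ?_⟩
  rintro _ (rfl | rfl)
  · exact ⟨d1, key2 _ rfl d1⟩
  · exact ⟨d2, key2 _ rfl d2⟩

/-- an automorphism of order three -/
def Q8.θ : Q8 →* Q8 := MonoidHom.mk' (fun u => match u with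
  | a n => xa 0 ^ n.val
  | xa n => xa 0 ^ (-n).val * xa 3) (by decide +kernel)

theorem harada_Q8Q8 (hG : IsPGroup 2 G) (f₁ f₂ : Q8 →* G) (h₁ : Function.Injective f₁)
    (h₂ : Function.Injective f₂) (hc : ∀ u v, Commute (f₁ u) (f₂ v)) (hz : f₁ (a 2) = f₂ (a 2))
    (hC : ∀ g, (∀ u, Commute g (f₁ u)) → (∀ u, Commute g (f₂ u)) → ∃ u v, g = f₁ u * f₂ v) :
    SR 16 (⊤ : Subgroup G) := by
  have hθ : Function.Bijective Q8.θ := by decide +kernel
  refine (Q8.swap hG f₁ f₂ h₁ h₂ hc hz hC).elim id ?_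
  rintro ⟨x, hx, h⟩
  refine (Q8.swap hG f₁ (f₂.comp Q8.θ) h₁ (h₂.comp hθ.1) (fun u v => hc u _) hz
    fun g e1 e2 => ?_).elim id ?_
  · obtain ⟨u, v, e⟩ := hC g e1 fun u => by
      obtain ⟨u, rfl⟩ := hθ.2 u
      exact e2 u
    obtain ⟨v, rfl⟩ := hθ.2 v
    exact ⟨u, v, e⟩
  rintro ⟨y, -, h'⟩
  exfalso
  have hxz : x * f₂ (a 2) * x⁻¹ = f₁ (a 2) := by rw [← hz, hx.eq, mul_inv_cancel_right]
  have k1 : ∀ u v, x * f₂ u * x⁻¹ = f₁ v → x * f₂ (a 2 * u) * x⁻¹ = f₁ (a 2 * v) := fun u v e => by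
    rw [map_mul, map_mul, ← conj_mul, hxz, e]
  have k2 : ∀ u v u' v', x * f₂ u * x⁻¹ = f₁ v → x * f₂ u' * x⁻¹ = f₁ v' →
      x * f₂ (u * u') * x⁻¹ = f₁ (v * v') := fun u v u' v' e e' => by
    rw [map_mul, map_mul, ← conj_mul, e', e]
  have k3 : ∀ u, x * y * u * (x * y)⁻¹ = x * (y * u * y⁻¹) * x⁻¹ := fun u => by group
  obtain ⟨v₁, hv₁, e₁⟩ : ∃ v, (v = xa 0 ∨ v = xa 2) ∧ x * y * f₁ (a 1) * (x * y)⁻¹ = f₁ v := by
    rw [k3]
    rcases (h' _ (Or.inl rfl)).1 with e | e <;> rcases (h _ (Or.inr rfl)).2 with e' | e' <;> rw [e]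
    exacts [⟨_, Or.inl rfl, e'⟩, ⟨_, Or.inr rfl, e'⟩, ⟨_, Or.inr rfl, k1 _ _ e'⟩,
      ⟨_, Or.inl rfl, k1 _ _ e'⟩]
  obtain ⟨v₂, hv₂, e₂⟩ : ∃ v, (v = xa 1 ∨ v = xa 3) ∧ x * y * f₁ (xa 0) * (x * y)⁻¹ = f₁ v := by
    rw [k3]
    rcases (h' _ (Or.inr rfl)).1 with e | e <;> rcases (h _ (Or.inl rfl)).2 with e' | e' <;>
      rcases (h _ (Or.inr rfl)).2 with e'' | e'' <;> rw [e]
    all_goals have e3 := k2 _ _ _ _ e' e''
    all_goals have e4 := k1 _ _ e3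
    iterate 4 refine ⟨_, ?_, e3⟩; decide
    iterate 4 refine ⟨_, ?_, e4⟩; decide
  let c : Q8 → ZMod 3 := fun u => match u with
    | a _ => 0
    | xa n => if n = 0 ∨ n = 2 then 1 else 2
  have dec : ∀ v₁ v₂ u : Q8, (v₁ = xa 0 ∨ v₁ = xa 2) → (v₂ = xa 1 ∨ v₂ = xa 3) → u * u ≠ 1 →
      ∃ i j : Fin 4, u = a 1 ^ i.1 * xa 0 ^ j.1 ∧ v₁ ^ i.1 * v₂ ^ j.1 * (v₁ ^ i.1 * v₂ ^ j.1) ≠ 1 ∧
        c (v₁ ^ i.1 * v₂ ^ j.1) = c u + 1 := by decide +kernel
  have ind : ∀ m : ℕ, ∃ u, u * u ≠ 1 ∧ c u = m ∧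
      (x * y) ^ m * f₁ (a 1) * ((x * y) ^ m)⁻¹ = f₁ u := fun m => by
    induction m with
    | zero => exact ⟨a 1, by decide, rfl, by simp⟩
    | succ m ih =>
      obtain ⟨u, h1, h2, h3⟩ := ih
      obtain ⟨i, j, rfl, h4, h5⟩ := dec v₁ v₂ u hv₁ hv₂ h1
      refine ⟨_, h4, by rw [h5, h2]; push_cast; rfl, ?_⟩
      rw [map_mul, map_pow, map_pow, ← e₁, ← e₂, conj_pow, conj_pow, conj_mul, ← map_pow, ← map_pow,
        ← map_mul, ← h3, pow_succ']
      generalize x * y = g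
      group
  obtain ⟨n, hn⟩ := hG (x * y)
  obtain ⟨u, -, h2, h3⟩ := ind (2 ^ n)
  rw [hn, one_mul, inv_one, mul_one] at h3
  rw [← h₁ h3] at h2
  exact absurd ((ZMod.natCast_eq_zero_iff _ _).1 h2.symm) fun h =>
    absurd (Nat.prime_three.dvd_of_dvd_pow h) (by decide)

theorem harada_extraspecial (hG : IsPGroup 2 G) {Q₁ Q₂ : Subgroup G} (e₁ : Q₁ ≃* Q8)
    (e₂ : Q₂ ≃* Q8) (hc : ∀ a ∈ Q₁, ∀ b ∈ Q₂, a * b = b * a) (h32 : Nat.card ↥(Q₁ ⊔ Q₂) = 32)
    (hC : centralizer ((Q₁ ⊔ Q₂ : Subgroup G) : Set G) ≤ Q₁ ⊔ Q₂) : SR 16 (⊤ : Subgroup G) := by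
  let f₁ : Q8 →* G := Q₁.subtype.comp e₁.symm.toMonoidHom
  let f₂ : Q8 →* G := Q₂.subtype.comp e₂.symm.toMonoidHom
  have h₁ : Function.Injective f₁ := Q₁.subtype_injective.comp e₁.symm.injective
  have h₂ : Function.Injective f₂ := Q₂.subtype_injective.comp e₂.symm.injective
  have hc' : ∀ u v, Commute (f₁ u) (f₂ v) := fun u v => hc _ (e₁.symm u).2 _ (e₂.symm v).2
  have r₁ : f₁.range = Q₁ := by
    rw [MonoidHom.range_comp, MonoidHom.range_eq_top.2 e₁.symm.surjective, ← MonoidHom.range_eq_map,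
      range_subtype]
  have r₂ : f₂.range = Q₂ := by
    rw [MonoidHom.range_comp, MonoidHom.range_eq_top.2 e₂.symm.surjective, ← MonoidHom.range_eq_map,
      range_subtype]
  have hr : (f₁.noncommCoprod f₂ hc').range = Q₁ ⊔ Q₂ := by
    rw [MonoidHom.noncommCoprod_range, r₁, r₂]
  refine harada_Q8Q8 hG f₁ f₂ h₁ h₂ hc' ?_ fun g c1 c2 => ?_
  · by_contra hne
    have hi : Function.Injective (f₁.noncommCoprod f₂ hc') := by
      rw [injective_iff_map_eq_one]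
      rintro ⟨u, v⟩ e
      have e' : f₁ u * f₂ v = 1 := e
      have e2 : ∀ u : Q8, (∀ u', u * u' = u' * u) → u = 1 ∨ u = a 2 := by decide +kernel
      rcases e2 u fun u' => h₁ (by
        rw [map_mul, map_mul, eq_inv_of_mul_eq_one_left e']; exact (hc' u' v).inv_right.symm) with
        rfl | rfl
      · rw [map_one, one_mul, map_eq_one_iff _ h₂] at e'
        rw [e']; rfl
      rcases e2 v fun u' => h₂ (by
        rw [map_mul, map_mul, eq_inv_of_mul_eq_one_right e']; exact (hc' _ u').inv_left) with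
        rfl | rfl
      · rw [map_one, mul_one, map_eq_one_iff _ h₁] at e'
        exact absurd e' (by decide)
      · exact absurd (by rw [eq_inv_of_mul_eq_one_left e', ← map_inv]; rfl) hne
    rw [← hr, ← Nat.card_congr (MonoidHom.ofInjective hi).toEquiv, Nat.card_prod,
      Nat.card_eq_fintype_card, QuaternionGroup.card] at h32
    omega
  · obtain ⟨⟨u, v⟩, e⟩ := hr.ge (hC (x := g) (by
      rw [← hr]
      rintro _ ⟨⟨u, v⟩, rfl⟩
      exact ((c1 u).mul_right (c2 v)).symm))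
    exact ⟨u, v, e.symm⟩

end Q8Q8

end H22
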