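import Mathlib
import Cfsg.Agent.H27.K3A1
import Cfsg.Agent.H15.K317

/-!
# `2^4 A5`: lifting elements of `S5`
-/

set_option autoImplicit false
set_option linter.unusedSectionVars false
set_option linter.unusedVariables false

namespace H22.K3F

open Cfsg H24 H26 H26.Gold H23.TC Subgroup Equiv

universe u

variable {G : Type u} [Group G] [Finite G] {Q : Subgroup G} {ψ : N[Q] →* Perm (Fin 5)}
  {σ : Perm (Fin 5)}

theorem memk (hk : ψ.ker = Q.subgroupOf N[Q]) (m : N[Q]) : ψ m = 1 ↔ m.1 ∈ Q := by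
  rw [← MonoidHom.mem_ker, hk, mem_subgroupOf]

theorem lift (hQ : TwoG Q) (hk : ψ.ker = Q.subgroupOf N[Q]) {p : ℕ} (hp : p.Prime) (p2 : p ≠ 2)
    (m : N[Q]) (h3 : ψ m ^ p = 1) (h1 : ψ m ≠ 1) :
    ∃ x : N[Q], x.1 ∈ zpowers m.1 ∧ orderOf x.1 = p ∧ ψ x = ψ m := by
  obtain ⟨y, hy, o, e⟩ := H15.K3.lift_ord hp p2 hQ (w := m.1)
    ((memk hk (m ^ p)).1 (by rw [map_pow, h3])) fun h => h1 ((memk hk m).2 h)
  have yN : y ∈ N[Q] := zpowers_le.2 m.2 hy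
  refine ⟨⟨y, yN⟩, hy, o, ?_⟩
  have := (memk hk (m⁻¹ * ⟨y, yN⟩)).2 e
  rw [map_mul, map_inv, inv_mul_eq_one] at this
  exact this.symm

theorem lift3 (hQ : TwoG Q) (hk : ψ.ker = Q.subgroupOf N[Q])
    (hs : ∀ σ, Perm.sign σ = 1 → ∃ m, ψ m = σ) (h3 : σ ^ 3 = 1) (h1 : σ ≠ 1) :
    ∃ x : N[Q], orderOf x.1 = 3 ∧ ψ x = σ := by
  obtain ⟨m, rfl⟩ := hs σ (by
    have := congrArg Perm.sign h3
    rw [map_pow, map_one] at this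
    rcases Int.units_eq_one_or (Perm.sign σ) with e | e
    · exact e
    · rw [e] at this; exact absurd this (by decide))
  obtain ⟨x, -, o, e⟩ := lift hQ hk Nat.prime_three (by decide) m h3 h1
  exact ⟨x, o, e⟩

theorem surj {x c : G} (hx : x ∈ N[Q]) (f : Q ⊓ C{x} = ⊥) (hc : c ∈ Q) :
    ∃ r ∈ Q, r * x * r⁻¹ = c * x := by
  obtain ⟨u, hu, rfl⟩ := surj_of_inj (T := Q) (W := Q)
    (fun u => u * (x * u⁻¹ * x⁻¹)) (fun u hu => mul_mem hu (cN hx (inv_mem hu)))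
    (fun u hu t ht e => by
      have : t⁻¹ * u ∈ Q ⊓ C{x} := ⟨Q.mul_mem (Q.inv_mem ht) hu, mem_C1_comm.1
        (mem_C1_iff_conj.2 (by
          have e' : u * (x * u⁻¹ * x⁻¹) = t * (x * t⁻¹ * x⁻¹) := e
          calc x * (t⁻¹ * u) * x⁻¹ = t⁻¹ * (t * (x * t⁻¹ * x⁻¹)) * (x * u⁻¹ * x⁻¹)⁻¹ := by group
            _ = t⁻¹ * u := by rw [← e']; group))⟩
      rw [f, mem_bot, inv_mul_eq_one] at this
      exact this.symm) le_rfl hc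
  exact ⟨u, hu, by group⟩

theorem fix (hk : ψ.ker = Q.subgroupOf N[Q]) (g x : N[Q]) (f : Q ⊓ C{x.1} = ⊥)
    (hc : ψ g * ψ x = ψ x * ψ g) : ∃ q ∈ Q, q * g.1 ∈ C{x.1} := by
  obtain ⟨r, hr, e⟩ := surj x.2 f ((memk hk (g * x * g⁻¹ * x⁻¹)).1 (by
    rw [map_mul, map_mul, map_mul, hc, map_inv, map_inv]; group))
  refine ⟨r⁻¹, inv_mem hr, mem_C1_iff_conj.2 ?_⟩
  have e' : r * x.1 * r⁻¹ = g.1 * x.1 * g.1⁻¹ * x.1⁻¹ * x.1 := e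
  calc _ = r⁻¹ * (g.1 * x.1 * g.1⁻¹ * x.1⁻¹ * x.1) * r := by group
    _ = _ := by rw [← e']; group

/-- an involution of `S5` centralising an element of order three lifts to an involution -/
theorem out' (hk : ψ.ker = Q.subgroupOf N[Q]) (g x : N[Q]) (f : Q ⊓ C{x.1} = ⊥)
    (hc : ψ g * ψ x = ψ x * ψ g) (h2 : ψ g * ψ g = 1) :
    ∃ q ∈ Q, q * g.1 ∈ C{x.1} ∧ q * g.1 * (q * g.1) = 1 := by
  obtain ⟨q, hq, e⟩ := fix hk g x f hc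
  refine ⟨q, hq, e, ?_⟩
  rw [← mem_bot, ← f]
  refine ⟨?_, mul_mem e e⟩
  have := (memk hk (g * g)).1 (by rw [map_mul, h2])
  have := mul_mem (mul_mem hq (cN g.2 hq)) this
  convert this using 1
  simp [mul_assoc]

theorem d_sw' : ∀ τ : Perm (Fin 5), τ * τ = 1 → Perm.sign τ ≠ 1 →
    ∃ σ : Perm (Fin 5), σ ^ 3 = 1 ∧ σ ≠ 1 ∧ τ * σ = σ * τ := by decide +kernel

theorem out (hQ : TwoG Q) (hk : ψ.ker = Q.subgroupOf N[Q])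
    (hs : ∀ σ, Perm.sign σ = 1 → ∃ m, ψ m = σ)
    (fpf : ∀ x ∈ N[Q], orderOf x = 3 → Q ⊓ C{x} = ⊥) (g : N[Q]) (h2 : ψ g * ψ g = 1)
    (hg : Perm.sign (ψ g) ≠ 1) : ∃ q ∈ Q, q * g.1 * (q * g.1) = 1 := by
  obtain ⟨σ, h3, h1, hc⟩ := d_sw' _ h2 hg
  obtain ⟨x, o, rfl⟩ := lift3 hQ hk hs h3 h1
  obtain ⟨q, hq, -, e⟩ := out' hk g x (fpf x x.2 o) hc h2
  exact ⟨q, hq, e⟩

theorem d_cm : ∀ τ : Perm (Fin 5), τ ≠ 1 → ∃ ρ : Perm (Fin 5), Perm.sign ρ = 1 ∧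
    (τ * ρ * τ⁻¹ * ρ⁻¹) ^ 3 = 1 ∧ τ * ρ * τ⁻¹ * ρ⁻¹ ≠ 1 := by decide +kernel

/-- `Q` is self centralising -/
theorem selfc (hQ : TwoG Q) (h1 : Q ≠ ⊥) (hk : ψ.ker = Q.subgroupOf N[Q])
    (hs : ∀ σ, Perm.sign σ = 1 → ∃ m, ψ m = σ)
    (fpf : ∀ x ∈ N[Q], orderOf x = 3 → Q ⊓ C{x} = ⊥) (g : N[Q]) (hg : g.1 ∈ C[Q]) : g.1 ∈ Q := by
  by_contra hn
  obtain ⟨ρ, hρ, h3, h⟩ := d_cm (ψ g) fun e => hn ((memk hk g).1 e)
  obtain ⟨m, rfl⟩ := hs ρ hρ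
  simp only [← map_inv, ← map_mul] at h3 h
  obtain ⟨x, hx, o, -⟩ := lift hQ hk Nat.prime_three (by decide) _ h3 h
  have hw : (g * m * g⁻¹ * m⁻¹ : N[Q]).1 ∈ C[Q] := by
    have := mul_mem hg (cN (norm_C le_rfl m.2) (inv_mem hg))
    convert this using 1
    simp [mul_assoc]
  have hxC : x.1 ∈ C[Q] := zpowers_le.2 hw hx
  refine h1 (le_bot_iff.1 (fpf x x.2 o ▸ le_inf le_rfl fun q hq => ?_))
  exact mem_C1.2 (mem_C.1 hxC q hq)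

theorem card4 (hQ : EA Q) (cQ : ♯Q = 16) {f x : G} (hf : f ∈ N[Q]) (f2 : f * f = 1)
    (fC : f ∉ C[Q]) (hx : x ∈ N[Q]) (o : orderOf x = 3) (fx : Q ⊓ C{x} = ⊥) (c : x ∈ C{f}) :
    ∀ q ∈ Q ⊓ C{f}, ∃ r ∈ Q, q = r * (f * r * f⁻¹) := by
  obtain ⟨W, hW, cW⟩ := H27.K3A.hom_card hQ hf
  have le : W ≤ Q ⊓ C{f} := fun w hw => by
    obtain ⟨q, hq, rfl⟩ := (hW w).1 hw
    refine ⟨mul_mem hq (cN hf hq), mem_C1_comm.1 (mem_C1_iff_conj.2 ?_)⟩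
    calc _ = f * q * f⁻¹ * (f * f * q * (f * f)⁻¹) := by group
      _ = _ := by rw [f2, one_mul, inv_one, mul_one]; exact hQ.comm (cN hf hq) hq
  have n : x ∈ N[Q ⊓ C{f}] :=
    norm_inf (zpowers_le.2 hx) (norm_C1 (zpowers_le.2 c)) (mem_zpowers x)
  have m := H27.K3A.card_mod3 o n
  rw [show Q ⊓ C{f} ⊓ C{x} = ⊥ from le_bot_iff.1 (fx ▸ inf_le_inf_right _ inf_le_left),
    card_bot] at m
  have d : ♯(Q ⊓ C{f} : Subgroup G) ∣ 2 ^ 4 := (card_dvd_of_le inf_le_left).trans (by rw [cQ]; rfl)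
  obtain ⟨k, hk, e⟩ := (Nat.dvd_prime_pow Nat.prime_two).1 d
  have l := card_le_of_le le
  have n16 : ♯(Q ⊓ C{f} : Subgroup G) ≠ 16 := fun h => fC (mem_C.2 fun q hq => by
    have : Q ⊓ C{f} = Q := eq_of_le_of_card_ge inf_le_left (by rw [h, cQ])
    exact mem_C1.1 (this.ge hq).2)
  have e4 : ♯(Q ⊓ C{f} : Subgroup G) ≤ ♯W := by
    rw [cQ] at cW
    rw [e] at m cW l n16 ⊢
    interval_cases k
    · omega
    · exact absurd m (by decide)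
    · omega
    · exact absurd m (by decide)
    · omega
  intro q hq
  exact (hW q).1 ((eq_of_le_of_card_ge le e4).ge hq)

/-- an involution outside `A5` centralises an element of order three -/
theorem tp (hQ : EA Q) (cQ : ♯Q = 16) (hk : ψ.ker = Q.subgroupOf N[Q])
    (hs : ∀ σ, Perm.sign σ = 1 → ∃ m, ψ m = σ)
    (fpf : ∀ x ∈ N[Q], orderOf x = 3 → Q ⊓ C{x} = ⊥) (f : N[Q]) (f2 : f.1 * f.1 = 1)
    (h3 : σ ^ 3 = 1) (h1 : σ ≠ 1) (hc : ψ f * σ = σ * ψ f) (f1 : ψ f ≠ 1) :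
    ∃ x : N[Q], orderOf x.1 = 3 ∧ ψ x = σ ∧ x.1 ∈ C{f.1} := by
  have Q1 : Q ≠ ⊥ := fun e => by rw [e, card_bot] at cQ; omega
  obtain ⟨x, o, rfl⟩ := lift3 hQ.two hk hs h3 h1
  obtain ⟨q, hq, e, e2⟩ := out' hk f x (fpf x x.2 o) hc
    (by rw [← map_mul, show f * f = 1 from Subtype.ext f2, map_one])
  have gN : q * f.1 ∈ N[Q] := mul_mem (le_normalizer hq) f.2
  have gC : q * f.1 ∉ C[Q] := fun h => f1 ((memk hk f).2 (by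
    simpa using mul_mem (inv_mem hq) (selfc hQ.two Q1 hk hs fpf ⟨_, gN⟩ h)))
  have qC : q ∈ C{q * f.1} := mem_C1.2 (by
    have a : q * f.1 = f.1⁻¹ * q⁻¹ := by rw [← mul_inv_rev]; exact eq_inv_of_mul_eq_one_left e2
    rw [hQ.inv hq, ← eq_inv_of_mul_eq_one_left f2] at a
    rw [mul_assoc, ← a])
  obtain ⟨r, hr, er⟩ := card4 hQ cQ gN e2 gC x.2 o (fpf x x.2 o) (mem_C1_comm.1 e) q ⟨hq, qC⟩
  have ef : r * (q * f.1) * r⁻¹ = f.1 := by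
    calc _ = r * (q * f.1 * r⁻¹ * (q * f.1)⁻¹) * (q * f.1) := by group
      _ = q * (q * f.1) := by rw [hQ.inv hr, ← er]
      _ = _ := by rw [← mul_assoc, hQ.sq hq, one_mul]
  have rN : r ∈ N[Q] := le_normalizer hr
  refine ⟨⟨r, rN⟩ * x * ⟨r, rN⟩⁻¹, ?_, ?_, ?_⟩
  · rw [← o]; exact (MulAut.conj r).orderOf_eq x.1
  · rw [map_mul, map_mul, map_inv, (memk hk ⟨r, rN⟩).2 hr]; group
  · rw [← ef]
    refine mem_C1.2 ?_
    show r * x.1 * r⁻¹ * _ = _ * (r * x.1 * r⁻¹)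
    calc _ = r * (x.1 * (q * f.1)) * r⁻¹ := by group
      _ = _ := by rw [← mem_C1.1 e]; group

end H22.K3F
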