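import Mathlib
import Cfsg.Agent.H12.NGMa
import Cfsg.Agent.H12.Replace

/-!
# Pushing up, part 1: counting, coprime stability, minimal parabolics, the section inequality
-/

set_option autoImplicit false
set_option linter.unusedSectionVars false

namespace PU22

open Subgroup Cfsg H24 H11.ZN H12.NG
open scoped commutatorElement

universe u

variable {G : Type u} [Group G] [Finite G] {V W H A B D E L X Y K Q T P N U : Subgroup G}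
  {a b c d e g h t v w x y z : G}

abbrev P2 (X : Subgroup G) : Prop := IsPi {2} X

theorem rel_le {K' X' : Subgroup G} (f : G → G) (hf : ∀ x ∈ X, f x ∈ X')
    (h : ∀ x ∈ X, ∀ y ∈ X, (f x)⁻¹ * f y ∈ K' → x⁻¹ * y ∈ K) : K.relIndex X ≤ K'.relIndex X' := by
  unfold Subgroup.relIndex Subgroup.index
  refine Nat.card_le_card_of_injective
    (fun q => ((⟨f (q.out : X), hf _ q.out.2⟩ : X') : X' ⧸ K'.subgroupOf X')) fun p q e => ?_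
  rw [← QuotientGroup.out_eq' p, ← QuotientGroup.out_eq' q, QuotientGroup.eq, mem_subgroupOf]
  rw [QuotientGroup.eq, mem_subgroupOf] at e
  exact h _ p.out.2 _ q.out.2 e

theorem card_le_rel {K' X' : Subgroup G} (f : G → G) (hf : ∀ x ∈ X, f x ∈ X')
    (h : ∀ x ∈ X, ∀ y ∈ X, (f x)⁻¹ * f y ∈ K' → x = y) : ♯X ≤ K'.relIndex X' := by
  have := rel_le (K := ⊥) f hf fun x hx y hy e => by rw [h x hx y hy e, inv_mul_cancel]; exact one_mem _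
  rwa [relIndex_bot_left] at this

theorem rel_le_card {X' : Subgroup G} (f : G → G) (hf : ∀ x ∈ X, f x ∈ X')
    (h : ∀ x ∈ X, ∀ y ∈ X, f x = f y → x⁻¹ * y ∈ K) : K.relIndex X ≤ ♯X' := by
  have := rel_le (K := K) (K' := ⊥) f hf fun x hx y hy e =>
    h x hx y hy (inv_mul_eq_one.1 (mem_bot.1 e))
  rwa [relIndex_bot_left] at this

theorem rel_mono_right (h : X ≤ Y) : K.relIndex X ≤ K.relIndex Y :=
  rel_le id (fun _ hx => h hx) fun _ _ _ _ e => e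

theorem rel_anti_left (h : K ≤ L) : L.relIndex X ≤ K.relIndex X :=
  rel_le id (fun _ hx => hx) fun _ _ _ _ e => h e

theorem rel_le_of_inf (hX : X ≤ Y) (h : L ⊓ X ≤ K) : K.relIndex X ≤ L.relIndex Y :=
  rel_le id (fun _ hx => hX hx) fun _ hx _ hy e => h ⟨e, X.mul_mem (X.inv_mem hx) hy⟩

theorem prod_of_rel (hX : X ≤ V) (hK : K ≤ V) (h : K.relIndex V ≤ K.relIndex X) : IsProd X K V := by
  refine isProd_of_card hX hK ?_
  have h1 := card_mul_relIndex hK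
  have h2 := card_inf_mul_relIndex K X
  rw [inf_comm] at h2
  rw [← h1, ← h2]
  have := Nat.mul_le_mul_left (♯K * ♯(X ⊓ K)) h
  nlinarith

theorem cm_mul (a b v : G) : ⁅a * b, v⁆ = a * ⁅b, v⁆ * a⁻¹ * ⁅a, v⁆ := by
  simp only [commutatorElement_def]; group

theorem cm_mul' (a v w : G) : ⁅a, v * w⁆ = ⁅a, v⁆ * (v * ⁅a, w⁆ * v⁻¹) := by
  simp only [commutatorElement_def]; group

theorem cm_conj (g a v : G) : g * ⁅a, v⁆ * g⁻¹ = ⁅g * a * g⁻¹, g * v * g⁻¹⁆ := by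
  simp only [commutatorElement_def]; group

theorem cm_eq_one : ⁅a, v⁆ = 1 ↔ v ∈ C{a} := by
  rw [commutatorElement_eq_one_iff_mul_comm, mem_C1, eq_comm]

theorem cm_mem (ha : a ∈ N[V]) (hv : v ∈ V) : ⁅a, v⁆ ∈ V :=
  mul_mem (conj_mem ha hv) (inv_mem hv)

theorem cm_in (ha : a ∈ V) (hv : v ∈ V) : ⁅a, v⁆ ∈ V :=
  mul_mem (mul_mem (mul_mem ha hv) (inv_mem ha)) (inv_mem hv)

theorem cm_mem' (ha : a ∈ V) (hv : v ∈ N[V]) : ⁅a, v⁆ ∈ V := by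
  rw [← commutatorElement_inv]; exact inv_mem (cm_mem hv ha)

theorem cm_one_of_C (hv : v ∈ C[A]) (ha : a ∈ A) : ⁅a, v⁆ = 1 := cm_eq_one.2 (C_le_C1 ha hv)

theorem cm_one_of_C' (hv : v ∈ C[A]) (ha : a ∈ A) : ⁅v, a⁆ = 1 := by
  rw [← commutatorElement_inv, cm_one_of_C hv ha, inv_one]

theorem mem_C_of_cm (h : ∀ a ∈ A, ⁅a, v⁆ = 1) : v ∈ C[A] :=
  mem_C.2 fun a ha => commutatorElement_eq_one_iff_mul_comm.1 (h a ha)

theorem mem_N_of_cm (h : ∀ x ∈ X, ⁅g, x⁆ ∈ X) : g ∈ N[X] :=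
  mem_N_of_finite fun x hx => by
    have := mul_mem (h x hx) hx
    rwa [commutatorElement_def, inv_mul_cancel_right] at this

theorem le_N_of_cm (h : ∀ g ∈ A, ∀ x ∈ X, ⁅g, x⁆ ∈ X) : A ≤ N[X] := fun g hg => mem_N_of_cm (h g hg)

theorem cm_swap (h : ⁅a, v⁆ ∈ K) : ⁅v, a⁆ ∈ K := by
  rw [← commutatorElement_inv]; exact inv_mem h

/-- coprime stability -/
theorem stab (hg : Odd (orderOf g)) (hgN : g ∈ N[N]) (hx : x ∈ N[N]) (hm : PiElt {2} ⁅g, x⁆)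
    (h : ⁅g, ⁅g, x⁆⁆ ∈ N) : ⁅g, x⁆ ∈ N := by
  have hmN : ⁅g, x⁆ ∈ N[N] := cm_in hgN hx
  have e1 : Commute (cs N g) (cs N ⁅g, x⁆) := by
    rw [← commutatorElement_eq_one_iff_commute, ← ap_commutator _ hgN hmN]
    exact cs_of_mem h
  have e2 : ∀ k : ℕ, cs N g ^ k * cs N x * (cs N g ^ k)⁻¹ = cs N ⁅g, x⁆ ^ k * cs N x := by
    intro k
    induction k with
    | zero => simp
    | succ k ih =>
      have e3 : cs N g * cs N x * (cs N g)⁻¹ = cs N ⁅g, x⁆ * cs N x := by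
        rw [cs, cs, cs, ap_commutator _ hgN hx, commutatorElement_def]; group
      calc _ = cs N g * (cs N g ^ k * cs N x * (cs N g ^ k)⁻¹) * (cs N g)⁻¹ := by group
        _ = cs N ⁅g, x⁆ ^ k * (cs N g * cs N x * (cs N g)⁻¹) := by
          rw [ih, ← mul_assoc, (e1.pow_right k).eq]; group
        _ = _ := by rw [e3]; group
  have e4 := e2 (orderOf g)
  rw [cs, ← ap_pow _ hgN, pow_orderOf_eq_one, ← cs, cs_of_mem (one_mem _), one_mul, inv_one, mul_one,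
    eq_comm, mul_eq_right] at e4
  rw [← cs_eq_one hmN]
  exact (hm.ap _ hmN).eq_one (piElt_of_pow_eq_one (piNat_odd.2 hg) e4)

theorem stab1 (hg : Odd (orderOf g)) (hm : PiElt {2} ⁅g, x⁆) (h : ⁅g, ⁅g, x⁆⁆ = 1) : ⁅g, x⁆ = 1 :=
  mem_bot.1 (stab (N := ⊥) hg (by simp) (by simp) hm (mem_bot.2 h))

theorem exists_fix_mod {Z : Subgroup G} (hP : P2 P) (hV : P2 V) (h1 : P ≤ N[V]) (h2 : P ≤ N[Z])
    (h3 : V ≤ N[Z]) (h : ¬ V ≤ Z) : ∃ v ∈ V, v ∉ Z ∧ ∀ p ∈ P, ⁅p, v⁆ ∈ Z := by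
  obtain ⟨q, ⟨hq, hc⟩, h1⟩ := exists_ne_one (IsPi.inf_C_ne_bot Nat.prime_two (hP.quo Z) (hV.quo Z)
    (quo_norm Z h1) fun e => h ((quo_eq_bot h3).1 e))
  obtain ⟨v, hv, hn, rfl⟩ := mem_quo.1 hq
  refine ⟨v, hv, fun e => h1 (cs_of_mem e), fun p hp => ?_⟩
  rw [← cs_eq_one (cm_in (h2 hp) hn), cs, ap_commutator (coset Z) (h2 hp) hn]
  exact cm_one_of_C hc (cs_mem_quo hp (h2 hp))

theorem exists_fix (hP : P2 P) (hV : P2 V) (h1 : P ≤ N[V]) (h : V ≠ ⊥) :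
    ∃ v ∈ V, v ≠ 1 ∧ v ∈ C[P] := by
  obtain ⟨v, ⟨hv, hc⟩, h1⟩ := exists_ne_one (IsPi.inf_C_ne_bot Nat.prime_two hP hV h1 h)
  exact ⟨v, hv, h1, hc⟩

theorem Od2_le_iff : Od2 H ≤ X ↔ ∀ g ∈ H, Odd (orderOf g) → g ∈ X :=
  (closure_le _).trans ⟨fun h _ h1 h2 => h ⟨h1, h2⟩, fun h g e => h g e.1 e.2⟩

theorem exists_odd_not (h : ¬ Od2 H ≤ X) : ∃ g ∈ H, Odd (orderOf g) ∧ g ∉ X := by
  rw [Od2_le_iff] at h; push Not at h; exact h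

theorem Od2_le_of_sup (hN : N ⊴ H) (hT : P2 T) (hTH : T ≤ H) (h : H ≤ N ⊔ T) : Od2 H ≤ N := by
  refine Od2_le_iff.2 fun g hg ho => ?_
  have e : H = N ⊔ T := le_antisymm h (sup_le hN.le hTH)
  refine le_of_idx_compl' (π := {2}) hN ?_ (piElt_odd.2 ho).isPi ((zpowers_le).2 hg) (mem_zpowers g)
  rw [e, relIndex_sup_of_norm (hTH.trans hN.norm)]
  exact hT.relIndex N

/-- `T` is a Sylow subgroup of `H` and every proper overgroup of `T` lies in `B < H` -/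
structure MP (H T B : Subgroup G) : Prop where
  syl : Syl 2 H T
  le : T ≤ B
  lt : B < H
  uq : ∀ X, T ≤ X → X ≤ H → X = H ∨ X ≤ B

theorem MP.TH (h : MP H T B) : T ≤ H := h.syl.le
theorem MP.BH (h : MP H T B) : B ≤ H := h.lt.le
theorem MP.two (h : MP H T B) : P2 T := h.syl.pi
theorem MP.nle (h : MP H T B) : ¬ H ≤ B := h.lt.not_ge
theorem MP.QT (h : MP H T B) : Q2 H ≤ T := pcore_le_Hall h.syl

theorem MP.eq (h : MP H T B) (h1 : T ≤ X) (h2 : X ≤ H) (h3 : ¬ X ≤ B) : X = H :=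
  (h.uq X h1 h2).resolve_right h3

theorem MP.le_N (h : MP H T B) (h1 : T ≤ N[X]) (h3 : ¬ H ⊓ N[X] ≤ B) : H ≤ N[X] :=
  (h.eq (le_inf h.TH h1) inf_le_left h3).ge.trans inf_le_right

theorem MP.N_le (h : MP H T B) (h1 : T ≤ N[X]) (h3 : ¬ H ≤ N[X]) : H ⊓ N[X] ≤ B := by
  by_contra e; exact h3 (h.le_N h1 e)

theorem MP.Od2_nle (h : MP H T B) : ¬ Od2 H ≤ B := fun e =>
  h.nle ((le_Od2_sup h.syl).trans (sup_le e h.le))

theorem MP.le_or (h : MP H T B) (hN : N ⊴ H) : N ≤ B ∨ Od2 H ≤ N :=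
  (h.uq (N ⊔ T) le_sup_right (sup_le hN.le h.TH)).elim
    (fun e => Or.inr (Od2_le_of_sup hN h.two h.TH e.ge)) fun e => Or.inl (le_sup_left.trans e)

theorem MP.inf_le (h : MP H T B) (hN : N ⊴ H) (hB : N ≤ B) : T ⊓ N ≤ Q2 H := by
  have hF := Frattini_arg Nat.prime_two hN (h.syl.inf_nml hN)
  refine pcore_max' (h.two.inf_left N) (inf_le_left.trans h.TH)
    (h.le_N (norm_inf (norm_self T) (h.TH.trans hN.norm)) fun e => h.nle ?_)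
  rw [← hF.sup_eq]; exact sup_le hB e

theorem MP.Od2_le (h : MP H T B) (hN : N ⊴ H) (h1 : ¬ T ⊓ N ≤ Q2 H) : Od2 H ≤ N :=
  (h.le_or hN).resolve_left fun e => h1 (h.inf_le hN e)

theorem MP.inf_le' (h : MP H T B) (hN : N ⊴ H) (h1 : ¬ Od2 H ≤ N) : T ⊓ N ≤ Q2 H := by
  by_contra e; exact h1 (h.Od2_le hN e)

theorem MP.cj (h : MP H T B) (g : G) : MP (cj g H) (cj g T) (cj g B) :=
  ⟨h.syl.cj g, cj_mono g h.le, cj_lt_cj.2 h.lt, fun X h1 h2 => by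
    rcases h.uq (H24.cj g⁻¹ X) (cj_le_iff.1 h1) (le_cj_iff.1 h2) with e | e
    · left; rw [← e, cj_cj_inv]
    · right; exact le_cj_iff.2 e⟩

theorem le_centQ' (hU : U ≤ N[K]) (hA : A ≤ N[K]) (h : ∀ a ∈ A, ∀ u ∈ U, ⁅a, u⁆ ∈ K) :
    A ≤ centQ U K := fun a ha => (mem_centQ hU).2 ⟨hA ha, h a ha⟩

theorem centQ_cm (hU : U ≤ N[K]) (h : a ∈ centQ U K) (hv : v ∈ U) : ⁅a, v⁆ ∈ K :=
  ((mem_centQ hU).1 h).2 v hv

theorem centQ_cm' (hU : U ≤ N[K]) (h : a ∈ centQ U K) (hv : v ∈ U) : ⁅v, a⁆ ∈ K :=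
  cm_swap (centQ_cm hU h hv)

theorem mem_centQ1 (ha : a ∈ N[K]) : x ∈ centQ (zpowers a) K ↔ x ∈ N[K] ∧ ⁅a, x⁆ ∈ K := by
  rw [centQ, quo_zpowers ha, C_zpowers, mem_coq]
  refine and_congr_right fun hx => ?_
  rw [← cm_eq_one, ← ap_commutator _ ha hx, ← cs, cs_eq_one (cm_in ha hx)]

theorem cj_centQ (g : G) (hU : U ≤ N[K]) : cj g (centQ U K) = centQ (cj g U) (cj g K) := by
  ext x
  rw [mem_cj, mem_centQ hU, mem_centQ (norm_cj hU g), ← cj_N, mem_cj]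
  refine and_congr_right fun _ => ⟨fun h u hu => ?_, fun h u hu => ?_⟩
  · have := h _ (mem_cj.1 hu)
    rw [mem_cj]; convert this using 1; simp only [commutatorElement_def]; group
  · have := mem_cj.1 (h _ (conj_mem_cj g hu))
    convert this using 1; simp only [commutatorElement_def]; group

/-- a chief section on which an element of odd order acts -/
theorem exists_sect {W₁ W₂ : Subgroup G} (h12 : W₂ ≤ W₁) (hab : ⁅W₁, W₁⁆ ≤ W₂) (h2 : P2 W₁)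
    (hL1 : L ≤ N[W₁]) (hL2 : L ≤ N[W₂]) (hg : g ∈ L) (ho : Odd (orderOf g))
    (hn : ¬ ∀ w ∈ W₁, ⁅g, w⁆ ∈ W₂) :
    ∃ U₁ U₂, W₂ ≤ U₂ ∧ U₂ ≤ U₁ ∧ U₁ ≤ W₁ ∧ L ≤ N[U₁] ∧ L ≤ N[U₂] ∧ (¬ ∀ w ∈ U₁, ⁅g, w⁆ ∈ U₂) ∧
      ∀ E, U₂ ≤ E → E ≤ U₁ → L ≤ N[E] → E = U₂ ∨ E = U₁ := by
  obtain ⟨U₁, h1, ⟨h3, h4, h5⟩, h6⟩ := exists_min
    (P := fun U => W₂ ≤ U ∧ L ≤ N[U] ∧ ¬ ∀ w ∈ U, ⁅g, w⁆ ∈ W₂) ⟨h12, hL1, hn⟩
  have hne : W₂ ≠ U₁ := fun e => h5 fun w hw => cm_mem (hL2 hg) (e ▸ hw)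
  obtain ⟨U₂, h7, ⟨h8, h9, h10⟩, h11⟩ := exists_max
    (P := fun U => U ≤ U₁ ∧ L ≤ N[U] ∧ U ≠ U₁) ⟨h3, hL2, hne⟩
  refine ⟨U₁, U₂, h7, h8, h1, h4, h9, fun e => h5 fun w hw => ?_, fun E e1 e2 e3 => ?_⟩
  · have hc : ∀ w ∈ U₂, ⁅g, w⁆ ∈ W₂ := by
      by_contra e'; exact h10 (h6 _ ⟨h7, h9, e'⟩ h8)
    exact stab ho (hL2 hg) (norm_of_der1_le hab h12 (h1 hw))
      (h2.piElt (cm_mem (hL1 hg) (h1 hw))) (hc _ (e w hw))
  · by_cases e : E = U₁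
    · exact Or.inr e
    · exact Or.inl (h11 E ⟨e2, e3, e⟩ e1)

theorem irr_ineq {U₁ U₂ : Subgroup G} (h12 : U₂ ≤ U₁) (hab : ⁅U₁, U₁⁆ ≤ U₂) (h2 : P2 U₁)
    (hL1 : L ≤ N[U₁]) (hL2 : L ≤ N[U₂]) (hn : ¬ L ≤ centQ U₁ U₂)
    (hirr : ∀ E, U₂ ≤ E → E ≤ U₁ → L ≤ N[E] → E = U₂ ∨ E = U₁)
    (hA : A ≤ L) (hq : ∀ a ∈ A, ∀ b ∈ A, ∀ w ∈ U₁, ⁅b, ⁅a, w⁆⁆ ∈ U₂) (hD : D ⊴ L) (hD2 : P2 D)
    (hgen : ∀ a ∈ A, a ∉ D → ∃ g ∈ L, L ≤ zpowers a ⊔ cj g A ⊔ D) (ha : a ∈ A) (haD : a ∉ D) :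
    D.relIndex A ≤ (centQ (zpowers a) U₂).relIndex U₁ := by
  have hN : ∀ E, U₂ ≤ E → E ≤ U₁ → U₁ ≤ N[E] := fun E e1 e2 => norm_of_der1_le (hab.trans e1) e2
  have hU := hN U₂ le_rfl h12
  have hne : ¬ U₁ ≤ U₂ := fun e => hn (le_centQ' hU hL2 fun g hg w hw => e (cm_mem (hL1 hg) hw))
  have h2c : ∀ X, X ≤ L → U₂ ≤ U₁ ⊓ centQ X U₂ := fun X hX =>
    le_inf h12 (le_centQ' (hX.trans hL2) (norm_self _) fun u hu x hx => cm_mem' hu (hL2 (hX hx)))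
  have hDc : D ≤ centQ U₁ U₂ := by
    obtain ⟨v, hv, hv1, hv2⟩ := exists_fix_mod hD2 h2 (hD.le.trans hL1) (hD.le.trans hL2) hU hne
    rcases hirr _ (h2c D hD.le) inf_le_left (norm_inf hL1 (norm_centQ hD.norm hL2)) with e | e
    · refine (hv1 (e ▸ ⟨hv, ?_⟩)).elim
      exact (mem_centQ (hD.le.trans hL2)).2 ⟨hU hv, fun p hp => cm_swap (hv2 p hp)⟩
    · exact le_centQ' hU (hD.le.trans hL2) fun d hd w hw =>
        centQ_cm' (hD.le.trans hL2) (e.ge hw).2 hd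
  set CA := U₁ ⊓ centQ A U₂ with hCA
  have hqA : ∀ a ∈ A, ∀ w ∈ U₁, ⁅a, w⁆ ∈ CA := fun a ha w hw =>
    ⟨cm_mem (hL1 (hA ha)) hw, (mem_centQ (hA.trans hL2)).2
      ⟨hU (cm_mem (hL1 (hA ha)) hw), fun b hb => cm_swap (hq a ha b hb w hw)⟩⟩
  have key : ∀ a ∈ A, a ∉ D → U₁ ⊓ centQ (zpowers a) U₂ ≤ CA ∧
      ♯(U₁ ⊓ centQ (zpowers a) U₂) * ♯CA ≤ ♯U₁ * ♯U₂ ∧ ¬ U₁ ≤ CA := by
    intro a ha haD
    obtain ⟨g, hg, hL⟩ := hgen a ha haD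
    have hz : zpowers a ≤ L := (zpowers_le).2 (hA ha)
    have hAg : cj g A ≤ L := cj_le_of_mem hA hg
    have e0 : cj g CA = U₁ ⊓ centQ (cj g A) U₂ := by
      rw [hCA, cj_inf, cj_centQ g (hA.trans hL2), cj_of_mem_N (hL1 hg), cj_of_mem_N (hL2 hg)]
    have hgc : ∀ E, E ≤ U₁ → E ≤ centQ (zpowers a) U₂ → E ≤ cj g CA → L ≤ centQ E U₂ := by
      intro E e1 e2 e3
      rw [e0] at e3
      refine hL.trans (sup_le (sup_le ?_ ?_) ?_)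
      · exact le_centQ' (e1.trans hU) (hz.trans hL2) fun x hx w hw => centQ_cm' (hz.trans hL2) (e2 hw) hx
      · exact le_centQ' (e1.trans hU) (hAg.trans hL2) fun x hx w hw =>
          centQ_cm' (hAg.trans hL2) (e3 hw).2 hx
      · exact le_centQ' (e1.trans hU) (hD.le.trans hL2) fun x hx w hw => centQ_cm hU (hDc hx) (e1 hw)
    have e1 : (U₁ ⊓ centQ (zpowers a) U₂) ⊓ cj g CA = U₂ := by
      have i1 : U₂ ≤ (U₁ ⊓ centQ (zpowers a) U₂) ⊓ cj g CA := le_inf (h2c _ hz) (e0 ▸ h2c _ hAg)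
      have i2 := hgc _ (inf_le_left.trans inf_le_left) (inf_le_left.trans inf_le_right)
        (inf_le_right (a := U₁ ⊓ centQ (zpowers a) U₂))
      refine (hirr _ i1 (inf_le_left.trans inf_le_left) (le_N_of_cm fun x hx w hw => i1 ?_)).resolve_right
        fun e => hn (e ▸ i2)
      exact centQ_cm ((inf_le_left.trans inf_le_left).trans hU) (i2 hx) hw
    have hCU : CA ≤ U₁ := inf_le_left
    have hCU' : cj g CA ≤ U₁ := e0 ▸ inf_le_left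
    have e2 : CA ⊔ cj g CA = U₁ := by
      have i1 : U₂ ≤ CA ⊔ cj g CA := (h2c A hA).trans le_sup_left
      have i0 : ∀ x ∈ cj g A, ∀ w ∈ U₁, ⁅x, w⁆ ∈ cj g CA := fun x hx w hw => by
        rw [mem_cj]
        convert hqA _ (mem_cj.1 hx) _ (conj_mem' (hL1 hg) hw) using 1
        simp only [commutatorElement_def]; group
      refine (hirr _ i1 (sup_le hCU hCU') (hL.trans (sup_le (sup_le ((zpowers_le).2 (mem_N_of_cm
        fun w hw => mem_sup_left (hqA a ha w (sup_le hCU hCU' hw)))) (le_N_of_cm fun x hx w hw =>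
        mem_sup_right (i0 x hx w (sup_le hCU hCU' hw)))) (le_N_of_cm fun x hx w hw =>
        i1 (centQ_cm hU (hDc hx) (sup_le hCU hCU' hw)))))).resolve_left fun e => hn ?_
      refine hL.trans (sup_le (sup_le ((zpowers_le).2 ?_) ?_) hDc)
      · exact (mem_centQ hU).2 ⟨hL2 (hA ha), fun w hw => e ▸ mem_sup_left (hqA a ha w hw)⟩
      · exact le_centQ' hU (hAg.trans hL2) fun x hx w hw => e ▸ mem_sup_right (i0 x hx w hw)
    have c1 := card_sup (A := U₁ ⊓ centQ (zpowers a) U₂) (B := cj g CA)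
      (hCU'.trans (hN _ (h2c _ hz) inf_le_left))
    have c2 := card_sup (A := CA) (B := cj g CA) (hCU'.trans (hN _ (h2c _ hA) hCU))
    rw [e1, card_cj] at c1
    rw [e2, card_cj] at c2
    have c3 := card_le (sup_le (inf_le_left (b := centQ (zpowers a) U₂)) hCU')
    have c4 := card_le (le_inf (h2c A hA) (e0 ▸ h2c _ hAg : U₂ ≤ cj g CA))
    have c5 : ♯(U₁ ⊓ centQ (zpowers a) U₂) * ♯CA ≤ ♯U₁ * ♯U₂ := c1 ▸ Nat.mul_le_mul_right _ c3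
    have i3 : CA ≤ U₁ ⊓ centQ (zpowers a) U₂ := fun w hw =>
      ⟨hw.1, (mem_centQ1 (hL2 (hA ha))).2 ⟨hU hw.1, centQ_cm' (hA.trans hL2) hw.2 ha⟩⟩
    refine ⟨(eq_of_card_ge i3 (Nat.le_of_mul_le_mul_right (c5.trans ?_) (card_pos CA))).ge, c5, fun e => ?_⟩
    · rw [← c2]; exact Nat.mul_le_mul_left _ c4
    · refine hn (hgc U₁ le_rfl ((e.trans i3).trans inf_le_right) ?_)
      rw [le_cj_iff, cj_of_mem_N (hL1 (inv_mem hg))]; exact e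
  obtain ⟨-, k2, k3⟩ := key a ha haD
  obtain ⟨w, hw, hw'⟩ := SetLike.not_le_iff_exists.1 k3
  have k4 : D.relIndex A ≤ U₂.relIndex CA := by
    refine rel_le (fun b => ⁅b, w⁆⁻¹) (fun b hb => inv_mem (hqA b hb w hw)) fun b hb b' hb' e => ?_
    by_contra hD'
    have hm := mul_mem (inv_mem hb') hb
    refine hw' ((key _ hm fun e' => hD' (by simpa using inv_mem e')).1
      ⟨hw, (mem_centQ1 (hL2 (hA hm))).2 ⟨hU hw, ?_⟩⟩)
    convert conj_mem' (hL2 (hA hb')) e using 1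
    simp only [commutatorElement_def]; group
  refine k4.trans (Nat.le_of_mul_le_mul_left ?_ (Nat.mul_pos (card_pos (U₁ ⊓ centQ (zpowers a) U₂))
    (card_pos U₂)))
  have c1 := card_mul_relIndex (h2c A hA)
  have c2 := card_inf_mul_relIndex (centQ (zpowers a) U₂) U₁
  rw [inf_comm] at c2
  rw [mul_assoc, c1, mul_right_comm, c2]
  exact k2

/-- the section inequality -/
theorem secIneq {W₁ W₂ : Subgroup G} (h12 : W₂ ≤ W₁) (hab : ⁅W₁, W₁⁆ ≤ W₂) (h2 : P2 W₁)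
    (hL1 : L ≤ N[W₁]) (hL2 : L ≤ N[W₂]) (hn : ¬ Od2 L ≤ centQ W₁ W₂)
    (hA : A ≤ L) (hq : ∀ a ∈ A, ∀ b ∈ A, ∀ w ∈ W₁, ⁅b, ⁅a, w⁆⁆ ∈ W₂) (hD : D ⊴ L) (hD2 : P2 D)
    (hgen : ∀ a ∈ A, a ∉ D → ∃ g ∈ L, L ≤ zpowers a ⊔ cj g A ⊔ D) (ha : a ∈ A) (haD : a ∉ D) :
    D.relIndex A ≤ (centQ (zpowers a) W₂).relIndex W₁ := by
  obtain ⟨g, hg, ho, hn⟩ := exists_odd_not hn
  have hW := norm_of_der1_le hab h12
  obtain ⟨U₁, U₂, e1, e2, e3, e4, e5, e6, e7⟩ := exists_sect h12 hab h2 hL1 hL2 hg ho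
    fun e => hn ((mem_centQ hW).2 ⟨hL2 hg, e⟩)
  have hab' : ⁅U₁, U₁⁆ ≤ U₂ := (der1_mono e3).trans (hab.trans e1)
  have hU := norm_of_der1_le hab' e2
  refine (irr_ineq e2 hab' (h2.of_le e3) e4 e5 (fun e => e6 fun w hw => centQ_cm hU (e hg) hw) e7 hA
    (fun a ha b hb w hw => e1 (hq a ha b hb w (e3 hw))) hD hD2 hgen ha haD).trans
    (rel_le_of_inf e3 fun w hw => ?_)
  exact (mem_centQ1 (e5 (hA ha))).2 ⟨hU hw.2, e1 ((mem_centQ1 (hL2 (hA ha))).1 hw.1).2⟩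

end PU22
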