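import Mathlib
import Cfsg.Agent.H22.PU1
import Cfsg.Agent.H12.NGMb

/-!
# Pushing up, part 2: groups of transvection type and natural pairs
-/

set_option autoImplicit false
set_option linter.unusedSectionVars false

namespace PU22

open Subgroup Cfsg H24 H11.ZN H12.NG
open scoped commutatorElement

universe u

variable {G : Type u} [Group G] [Finite G] {V W H A A' B D E L X Y K Q T P N U S : Subgroup G}
  {a b c d e g h t v w x y z : G}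

theorem ea_cj (h : EA A) (g : G) : EA (cj g A) := H12.ea_map h _

theorem ea_inv (h : EA A) (ha : a ∈ A) : a⁻¹ = a := inv_eq_of_mul_eq_one_right (ea_sq h ha)

theorem cmV (hV : Abl V) (ha : a ∈ N[V]) (hv : v ∈ V) (hw : w ∈ V) :
    ⁅a, v * w⁆ = ⁅a, v⁆ * ⁅a, w⁆ := by
  rw [cm_mul', hV.comm hv (cm_mem ha hw), mul_inv_cancel_right]

theorem cmV_C (hw : w ∈ C{a}) : ⁅a, v * w⁆ = ⁅a, v⁆ := by
  rw [cm_mul', cm_eq_one.2 hw]; group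

theorem cmV_C' (hV : Abl V) (ha : a ∈ N[V]) (hv : v ∈ V) (hw : w ∈ V) (hc : w ∈ C{a}) :
    ⁅a, w * v⁆ = ⁅a, v⁆ := by
  rw [cmV hV ha hw hv, cm_eq_one.2 hc, one_mul]

theorem mem_cm1 (hV : Abl V) (ha : a ∈ N[V]) : x ∈ ⁅V, zpowers a⁆ ↔ ∃ w ∈ V, ⁅a, w⁆ = x :=
  mem_comm1 hV ha

theorem cm_mem_cm1 (hV : Abl V) (ha : a ∈ N[V]) (hv : v ∈ V) : ⁅a, v⁆ ∈ ⁅V, zpowers a⁆ :=
  (mem_cm1 hV ha).2 ⟨v, hv, rfl⟩

theorem conj_eq_cm (a v : G) : a * v * a⁻¹ = ⁅a, v⁆ * v := by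
  simp only [commutatorElement_def]; group

theorem card_rel (A B : Subgroup G) : ♯(A ⊓ B) * B.relIndex A = ♯A := by
  rw [inf_comm]; exact card_inf_mul_relIndex B A

/-- `A` acts on `V` like a full group of transvections -/
structure TI (V A : Subgroup G) : Prop where
  ea : EA V
  eA : EA A
  ne : A ≠ ⊥
  norm : A ≤ N[V]
  ca : ∀ a ∈ A, a ≠ 1 → V ⊓ C{a} ≤ C[A]
  qd : ∀ a ∈ A, ∀ v ∈ V, ⁅a, v⁆ ∈ C[A]
  ti : C[A].relIndex V = ♯A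

theorem TI.cj (h : TI V A) (hg : g ∈ N[V]) : TI V (cj g A) := by
  have e := cj_of_mem_N hg
  refine ⟨h.ea, ea_cj h.eA g, fun e => h.ne (cj_eq_bot.1 e), e ▸ norm_cj h.norm g, fun a ha h1 => ?_,
    fun a ha v hv => ?_, by rw [← cj_C, card_cj, ← h.ti, ← relIndex_cj g C[A] V, e]⟩
  · obtain ⟨b, hb, rfl⟩ := mem_cj'.1 ha
    rw [← cj_C, ← cj_C1, ← e, ← cj_inf]
    exact cj_mono g (h.ca b hb fun e => h1 (by simp [e]))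
  · rw [← cj_C, mem_cj]
    convert h.qd _ (mem_cj.1 ha) _ (conj_mem' hg hv) using 1
    simp only [commutatorElement_def]; group

theorem TI.abl (h : TI V A) : Abl V := h.ea.1

theorem TI.one_lt (h : TI V A) : 1 < ♯A := one_lt_card h.ne

theorem TI.nc (h : TI V A) : ¬ V ≤ C[A] := fun e => by
  have := h.one_lt
  rw [← h.ti, relIndex_eq_one.2 e] at this
  exact lt_irrefl _ this

theorem TI.mem_C (h : TI V A) (ha : a ∈ A) (h1 : a ≠ 1) (hv : v ∈ V) (e : ⁅a, v⁆ = 1) : v ∈ C[A] :=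
  h.ca a ha h1 ⟨hv, cm_eq_one.1 e⟩

theorem TI.eq_one (h : TI V A) (ha : a ∈ A) (hv : v ∈ V) (hc : v ∉ C[A]) (e : ⁅a, v⁆ = 1) : a = 1 := by
  by_contra h1; exact hc (h.mem_C ha h1 hv e)

theorem TI.cm_mul (h : TI V A) (ha : a ∈ A) (hb : b ∈ A) (hv : v ∈ V) :
    ⁅a * b, v⁆ = ⁅b, v⁆ * ⁅a, v⁆ := by
  rw [PU22.cm_mul, comm_of_cent (cents_symm le_rfl : A ≤ C[C[A]]) ha (h.qd b hb v hv)]; group

theorem TI.cm_div (h : TI V A) (ha : a ∈ A) (hb : b ∈ A) (hv : v ∈ V) :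
    ⁅a, v⁆⁻¹ * ⁅b, v⁆ = ⁅b * a⁻¹, v⁆ := by
  rw [inv_mul_eq_iff_eq_mul, ← h.cm_mul (mul_mem hb (inv_mem ha)) ha hv, inv_mul_cancel_right]

theorem TI.inj (h : TI V A) (ha : a ∈ A) (hb : b ∈ A) (hv : v ∈ V) (hc : v ∉ C[A])
    (e : ⁅a, v⁆ = ⁅b, v⁆) : a = b := by
  have := h.eq_one (mul_mem hb (inv_mem ha)) hv hc (by rw [← h.cm_div ha hb hv, e, inv_mul_cancel])
  exact (mul_inv_eq_one.1 this).symm

theorem TI.cm_mem (h : TI V A) (ha : a ∈ A) (hv : v ∈ V) : ⁅a, v⁆ ∈ V := PU22.cm_mem (h.norm ha) hv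

theorem TI.card (h : TI V A) : ♯(V ⊓ C[A]) * ♯A = ♯V := by rw [← h.ti, card_rel]

theorem TI.C1 (h : TI V A) (ha : a ∈ A) (h1 : a ≠ 1) : V ⊓ C{a} = V ⊓ C[A] :=
  le_antisymm (le_inf inf_le_left (h.ca a ha h1)) (inf_le_inf_left _ (C_le_C1 ha))

theorem TI.card_cm (h : TI V A) (ha : a ∈ A) (h1 : a ≠ 1) : ♯⁅V, zpowers a⁆ = ♯A := by
  have := card_comm1 h.ea.1 (h.norm ha)
  rw [h.C1 ha h1, ← h.card] at this
  exact Nat.eq_of_mul_eq_mul_left (card_pos _) this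

theorem TI.cm_le (h : TI V A) (ha : a ∈ A) : ⁅V, zpowers a⁆ ≤ V ⊓ C[A] := fun x hx => by
  obtain ⟨w, hw, rfl⟩ := (mem_cm1 h.ea.1 (h.norm ha)).1 hx
  exact ⟨h.cm_mem ha hw, h.qd a ha w hw⟩

theorem TI.exists_cm (h : TI V A) (ha : a ∈ A) (h1 : a ≠ 1) : ∃ v ∈ V, ⁅a, v⁆ ≠ 1 := by
  obtain ⟨v, hv, hc⟩ := SetLike.not_le_iff_exists.1 h.nc
  exact ⟨v, hv, fun e => hc (h.mem_C ha h1 hv e)⟩

theorem TI.exists_cmS (h : TI V A) (hv : v ∈ V) :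
    ∃ E, E ≤ V ∧ (∀ x, x ∈ E ↔ ∃ a ∈ A, ⁅a, v⁆ = x) ∧ ♯E ≤ ♯A := by
  let f : A →* G := MonoidHom.mk' (fun a => ⁅(a : G), v⁆) fun a b => by
    rw [Subgroup.coe_mul, h.cm_mul a.2 b.2 hv]
    exact h.abl.comm (h.cm_mem b.2 hv) (h.cm_mem a.2 hv)
  refine ⟨f.range, ?_, fun x => ⟨fun ⟨a, e⟩ => ⟨a, a.2, e⟩, fun ⟨a, ha, e⟩ => ⟨⟨a, ha⟩, e⟩⟩,
    Nat.card_le_card_of_surjective _ f.rangeRestrict_surjective⟩
  rintro _ ⟨a, rfl⟩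
  exact h.cm_mem a.2 hv

/-- a 2-element normalising `A` and centralising `[V, A]` centralises `A` -/
theorem TI.cent_of (h : TI V A) (hg : PiElt {2} g) (h1 : g ∈ N[V]) (h2 : g ∈ N[A])
    (hc : ∀ a ∈ A, ∀ v ∈ V, ⁅a, v⁆ ∈ C{g}) : g ∈ C[A] := by
  obtain ⟨v, hv, hv1, hv2⟩ := exists_fix_mod (Z := V ⊓ C[A]) hg.isPi (ea_pi h.ea) (zpowers_le.2 h1)
    (zpowers_le.2 (norm_inf (zpowers_le.2 h1) (norm_C (zpowers_le.2 h2)) (mem_zpowers g)))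
    (h.abl.norm le_rfl inf_le_left) fun e => h.nc (e.trans inf_le_right)
  refine mem_C'.2 fun a ha => ?_
  rw [← mul_inv_eq_iff_eq_mul]
  refine h.inj (conj_mem h2 ha) ha hv (fun e => hv1 ⟨hv, e⟩) ?_
  have e1 := mem_C1_iff_conj.1 (mem_C1_comm.1 (hc a ha v hv))
  have e2 := hv2 g (mem_zpowers g)
  rw [cm_conj, conj_eq_cm g v, cmV_C' h.ea.1 (h.norm (conj_mem h2 ha)) hv e2.1
    (C_le_C1 (conj_mem h2 ha) e2.2)] at e1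
  exact e1

/-- a natural pair -/
structure Nt (V A A' : Subgroup G) : Prop where
  l : TI V A
  r : TI V A'
  card : ♯A = ♯A'
  tl : ∀ a ∈ A, ∀ v ∈ V, ⁅a, v⁆ ∈ C[A'] → ⁅a, v⁆ = 1
  tr : ∀ a ∈ A', ∀ v ∈ V, ⁅a, v⁆ ∈ C[A] → ⁅a, v⁆ = 1

theorem Nt.symm (h : Nt V A A') : Nt V A' A := ⟨h.r, h.l, h.card.symm, h.tr, h.tl⟩

theorem Nt.cj (h : Nt V A A') (hg : g ∈ N[V]) : Nt V (cj g A) (cj g A') := by
  have k : ∀ {A A' : Subgroup G}, (∀ a ∈ A, ∀ v ∈ V, ⁅a, v⁆ ∈ C[A'] → ⁅a, v⁆ = 1) →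
      ∀ a ∈ H24.cj g A, ∀ v ∈ V, ⁅a, v⁆ ∈ C[H24.cj g A'] → ⁅a, v⁆ = 1 := fun h a ha v hv e => by
    rw [← cj_C, mem_cj] at e
    have e1 : g⁻¹ * ⁅a, v⁆ * g = ⁅g⁻¹ * a * g, g⁻¹ * v * g⁆ := by simp only [commutatorElement_def]; group
    have := h _ (mem_cj.1 ha) _ (conj_mem' hg hv) (e1 ▸ e)
    rw [← e1] at this
    simpa [mul_assoc, inv_mul_eq_one] using this
  exact ⟨h.l.cj hg, h.r.cj hg, by rw [card_cj, card_cj, h.card], k h.tl, k h.tr⟩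

theorem Nt.mem_C (h : Nt V A A') (ha : a ∈ A) (h1 : a ≠ 1) (hv : v ∈ V) (e : ⁅a, v⁆ ∈ C[A']) :
    v ∈ C[A] := h.l.mem_C ha h1 hv (h.tl a ha v hv e)

theorem Nt.prod (h : Nt V A A') (he : e ∈ V) (hc : e ∉ C[A]) (hS : S ≤ V)
    (hs : ∀ a ∈ A, ⁅a, e⁆ ∈ S) : IsProd S (V ⊓ C[A']) V := by
  refine prod_of_rel hS inf_le_left ?_
  rw [inf_relIndex_left, h.r.ti, ← h.card]
  refine card_le_rel (fun a => ⁅a, e⁆) hs fun a ha b hb e1 => ?_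
  rw [h.l.cm_div ha hb he] at e1
  have hm := mul_mem hb (inv_mem ha)
  exact (mul_inv_eq_one.1 (h.l.eq_one hm he hc (h.tl _ hm e he e1.2))).symm

theorem Nt.irr0 (h : Nt V A A') (hE : E ≤ V) (h1 : A ≤ N[E]) (he : e ∈ E) (hc : e ∉ C[A]) :
    V ⊓ C[A] ≤ E ⊔ V ⊓ C[A ⊔ A'] ∧ V ≤ V ⊓ C[A] ⊔ V ⊓ C[A'] := by
  have hp := h.prod (S := E ⊓ C[A]) (hE he) hc (inf_le_left.trans hE) fun a ha =>
    ⟨cm_mem (h1 ha) he, h.l.qd a ha e (hE he)⟩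
  refine ⟨fun v hv => ?_, hp.sup_eq.ge.trans (sup_le_sup_right (inf_le_inf_right _ hE) _)⟩
  obtain ⟨s, hs, c, hc, rfl⟩ := hp.mul v hv.1
  refine mul_mem (mem_sup_left hs.1) (mem_sup_right ⟨hc.1, ?_⟩)
  rw [C_sup]
  exact ⟨(C[A].mul_mem_cancel_left hs.2).1 hv.2, hc.2⟩

theorem Nt.irr1 (h : Nt V A A') (hE : E ≤ V) (h1 : A ≤ N[E]) (h2 : A' ≤ N[E]) (he : e ∈ E)
    (hc : e ∉ C[A]) : V ≤ E ⊔ V ⊓ C[A ⊔ A'] := by
  obtain ⟨a, ha, a1⟩ := exists_ne_one h.l.ne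
  obtain ⟨k1, k2⟩ := h.irr0 hE h1 he hc
  have := (h.symm.irr0 hE h2 (cm_mem (h1 ha) he) fun e' => hc (h.mem_C ha a1 (hE he) e')).1
  rw [sup_comm A'] at this
  exact k2.trans (sup_le k1 this)

theorem Nt.irr (h : Nt V A A') (hE : E ≤ V) (h1 : A ⊔ A' ≤ N[E]) (hc : ¬ E ≤ C[A ⊔ A']) :
    IsProd E (V ⊓ C[A ⊔ A']) V := by
  have : V ≤ E ⊔ V ⊓ C[A ⊔ A'] := by
    obtain ⟨e, he, hc⟩ := SetLike.not_le_iff_exists.1 hc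
    by_cases e1 : e ∈ C[A]
    · rw [sup_comm A]
      exact h.symm.irr1 hE (le_sup_right.trans h1) (le_sup_left.trans h1) he fun e2 =>
        hc (by rw [C_sup]; exact ⟨e1, e2⟩)
    · exact h.irr1 hE (le_sup_left.trans h1) (le_sup_right.trans h1) he e1
  have hp := isProd_sup (A := E) (B := V ⊓ C[A ⊔ A']) (h.l.abl.norm inf_le_left hE)
  rwa [le_antisymm (sup_le hE inf_le_left) this] at hp

theorem Nt.normV (h : Nt V A A') : A ⊔ A' ≤ N[V] := sup_le h.l.norm h.r.norm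

theorem Nt.prodC (h : Nt V A A') : IsProd (V ⊓ C[A]) (V ⊓ C[A']) V := by
  obtain ⟨e, he, hc⟩ := SetLike.not_le_iff_exists.1 h.l.nc
  exact h.prod he hc inf_le_left fun a ha => ⟨h.l.cm_mem ha he, h.l.qd a ha e he⟩

theorem Nt.card_Z (h : Nt V A A') : ♯(V ⊓ C[A ⊔ A']) * (♯A * ♯A) = ♯V := by
  have h1 := h.prodC.card
  have h2 := h.l.card
  have h3 := h.r.card
  rw [← inf_inf_distrib_left, ← C_sup] at h1
  rw [← h.card] at h3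
  refine Nat.eq_of_mul_eq_mul_left (card_pos V) ?_
  rw [← mul_assoc, h1]
  calc _ = (♯(V ⊓ C[A]) * ♯A) * (♯(V ⊓ C[A']) * ♯A) := by ring
    _ = _ := by rw [h2, h3]

/-- `⟨A, a'⟩` is not a 2-group -/
theorem Nt.not_two (h : Nt V A A') (ha : a ∈ A') (h1 : a ≠ 1) (hP : P2 P) (hN : P ≤ A ⊔ A')
    (hA : A ≤ P) (haP : a ∈ P) : False := by
  obtain ⟨v, hv, hv1, hv2⟩ := exists_fix_mod (Z := V ⊓ C[A ⊔ A']) hP (ea_pi h.l.ea) (hN.trans h.normV)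
    (hN.trans (norm_inf h.normV (norm_C (norm_self _)))) (h.l.abl.norm le_rfl inf_le_left)
    fun e => h.l.nc (e.trans (inf_le_right.trans (C_anti le_sup_left)))
  refine hv1 ⟨hv, ?_⟩
  rw [C_sup]
  exact ⟨mem_C_of_cm fun b hb => h.tl b hb v hv (C_anti le_sup_right (hv2 b (hA hb)).2),
    h.symm.mem_C ha h1 hv (C_anti le_sup_left (hv2 a haP).2)⟩

theorem Nt.exists_conj (h : Nt V A A') (hv : v ∈ V) (hc : v ∉ C[A]) :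
    ∃ b ∈ A, b * v * b⁻¹ ∈ C[A'] := by
  obtain ⟨E, hE, hm, -⟩ := h.l.exists_cmS hv
  obtain ⟨s, hs, c, hc, e⟩ := (h.prod hv hc hE fun a ha => (hm _).2 ⟨a, ha, rfl⟩).mul v hv
  obtain ⟨b, hb, e1⟩ := (hm s).1 hs
  refine ⟨b, hb, ?_⟩
  rw [conj_eq_cm, e1, e, ← mul_assoc, ea_sq h.l.ea (hE hs), one_mul]
  exact hc.2

/-- the stabiliser of the chain `V ≥ W ≥ 1` -/
def AS (H V W : Subgroup G) : Subgroup G := H ⊓ C[W] ⊓ centQ V W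

theorem mem_AS (hV : Abl V) (hW : W ≤ V) :
    g ∈ AS H V W ↔ g ∈ H ∧ g ∈ C[W] ∧ ∀ v ∈ V, ⁅g, v⁆ ∈ W := by
  rw [AS, mem_inf, mem_inf, mem_centQ (hV.norm le_rfl hW), and_assoc]
  exact ⟨fun h => ⟨h.1, h.2.1, h.2.2.2⟩, fun h => ⟨h.1, h.2.1, C_le_N _ h.2.1, h.2.2⟩⟩

theorem norm_AS (h1 : X ≤ N[H]) (h2 : X ≤ N[V]) (h3 : X ≤ N[W]) : X ≤ N[AS H V W] :=
  norm_inf (norm_inf h1 (norm_C h3)) (norm_centQ h2 h3)

theorem ea_AS (hV : EA V) (hW : W ≤ V) (fa : H ⊓ C[V] = ⊥) : EA (AS H V W) := by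
  refine ea_of_sq fun g hg => ?_
  obtain ⟨h1, h2, h3⟩ := (mem_AS hV.1 hW).1 hg
  rw [← mem_bot, ← fa]
  refine ⟨mul_mem h1 h1, mem_C_of_cm fun v hv => ?_⟩
  rw [← commutatorElement_inv, cm_mul, conj_eq_of_mem_C h2 (h3 v hv), ea_sq hV (hW (h3 v hv)), inv_one]

/-- no over-offenders -/
def NO (V H : Subgroup G) : Prop := ∀ E, E ≤ H → EA E → ♯E ≤ C[E].relIndex V

theorem NO.card_AS (h : NO V H) (hV : EA V) (hW : W ≤ V) (fa : H ⊓ C[V] = ⊥) :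
    ♯(AS H V W) ≤ W.relIndex V :=
  (h _ (inf_le_left.trans inf_le_left) (ea_AS hV hW fa)).trans
    (rel_anti_left (cents_symm (inf_le_left.trans inf_le_right)))

theorem NO.AS_eq (h : NO V H) (fa : H ⊓ C[V] = ⊥) (hA : TI V A) (hAH : A ≤ H) :
    AS H V (V ⊓ C[A]) = A := by
  refine (eq_of_card_ge (fun a ha => (mem_AS hA.ea.1 inf_le_left).2 ⟨hAH ha, cents_symm inf_le_right ha,
    fun v hv => ⟨hA.cm_mem ha hv, hA.qd a ha v hv⟩⟩) ?_).symm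
  have := h.card_AS (W := V ⊓ C[A]) hA.ea inf_le_left fa
  rwa [inf_relIndex_left, hA.ti] at this

theorem NO.norm (h : NO V H) (fa : H ⊓ C[V] = ⊥) (hA : TI V A) (hAH : A ≤ H) (hX : X ≤ H)
    (hH : H ≤ N[V]) (hc : ∀ x ∈ X, ∀ v ∈ V, ⁅x, v⁆ ∈ C[A]) : X ≤ N[A] := by
  rw [← h.AS_eq fa hA hAH]
  exact norm_AS (norm_of_le hX) (hX.trans hH) (le_N_of_cm fun x hx v hv =>
    ⟨cm_mem (hH (hX hx)) hv.1, hc x hx v hv.1⟩)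

end PU22
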