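import Mathlib
import Cfsg.Agent.H22.PU2

/-!
# Pushing up, part 7: the amalgam argument, critical distance
-/

set_option autoImplicit false
set_option linter.unusedSectionVars false

namespace PU22

open Subgroup Cfsg H24 H11.ZN H12.NG
open scoped commutatorElement

universe u

variable {G : Type u} [Group G] [Finite G] {P Q Z S X Y s s' s₁ s₂ : Subgroup G}
  {a a' b b' c d e g h t v w x y z : G} {j k m : ℕ}

/-- local data at a vertex and an edge -/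
structure Loc (P Q Z S : Subgroup G) : Prop where
  SP : S ≤ P
  two : P2 S
  QS : Q ≤ S
  nQ : P ≤ N[Q]
  nZ : P ≤ N[Z]
  ZQ : Z ≤ Q
  QC : Q ≤ C[Z]
  sq : ∀ z ∈ Z, z * z = 1
  oz : OZ S ≤ Z
  a1 : ∀ a ∈ S, a ∉ Q → ∀ z ∈ Z, ⁅a, z⁆ ∈ C[P] → z ∈ OZ S
  a2 : ∀ a ∈ S, ∀ z ∈ Z, ⁅a, z⁆ ∈ OZ S
  a3 : (OZ S).relIndex Z = Q.relIndex S
  ne : ¬ S ≤ Q
  gen : ∃ x ∈ P, P ≤ S ⊔ cj x S

theorem cm_conj' (g a v : G) : g⁻¹ * ⁅a, v⁆ * g = ⁅g⁻¹ * a * g, g⁻¹ * v * g⁆ := by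
  simp only [commutatorElement_def]; group

theorem Loc.cj (h : Loc P Q Z S) (g : G) : Loc (cj g P) (cj g Q) (cj g Z) (cj g S) := by
  refine ⟨cj_mono g h.SP, h.two.cj g, cj_mono g h.QS, norm_cj h.nQ g, norm_cj h.nZ g, cj_mono g h.ZQ,
    cent_cj h.QC g, fun z hz => ?_, OZ_cj g S ▸ cj_mono g h.oz, fun a ha hq z hz e => ?_,
    fun a ha z hz => ?_, by rw [OZ_cj, relIndex_cj, relIndex_cj, h.a3], fun e => h.ne (cj_le_cj.1 e), ?_⟩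
  · obtain ⟨y, hy, rfl⟩ := mem_cj'.1 hz
    calc _ = g * (y * y) * g⁻¹ := by group
      _ = 1 := by rw [h.sq y hy]; group
  · rw [← cj_C, mem_cj, cm_conj'] at e
    rw [OZ_cj, mem_cj]
    exact h.a1 _ (mem_cj.1 ha) (fun e => hq (mem_cj.2 e)) _ (mem_cj.1 hz) e
  · rw [OZ_cj, mem_cj, cm_conj']; exact h.a2 _ (mem_cj.1 ha) _ (mem_cj.1 hz)
  · obtain ⟨x, hx, e⟩ := h.gen
    refine ⟨_, conj_mem_cj g hx, ?_⟩
    rw [← cj_mul, inv_mul_cancel_right, cj_mul, ← cj_sup]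
    exact cj_mono g e

theorem Loc.ZS (h : Loc P Q Z S) : Z ≤ S := h.ZQ.trans h.QS
theorem Loc.SZ (h : Loc P Q Z S) : S ≤ N[Z] := h.SP.trans h.nZ
theorem Loc.SQ (h : Loc P Q Z S) : S ≤ N[Q] := h.SP.trans h.nQ

theorem Loc.nZ' (h : Loc P Q Z S) : ¬ Z ≤ OZ S := fun e =>
  h.ne (relIndex_eq_one.1 (h.a3 ▸ relIndex_eq_one.2 e))

theorem Loc.a0 (h : Loc P Q Z S) (ha : a ∈ S) (hq : a ∉ Q) (hz : z ∈ Z) (e : ⁅a, z⁆ = 1) : z ∈ OZ S :=
  h.a1 a ha hq z hz (e ▸ one_mem _)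

theorem Loc.mem_OZ (h : Loc P Q Z S) (hz : z ∈ Z) (e : z ∈ C[S]) : z ∈ OZ S :=
  H11.ZN.mem_OZ.2 ⟨h.ZS hz, e, by rw [pow_two, h.sq z hz]⟩

/-- the vertex `g` is incident with the edge `s` -/
def Inc (P S : Subgroup G) (g : G) (s : Subgroup G) : Prop := ∃ p ∈ P, s = cj (g * p) S

theorem cj_mul_of (hX : P ≤ N[X]) (hp : x ∈ P) (g : G) : cj (g * x) X = cj g X := by
  rw [cj_mul, cj_of_mem_N (hX hp)]

theorem cj_vert (hX : P ≤ N[X]) (hx : x ∈ cj a P) : cj (x * a) X = cj a X := by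
  rw [show x * a = a * (a⁻¹ * x * a) by group, cj_mul_of hX (mem_cj.1 hx)]

theorem Loc.inc (h : Loc P Q Z S) (hi : Inc P S a s) : Loc (H24.cj a P) (H24.cj a Q) (H24.cj a Z) s := by
  obtain ⟨p, hp, rfl⟩ := hi
  have := h.cj (a * p)
  rwa [cj_mul_of (norm_self P) hp, cj_mul_of h.nQ hp, cj_mul_of h.nZ hp] at this

theorem Loc.idx (h : Loc P Q Z S) (hi : Inc P S a s) : (H24.cj a Q).relIndex s = Q.relIndex S := by
  obtain ⟨p, hp, rfl⟩ := hi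
  rw [← cj_mul_of h.nQ hp, relIndex_cj]

theorem Inc.mul (h : Inc P S a s) (g : G) : Inc P S (g * a) (cj g s) := by
  obtain ⟨p, hp, rfl⟩ := h
  exact ⟨p, hp, by rw [← cj_mul, mul_assoc]⟩

theorem Inc.vert (h : Inc P S (x * a) s) (hx : x ∈ cj a P) : Inc P S a s := by
  obtain ⟨p, hp, rfl⟩ := h
  exact ⟨_, mul_mem (mem_cj.1 hx) hp, by congr 1; group⟩

theorem Inc.cj (h : Inc P S a s) (hx : x ∈ cj a P) : Inc P S a (cj x s) := (h.mul x).vert hx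

theorem Inc.self (P S : Subgroup G) (a : G) : Inc P S a (H24.cj a S) := ⟨1, one_mem _, by rw [mul_one]⟩

theorem Inc.trans (h : Inc P S a s) (h' : Inc P S a s') : ∃ x ∈ H24.cj a P, s' = H24.cj x s := by
  obtain ⟨p, hp, rfl⟩ := h
  obtain ⟨q, hq, rfl⟩ := h'
  exact ⟨_, conj_mem_cj a (mul_mem hq (inv_mem hp)), by rw [← cj_mul]; congr 1; group⟩

theorem Loc.good (h : Loc P Q Z S) (h1 : Inc P S a s) (h2 : Inc P S a s') :
    ∃ x ∈ H24.cj a P, H24.cj a P ≤ H24.cj x s ⊔ s' := by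
  obtain ⟨x, hx, e⟩ := (h.inc h2).gen
  obtain ⟨y, hy, rfl⟩ := h1.trans h2
  exact ⟨x * y, mul_mem hx hy, by rwa [cj_mul, sup_comm]⟩

def Adj (P S : Subgroup G) (a b : G) : Prop := ∃ s, Inc P S a s ∧ Inc P S b s

def Dist (P S : Subgroup G) : ℕ → G → G → Prop
  | 0, a, b => a = b
  | k + 1, a, c => ∃ b, Dist P S k a b ∧ Adj P S b c

theorem Adj.symm (h : Adj P S a b) : Adj P S b a := h.imp fun _ e => e.symm
theorem Adj.refl (P S : Subgroup G) (a : G) : Adj P S a a := ⟨_, Inc.self P S a, Inc.self P S a⟩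

theorem Dist.cons (h : Adj P S a b) (h' : Dist P S k b c) : Dist P S (k + 1) a c := by
  induction k generalizing c with
  | zero => exact ⟨a, rfl, h' ▸ h⟩
  | succ k ih => obtain ⟨d, h1, h2⟩ := h'; exact ⟨d, ih h1, h2⟩

theorem Dist.symm (h : Dist P S k a b) : Dist P S k b a := by
  induction k generalizing b with
  | zero => exact Eq.symm h
  | succ k ih => obtain ⟨d, h1, h2⟩ := h; exact Dist.cons h2.symm (ih h1)

theorem Dist.uncons (h : Dist P S (k + 1) a c) : ∃ b, Adj P S a b ∧ Dist P S k b c := by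
  obtain ⟨b, h1, h2⟩ := h.symm; exact ⟨b, h2.symm, h1.symm⟩

theorem Dist.trans (h : Dist P S j a b) (h' : Dist P S k b c) : Dist P S (j + k) a c := by
  induction k generalizing c with
  | zero => exact h' ▸ h
  | succ k ih => obtain ⟨d, h1, h2⟩ := h'; exact ⟨d, ih h1, h2⟩

theorem Dist.refl (P S : Subgroup G) (k : ℕ) (a : G) : Dist P S k a a := by
  induction k with
  | zero => rfl
  | succ k ih => exact ⟨a, ih, Adj.refl P S a⟩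

theorem Dist.mul (h : Dist P S k a b) (g : G) : Dist P S k (g * a) (g * b) := by
  induction k generalizing b with
  | zero => exact congrArg _ h
  | succ k ih => obtain ⟨d, h1, s, h2, h3⟩ := h; exact ⟨_, ih h1, _, h2.mul g, h3.mul g⟩

theorem Adj.dist (h : Adj P S a b) (k : ℕ) : Dist P S (k + 1) a b := ⟨a, Dist.refl P S k a, h⟩

/-- the amalgam with critical distance `m + 1` -/
structure AM (P Q Z S : Subgroup G) (m : ℕ) : Prop where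
  loc : Loc P Q Z S
  nn : ∀ Y, Y ≤ S → P ≤ N[Y] → N[S] ≤ N[Y] → Y = ⊥
  min : ∀ a b, Dist P S m a b → cj a Z ≤ cj b Q
  ex : ∃ a b, Dist P S (m + 1) a b ∧ ¬ cj a Z ≤ cj b Q

theorem exists_AM (h : Loc P Q Z S) (nn : ∀ Y, Y ≤ S → P ≤ N[Y] → N[S] ≤ N[Y] → Y = ⊥) :
    ∃ m, AM P Q Z S m := by
  classical
  have ex : ∃ n, ∃ a b, Dist P S n a b ∧ ¬ cj a Z ≤ cj b Q := by
    by_contra e
    push Not at e
    have k : ∀ g, (∀ n a, Dist P S n a 1 → ∃ n, Dist P S n (g * a) 1) →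
        g ∈ N[sSup {W | ∃ n a, Dist P S n a 1 ∧ W = cj a Z}] := fun g hg =>
      mem_N_of_cj_le (cj_le_iff.2 (sSup_le fun W ⟨n, a, h1, h2⟩ => cj_le_iff.1 (by
        obtain ⟨n', h3⟩ := hg n a h1
        exact le_sSup ⟨n', g * a, h3, by rw [h2, cj_mul]⟩)))
    have := nn (sSup {W | ∃ n a, Dist P S n a 1 ∧ W = cj a Z})
      (sSup_le fun W ⟨n, a, h1, h2⟩ => h2 ▸ (e n a 1 h1).trans ((cj_one Q).le.trans h.QS))
      (fun g hg => k g fun n a h1 => ⟨n + 1, _, h1.mul g, S,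
        ⟨g⁻¹, inv_mem hg, by simp [cj_one]⟩, ⟨1, one_mem _, by simp [cj_one]⟩⟩)
      fun g hg => k g fun n a h1 => ⟨n + 1, _, h1.mul g, S,
        ⟨1, one_mem _, by simp [cj_of_mem_N hg]⟩, ⟨1, one_mem _, by simp [cj_one]⟩⟩
    have z1 : Z ≤ sSup {W | ∃ n a, Dist P S n a 1 ∧ W = cj a Z} := le_sSup ⟨0, 1, rfl, (cj_one Z).symm⟩
    exact h.nZ' (z1.trans (this.le.trans bot_le))
  have h0 : Nat.find ex ≠ 0 := fun e => by
    obtain ⟨a, b, h1, h2⟩ := Nat.find_spec ex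
    rw [e] at h1
    exact h2 (h1 ▸ cj_mono a h.ZQ)
  obtain ⟨m, e⟩ := Nat.exists_eq_succ_of_ne_zero h0
  refine ⟨m, h, nn, fun a b h1 => ?_, by simpa [e] using Nat.find_spec ex⟩
  by_contra h2
  exact Nat.find_min ex (m := m) (by omega) ⟨a, b, h1, h2⟩

/-- critical pair -/
def Cr (P Q Z S : Subgroup G) (m : ℕ) (a c : G) : Prop :=
  Dist P S (m + 1) a c ∧ ¬ cj a Z ≤ cj c Q

theorem Cr.mul (h : Cr P Q Z S m a c) (g : G) : Cr P Q Z S m (g * a) (g * c) :=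
  ⟨h.1.mul g, fun e => h.2 (by rwa [cj_mul, cj_mul, cj_le_cj] at e)⟩

theorem AM.Zs (h : AM P Q Z S m) (h1 : Dist P S m a b) (h2 : Inc P S b s) : cj a Z ≤ s :=
  (h.min a b h1).trans (h.loc.inc h2).QS

theorem AM.facts (h : AM P Q Z S m) (hc : Cr P Q Z S m a c) (i1 : Inc P S a s₁) (i2 : Inc P S b s₁)
    (d1 : Dist P S m b c) (d2 : Dist P S m a b') (i3 : Inc P S b' s₂) (i4 : Inc P S c s₂) :
    ¬ cj a Z ≤ C[cj c Z] ∧ cj a Z ⊓ cj c Q ≤ OZ s₁ ∧ IsProd (cj a Z) (cj c Q) s₂ := by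
  have l1 := h.loc.inc i1
  have l2 := h.loc.inc i4
  have z1 := h.Zs d1.symm i2
  have z2 := h.Zs d2 i3
  obtain ⟨x, hx, nx⟩ := SetLike.not_le_iff_exists.1 hc.2
  obtain ⟨y, hy, ny⟩ := SetLike.not_le_iff_exists.1 l2.nZ'
  have e1 : ⁅x, y⁆ ≠ 1 := fun e => ny (l2.a0 (z2 hx) nx hy e)
  have e2 : y ∉ cj a Q := fun e => e1 (cm_one_of_C (l1.QC e) hx)
  have e3 : cj a Z ⊓ cj c Q ≤ OZ s₁ := fun z hz => l1.a0 (z1 hy) e2 hz.1 (cm_one_of_C (l2.QC hz.2) hy)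
  refine ⟨fun e => e1 (cm_one_of_C' (e hx) hy), e3, prod_of_rel z2 l2.QS ?_⟩
  rw [h.loc.idx i4, ← h.loc.idx i1, ← l1.a3]
  exact rel_le_of_inf le_rfl fun z hz => e3 ⟨hz.2, hz.1⟩

theorem AM.nc (h : AM P Q Z S m) (hc : Cr P Q Z S m a c) : ¬ cj a Z ≤ C[cj c Z] := by
  obtain ⟨b, ⟨s₁, i1, i2⟩, d1⟩ := hc.1.uncons
  obtain ⟨b', d2, s₂, i3, i4⟩ := hc.1
  exact (h.facts hc i1 i2 d1 d2 i3 i4).1

theorem AM.symm (h : AM P Q Z S m) (hc : Cr P Q Z S m a c) : Cr P Q Z S m c a :=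
  ⟨hc.1.symm, fun e => h.nc hc (cents_symm (e.trans (cent_cj h.loc.QC a)))⟩

theorem AM.last (h : AM P Q Z S m) (hc : Cr P Q Z S m a c) (d2 : Dist P S m a b) (i3 : Inc P S b s)
    (i4 : Inc P S c s) : IsProd (cj a Z) (cj c Q) s := by
  obtain ⟨b, ⟨s₁, i1, i2⟩, d1⟩ := hc.1.uncons
  exact (h.facts hc i1 i2 d1 d2 i3 i4).2.2

theorem AM.first (h : AM P Q Z S m) (hc : Cr P Q Z S m a c) (i1 : Inc P S a s) (i2 : Inc P S b s)
    (d1 : Dist P S m b c) : IsProd (cj c Z) (cj a Q) s := h.last (h.symm hc) d1.symm i2 i1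

theorem AM.inf (h : AM P Q Z S m) (hc : Cr P Q Z S m a c) (i1 : Inc P S a s) (i2 : Inc P S b s)
    (d1 : Dist P S m b c) : cj a Z ⊓ cj c Q ≤ OZ s := by
  obtain ⟨b', d2, s₂, i3, i4⟩ := hc.1
  exact (h.facts hc i1 i2 d1 d2 i3 i4).2.1

theorem AM.norm (h : AM P Q Z S m) (hc : Cr P Q Z S m a c) : cj a Z ≤ N[cj c Z] := by
  obtain ⟨b', d2, s₂, i3, i4⟩ := hc.1
  exact (h.Zs d2 i3).trans (h.loc.inc i4).SZ

theorem AM.cm (h : AM P Q Z S m) (hc : Cr P Q Z S m a c) (hp : IsProd (cj c Z) (cj a Q) s) (hx : x ∈ s)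
    (hz : z ∈ cj a Z) : ⁅x, z⁆ ∈ cj c Z := by
  obtain ⟨y, hy, q, hq, rfl⟩ := hp.mul x hx
  rw [cm_mul, cm_one_of_C' (cent_cj h.loc.QC a hq) hz, mul_one, mul_inv_cancel, one_mul]
  exact cm_mem' hy (h.norm hc hz)

theorem AM.exists_cr0 (h : AM P Q Z S m) (a : G) : ∃ c, Cr P Q Z S m a c := by
  obtain ⟨a₀, c, e⟩ := h.ex
  have := Cr.mul e (a * a₀⁻¹)
  rw [inv_mul_cancel_right] at this
  exact ⟨_, this⟩

theorem AM.exists_cr (h : AM P Q Z S m) (hi : Inc P S a s) :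
    ∃ c, Cr P Q Z S m a c ∧ cj a P ≤ s ⊔ cj c Z := by
  obtain ⟨c, hc⟩ := h.exists_cr0 a
  obtain ⟨b, ⟨s₁, i1, i2⟩, d1⟩ := hc.1.uncons
  obtain ⟨x, hx, e⟩ := h.loc.good i1 hi
  refine ⟨x * c, ⟨Dist.cons ⟨_, i1.cj hx, i2.mul x⟩ (d1.mul x), ?_⟩, e.trans (sup_le ?_ le_sup_left)⟩
  · rw [← cj_vert h.loc.nZ hx]; exact (hc.mul x).2
  · rw [← (h.first hc i1 i2 d1).sup_eq, cj_sup, ← cj_mul, ← cj_mul, cj_vert h.loc.nQ hx]
    exact sup_le le_sup_right ((h.loc.inc hi).QS.trans le_sup_left)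

/-- `Z_d Z_a` is not normal in `G_a` -/
def Imp (P Z : Subgroup G) (d a : G) : Prop := ¬ cj a P ≤ N[cj d Z ⊔ cj a Z]

theorem Imp.mul (h : Imp P Z d a) (g : G) : Imp P Z (g * d) (g * a) := fun e => h (by
  rwa [cj_mul, cj_mul, cj_mul, ← cj_sup, ← cj_N, cj_le_cj] at e)

theorem Imp.vert (hZ : P ≤ N[Z]) (h : Imp P Z d a) (hx : x ∈ cj a P) : Imp P Z (x * d) a := by
  have := h.mul x
  rwa [Imp, cj_vert (norm_self P) hx, cj_vert hZ hx] at this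

theorem AM.exists_imp (h : AM P Q Z S m) (a : G) : ∃ d s, Inc P S d s ∧ Inc P S a s ∧ Imp P Z d a := by
  by_contra e
  have e' : ∀ d, Inc P S d S → P ≤ N[cj d Z ⊔ Z] := fun d hd => by
    by_contra e'
    refine e ⟨a * d, _, hd.mul a, Inc.self P S a, ?_⟩
    have : Imp P Z d 1 := by rwa [Imp, cj_one, cj_one]
    simpa using this.mul a
  have i1 : Inc P S 1 S := ⟨1, one_mem _, by simp [cj_one]⟩
  have z1 : Z ≤ sSup {W | ∃ d, Inc P S d S ∧ W = cj d Z} := le_sSup ⟨1, i1, (cj_one Z).symm⟩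
  have := h.nn (sSup {W | ∃ d, Inc P S d S ∧ W = cj d Z})
    (sSup_le fun W ⟨d, h1, h2⟩ => h2 ▸ (h.loc.inc h1).ZS)
    (fun g hg => mem_N_of_cj_le (cj_le_iff.2 (sSup_le fun W ⟨d, h1, h2⟩ => cj_le_iff.1
      ((cj_le_of_mem_N (h2.le.trans le_sup_left) (e' d h1 hg)).trans (sup_le (le_sSup ⟨d, h1, rfl⟩) z1)))))
    fun g hg => mem_N_of_cj_le (cj_le_iff.2 (sSup_le fun W ⟨d, h1, h2⟩ => cj_le_iff.1
      (le_sSup ⟨g * d, by have := h1.mul g; rwa [cj_of_mem_N hg] at this, by rw [h2, cj_mul]⟩)))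
  exact h.loc.nZ' (z1.trans (this.le.trans bot_le))

theorem AM.good (h : AM P Q Z S m) (hc : Cr P Q Z S m a c) (i1 : Inc P S a s) :
    ∃ x ∈ cj a P, cj a P ≤ cj x s ⊔ cj c Z := by
  obtain ⟨b, ⟨s₁, i3, i4⟩, d1⟩ := hc.1.uncons
  obtain ⟨x, hx, e⟩ := h.loc.good i1 i3
  refine ⟨x, hx, e.trans (sup_le le_sup_left ?_)⟩
  rw [← (h.first hc i3 i4 d1).sup_eq]
  exact sup_le le_sup_right ((h.loc.inc (i1.cj hx)).QS.trans le_sup_left)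

theorem AM.shift (h : AM P Q Z S m) (hc : Cr P Q Z S m a c) (d2 : Dist P S m a b) (ad : Adj P S b c)
    (i1 : Inc P S d s) (i2 : Inc P S a s) (hg : cj a P ≤ s ⊔ cj c Z) (hi : Imp P Z d a) :
    Cr P Q Z S m d b := by
  obtain ⟨s₂, i3, i4⟩ := ad
  refine ⟨Dist.cons ⟨s, i1, i2⟩ d2, fun e => hi (hg.trans (sup_le
    (norm_sup (h.loc.inc i1).SZ (h.loc.inc i2).SZ) fun y hy => mem_N_of_cj_le ?_))⟩
  have n := h.norm (h.symm hc) hy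
  rw [cj_sup, cj_of_mem_N n]
  refine sup_le (fun x' hx' => ?_) le_sup_right
  obtain ⟨x, hx, rfl⟩ := mem_cj'.1 hx'
  rw [conj_eq_cm]
  refine mul_mem (mem_sup_right (cm_swap ?_)) (mem_sup_left hx)
  exact h.cm (h.symm hc) (h.last hc d2 i3 i4) ((h.loc.inc i3).QS (e hx)) hy

theorem AM.prev (h : AM P Q Z S (k + 1)) (hc : Cr P Q Z S (k + 1) a c) (d2 : Dist P S (k + 1) a b)
    (i3 : Inc P S b s) (i4 : Inc P S c s) : Imp P Z c b := fun e => by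
  obtain ⟨b', d1, s', i1, i2⟩ := id d2
  obtain ⟨x, hx, rfl⟩ := i3.trans i2
  refine h.nc hc (cents_of_le (B := cj c Z ⊔ cj b Z) ?_ le_sup_left)
  rw [← cj_of_mem_N (e hx), cj_sup, ← cj_mul, ← cj_mul, cj_vert h.loc.nZ hx]
  exact cents_sup ((h.min _ _ ⟨b', d1, _, i1, i4.mul x⟩).trans (cent_cj h.loc.QC _))
    ((h.min _ _ d2).trans (cent_cj h.loc.QC _))

theorem AM.star (h : AM P Q Z S (k + 1)) (i1 : Inc P S d s) (i2 : Inc P S a s) (hi : Imp P Z d a)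
    (hx : x ∈ s) (hz : z ∈ cj d Z) : ⁅x, z⁆ ∈ C[cj a P] := by
  obtain ⟨c, hc, hg⟩ := h.exists_cr i2
  obtain ⟨b, d2, ad⟩ := hc.1
  have h2 := h.shift hc d2 ad i1 i2 hg hi
  refine C_anti hg ?_
  rw [C_sup]
  exact ⟨OZ_le_C _ ((h.loc.inc i1).a2 x hx z hz), cent_cj h.loc.QC c (h.min _ _ (ad.dist k)
    (h.cm h2 (h.first h2 i1 i2 d2) hx hz))⟩

theorem AM.mutual (h : AM P Q Z S (k + 1)) :
    ∃ a d s, Inc P S a s ∧ Inc P S d s ∧ Imp P Z a d ∧ Imp P Z d a := by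
  have key : ∀ j i, j + i = k + 1 → ∃ a b b' c s, Dist P S j a b ∧ Inc P S b s ∧ Inc P S b' s ∧
      Imp P Z b b' ∧ Dist P S i b' c ∧ ¬ cj a Z ≤ cj c Q := by
    intro j
    induction j with
    | zero =>
      intro i e
      obtain rfl : i = k + 1 := by omega
      obtain ⟨a, c, hc⟩ := h.ex
      obtain ⟨b, ⟨s, i1, i2⟩, d1⟩ := hc.1.uncons
      exact ⟨a, a, b, c, s, rfl, i1, i2, h.prev (h.symm hc) d1.symm i2 i1, d1, hc.2⟩
    | succ j ih =>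
      intro i e
      obtain ⟨a, b, b', c, s, d1, i1, i2, im, ⟨c', d2, ad⟩, n⟩ := ih (i + 1) (by omega)
      have d3 : Dist P S (k + 1) a c' := by
        rw [← e]; exact Dist.trans (j := j + 1) ⟨b, d1, s, i1, i2⟩ d2
      have hc : Cr P Q Z S (k + 1) a c := ⟨⟨c', d3, ad⟩, n⟩
      obtain ⟨d, s', i3, i4, im'⟩ := h.exists_imp a
      obtain ⟨x, hx, hg⟩ := h.good hc i4
      exact ⟨x * d, b, b', c', s, Dist.cons ⟨_, i3.mul x, i4.cj hx⟩ d1, i1, i2, im, d2,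
        (h.shift hc d3 ad (i3.mul x) (i4.cj hx) hg (im'.vert h.loc.nZ hx)).2⟩
  obtain ⟨a, b, b', c, s, d1, i1, i2, im, rfl, n⟩ := key (k + 1) 0 rfl
  exact ⟨b, b', s, i1, i2, im, h.prev ⟨⟨b, d1, s, i1, i2⟩, n⟩ d1 i1 i2⟩

theorem AM.kill3 (h : AM P Q Z S (k + 2)) : False := by
  obtain ⟨a, d, s, i1, i2, m1, m2⟩ := h.mutual
  obtain ⟨c, hc, hg⟩ := h.exists_cr i1
  obtain ⟨c₁, d1, ad1⟩ := hc.1
  obtain ⟨c₂, d2, ad2⟩ := id d1
  have h1 := h.shift hc d1 ad1 i2 i1 hg m2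
  obtain ⟨g, hgd, hg'⟩ := h.good h1 i2
  have d3 : Dist P S (k + 2) d c₂ := Dist.cons ⟨s, i2, i1⟩ d2
  have h2 := h.shift h1 d3 ad2 (i1.mul g) (i2.cj hgd) hg' (m1.vert h.loc.nZ hgd)
  have l := h.loc.inc i1
  obtain ⟨x, hx, nx⟩ := SetLike.not_le_iff_exists.1 l.ne
  refine l.nZ' fun z hz => l.a1 x hx nx z hz (C_anti hg ?_)
  rw [C_sup]
  refine ⟨OZ_le_C _ (l.a2 x hx z hz), cent_cj h.loc.QC c (h.min c₂ c ⟨c₁, ad2.dist k, ad1⟩ ?_)⟩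
  rw [← mem_C1_iff_conj.1 (mem_C1_comm.1 (C_le_C1 hgd (h.star i1 i2 m1 hx hz))), cm_conj]
  exact h.cm h2 (h.first h2 (i1.mul g) (i2.cj hgd) d3) (conj_mem_cj g hx)
    (by rw [cj_mul]; exact conj_mem_cj g hz)

end PU22
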