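import Mathlib
import Cfsg.Agent.H22.PU7

/-!
# Pushing up, part 8: critical distance two and one
-/

set_option autoImplicit false
set_option linter.unusedSectionVars false

namespace PU22

open Subgroup Cfsg H24 H11.ZN H12.NG
open scoped commutatorElement

universe u

variable {G : Type u} [Group G] [Finite G] {P Q Z S T O X Y s s' s₁ s₂ : Subgroup G}
  {a a' b b' c c' d e g h t v w x y z : G} {j k m : ℕ}

theorem sq3 (hz : z * z = 1) (hy : y * y = 1) (h1 : d * z = z * d) (h2 : d * y = y * d) :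
    z * y * d * (z * y * d) = ⁅z, y⁆ * (d * d) := by
  rw [commutatorElement_def, inv_eq_of_mul_eq_one_right hz, inv_eq_of_mul_eq_one_right hy]
  calc _ = z * y * (d * z) * y * d := by group
    _ = z * y * z * (d * y) * d := by rw [h1]; group
    _ = _ := by rw [h2]; group

theorem sq_cent (h1 : ⁅d, y⁆ * ⁅d, y⁆ = 1) (h2 : ⁅d, y⁆ ∈ C{d}) : ⁅d * d, y⁆ = 1 := by
  rw [cm_mul, mem_C1_iff_conj.1 (mem_C1_comm.1 h2), h1]

theorem Loc.phi (l : Loc P Q Z S) (hp : IsProd Y Q S) (hs : ∀ w ∈ Q, w * w ∈ C[Y]) :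
    ∃ K : Subgroup G, K ≤ C[Y] ∧ (∀ w ∈ Q, w * w ∈ K) ∧ (∀ w ∈ Q, ∀ w' ∈ Q, ⁅w, w'⁆ ∈ K) ∧
      K ⊓ C[Q] ≤ C[P] := by
  obtain ⟨x, hx, e⟩ := l.gen
  have k : ∀ w ∈ Q, w * w ∈ C[Y] ⊓ C[H24.cj x Y] := fun w hw => mem_inf.2 ⟨hs w hw, by
    rw [← cj_C, mem_cj]
    convert hs _ (conj_mem' (l.nQ hx) hw) using 1; group⟩
  refine ⟨_, inf_le_left, k, fun w hw w' hw' => ?_, le_trans ?_ (C_anti e)⟩
  · convert mul_mem (mul_mem (k w hw) (k _ (mul_mem (inv_mem hw) hw'))) (inv_mem (k w' hw')) using 1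
    rw [commutatorElement_def]; group
  · rw [← hp.sup_eq, cj_sup, cj_of_mem_N (l.nQ hx), C_sup, C_sup, C_sup]
    exact le_inf (le_inf (inf_le_left.trans inf_le_left) inf_le_right)
      (le_inf (inf_le_left.trans inf_le_right) inf_le_right)

theorem AM.kill2 (h : AM P Q Z S 1) : False := by
  obtain ⟨v₁, v₃, c13⟩ := h.ex
  obtain ⟨v₂, ⟨_, rfl, e₂, i12, i22⟩, a23⟩ := c13.1
  obtain ⟨d, s, j1, j2, im⟩ := h.exists_imp v₁
  obtain ⟨x, hx, g1⟩ := h.good c13 j2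
  have i01 := j1.mul x
  have i11 := j2.cj hx
  have c02 := h.shift c13 (Adj.dist ⟨_, i12, i22⟩ 0) a23 i01 i11 g1 (im.vert h.loc.nZ hx)
  generalize x * d = v₀ at *
  generalize cj x s = e₁ at *
  obtain ⟨d, s, j1, j2, im⟩ := h.exists_imp v₀
  obtain ⟨x, hx, g0⟩ := h.good c02 j2
  have im0 := j1.mul x
  have i00 := j2.cj hx
  have mm0 := im.vert h.loc.nZ hx
  have cm1 := h.shift c02 (Adj.dist ⟨_, i01, i11⟩ 0) ⟨_, i12, i22⟩ im0 i00 g0 mm0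
  generalize x * d = w at *
  generalize cj x s = e₀ at *
  have ad : ∀ {a b : G} {s : Subgroup G}, Inc P S a s → Inc P S b s → Dist P S 1 a b :=
    fun i j => Adj.dist ⟨_, i, j⟩ 0
  have mn : ∀ {a b : G} {s : Subgroup G}, Inc P S a s → Inc P S b s → cj a Z ≤ cj b Q :=
    fun i j => h.min _ _ (ad i j)
  have m21 := h.prev (k := 0) c02 (ad i01 i11) i12 i22
  have m10 := h.prev (k := 0) cm1 (ad im0 i00) i01 i11
  have p0 := h.first cm1 im0 i00 (ad i01 i11)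
  have p1 := h.last cm1 (ad im0 i00) i01 i11
  have p1' := h.first c02 i01 i11 (ad i12 i22)
  have p2 := h.last c02 (ad i01 i11) i12 i22
  have lm := h.loc.inc im0
  have l00 := h.loc.inc i00
  have l01 := h.loc.inc i01
  have l11 := h.loc.inc i11
  have l12 := h.loc.inc i12
  have l22 := h.loc.inc i22
  obtain ⟨K, -, k1, -, k2⟩ := l01.phi p1' fun u hu => by
    obtain ⟨z, hz, r, hr, rfl⟩ := p0.mul u (l00.QS hu)
    have r0 : r ∈ cj v₀ Q := ((cj v₀ Q).mul_mem_cancel_left (mn i11 i01 hz)).1 hu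
    obtain ⟨y, hy, d, hd, rfl⟩ := p1.mul r (l01.QS r0)
    have dm : d ∈ cj w Q := ((cj w Q).mul_mem_cancel_left (lm.ZQ hy)).1 hr
    rw [← mul_assoc z y d, sq3 (l11.sq z hz) (lm.sq y hy) (comm_of_cent l11.QC hd hz) (comm_of_cent lm.QC dm hy)]
    refine mul_mem (C_anti (p1'.left_le.trans l01.SP)
      (cm_swap (h.star (k := 0) i11 i01 m10 (p1.left_le hy) hz))) (mem_C_of_cm fun y hy => ?_)
    rw [← commutatorElement_inv, sq_cent (OZ_sq (l22.a2 d (l12.QS hd) y hy))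
      (C_le_C1 (l12.SP (l12.QS hd)) (h.star (k := 0) i22 i12 m21 (l12.QS hd) hy)), inv_one]
  have oz : OZ e₁ ≤ cj v₂ Q := l11.oz.trans (mn i12 i22)
  have n1 : cj w Z ≤ N[cj v₁ Q ⊓ cj v₂ Q] := le_N_iff.2 fun g hg u hu => by
    have g0 := mn im0 i00 hg
    have g1 := l11.SQ (l01.QS g0)
    have k3 : ∀ d ∈ cj v₀ Q, ⁅g, d⁆ ∈ cj v₂ Q := fun d hd => cm_swap (oz (l01.mem_OZ
      (l00.oz (lm.a2 d (l00.QS hd) g hg)) (C_anti l01.SP (h.star (k := 0) im0 i00 mm0 (l00.QS hd) hg))))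
    refine ⟨conj_mem g1 hu.1, ?_⟩
    obtain ⟨y, hy, d, hd, rfl⟩ := p1'.mul u (l11.QS hu.1)
    rw [conj_eq_cm, cm_mul']
    refine mul_mem (mul_mem ?_ (conj_mem (norm_self _ (l22.ZQ hy)) (k3 d hd))) hu.2
    by_cases y0 : y ∈ cj v₀ Q
    · exact k3 y y0
    have w0 : ⁅g, y⁆ ∈ cj v₀ Q := cm_mem' g0 (l01.SQ (p1'.left_le hy))
    obtain ⟨z, hz, r, hr, e⟩ := p2.mul _ (l12.QS (cm_mem g1 (mn i22 i12 hy)))
    have r0 : r ∈ cj v₀ Q := ((cj v₀ Q).mul_mem_cancel_left (l01.ZQ hz)).1 (e ▸ w0)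
    have e1 := sq3 (l01.sq z hz) (l22.sq y hy) (comm_of_cent l01.QC r0 hz) (comm_of_cent l22.QC hr hy)
    have e2 : z * y * r = g * y * g⁻¹ := by
      rw [conj_eq_cm, e, mul_assoc, mul_assoc, comm_of_cent l22.QC hr hy]
    have e3 : ⁅y, z⁆ = r * r := by
      rw [e2, show g * y * g⁻¹ * (g * y * g⁻¹) = g * (y * y) * g⁻¹ by group, l22.sq y hy, mul_one,
        mul_inv_cancel] at e1
      rw [← commutatorElement_inv, inv_eq_of_mul_eq_one_right e1.symm]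
    rw [e]
    exact mul_mem (oz (l01.a1 y (p1'.left_le hy) y0 z hz (k2 ⟨e3 ▸ k1 r r0,
      C_anti l01.QS (OZ_le_C _ (l01.a2 y (p1'.left_le hy) z hz))⟩))) hr
  have n2 : e₂ ≤ N[cj v₁ Q ⊓ cj v₂ Q] := norm_inf l12.SQ l22.SQ
  have n3 : cj v₁ P ≤ N[cj v₁ Q ⊓ cj v₂ Q] := g1.trans (sup_le (p1.sup_eq.ge.trans
    (sup_le n1 (l12.QS.trans n2))) ((h.Zs (a23.symm.dist 0) i22).trans n2))
  obtain ⟨x, hx, rfl⟩ := i11.trans i12
  have := le_inf (mn (i01.mul x) i12) (mn (i01.mul x) i22)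
  rw [cj_mul, cj_le_iff, cj_of_mem_N (n3 (inv_mem hx))] at this
  exact c02.2 (this.trans inf_le_right)

theorem Loc.noO (l : Loc P Q Z S) (hO : P2 O) (hn : P ≤ N[O]) : O ⊓ S ≤ Q := fun a ha => by
  by_contra na
  have nC : P ≤ N[Z ⊓ C[P]] := norm_inf l.nZ (norm_C (norm_self P))
  have Za : Z ≤ N[Z ⊓ C[P]] := (l.ZS.trans l.SP).trans nC
  have OC : O ⊓ P ≤ N[Z ⊓ C[P]] := inf_le_right.trans nC
  obtain ⟨v, hv, hv1, hv2⟩ := exists_fix_mod (hO.inf_left P) (l.two.of_le l.ZS) (inf_le_right.trans l.nZ)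
    OC Za fun e => l.nZ' fun z hz => l.mem_OZ hz (C_anti l.SP (e hz).2)
  have nW : P ≤ N[Z ⊓ centQ (O ⊓ P) (Z ⊓ C[P])] :=
    norm_inf l.nZ (norm_centQ (norm_inf hn (norm_self P)) nC)
  have WS : Z ⊓ centQ (O ⊓ P) (Z ⊓ C[P]) ≤ C[S] := fun z hz =>
    OZ_le_C _ (l.a1 a ha.2 na z hz.1 (centQ_cm' OC hz.2 ⟨ha.1, l.SP ha.2⟩).2)
  obtain ⟨x, hx, e⟩ := l.gen
  have m : v ∈ Z ⊓ centQ (O ⊓ P) (Z ⊓ C[P]) := ⟨hv, (mem_centQ OC).2 ⟨Za hv, fun p hp => cm_swap (hv2 p hp)⟩⟩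
  refine hv1 ⟨hv, C_anti e ?_⟩
  rw [C_sup, ← cj_C]
  exact ⟨WS m, mem_cj.2 (WS (conj_mem' (nW hx) m))⟩

theorem AM.cr0 (i1 : Inc P S a s) (i2 : Inc P S c s) (n : ¬ cj a Z ≤ cj c Q) : Cr P Q Z S 0 a c :=
  ⟨Adj.dist ⟨s, i1, i2⟩ 0, n⟩

theorem AM.phi (h : AM P Q Z S 0) (i1 : Inc P S a s) (i2 : Inc P S c s) (n : ¬ cj a Z ≤ cj c Q) :
    ∃ K : Subgroup G, K ≤ C[cj c Z] ∧ (∀ w ∈ cj a Q, w * w ∈ K) ∧
      (∀ w ∈ cj a Q, ∀ w' ∈ cj a Q, ⁅w, w'⁆ ∈ K) ∧ K ⊓ C[cj a Q] ≤ C[cj a P] := by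
  have hc := AM.cr0 i1 i2 n
  have l := h.loc.inc i1
  refine l.phi (h.first hc i1 i2 rfl) fun w hw => mem_C_of_cm fun y hy => ?_
  have := h.cm (h.symm hc) (h.last hc rfl i1 i2) (l.QS hw) hy
  rw [← commutatorElement_inv, sq_cent (l.sq _ this) (C_le_C1 hw (cents_symm l.QC this)), inv_one]

theorem AM.partner (h : AM P Q Z S 0) (i1 : Inc P S a s) (i2 : Inc P S c s) (i3 : Inc P S c' s)
    (n : ¬ cj a Z ≤ cj c Q) (n' : ¬ cj a Z ≤ cj c' Q) : cj c' Z ≤ cj c Z := fun u hu => by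
  have hc := AM.cr0 i1 i2 n
  have hc' := AM.cr0 i1 i3 n'
  have l := h.loc.inc i1
  have l2 := h.loc.inc i2
  have l3 := h.loc.inc i3
  by_cases ua : u ∈ cj a Q
  · exact l2.oz (h.inf (h.symm hc') i3 i1 rfl ⟨hu, ua⟩)
  obtain ⟨K, k0, k1, k2, k3⟩ := h.phi i1 i2 n
  have p1 := h.first hc i1 i2 rfl
  have p2 := h.last hc rfl i1 i2
  obtain ⟨y, hy, w, hw, rfl⟩ := p1.mul u (l3.ZS hu)
  have ya : y ∉ cj a Q := fun e => ua (mul_mem e hw)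
  have k4 : ∀ z ∈ cj a Z, ⁅y, z⁆ ∈ K → z ∈ OZ s := fun z hz e => l.a1 y (l2.ZS hy) ya z hz
    (k3 ⟨e, C_anti l.QS (OZ_le_C _ (l.a2 y (l2.ZS hy) z hz))⟩)
  have wc : w ∈ cj c Q := by
    obtain ⟨z, hz, d, hd, rfl⟩ := p2.mul w (l.QS hw)
    have da : d ∈ cj a Q := ((cj a Q).mul_mem_cancel_left (l.ZQ hz)).1 hw
    have e1 := sq3 (l2.sq y hy) (l.sq z hz) (comm_of_cent l2.QC hd hy) (comm_of_cent l.QC da hz)
    rw [mul_assoc y z d, l3.sq _ hu] at e1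
    exact mul_mem (l2.ZQ (l2.oz (k4 z hz (by
      rw [eq_inv_of_mul_eq_one_left e1.symm]; exact inv_mem (k1 d da))))) hd
  refine mul_mem hy (l2.oz (mem_OZ.2 ⟨l.QS hw, ?_, ?_⟩))
  · rw [← p1.sup_eq, C_sup]
    refine ⟨l2.QC wc, mem_C_of_cm fun r hr => ?_⟩
    obtain ⟨z, hz, d, hd, rfl⟩ := p2.mul r (l.QS hr)
    have da : d ∈ cj a Q := ((cj a Q).mul_mem_cancel_left (l.ZQ hz)).1 hr
    rw [cm_mul, cm_one_of_C (l.QC hw) hz, mul_one, conj_eq_one_iff']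
    obtain ⟨z', hz', r', hr', e⟩ := (h.last hc' rfl i1 i3).mul d (l.QS da)
    have e1 : ⁅d, y * w⁆ = ⁅d, w⁆ := by
      rw [cm_mul', cm_one_of_C' (l2.QC hd) hy, one_mul]
      exact mem_C1_iff_conj.1 (mem_C1_comm.1 (C_le_C1 hy (k0 (k2 d da w hw))))
    have e2 : ⁅d, y * w⁆ = ⁅z', y⁆ := by
      rw [e, cm_mul, cm_one_of_C' (l3.QC hr') hu, mul_one, mul_inv_cancel, one_mul,
        cmV_C (C_le_C1 hz' (l.QC hw))]
    rw [← e1, e2]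
    exact cm_one_of_C' (OZ_le_C _ (k4 z' hz' (cm_swap (e2 ▸ e1 ▸ k2 d da w hw)))) (l2.ZS hy)
  · have := l3.sq _ hu
    rwa [mul_assoc, ← mul_assoc w, comm_of_cent l2.QC wc hy, mul_assoc, ← mul_assoc, l2.sq y hy, one_mul,
      ← pow_two] at this

theorem AM.kill1 (h : AM P Q Z S 0) (hT : Syl 2 ⊤ T) (hTS : T ≤ N[S]) (tc : ∀ t ∈ T, cj t Z ≤ C[Z])
    (a7 : ∀ z ∈ OZ S, z ≠ 1 → z ∈ C[T] → z ∈ C[P] → ∃ O, P2 O ∧ C{z} ≤ N[O] ∧ Z ≤ OZ S ⊔ O ⊓ Z) :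
    False := by
  have inc : ∀ g ∈ N[S], Inc P S g S := fun g hg => ⟨1, one_mem _, by rw [mul_one, cj_of_mem_N hg]⟩
  obtain ⟨r, hr, n0⟩ : ∃ r ∈ N[S], ¬ cj 1 Z ≤ cj r Q := by
    obtain ⟨a, c, ⟨_, rfl, _, ⟨p, hp, rfl⟩, q, hq, e⟩, n⟩ := h.ex
    refine ⟨(a * p)⁻¹ * (c * q), cj_eq_cj_iff.1 e.symm, fun e => n ?_⟩
    rwa [cj_one, cj_mul, le_cj_iff, inv_inv, cj_mul_of h.loc.nZ hp, cj_mul_of h.loc.nQ hq] at e
  have sy : ∀ {a b : G}, a ∈ N[S] → b ∈ N[S] → ¬ cj a Z ≤ cj b Q → ¬ cj b Z ≤ cj a Q :=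
    fun ha hb n => (h.symm (AM.cr0 (inc _ ha) (inc _ hb) n)).2
  have nc : ∀ g, ¬ cj g Z ≤ cj (g * r) Q := fun g e => n0 (by
    rwa [cj_mul, cj_le_cj, ← cj_one Z] at e)
  have uq : ∀ {a b c : G}, a ∈ N[S] → b ∈ N[S] → c ∈ N[S] → ¬ cj a Z ≤ cj b Q → ¬ cj a Z ≤ cj c Q →
      cj b Z = cj c Z := fun ha hb hc n n' => le_antisymm
    (h.partner (inc _ ha) (inc _ hc) (inc _ hb) n' n) (h.partner (inc _ ha) (inc _ hb) (inc _ hc) n n')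
  have all : ∀ g ∈ N[S], ∃ t ∈ T, cj g Z = cj t Z ∨ cj g Z = cj (t * r) Z := fun g hg => by
    by_contra e
    push Not at e
    have gr := mul_mem hg hr
    obtain ⟨x, hx, y, hy, n⟩ : ∃ x ∈ cj g Z, ∃ y ∈ cj (g * r) Z, ⁅x, y⁆ ≠ 1 := by
      by_contra e'
      push Not at e'
      exact h.nc (AM.cr0 (inc _ hg) (inc _ gr) (nc g)) (cents_symm fun y hy => mem_C_of_cm fun x hx => e' x hx y hy)
    have oz := (h.loc.inc (inc _ gr)).a2 x ((h.loc.inc (inc _ hg)).ZS hx) y hy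
    have k : ∀ a ∈ N[S], ∀ c ∈ N[S], ¬ cj a Z ≤ cj c Q → cj g Z ≠ cj c Z → cj g Z ≠ cj a Z →
        ⁅x, y⁆ ∈ C[cj a P] := fun a ha c hc n e1 e2 => by
      obtain ⟨K, -, -, k2, k3⟩ := h.phi (inc a ha) (inc c hc) n
      refine k3 ⟨k2 x ?_ y ?_, C_anti (h.loc.inc (inc a ha)).QS (OZ_le_C _ oz)⟩
      · by_contra e'; exact e1 (uq ha hg hc (sy hg ha fun e => e' (e hx)) n)
      · by_contra e'; exact e2 (uq gr hg ha (sy hg gr (nc g)) fun e => e' (e hy))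
    obtain ⟨z, hz, z1, zc⟩ := exists_fix (V := OZ S ⊓ ⨅ t : T, (C[cj (t : G) P] ⊓ C[cj ((t : G) * r) P])) hT.pi
      (h.loc.two.of_le (inf_le_left.trans (OZ_le S)))
      (norm_inf (norm_OZ hTS) (le_N_iff.2 fun t ht u hu => mem_iInf.2 fun t' => by
        have := conj_mem_cj t (mem_iInf.1 hu ⟨t⁻¹ * t', mul_mem (inv_mem ht) t'.2⟩)
        rwa [cj_inf, cj_C, cj_C, ← cj_mul, ← cj_mul, mul_inv_cancel_left, ← mul_assoc,
          mul_inv_cancel_left] at this))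
      (ne_bot_of_mem ⟨oz, mem_iInf.2 fun t => by
        have tS := hTS t.2
        exact ⟨k _ tS _ (mul_mem tS hr) (nc _) (e t t.2).2 (e t t.2).1,
          k _ (mul_mem tS hr) _ tS (sy tS (mul_mem tS hr) (nc _)) (e t t.2).1 (e t t.2).2⟩⟩ n)
    have z2 := mem_iInf.1 hz.2 1
    rw [OneMemClass.coe_one, one_mul, cj_one] at z2
    obtain ⟨O, o1, o2, o3⟩ := a7 z hz.1 z1 zc z2.1
    have l := h.loc.inc (inc r hr)
    exact n0 ((cj_one Z).le.trans (o3.trans (sup_le (l.oz.trans l.ZQ) ((inf_le_inf_left _ h.loc.ZS).trans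
      (l.noO o1 ((mem_C_iff_le_C1.1 z2.2).trans o2))))))
  have r2 : r * r ∈ N[Z] := by
    have := uq hr (mul_mem hr hr) (one_mem _) (nc r) (sy (one_mem _) hr n0)
    rwa [cj_one, ← mem_N_iff_cj] at this
  obtain ⟨f, o, f2, o2, fz, oz, e⟩ := exists_piElt_decomp {2} r
  have oN : o ∈ N[Z] := by
    obtain ⟨n, rfl⟩ := oz
    obtain ⟨i, hi⟩ := piElt_odd.1 o2
    have e1 := pow_orderOf_eq_one (r ^ n)
    rw [hi, pow_succ, pow_mul] at e1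
    show r ^ n ∈ N[Z]
    rw [eq_inv_of_mul_eq_one_right e1]
    refine inv_mem (pow_mem ?_ _)
    rw [← zpow_natCast, ← zpow_mul, mul_comm, zpow_mul, zpow_natCast, pow_two]
    exact zpow_mem r2 _
  have fS : f ∈ N[S] := zpowers_le.2 hr fz
  obtain ⟨k, hk, e1⟩ := Sylow_Jsub Nat.prime_two (hT.of_le hTS le_top) f2.isPi (zpowers_le.2 fS)
  have t0 := e1 (conj_mem_cj k (mem_zpowers f))
  have e2 : cj (k * f * k⁻¹) (cj k Z) = cj (k * r) Z := by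
    rw [← cj_mul, inv_mul_cancel_right, e, ← mul_assoc, cj_mul (k * f), cj_of_mem_N oN]
  have fin : ∀ t ∈ T, cj k Z ≠ cj t Z := fun t ht e3 => by
    refine h.nc (AM.cr0 (inc _ hk) (inc _ (mul_mem hk hr)) (nc k)) ?_
    rw [← e2, e3, ← cj_mul, ← cj_C, le_cj_iff, ← cj_mul]
    exact tc _ (mul_mem (inv_mem (mul_mem t0 ht)) ht)
  obtain ⟨t, ht, e3 | e3⟩ := all k hk
  · exact fin t ht e3
  · have tS := hTS ht
    have := uq hk (mul_mem hk hr) tS (nc k) (e3 ▸ sy tS (mul_mem tS hr) (nc t))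
    rw [← e2, cj_eq_iff, ← cj_mul] at this
    exact fin _ (mul_mem (inv_mem t0) ht) this

theorem Loc.false (h : Loc P Q Z S) (nn : ∀ Y, Y ≤ S → P ≤ N[Y] → N[S] ≤ N[Y] → Y = ⊥)
    (hT : Syl 2 ⊤ T) (hTS : T ≤ N[S]) (tc : ∀ t ∈ T, H24.cj t Z ≤ C[Z])
    (a7 : ∀ z ∈ OZ S, z ≠ 1 → z ∈ C[T] → z ∈ C[P] → ∃ O, P2 O ∧ C{z} ≤ N[O] ∧ Z ≤ OZ S ⊔ O ⊓ Z) :
    False := by
  obtain ⟨m, hm⟩ := exists_AM h nn
  match m, hm with
  | 0, hm => exact hm.kill1 hT hTS tc a7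
  | 1, hm => exact hm.kill2
  | k + 2, hm => exact hm.kill3

end PU22
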