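import Mathlib
import Cfsg.Agent.H22.PU2

/-!
# Pushing up, part 3: the L-lemma for minimal offenders
-/

set_option autoImplicit false
set_option linter.unusedSectionVars false

namespace PU22

open Subgroup Cfsg H24 H11.ZN H12.NG
open H12 (meas)
open scoped commutatorElement

universe u

variable {G : Type u} [Group G] [Finite G] {V W H A A₀ A' B D E L L' X Y K Q T P N U S R ω ω' : Subgroup G}
  {a b c d e g h t v w x y z : G}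

theorem MP.exists_not (h : MP H T B) (ha : a ∈ T) (hq : a ∉ Q2 H) : ∃ g ∈ H, a ∉ H24.cj g B := by
  by_contra e
  push Not at e
  have h1 : (⨅ g : H, H24.cj (g : G) B) ≤ B := (iInf_le _ 1).trans (cj_one B).le
  refine hq (h.inf_le ⟨h1.trans h.BH, le_N_iff.2 fun k hk x hx => mem_iInf.2 fun g => ?_⟩ h1
    ⟨ha, mem_iInf.2 fun g => e g g.2⟩)
  have := conj_mem_cj k (mem_iInf.1 hx ⟨k⁻¹ * g, mul_mem (inv_mem hk) g.2⟩)
  rwa [← cj_mul, mul_inv_cancel_left] at this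

theorem MP.cj_mem (h : MP H T B) (hg : g ∈ H) : MP H (H24.cj g T) (H24.cj g B) := by
  have := h.cj g; rwa [cj_of_mem hg] at this

/-- conjugates under `H` -/
def Pt (H B ω : Subgroup G) : Prop := ∃ h ∈ H, ω = cj h B

theorem Pt.cj (h : Pt H B ω) (hg : g ∈ H) : Pt H B (cj g ω) := by
  obtain ⟨k, hk, rfl⟩ := h
  exact ⟨g * k, mul_mem hg hk, (cj_mul _ _ _).symm⟩

theorem Pt.self (H B : Subgroup G) : Pt H B B := ⟨1, one_mem _, (cj_one B).symm⟩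

theorem Pt.le (h : Pt H B ω) (hB : B ≤ H) : ω ≤ H := by
  obtain ⟨k, hk, rfl⟩ := h; exact cj_le_of_mem hB hk

theorem Pt.card (h : Pt H B ω) : ♯ω = ♯B := by
  obtain ⟨k, -, rfl⟩ := h; exact card_cj _ _

theorem Pt.symm (h : Pt H B ω) : Pt H ω B := by
  obtain ⟨k, hk, rfl⟩ := h; exact ⟨k⁻¹, inv_mem hk, (cj_inv_cj _ _).symm⟩

theorem Pt.trans (h : Pt H B ω) (h' : Pt H ω ω') : Pt H B ω' := by
  obtain ⟨k, hk, rfl⟩ := h'; exact h.cj hk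

structure FF (V H T B : Subgroup G) : Prop where
  mp : MP H T B
  ea : EA V
  norm : H ≤ N[V]
  fa : H ⊓ C[V] = ⊥
  o2 : Q2 H = ⊥
  cz : H ⊓ C[V ⊓ C[T]] ≤ B

theorem FF.abl (h : FF V H T B) : Abl V := h.ea.1

theorem FF.cj (h : FF V H T B) (hg : g ∈ H) : FF V H (cj g T) (cj g B) :=
  ⟨h.mp.cj_mem hg, h.ea, h.norm, h.fa, h.o2, by
    have := cj_mono g h.cz
    rwa [cj_inf, cj_C, cj_inf, cj_C, cj_of_mem hg, cj_of_mem_N (h.norm hg)] at this⟩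

theorem FF.pt (h : FF V H T B) (hω : Pt H B ω) (hP : P2 P) (hPω : P ≤ ω) :
    ∃ S, P ≤ S ∧ FF V H S ω := by
  obtain ⟨k, hk, rfl⟩ := hω
  have h1 := h.cj hk
  obtain ⟨b, hb, e⟩ := Sylow_subJ Nat.prime_two (h1.mp.syl.of_le h1.mp.le h1.mp.BH) hP hPω
  have h2 := h1.cj (h1.mp.BH hb)
  rw [cj_of_mem hb] at h2
  exact ⟨_, e, h2⟩

theorem FF.exists_pt (h : FF V H T B) (hP : P2 P) (hPH : P ≤ H) : ∃ ω, Pt H B ω ∧ P ≤ ω := by
  obtain ⟨k, hk, e⟩ := Sylow_subJ Nat.prime_two h.mp.syl hP hPH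
  exact ⟨_, ⟨k, hk, rfl⟩, e.trans (cj_mono k h.mp.le)⟩

theorem MP.pt_eq (h : MP H T B) (hω : Pt H B ω) (hT : T ≤ ω) : ω = B :=
  eq_of_card_eq ((h.uq ω hT (hω.le h.BH)).resolve_left fun e =>
    (card_lt h.lt).ne (by rw [← hω.card, e])) hω.card

theorem MP.mem_of_cj (h : MP H T B) (hT : ¬ T ≤ Q2 H) (hg : g ∈ H) (e : H24.cj g B = B) : g ∈ B :=
  h.N_le (norm_of_le h.le) (fun e => hT ((le_inf le_rfl h.le).trans (h.inf_le ⟨h.BH, e⟩ le_rfl)))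
    ⟨hg, mem_N_iff_cj.2 e⟩

theorem meas_cj (hg : g ∈ N[V]) (A : Subgroup G) : meas V (cj g A) = meas V A := by
  rw [meas, meas, card_cj, ← cj_C, ← card_cj g (V ⊓ C[A]), cj_inf, cj_of_mem_N hg]

theorem meas_bot (V : Subgroup G) : meas V ⊥ = ♯V := by
  rw [meas, C_bot, inf_top_eq, card_eq_one'.2 rfl, one_mul]

/-- minimal offender of maximal measure -/
structure MO (V H A : Subgroup G) : Prop where
  le : A ≤ H
  ea : EA A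
  ne : A ≠ ⊥
  max : ∀ E, E ≤ H → EA E → meas V E ≤ meas V A
  min : ∀ E, E ≤ A → E ≠ ⊥ → meas V A ≤ meas V E → E = A

theorem MO.cj (h : MO V H A) (hH : H ≤ N[V]) (hg : g ∈ H) : MO V H (cj g A) :=
  ⟨cj_le_of_mem h.le hg, ea_cj h.ea g, fun e => h.ne (cj_eq_bot.1 e), fun E h1 h2 => by
    rw [meas_cj (hH hg)]; exact h.max E h1 h2, fun E h1 h2 h3 => by
    rw [meas_cj (hH hg), ← meas_cj (hH (inv_mem hg)) E] at h3
    rw [← h.min _ (le_cj_iff.1 h1) (fun e => h2 (cj_eq_bot.1 e)) h3, cj_cj_inv]⟩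

theorem MO.pt (h : MO V H A) (hH : H ≤ N[V]) (hD : Pt H A D) : MO V H D := by
  obtain ⟨k, hk, rfl⟩ := hD; exact h.cj hH hk

theorem replace_ff (h : FF V H T B) (hA : A ≤ H) (he : EA A) (hn : A ≠ ⊥)
    (hm : ∀ E, E ≤ A → meas V E ≤ meas V A) :
    A ⊓ C[⁅V, A⁆] ≠ ⊥ ∧ meas V A = meas V (A ⊓ C[⁅V, A⁆]) ∧
      V ⊓ C[A ⊓ C[⁅V, A⁆]] = ⁅V, A⁆ ⊔ V ⊓ C[A] := by
  have : Fact (Nat.Prime 2) := ⟨Nat.prime_two⟩
  have hc : ⁅A, A⁆ ≤ C[V] := (der1_eq_bot.2 he.1).le.trans bot_le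
  obtain ⟨e1, e2⟩ := H12.replace_eq h.abl (hA.trans h.norm) hc hm le_rfl
  refine ⟨fun e => (H12.timmesfeld h.ea (hA.trans h.norm) ⟨hm, hc, fun a ha => ?_⟩ le_rfl).2.2
    (fun e' => hn ?_) (by rw [e, commutator_bot_right]), e2, e1⟩
  · rw [he.2 a ha]; exact one_mem _
  · rw [eq_bot_iff, ← h.fa]; exact le_inf hA (comm_eq_bot'.1 e')

theorem cm_mem_comm (ha : a ∈ A) (hv : v ∈ V) : ⁅a, v⁆ ∈ ⁅V, A⁆ := by
  rw [commC]; exact commutator_mem_commutator ha hv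

theorem MO.qd (h : MO V H A) (hF : FF V H T B) : ∀ a ∈ A, ∀ v ∈ V, ⁅a, v⁆ ∈ C[A] := by
  obtain ⟨e1, e2, -⟩ := replace_ff hF h.le h.ea h.ne fun E hE => h.max E (hE.trans h.le) (ea_le h.ea hE)
  have := (h.min _ inf_le_left e1 e2.le).ge.trans inf_le_right
  exact fun a ha v hv => cents_symm this (cm_mem_comm ha hv)

/-- the subgroup generated by the conjugates of `A₀` in `X` -/
def gen (H A₀ X : Subgroup G) : Subgroup G := sSup {D | Pt H A₀ D ∧ D ≤ X}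

theorem gen_le : gen H A₀ X ≤ X := sSup_le fun _ h => h.2
theorem le_gen (h : Pt H A₀ D) (hD : D ≤ X) : D ≤ gen H A₀ X := le_sSup ⟨h, hD⟩
theorem gen_le_iff : gen H A₀ X ≤ Y ↔ ∀ D, Pt H A₀ D → D ≤ X → D ≤ Y :=
  ⟨fun h _ h1 h2 => (le_gen h1 h2).trans h, fun h => sSup_le fun D e => h D e.1 e.2⟩
theorem gen_mono (h : X ≤ Y) : gen H A₀ X ≤ gen H A₀ Y :=
  gen_le_iff.2 fun _ h1 h2 => le_gen h1 (h2.trans h)
theorem gen_gen : gen H A₀ X ≤ gen H A₀ (gen H A₀ X) :=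
  gen_le_iff.2 fun _ h1 h2 => le_gen h1 (le_gen h1 h2)
theorem norm_gen : H ⊓ N[X] ≤ N[gen H A₀ X] := fun _ hg =>
  mem_N_of_cj_le (cj_le_iff.2 (gen_le_iff.2 fun _ h1 h2 =>
    cj_le_iff.1 (le_gen (h1.cj hg.1) (cj_le_of_mem_N h2 hg.2))))

theorem gen_weak (hS : P2 S) (hSH : S ≤ H) (h : gen H A₀ (S ⊓ N[W]) = W) : S ≤ N[W] := by
  have h1 : H ⊓ N[S ⊓ N[W]] ≤ N[gen H A₀ (S ⊓ N[W])] := norm_gen
  rw [h] at h1
  exact ((hS.nil Nat.prime_two).eq_of_norm_le inf_le_left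
    (le_inf inf_le_left ((inf_le_inf_right _ hSH).trans h1))).ge.trans inf_le_right

/-- the set-up of the L-lemma -/
structure LS (V H T B A₀ Y : Subgroup G) : Prop where
  ff : FF V H T B
  mo : MO V H A₀
  YH : Y ≤ H
  Y2 : P2 Y
  Yg : Y ≤ gen H A₀ Y
  nY : ∀ ω, Pt H B ω → ¬ H ⊓ N[Y] ≤ ω
  mx : ∀ W, Y ≤ W → W ≤ H → P2 W → W ≤ gen H A₀ W → W ≠ Y → ∃ ω, Pt H B ω ∧ H ⊓ N[W] ≤ ω

theorem exists_LS (h : FF V H T B) (hA : MO V H A₀) : ∃ Y, LS V H T B A₀ Y := by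
  obtain ⟨Y, -, ⟨h1, h2, h3, h4⟩, h5⟩ := exists_max (H := ⊥)
    (P := fun Y => Y ≤ H ∧ P2 Y ∧ Y ≤ gen H A₀ Y ∧ ∀ ω, Pt H B ω → ¬ H ⊓ N[Y] ≤ ω)
    ⟨bot_le, isPi_bot _, bot_le, fun ω hω e => by
      rw [N_bot, inf_top_eq] at e
      exact (card_lt h.mp.lt).not_ge (hω.card ▸ card_le e)⟩
  refine ⟨Y, h, hA, h1, h2, h3, h4, fun W e1 e2 e3 e4 e5 => ?_⟩
  by_contra e
  push Not at e
  exact e5 (h5 W ⟨e2, e3, e4, e⟩ e1)

theorem LS.uniq0 (h : LS V H T B A₀ Y) (W : Subgroup G) : Y ≤ W → W ≤ H → P2 W → W ≤ gen H A₀ W →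
    W ≠ Y → ∀ ω ω', Pt H B ω → Pt H B ω' → W ≤ ω → W ≤ ω' → ω = ω' := by
  induction W using subgroup_ind_up with
  | h W ih =>
    intro e1 e2 e3 e4 e5
    obtain ⟨ω₀, h0, h1⟩ := h.mx W e1 e2 e3 e4 e5
    suffices k : ∀ ω, Pt H B ω → W ≤ ω → ω = ω₀ from
      fun ω ω' p p' q q' => (k ω p q).trans (k ω' p' q').symm
    intro ω p q
    obtain ⟨S, s1, s2⟩ := h.ff.pt p e3 q
    have s3 : W ≤ gen H A₀ (S ⊓ N[W]) := e4.trans (gen_mono (le_inf s1 (norm_self W)))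
    rcases s3.eq_or_lt with e | e
    · exact (s2.mp.pt_eq (p.symm.trans h0)
        ((le_inf s2.mp.TH (gen_weak s2.mp.two s2.mp.TH e.symm)).trans h1)).symm
    · have s4 := (gen_le (H := H) (A₀ := A₀) (X := S ⊓ N[W])).trans inf_le_left
      exact ih _ e (e1.trans s3) (s4.trans s2.mp.TH) (s2.mp.two.of_le s4) gen_gen
        (fun e' => e.not_ge (e' ▸ e1)) ω ω₀ p h0 (s4.trans s2.mp.le)
        (gen_le.trans ((inf_le_inf_right _ s2.mp.TH).trans h1))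

/-- a conjugate of `A₀` normalising `Y`, not in `Y` -/
structure Good (H A₀ Y A : Subgroup G) : Prop where
  pt : Pt H A₀ A
  norm : A ≤ N[Y]
  nle : ¬ A ≤ Y

theorem Good.cj (h : Good H A₀ Y A) (hg : g ∈ H) (hn : g ∈ N[Y]) : Good H A₀ Y (cj g A) :=
  ⟨h.pt.cj hg, cj_of_mem_N hn ▸ norm_cj h.norm g, fun e => h.nle (by
    rwa [cj_le_iff, cj_of_mem_N (inv_mem hn)] at e)⟩

theorem LS.mo' (h : LS V H T B A₀ Y) (hA : Pt H A₀ A) : MO V H A := h.mo.pt h.ff.norm hA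

theorem LS.two (h : LS V H T B A₀ Y) (hA : Good H A₀ Y A) : P2 (A ⊔ Y) :=
  (ea_pi (h.mo' hA.pt).ea).sup' h.Y2 hA.norm

theorem LS.AY (h : LS V H T B A₀ Y) (hA : Good H A₀ Y A) : A ⊔ Y ≤ H ⊓ N[Y] :=
  le_inf (sup_le (h.mo' hA.pt).le h.YH) (sup_le hA.norm (norm_self Y))

theorem LS.uniq (h : LS V H T B A₀ Y) (hA : Good H A₀ Y A) (p : Pt H B ω) (p' : Pt H B ω')
    (q : A ⊔ Y ≤ ω) (q' : A ⊔ Y ≤ ω') : ω = ω' :=
  h.uniq0 _ le_sup_right ((h.AY hA).trans inf_le_left) (h.two hA)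
    (sup_le (le_gen hA.pt le_sup_left) (h.Yg.trans (gen_mono le_sup_right)))
    (fun e => hA.nle (le_sup_left.trans e.le)) ω ω' p p' q q'

theorem LS.TQ (h : LS V H T B A₀ Y) (hS : FF V H S ω) : ¬ S ≤ Q2 H := fun e => by
  obtain ⟨k, hk, e1⟩ := Sylow_Jsub Nat.prime_two hS.mp.syl (ea_pi h.mo.ea) h.mo.le
  exact h.mo.ne (cj_eq_bot.1 (eq_bot_of_le hS.o2 (e1.trans e)))

theorem LS.mem_pt (h : LS V H T B A₀ Y) (p : Pt H B ω) (hg : g ∈ H) (e : cj g ω = ω) : g ∈ ω := by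
  obtain ⟨S, -, s⟩ := h.ff.pt p (isPi_bot _) bot_le
  exact s.mp.mem_of_cj (h.TQ s) hg e

theorem LS.mem_of_le (h : LS V H T B A₀ Y) (hA : Good H A₀ Y A) (p : Pt H B ω) (q : A ⊔ Y ≤ ω)
    (hg : g ∈ H) (e : cj g (A ⊔ Y) ≤ ω) : g ∈ ω :=
  (inv_mem_iff).1 (h.mem_pt p (inv_mem hg) (h.uniq hA (p.cj (inv_mem hg)) p (cj_le_iff.1 e) q))

theorem LS.le_pt (h : LS V H T B A₀ Y) (hA : Good H A₀ Y A) (p : Pt H B ω) (q : A ⊔ Y ≤ ω)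
    (hP : P2 P) (hPH : P ≤ H) (h1 : A ⊔ Y ≤ P) : P ≤ ω := by
  obtain ⟨ω', p', q'⟩ := h.ff.exists_pt hP hPH
  rwa [h.uniq hA p p' q (h1.trans q')]

theorem LS.exists_good (h : LS V H T B A₀ Y) : ∃ A, Good H A₀ Y A := by
  obtain ⟨ω, p, q⟩ := h.ff.exists_pt h.Y2 h.YH
  obtain ⟨S, s1, s2⟩ := h.ff.pt p h.Y2 q
  by_contra e
  push Not at e
  have e1 : gen H A₀ (S ⊓ N[Y]) = Y := le_antisymm (gen_le_iff.2 fun D h1 h2 => by
    by_contra h3; exact e D ⟨h1, h2.trans inf_le_right, h3⟩)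
    (h.Yg.trans (gen_mono (le_inf s1 (norm_self Y))))
  have e2 := gen_weak s2.mp.two s2.mp.TH e1
  have e3 : Y = ⊥ := eq_bot_of_le s2.o2 (pcore_max' h.Y2 h.YH (s2.mp.le_N e2 (h.nY ω p)))
  obtain ⟨k, hk, e4⟩ := Sylow_Jsub Nat.prime_two s2.mp.syl (ea_pi h.mo.ea) h.mo.le
  exact h.mo.ne (cj_eq_bot.1 (eq_bot_of_le (e1.trans e3) (le_gen ⟨k, hk, rfl⟩ (le_inf e4 (e4.trans e2)))))

/-- the core lemma -/
theorem LS.core (h : LS V H T B A₀ Y) (hA : Good H A₀ Y A) (p : Pt H B ω) (q : A ⊔ Y ≤ ω)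
    (h1 : A ⊔ Y ≤ L') (h2 : L' ≤ H ⊓ N[Y]) (h3 : ¬ L' ≤ ω) (hR : P2 R) (hRH : R ≤ H) (hn : L' ≤ N[R]) :
    TI V A ∧ (∀ a ∈ A, ∀ v ∈ V, ⁅a, v⁆ ∈ C[R]) ∧ ∀ a ∈ A, ∀ v ∈ V, ⁅a, v⁆ ∈ C[L'] → ⁅a, v⁆ = 1 := by
  obtain ⟨L, l1, ⟨l2, l3⟩, l4⟩ := exists_min (P := fun L => A ⊔ Y ≤ L ∧ ¬ L ≤ ω) ⟨h1, h3⟩
  have mo := h.mo' hA.pt
  have LH : L ≤ H := l1.trans (h2.trans inf_le_left)
  have LY : L ≤ N[Y] := l1.trans (h2.trans inf_le_right)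
  have LV := LH.trans h.ff.norm
  have AL : A ≤ L := le_sup_left.trans l2
  obtain ⟨P, p1, p2⟩ := Sylow_superset Nat.prime_two (h.two hA) l2
  have hm : ∀ X, A ⊔ Y ≤ X → X ≤ L → X = L ∨ X ≤ ω := fun X x1 x2 => by
    by_cases e : X ≤ ω
    · exact Or.inr e
    · exact Or.inl (l4 X ⟨x1, e⟩ x2)
  have hPR : P2 (P ⊔ R) := p1.pi.sup' hR (p1.le.trans (l1.trans hn))
  have PR := h.le_pt hA p q hPR (sup_le (p1.le.trans LH) hRH) (p2.trans le_sup_left)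
  have mp : MP L P (L ⊓ ω) := ⟨p1, le_inf p1.le (le_sup_left.trans PR),
    inf_lt_left.2 l3, fun X x1 x2 => (hm X (p2.trans x1) x2).imp id (le_inf x2)⟩
  have YD : Y ≤ Q2 L := pcore_max' h.Y2 (le_sup_right.trans l2) LY
  have hgen : ∀ a ∈ A, a ∉ Q2 L → ∃ g ∈ L, L ≤ zpowers a ⊔ cj g A ⊔ Q2 L := fun a ha hq => by
    obtain ⟨g, hg, e⟩ := mp.exists_not (p2 (mem_sup_left ha)) hq
    refine ⟨g, hg, ?_⟩
    have i1 : zpowers a ⊔ cj g A ⊔ Q2 L ≤ L :=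
      sup_le (sup_le (zpowers_le.2 (AL ha)) (cj_le_of_mem AL hg)) (pcore_le _ _)
    rcases hm (cj g⁻¹ (zpowers a ⊔ cj g A ⊔ Q2 L)) (by
      rw [← cj_le_iff, cj_sup, cj_of_mem_N (LY hg)]
      exact sup_le (le_sup_right.trans le_sup_left) (YD.trans le_sup_right))
      (cj_le_of_mem i1 (inv_mem hg)) with e1 | e1
    · rw [← cj_le_cj (g := g⁻¹), e1, cj_of_mem (inv_mem hg)]
    · refine (e ?_).elim
      rw [cj_inf, cj_of_mem hg]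
      exact ⟨AL ha, le_cj_iff.2 e1 (mem_sup_left (mem_sup_left (mem_zpowers a)))⟩
  have AD : ¬ A ≤ Q2 L := fun e => l3 fun x hx => h.mem_of_le hA p q (LH hx)
    ((cj_le_of_mem_N (sup_le e YD) ((pcore_nml _ _).norm hx)).trans (mp.QT.trans (le_sup_left.trans PR)))
  set U := V ⊓ C[Q2 L ⊔ R] with hU
  have LU : L ≤ N[U] := norm_inf LV (norm_C (norm_sup (pcore_nml _ _).norm (l1.trans hn)))
  have UV : U ≤ V := inf_le_left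
  have Ua : Abl U := h.ff.abl.of_le UV
  have LZ : L ≤ N[U ⊓ C[L]] := norm_inf LU (norm_C (norm_self L))
  have hod : ¬ Od2 L ≤ centQ U (U ⊓ C[L]) := fun e => by
    obtain ⟨S, s1, s2⟩ := h.ff.pt p hPR PR
    refine mp.Od2_nle (le_inf (Od2_le L) (Od2_le_iff.2 fun g hg ho => s2.cz ⟨LH hg, mem_C_of_cm fun u hu => ?_⟩))
    have hu' : u ∈ U := ⟨hu.1, C_anti ((sup_le_sup_right mp.QT R).trans s1) hu.2⟩
    have := centQ_cm (Ua.norm le_rfl inf_le_left) (e (mem_Od2 hg ho)) hu'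
    rw [← commutatorElement_inv, stab1 ho ((ea_pi h.ff.ea).piElt (UV this.1)) (cm_one_of_C this.2 hg), inv_one]
  have qd := mo.qd h.ff
  have ineq : ∀ a ∈ A, a ∉ Q2 L → (Q2 L).relIndex A ≤ (centQ (zpowers a) (U ⊓ C[L])).relIndex U :=
    fun a ha hq => secIneq inf_le_left ((der1_eq_bot.2 Ua).le.trans bot_le) ((ea_pi h.ff.ea).of_le UV)
      LU LZ hod AL (fun a ha b hb w hw => by rw [cm_one_of_C (qd a ha w (UV hw)) hb]; exact one_mem _)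
      (pcore_nml _ _) (pcore_pi _ _) hgen ha hq
  have hle : ∀ a ∈ A, U ⊓ C[A] ≤ U ⊓ centQ (zpowers a) (U ⊓ C[L]) := fun a ha u hu =>
    ⟨hu.1, (mem_centQ1 (LZ (AL ha))).2 ⟨Ua.norm le_rfl inf_le_left hu.1, by
      rw [cm_one_of_C hu.2 ha]; exact one_mem _⟩⟩
  have hri : ∀ a ∈ A, (centQ (zpowers a) (U ⊓ C[L])).relIndex U ≤ C[A].relIndex U := fun a ha => by
    exact rel_le_of_inf le_rfl fun u hu => (hle a ha ⟨hu.2, hu.1⟩).2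
  obtain ⟨a₁, ha₁, hq₁⟩ := SetLike.not_le_iff_exists.1 AD
  have c0 := (ineq a₁ ha₁ hq₁).trans (hri a₁ ha₁)
  have c1 := card_sup (A := U) (B := V ⊓ C[A]) (h.ff.abl.norm inf_le_left UV)
  rw [← inf_assoc, inf_eq_left.2 UV] at c1
  have c2 := card_rel U C[A]
  have c3 := card_rel A (Q2 L)
  have i2 : U ⊔ V ⊓ C[A] ≤ V ⊓ C[A ⊓ Q2 L] := sup_le
    (inf_le_inf_left _ (C_anti (inf_le_right.trans le_sup_left))) (inf_le_inf_left _ (C_anti inf_le_left))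
  have c4 := card_le i2
  have c5 : ♯(U ⊔ V ⊓ C[A]) = C[A].relIndex U * ♯(V ⊓ C[A]) := by
    refine Nat.eq_of_mul_eq_mul_left (card_pos (U ⊓ C[A])) ?_
    rw [mul_comm, c1, ← c2, mul_assoc]
  have e0 : A ⊓ Q2 L = ⊥ := by
    by_contra e
    refine AD ((mo.min _ inf_le_left e ?_).ge.trans inf_le_right)
    rw [meas, meas, ← c3, mul_assoc]
    exact Nat.mul_le_mul_left _ ((Nat.mul_le_mul_right _ c0).trans (c5 ▸ c4))
  rw [e0, card_eq_one'.2 rfl, one_mul] at c3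
  have c6 := mo.max ⊥ bot_le H12.ea_bot
  rw [meas_bot, meas] at c6
  have c7 := card_le (sup_le UV (inf_le_left (b := C[A])))
  have c8 : C[A].relIndex U ≤ ♯A :=
    Nat.le_of_mul_le_mul_right (c5 ▸ c7.trans c6) (card_pos _)
  have c9 : ♯A * ♯(V ⊓ C[A]) ≤ ♯(U ⊔ V ⊓ C[A]) := c5 ▸ Nat.mul_le_mul_right _ (c3 ▸ c0)
  have e1 := eq_of_card_ge (sup_le UV (inf_le_left (b := C[A]))) (c6.trans c9)
  have hp := isProd_sup (A := U) (B := V ⊓ C[A]) (h.ff.abl.norm inf_le_left UV)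
  rw [e1] at hp
  have hdec : ∀ v ∈ V, ∃ u ∈ U, ∃ c ∈ C[A], v = u * c ∧ ∀ a ∈ A, ⁅a, v⁆ = ⁅a, u⁆ := fun v hv => by
    obtain ⟨u, hu, c, hc, rfl⟩ := hp.mul v hv
    exact ⟨u, hu, c, hc.2, rfl, fun a ha => cmV_C (C_le_C1 ha hc.2)⟩
  have key : ∀ a ∈ A, a ≠ 1 → ∀ u ∈ U, ⁅a, u⁆ ∈ C[L] → u ∈ C[A] := fun a ha a1 u hu e => by
    have hq : a ∉ Q2 L := fun e => a1 (mem_bot.1 (e0 ▸ ⟨ha, e⟩ : a ∈ (⊥ : Subgroup G)))
    have d1 := card_rel U (centQ (zpowers a) (U ⊓ C[L]))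
    have d2 := c8.trans (c3 ▸ ineq a ha hq)
    have := eq_of_card_ge (hle a ha) (Nat.le_of_mul_le_mul_right
      ((Nat.mul_le_mul_left _ d2).trans (d1.trans c2.symm).le) (relIndex_pos _ _))
    exact (this.ge ⟨hu, (mem_centQ1 (LZ (AL ha))).2 ⟨Ua.norm le_rfl inf_le_left hu,
      cm_mem (LU (AL ha)) hu, e⟩⟩).2
  refine ⟨⟨h.ff.ea, mo.ea, mo.ne, AL.trans LV, fun a ha a1 v hv => ?_, qd, ?_⟩, fun a ha v hv => ?_,
    fun a ha v hv e => ?_⟩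
  · obtain ⟨u, hu, c, hc, e2, e3⟩ := hdec v hv.1
    rw [e2]
    exact mul_mem (key a ha a1 u hu (by rw [← e3 a ha, cm_eq_one.2 hv.2]; exact one_mem _)) hc
  · refine Nat.eq_of_mul_eq_mul_left (card_pos (V ⊓ C[A])) ?_
    rw [card_rel, mul_comm]
    exact le_antisymm c6 (c9.trans c7)
  · obtain ⟨u, hu, c, hc, e2, e3⟩ := hdec v hv
    rw [e3 a ha]
    exact C_anti le_sup_right (cm_mem (LU (AL ha)) hu).2
  · obtain ⟨u, hu, c, hc, e2, e3⟩ := hdec v hv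
    rw [e3 a ha] at e ⊢
    by_cases a1 : a = 1
    · rw [a1, commutatorElement_one_left]
    · exact cm_one_of_C (key a ha a1 u hu (C_anti l1 e)) ha

end PU22
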