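import Mathlib
import Cfsg.Agent.H22.PU3

/-!
# Pushing up, part 4: the good offenders form a projective line
-/

set_option autoImplicit false
set_option linter.unusedSectionVars false

namespace PU22

open Subgroup Cfsg H24 H11.ZN H12.NG
open H12 (meas)
open scoped commutatorElement

universe u

variable {G : Type u} [Group G] [Finite G]
  {V W H A A₀ A₁ A₂ A₃ A' B D E L L' X Y K Q T P N U S R ω ω' : Subgroup G}
  {a b c d e g h t v w x y z : G}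

theorem meas_le_iff : meas V E ≤ ♯V ↔ ♯E ≤ C[E].relIndex V := by
  rw [meas, ← card_rel V C[E], mul_comm]
  exact Nat.mul_le_mul_left_iff (card_pos _)

theorem le_meas_iff : ♯V ≤ meas V E ↔ C[E].relIndex V ≤ ♯E := by
  rw [meas, ← card_rel V C[E], mul_comm ♯E]
  exact Nat.mul_le_mul_left_iff (card_pos _)

theorem exists_MO (hE : E ≤ H) (he : EA E) (hn : E ≠ ⊥) (hm : ♯V ≤ meas V E) : ∃ A, MO V H A := by
  obtain ⟨E₁, ⟨h1, h2⟩, h3⟩ := Set.exists_max_image {F : Subgroup G | F ≤ H ∧ EA F} (meas V)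
    (Set.toFinite _) ⟨E, hE, he⟩
  obtain ⟨E₂, h4, h5, h6, h7⟩ : ∃ F, F ≤ H ∧ EA F ∧ F ≠ ⊥ ∧ meas V E₁ ≤ meas V F := by
    by_cases e : E₁ = ⊥
    · exact ⟨E, hE, he, hn, by rwa [e, meas_bot]⟩
    · exact ⟨E₁, h1, h2, e, le_rfl⟩
  obtain ⟨A, a1, ⟨a2, a3⟩, a4⟩ := exists_min (P := fun F => F ≠ ⊥ ∧ meas V E₁ ≤ meas V F) ⟨h6, h7⟩
  exact ⟨A, a1.trans h4, ea_le h5 a1, a2, fun F f1 f2 => (h3 F ⟨f1, f2⟩).trans a3,
    fun F f1 f2 f3 => a4 F ⟨f2, a3.trans f3⟩ f1⟩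

theorem LS.good_pt (h : LS V H T B A₀ Y) (hA : Good H A₀ Y A) : ∃ ω, Pt H B ω ∧ A ⊔ Y ≤ ω :=
  h.ff.exists_pt (h.two hA) ((h.AY hA).trans inf_le_left)

theorem LS.core' (h : LS V H T B A₀ Y) (hA : Good H A₀ Y A) :
    TI V A ∧ ∀ a ∈ A, ∀ v ∈ V, ⁅a, v⁆ ∈ C[Y] := by
  obtain ⟨ω, p, q⟩ := h.good_pt hA
  obtain ⟨h1, h2, -⟩ := h.core hA p q (h.AY hA) le_rfl (h.nY ω p) h.Y2 h.YH inf_le_right
  exact ⟨h1, h2⟩

theorem LS.ti (h : LS V H T B A₀ Y) (hD : Pt H A₀ D) : TI V D := by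
  obtain ⟨A, hA⟩ := h.exists_good
  obtain ⟨k, hk, rfl⟩ := hA.pt.symm.trans hD
  exact (h.core' hA).1.cj (h.ff.norm hk)

theorem LS.no (h : LS V H T B A₀ Y) : NO V H := fun E h1 h2 =>
  meas_le_iff.1 ((h.mo.max E h1 h2).trans (meas_le_iff.2 (h.ti (Pt.self H A₀)).ti.ge))

theorem FF.no (h : FF V H T B) : NO V H := fun E h1 h2 => by
  by_contra e
  obtain ⟨A, hA⟩ := exists_MO h1 h2 (fun e' => e (by rw [e', card_eq_one'.2 rfl]; exact relIndex_pos _ _))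
    (le_meas_iff.2 (not_le.1 e).le)
  obtain ⟨Y, hY⟩ := exists_LS h hA
  exact e (hY.no E h1 h2)

theorem LS.le (h : LS V H T B A₀ Y) (hA : Good H A₀ Y A) : A ≤ H := (h.mo' hA.pt).le

theorem LS.not_le (h : LS V H T B A₀ Y) (hA : Good H A₀ Y A) (p : Pt H B ω) (p' : Pt H B ω')
    (q : A ⊔ Y ≤ ω) (q' : A' ⊔ Y ≤ ω') (n : ¬ A' ≤ ω) : ¬ A ≤ ω' := fun e =>
  n (h.uniq hA p p' q (sup_le e (le_sup_right.trans q')) ▸ le_sup_left.trans q')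

theorem LS.tl (h : LS V H T B A₀ Y) (hA : Good H A₀ Y A) (hA' : Good H A₀ Y A') (p : Pt H B ω)
    (q : A ⊔ Y ≤ ω) (n : ¬ A' ≤ ω) : ∀ a ∈ A, ∀ v ∈ V, ⁅a, v⁆ ∈ C[A'] → ⁅a, v⁆ = 1 := by
  obtain ⟨h1, h2, h3⟩ := h.core (L' := A ⊔ Y ⊔ A') hA p q le_sup_left
    (sup_le (h.AY hA) (le_sup_left.trans (h.AY hA'))) (fun e => n (le_sup_right.trans e)) h.Y2 h.YH
    (sup_le ((h.AY hA).trans inf_le_right) hA'.norm)
  refine fun a ha v hv e => h3 a ha v hv ?_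
  rw [C_sup, C_sup]
  exact ⟨⟨h1.qd a ha v hv, h2 a ha v hv⟩, e⟩

theorem LS.nt (h : LS V H T B A₀ Y) (hA : Good H A₀ Y A) (hA' : Good H A₀ Y A') (p : Pt H B ω)
    (q : A ⊔ Y ≤ ω) (n : ¬ A' ≤ ω) : Nt V A A' := by
  obtain ⟨ω', p', q'⟩ := h.good_pt hA'
  exact ⟨h.ti hA.pt, h.ti hA'.pt, hA.pt.card.trans hA'.pt.card.symm, h.tl hA hA' p q n,
    h.tl hA' hA p' q' (h.not_le hA p p' q q' n)⟩

theorem LS.cj_nle (h : LS V H T B A₀ Y) (hA : Good H A₀ Y A) (p : Pt H B ω) (q : A ⊔ Y ≤ ω)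
    (hx : x ∈ H ⊓ N[Y]) (n : x ∉ ω) : ¬ cj x A ≤ ω := fun e =>
  n (h.mem_of_le hA p q hx.1 (by
    rw [cj_sup, cj_of_mem_N hx.2]; exact sup_le e (le_sup_right.trans q)))

theorem LS.partner (h : LS V H T B A₀ Y) (hA : Good H A₀ Y A) (p : Pt H B ω) (q : A ⊔ Y ≤ ω) :
    ∃ A', Good H A₀ Y A' ∧ ¬ A' ≤ ω := by
  obtain ⟨x, hx, n⟩ := SetLike.not_le_iff_exists.1 (h.nY ω p)
  exact ⟨_, hA.cj hx.1 hx.2, h.cj_nle hA p q hx n⟩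

theorem LS.centD (h : LS V H T B A₀ Y) (hA : Good H A₀ Y A) (hD : Pt H A₀ D) (hY : D ≤ Y) :
    (∀ d ∈ D, ∀ v ∈ V, ⁅d, v⁆ ∈ C[A]) ∧ A ≤ C[D] := by
  obtain ⟨ω, p, q⟩ := h.good_pt hA
  obtain ⟨A', hA', n⟩ := h.partner hA p q
  have nt := h.nt hA hA' p q n
  have tD := h.ti hD
  have k : ∀ {A : Subgroup G}, Good H A₀ Y A → A ≤ N[D] ∧ ∀ x ∈ A, ∀ d ∈ D, ∀ v ∈ V,
      x * ⁅d, v⁆ * x⁻¹ = ⁅x * d * x⁻¹, v⁆ := fun {A} hA => by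
    have c := fun x hx v hv => C_anti hY ((h.core' hA).2 x hx v hv)
    have nD := h.no.norm h.ff.fa tD (h.mo' hD).le (h.le hA) h.ff.norm c
    refine ⟨nD, fun x hx d hd v hv => ?_⟩
    rw [cm_conj, conj_eq_cm x v, cmV_C' h.ff.abl (tD.norm (conj_mem (nD hx) hd)) hv
      (cm_mem (h.ff.norm (h.le hA hx)) hv) (C_le_C1 (conj_mem (nD hx) hd) (c x hx v hv))]
  have k1 : ∀ d ∈ D, ∀ v ∈ V, ⁅d, v⁆ ∈ C[A] := fun d hd v hv => by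
    obtain ⟨E, hE, hm, hc⟩ := tD.exists_cmS hv
    have nE : ∀ {A : Subgroup G}, Good H A₀ Y A → A ≤ N[E] := fun hA => le_N_iff.2 fun x hx y hy => by
      obtain ⟨d, hd, rfl⟩ := (hm y).1 hy
      exact (hm _).2 ⟨_, conj_mem ((k hA).1 hx) hd, ((k hA).2 x hx d hd v hv).symm⟩
    by_contra e
    have c1 := (nt.irr hE (sup_le (nE hA) (nE hA')) fun e' =>
      e (C_anti le_sup_left (e' ((hm _).2 ⟨d, hd, rfl⟩)))).card
    have c2 := nt.card_Z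
    have c3 := nt.l.one_lt
    have c4 := card_pos (E ⊓ (V ⊓ C[A ⊔ A']))
    have c5 := card_pos (V ⊓ C[A ⊔ A'])
    rw [hD.card, ← hA.pt.card] at hc
    rw [← c2] at c1
    have : ♯(V ⊓ C[A ⊔ A']) * (♯A * ♯A) ≤ ♯(V ⊓ C[A ⊔ A']) * ♯A := by nlinarith
    have := Nat.le_of_mul_le_mul_left this c5
    nlinarith
  refine ⟨k1, fun x hx => mem_C'.2 fun d hd => ?_⟩
  obtain ⟨v, hv, hc⟩ := SetLike.not_le_iff_exists.1 tD.nc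
  rw [← mul_inv_eq_iff_eq_mul]
  refine tD.inj (conj_mem ((k hA).1 hx) hd) hd hv hc ?_
  rw [← (k hA).2 x hx d hd v hv]
  exact mem_C1_iff_conj.1 (mem_C1_comm.1 (C_le_C1 hx (k1 d hd v hv)))

theorem LS.centY (h : LS V H T B A₀ Y) (hA : Good H A₀ Y A) : A ≤ C[Y] :=
  cents_symm (h.Yg.trans (gen_le_iff.2 fun _ h1 h2 => cents_symm (h.centD hA h1 h2).2))

theorem LS.eq_one (h : LS V H T B A₀ Y) (hA : Good H A₀ Y A) (hA' : Good H A₀ Y A') (p : Pt H B ω)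
    (q : A ⊔ Y ≤ ω) (n : ¬ A' ≤ ω) (ha : a ∈ A') (hω : a ∈ ω) : a = 1 := by
  by_contra a1
  have t' := h.ti hA'.pt
  obtain ⟨P, p1, p2⟩ := Sylow_superset Nat.prime_two (M := ω ⊓ N[Y]) ((ea_pi t'.eA).piElt ha).isPi
    (zpowers_le.2 ⟨hω, hA'.norm ha⟩)
  obtain ⟨k, hk, e⟩ := Sylow_Jsub Nat.prime_two p1 (ea_pi (h.ti hA.pt).eA)
    (le_inf (le_sup_left.trans q) hA.norm)
  exact (h.nt (hA.cj (p.le h.ff.mp.BH hk.1) hk.2) hA' p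
    (sup_le (e.trans (p1.le.trans inf_le_left)) (le_sup_right.trans q)) n).not_two ha a1
    (p1.pi.of_le (sup_le e p2)) (sup_le_sup_left (zpowers_le.2 ha) _) le_sup_left
    (mem_sup_right (mem_zpowers a))

theorem LS.trans (h : LS V H T B A₀ Y) (hA : Good H A₀ Y A) (h1 : Good H A₀ Y A₁)
    (h3 : Good H A₀ Y A₃) (p : Pt H B ω) (q : A ⊔ Y ≤ ω) (n1 : ¬ A₁ ≤ ω) (n3 : ¬ A₃ ≤ ω)
    (p' : Pt H B ω') (q' : A₃ ⊔ Y ≤ ω') (ha : a ∈ A₁) (hv : v ∈ V) (hu : ⁅a, v⁆ ≠ 1) :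
    ∃ b ∈ A, b * ⁅a, v⁆ * b⁻¹ ∈ C[A₃] ∧ cj b A₁ ≤ ω' := by
  have t1 := h.nt hA h1 p q n1
  obtain ⟨b, hb, e⟩ := (h.nt hA h3 p q n3).exists_conj (t1.r.cm_mem ha hv) fun e => hu (t1.tr a ha v hv e)
  refine ⟨b, hb, e, ?_⟩
  by_contra n
  rw [cm_conj] at e
  have := (h.nt h3 (h1.cj (h.le hA hb) (hA.norm hb)) p' q' n).tr _ (conj_mem_cj b ha) _
    (conj_mem (t1.l.norm hb) hv) e
  rw [← cm_conj, conj_eq_one_iff'] at this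
  exact hu this

theorem LS.trans' (h : LS V H T B A₀ Y) (hA : Good H A₀ Y A) (h1 : Good H A₀ Y A₁)
    (h3 : Good H A₀ Y A₃) (p : Pt H B ω) (q : A ⊔ Y ≤ ω) (n1 : ¬ A₁ ≤ ω) (n3 : ¬ A₃ ≤ ω)
    (p' : Pt H B ω') (q' : A₃ ⊔ Y ≤ ω') : ∃ b ∈ A, cj b A₁ ≤ ω' := by
  obtain ⟨a, ha, a1⟩ := exists_ne_one (h.ti h1.pt).ne
  obtain ⟨v, hv, hu⟩ := (h.ti h1.pt).exists_cm ha a1
  obtain ⟨b, hb, -, e⟩ := h.trans hA h1 h3 p q n1 n3 p' q' ha hv hu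
  exact ⟨b, hb, e⟩

theorem LS.same (h : LS V H T B A₀ Y) (h1 : Good H A₀ Y A₁) (h2 : Good H A₀ Y A₂) (p : Pt H B ω)
    (q1 : A₁ ⊔ Y ≤ ω) (q2 : A₂ ⊔ Y ≤ ω) : ∀ a ∈ A₁, ∀ v ∈ V, ⁅a, v⁆ ∈ C[A₂] := fun a ha v hv => by
  by_cases hu : ⁅a, v⁆ = 1
  · rw [hu]; exact one_mem _
  obtain ⟨A', hA', n⟩ := h.partner h1 p q1
  obtain ⟨ω', p', q'⟩ := h.good_pt hA'
  obtain ⟨b, hb, e1, e2⟩ := h.trans hA' h1 h2 p' q' (h.not_le h1 p p' q1 q' n)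
    (h.not_le h2 p p' q2 q' n) p q2 ha hv hu
  have : b = 1 := h.eq_one h1 hA' p q1 n hb (by
    by_contra e; exact h.cj_nle h1 p q1 ⟨h.le hA' hb, hA'.norm hb⟩ e e2)
  simpa [this] using e1

theorem LS.eq_of_C (h : LS V H T B A₀ Y) (h1 : Pt H A₀ A₁) (h2 : Pt H A₀ A₂)
    (e : V ⊓ C[A₁] = V ⊓ C[A₂]) : A₁ = A₂ := by
  rw [← h.no.AS_eq h.ff.fa (h.ti h1) (h.mo' h1).le, e, h.no.AS_eq h.ff.fa (h.ti h2) (h.mo' h2).le]

theorem core_spec (N ω : Subgroup G) : ∃ N₀, N₀ ⊴ N ∧ ∀ x, x ∈ N₀ ↔ x ∈ N ∧ ∀ g ∈ N, x ∈ cj g ω := by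
  refine ⟨N ⊓ ⨅ g : N, cj (g : G) ω, nml_inf_of_norm (le_N_iff.2 fun k hk x hx => mem_iInf.2 fun g => ?_),
    fun x => and_congr_right fun _ => by simp⟩
  have := conj_mem_cj k (mem_iInf.1 hx ⟨k⁻¹ * g, mul_mem (inv_mem hk) g.2⟩)
  rwa [← cj_mul, mul_inv_cancel_left] at this

theorem LS.eq (h : LS V H T B A₀ Y) (h1 : Good H A₀ Y A₁) (h2 : Good H A₀ Y A₂) (p : Pt H B ω)
    (q1 : A₁ ⊔ Y ≤ ω) (q2 : A₂ ⊔ Y ≤ ω) : A₁ = A₂ := by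
  by_contra hne
  have t1 := h.ti h1.pt
  have t2 := h.ti h2.pt
  have s12 := h.same h1 h2 p q1 q2
  have s21 := h.same h2 h1 p q2 q1
  have n12 := h.no.norm h.ff.fa t2 (h.le h2) (h.le h1) h.ff.norm s12
  have n21 := h.no.norm h.ff.fa t1 (h.le h1) (h.le h2) h.ff.norm s21
  have hi : A₁ ⊓ A₂ = ⊥ := by
    by_contra e
    obtain ⟨a, ha, a1⟩ := exists_ne_one e
    exact hne (h.eq_of_C h1.pt h2.pt ((t1.C1 ha.1 a1).symm.trans (t2.C1 ha.2 a1)))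
  have hc := cents_of_inf_eq_bot n12 n21 hi
  obtain ⟨N₀, hN, mN⟩ := core_spec (H ⊓ N[Y]) ω
  have AN : A₁ ⊔ A₂ ≤ H ⊓ N[Y] := sup_le (le_sup_left.trans (h.AY h1)) (le_sup_left.trans (h.AY h2))
  obtain ⟨P, p1, p2⟩ := Sylow_superset Nat.prime_two (M := H ⊓ N[Y]) (Q := A₁ ⊔ A₂ ⊔ Y)
    (((ea_pi t1.eA).sup (ea_pi t2.eA) n21).sup' h.Y2 (AN.trans inf_le_right))
    (sup_le AN (le_sup_right.trans (h.AY h1)))
  have p3 : A₁ ⊔ Y ≤ P := (sup_le_sup_right le_sup_left Y).trans p2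
  have hF := Frattini_arg Nat.prime_two hN (p1.inf_nml hN)
  have n0 : ¬ H ⊓ N[Y] ⊓ N[P ⊓ N₀] ≤ ω := fun e => h.nY ω p (by
    rw [← hF.sup_eq]
    exact sup_le (fun x hx => by simpa [cj_one] using ((mN x).1 hx).2 1 (one_mem _)) e)
  obtain ⟨x, hx, nx⟩ := SetLike.not_le_iff_exists.1 n0
  have cR := (h.core h1 p q1 (le_inf (h.AY h1) (p3.trans (norm_inf (norm_self P) (p1.le.trans hN.norm))))
    inf_le_left n0 (p1.pi.inf_left N₀) (inf_le_left.trans (p1.le.trans inf_le_left)) inf_le_right).2.1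
  have h' := h1.cj hx.1.1 hx.1.2
  have n' := h.cj_nle h1 p q1 hx.1 nx
  have p' := p.cj hx.1.1
  have q' : cj x A₁ ⊔ Y ≤ cj x ω := by
    have := cj_mono x q1; rwa [cj_sup, cj_of_mem_N hx.1.2] at this
  have cR' : ∀ a ∈ cj x A₁, ∀ v ∈ V, ⁅a, v⁆ ∈ C[P ⊓ N₀] := fun a ha v hv => by
    rw [← cj_of_mem_N hx.2, ← cj_C, mem_cj]
    convert cR _ (mem_cj.1 ha) _ (conj_mem' (h.ff.norm hx.1.1) hv) using 1
    simp only [commutatorElement_def]; group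
  set A' := cj x A₁
  set ω' := cj x ω
  have nt := h.nt h1 h' p q1 n'
  have hex : ∀ a ∈ A₂, ∃ b ∈ A₁, b * a ∈ N₀ := fun a ha => by
    have aN := AN (mem_sup_right ha)
    obtain ⟨b, hb, e⟩ := h.trans' h1 (h'.cj aN.1 aN.2) h' p q1 (fun e => n' (by
      rwa [cj_le_iff, cj_of_mem (inv_mem (q2 (mem_sup_left ha)))] at e)) n' p' q'
    have bN := mul_mem (AN (mem_sup_left hb)) aN
    rw [← cj_mul] at e
    have e1 : b * a ∈ ω' := by by_contra e'; exact h.cj_nle h' p' q' bN e' e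
    refine ⟨b, hb, (mN _).2 ⟨bN, fun y hy => ?_⟩⟩
    have qy : cj y A₁ ⊔ Y ≤ cj y ω := by
      have := cj_mono y q1; rwa [cj_sup, cj_of_mem_N hy.2] at this
    by_cases ny : cj y A₁ ≤ ω
    · rw [← h.uniq (h1.cj hy.1 hy.2) p (p.cj hy.1) (sup_le ny (le_sup_right.trans q1)) qy]
      exact mul_mem (q1 (mem_sup_left hb)) (q2 (mem_sup_left ha))
    obtain ⟨c, hc', e2⟩ := h.trans' h1 h' (h1.cj hy.1 hy.2) p q1 n' ny (p.cj hy.1) qy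
    have cN := AN (mem_sup_left hc')
    rw [h.uniq (h'.cj cN.1 cN.2) (p.cj hy.1) (p'.cj cN.1) (sup_le e2 (le_sup_right.trans qy)) (by
      have := cj_mono c q'; rwa [cj_sup, cj_of_mem_N cN.2] at this)]
    have := conj_mem_cj c e1
    rwa [← mul_assoc, H12.ea_comm t1.eA hc' hb, mul_assoc b, comm_of_cent hc hc' ha, ← mul_assoc,
      mul_inv_cancel_right] at this
  choose! f f1 f2 using hex
  obtain ⟨a', ha', a1'⟩ := exists_ne_one nt.r.ne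
  set Z := V ⊓ C[A₁ ⊔ A₂] with hZ
  have hcz : ∀ e ∈ A₁ ⊔ A₂, ∀ v ∈ V, ⁅e, v⁆ ∈ Z := fun e he v hv => by
    have nZ : A₁ ⊔ A₂ ≤ N[Z] := norm_of_cent (cents_symm inf_le_right)
    refine centQ_cm (t1.abl.norm le_rfl inf_le_left) (sup_le (le_centQ' (t1.abl.norm le_rfl inf_le_left)
      (le_sup_left.trans nZ) fun a ha v hv => ⟨t1.cm_mem ha hv, ?_⟩) (le_centQ'
      (t1.abl.norm le_rfl inf_le_left) (le_sup_right.trans nZ) fun a ha v hv => ⟨t2.cm_mem ha hv, ?_⟩) he) hv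
    · rw [C_sup]; exact ⟨t1.qd a ha v hv, s12 a ha v hv⟩
    · rw [C_sup]; exact ⟨s21 a ha v hv, t2.qd a ha v hv⟩
  have UV : ⁅V, zpowers a'⁆ ≤ V := (nt.r.cm_le ha').trans inf_le_left
  have PV : Z ⊔ ⁅V, zpowers a'⁆ ≤ V := sup_le inf_le_left UV
  have mA : ∀ a ∈ A₂, f a * a ∈ AS H V (Z ⊔ ⁅V, zpowers a'⁆) ⊓ (A₁ ⊔ A₂) := fun a ha => by
    have m := mul_mem_sup (f1 a ha) ha
    refine ⟨(mem_AS t1.abl PV).2 ⟨(AN m).1, ?_, fun v hv => mem_sup_left (hcz _ m v hv)⟩, m⟩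
    rw [C_sup]
    refine ⟨cents_symm inf_le_right m, mem_C_iff_le_C1.2 fun y hy => ?_⟩
    obtain ⟨w, hw, rfl⟩ := (mem_cm1 t1.abl (nt.r.norm ha')).1 hy
    exact C_le_C1 (mem_inf.2 ⟨p2 (mem_sup_left m), f2 a ha⟩) (cR' a' ha' w hw)
  have c1 : ♯A₂ ≤ ♯(AS H V (Z ⊔ ⁅V, zpowers a'⁆) ⊓ (A₁ ⊔ A₂)) := by
    have := card_le_rel (K' := ⊥) (fun a => f a * a) mA fun a ha b hb e =>
      (mul_eq_mul_of_inf hi (f1 a ha) (f1 b hb) ha hb (inv_mul_eq_one.1 (mem_bot.1 e))).2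
    rwa [relIndex_bot_left] at this
  have c2 : (Z ⊔ ⁅V, zpowers a'⁆).relIndex V ≤ ♯A₂ := by
    have d1 := card_sup_of_inf (A := Z) (B := ⁅V, zpowers a'⁆) (t1.abl.norm UV inf_le_left)
      (eq_bot_iff.2 fun y hy => by
        obtain ⟨w, hw, rfl⟩ := (mem_cm1 t1.abl (nt.r.norm ha')).1 hy.2
        exact mem_bot.2 (nt.tr a' ha' w hw (C_anti le_sup_left hy.1.2)))
    have d2 := card_mul_relIndex PV
    have d3 := card_sup (A := V ⊓ C[A₁]) (B := V ⊓ C[A₂]) (t1.abl.norm inf_le_left inf_le_left)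
    rw [← inf_inf_distrib_left, ← C_sup, ← hZ] at d3
    have d4 := card_le (sup_le (inf_le_left : V ⊓ C[A₁] ≤ V) (inf_le_left : V ⊓ C[A₂] ≤ V))
    have d5 := t1.card
    have d6 := t2.card
    rw [nt.r.card_cm ha' a1', ← nt.card] at d1
    rw [h1.pt.card, ← h2.pt.card] at d1 d5
    rw [d1] at d2
    have d7 : ♯V * ♯V ≤ ♯V * (♯Z * ♯A₂ * ♯A₂) := by
      calc _ = (♯(V ⊓ C[A₁]) * ♯(V ⊓ C[A₂])) * (♯A₂ * ♯A₂) := by
            conv_lhs => rw [← d5]; rhs; rw [d5, ← d6]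
            ring
        _ ≤ (♯V * ♯Z) * (♯A₂ * ♯A₂) := Nat.mul_le_mul_right _ (d3 ▸ Nat.mul_le_mul_right _ d4)
        _ = _ := by ring
    have d8 := Nat.le_of_mul_le_mul_left d7 (card_pos V)
    rw [← d2] at d8
    exact Nat.le_of_mul_le_mul_left d8 (Nat.mul_pos (card_pos _) (card_pos _))
  have hAS := (eq_of_card_ge inf_le_left
    ((h.no.card_AS t1.ea PV h.ff.fa).trans (c2.trans c1))).ge.trans inf_le_right
  have nAS := norm_AS (X := zpowers a') (H := H) (norm_of_le (zpowers_le.2 (h.le h' ha')))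
    (zpowers_le.2 (nt.r.norm ha')) (zpowers_le.2 (mem_N_of_cm fun y hy =>
      mem_sup_right (cm_mem_cm1 t1.abl (nt.r.norm ha') (PV hy)))) (mem_zpowers a')
  obtain ⟨a, ha, a1⟩ := exists_ne_one t2.ne
  have b1 : f a ≠ 1 := fun e => a1 (h.eq_one h' h2 p' q' (h.not_le h2 p p' q2 q' n') ha (by
    have := ((mN _).1 (f2 a ha)).2 x hx.1
    rwa [e, one_mul] at this))
  obtain ⟨v, hv, hv1⟩ := SetLike.not_le_iff_exists.1 (show ¬ V ⊓ C[A₂] ≤ V ⊓ C[A₁] from fun e =>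
    hne (h.eq_of_C h1.pt h2.pt (eq_of_card_eq e (Nat.eq_of_mul_eq_mul_right (card_pos A₂) (by
      rw [t2.card, h2.pt.card, ← h1.pt.card, t1.card]))).symm))
  have eu : ⁅f a * a, v⁆ = ⁅f a, v⁆ := by rw [cm_mul, cm_one_of_C hv.2 ha]; group
  have e1 := hcz _ (hAS (conj_mem nAS (mA a ha).1)) _ (conj_mem (nt.r.norm ha') hv.1)
  rw [← cm_conj, eu] at e1
  have e2 := t1.cm_mem (f1 a ha) hv.1
  exact hv1 ⟨hv.1, nt.mem_C (f1 a ha) b1 hv.1 (nt.symm.mem_C ha' a1' e2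
    (mul_mem (C_anti le_sup_left e1.2) (inv_mem (t1.qd _ (f1 a ha) v hv.1))))⟩

theorem LS.cases (h : LS V H T B A₀ Y) (hA : Good H A₀ Y A) (hA' : Good H A₀ Y A') (p : Pt H B ω)
    (q : A ⊔ Y ≤ ω) (n : ¬ A' ≤ ω) (hD : Good H A₀ Y D) : D = A ∨ ∃ b ∈ A, D = cj b A' := by
  by_cases e : D ≤ ω
  · exact Or.inl (h.eq hD hA p (sup_le e (le_sup_right.trans q)) q)
  obtain ⟨ω', p', q'⟩ := h.good_pt hD
  obtain ⟨b, hb, e1⟩ := h.trans' hA hA' hD p q n e p' q'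
  exact Or.inr ⟨b, hb, h.eq hD (hA'.cj (h.le hA hb) (hA.norm hb)) p' q' (sup_le e1 (le_sup_right.trans q'))⟩

theorem LS.tau (h : LS V H T B A₀ Y) (hA : Good H A₀ Y A) (hA' : Good H A₀ Y A') (p : Pt H B ω)
    (q : A ⊔ Y ≤ ω) (n : ¬ A' ≤ ω) (hg : g ∈ H ⊓ N[Y]) (hc : g ∈ C[A]) :
    ∃ b ∈ A, b⁻¹ * g ∈ C[A ⊔ A'] := by
  rcases h.cases hA hA' p q n (hA'.cj hg.1 hg.2) with e | ⟨b, hb, e⟩
  · rw [cj_eq_iff, cj_of_mem_C (inv_mem hc)] at e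
    exact (n (e ▸ le_sup_left.trans q)).elim
  have c1 : b⁻¹ * g ∈ C[A] := mul_mem (inv_mem (H12.ea_le_centralizer (h.ti hA.pt).eA hb)) hc
  have n1 : b⁻¹ * g ∈ N[A'] := cj_eq_cj_iff.1 e
  rw [C_sup]
  refine ⟨b, hb, c1, mem_C'.2 fun y hy => ?_⟩
  generalize b⁻¹ * g = k at c1 n1
  have e1 : cj k (cj y A) = cj y A := by
    rcases h.cases hA hA' p q n (hA.cj (h.le hA' hy) (hA'.norm hy)) with e | ⟨c, hc, e⟩
    · rw [e, cj_of_mem_C c1]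
    · rw [e, ← cj_mul, mem_C'.1 c1 c hc, cj_mul, cj_of_mem_N n1]
  have m := mul_mem (inv_mem hy) (conj_mem n1 hy)
  have e2 : y⁻¹ * (k * y * k⁻¹) = 1 := h.eq_one hA hA' p q n m (by
    by_contra e'
    refine h.cj_nle hA p q ⟨h.le hA' m, hA'.norm m⟩ e' ?_
    rw [cj_mul, cj_mul, cj_mul, cj_of_mem_C (inv_mem c1), e1, cj_inv_cj]
    exact le_sup_left.trans q)
  rw [← mul_inv_eq_iff_eq_mul, ← inv_mul_eq_one.1 e2]

end PU22
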