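import Mathlib
import Cfsg.Agent.H22.PU4

/-!
# Pushing up, part 5: offenders in the Sylow subgroup
-/

set_option autoImplicit false
set_option linter.unusedSectionVars false

namespace PU22

open Subgroup Cfsg H24 H11.ZN H12.NG
open H12 (meas)
open scoped commutatorElement

universe u

variable {G : Type u} [Group G] [Finite G]
  {V W H A A₀ A' B D E F L X Y Z K Q T P N U S R ω ω' : Subgroup G}
  {a b c d e g h t v w x y z : G}

theorem le_of_le_comm_sup (hV : P2 V) (hE : P2 E) (h1 : E ≤ N[V]) (h2 : E ≤ N[Z]) (h3 : V ≤ N[Z])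
    (h : V ≤ ⁅V, E⁆ ⊔ Z) : V ≤ Z := by
  rw [← quo_eq_bot h3]
  refine Nil.eq_bot_of_le_comm (((hV.sup hE h1).quo Z).nil Nat.prime_two) (quo_mono Z le_sup_left)
    (quo_mono Z le_sup_right) ?_
  rw [← quo_comm h3 h2, ← quo_sup_right ((comm_le_left h1).trans h3)]
  exact quo_mono Z h

theorem indep {ι : Type*} (U C : ι → Subgroup G) (hV : Abl V) (hU : ∀ i, U i ≤ V)
    (h1 : ∀ i, U i ⊓ C i = ⊥) (h2 : ∀ i j, U i = U j ∨ U i ≤ C j) (s : Finset ι) :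
    ∀ u ∈ ⨆ i ∈ s, U i, (∀ i ∈ s, u ∈ C i) → u = 1 := by
  classical
  induction s using Finset.induction_on with
  | empty => intro u hu _; simpa using hu
  | insert j s hj ih =>
    intro u hu hc
    rw [Finset.iSup_insert] at hu
    refine ih u ?_ fun i hi => hc i (Finset.mem_insert_of_mem hi)
    by_cases e : ∃ i ∈ s, U i = U j
    · obtain ⟨i, hi, e⟩ := e
      have := sup_le (e ▸ le_iSup₂ (f := fun i (_ : i ∈ s) => U i) i hi) le_rfl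
      exact this hu
    · obtain ⟨x, hx, r, hr, rfl⟩ :=
        (mem_sup_of_norm (hV.norm (iSup₂_le fun i _ => hU i) (hU j))).1 hu
      have : r ∈ C j := iSup₂_le (fun i hi => (h2 i j).resolve_left fun e' => e ⟨i, hi, e'⟩) hr
      have hx1 : x ∈ U j ⊓ C j := ⟨hx, ((C j).mul_mem_cancel_right this).1 (hc j (Finset.mem_insert_self _ _))⟩
      rw [h1, mem_bot] at hx1
      rwa [hx1, one_mul]

theorem rel_tower (h1 : V ⊓ K ≤ L) : K.relIndex V = K.relIndex (V ⊓ L) * L.relIndex V := by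
  refine Nat.eq_of_mul_eq_mul_left (card_pos (V ⊓ K)) ?_
  have e : V ⊓ L ⊓ K = V ⊓ K := by
    rw [inf_right_comm]; exact inf_eq_left.2 h1
  rw [card_rel, ← mul_assoc, ← e, card_rel, card_rel]

theorem Nt.card_C (h : Nt V A A') : ♯(V ⊓ C[A]) = ♯(V ⊓ C[A ⊔ A']) * ♯A :=
  Nat.eq_of_mul_eq_mul_right (card_pos A) (by rw [h.l.card, mul_assoc, h.card_Z])

theorem Nt.normZ (h : Nt V A A') : V ≤ N[V ⊓ C[A ⊔ A']] := h.l.abl.norm le_rfl inf_le_left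

theorem Nt.cent_of (h : Nt V A A') (he : PiElt {2} e) (h1 : e ∈ N[V]) (h2 : e ∈ N[A])
    (hc : ∀ w ∈ V ⊓ C[A], ⁅e, w⁆ ∈ C[A']) : e ∈ C[A] := by
  obtain ⟨v, hv, hv1, hv2⟩ := exists_fix_mod (Z := V ⊓ C[A]) he.isPi (ea_pi h.l.ea) (zpowers_le.2 h1)
    (zpowers_le.2 (norm_inf (zpowers_le.2 h1) (norm_C (zpowers_le.2 h2)) (mem_zpowers e)))
    (h.l.abl.norm le_rfl inf_le_left) fun e => h.l.nc (e.trans inf_le_right)
  refine mem_C'.2 fun a ha => ?_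
  have e1 := hc _ ⟨h.l.cm_mem ha hv, h.l.qd a ha v hv⟩
  have e2 := hv2 e (mem_zpowers e)
  have m := conj_mem h2 ha
  rw [commutatorElement_def e, cm_conj, conj_eq_cm e v, cmV_C' h.l.abl (h.l.norm m) hv e2.1
    (C_le_C1 m e2.2), h.l.abl.comm (h.l.cm_mem m hv) (inv_mem (h.l.cm_mem ha hv)), h.l.cm_div ha m hv] at e1
  have := h.l.eq_one (mul_mem m (inv_mem ha)) hv (fun e => hv1 ⟨hv, e⟩)
    (h.tl _ (mul_mem m (inv_mem ha)) v hv e1)
  rwa [mul_inv_eq_one, mul_inv_eq_iff_eq_mul] at this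

theorem Nt.card_F (h : Nt V A A') (h2 : e ∈ N[A]) (h3 : e ∈ N[V ⊓ C[A ⊔ A']])
    (hc : e ∉ C[A]) : ♯(V ⊓ centQ (zpowers e) (V ⊓ C[A ⊔ A'])) ≤ ♯(V ⊓ C[A]) := by
  set F := V ⊓ centQ (zpowers e) (V ⊓ C[A ⊔ A']) with hF
  obtain ⟨a, ha, hae⟩ : ∃ a ∈ A, e * a ≠ a * e := by
    by_contra e'; push Not at e'; exact hc (mem_C'.2 e')
  have m := conj_mem h2 ha
  have k : (V ⊓ C[A]).relIndex F ≤ F.relIndex (V ⊓ C[A]) := by
    refine rel_le (fun v => ⁅a, v⁆) (fun v hv => ⟨h.l.cm_mem ha hv.1, h.l.qd a ha v hv.1⟩)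
      fun v hv v' hv' e1 => ?_
    have hw : v⁻¹ * v' ∈ F := mul_mem (inv_mem hv) hv'
    have e2 : ⁅a, v⁆⁻¹ * ⁅a, v'⁆ = ⁅a, v⁻¹ * v'⁆ := by
      rw [inv_mul_eq_iff_eq_mul, ← cmV h.l.abl (h.l.norm ha) hv.1 hw.1, mul_inv_cancel_left]
    rw [e2] at e1
    generalize v⁻¹ * v' = w at hw e1
    have e3 := ((mem_centQ1 h3).1 hw.2).2
    have e4 := ((mem_centQ1 h3).1 e1.2).2
    rw [commutatorElement_def e, cm_conj, conj_eq_cm e w, cmV_C' h.l.abl (h.l.norm m) hw.1 e3.1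
      (C_le_C1 (mem_sup_left m) e3.2), h.l.abl.comm (h.l.cm_mem m hw.1) (inv_mem (h.l.cm_mem ha hw.1)),
      h.l.cm_div ha m hw.1] at e4
    exact ⟨hw.1, h.mem_C (mul_mem m (inv_mem ha)) (fun e' => hae (by
      rwa [mul_inv_eq_one, mul_inv_eq_iff_eq_mul] at e')) hw.1 (C_anti le_sup_right e4.2)⟩
  rw [← card_rel F (V ⊓ C[A]), ← card_rel (V ⊓ C[A]) F, inf_comm F]
  exact Nat.mul_le_mul_left _ k

/-- a natural pair with `A ≤ T`, `A' ≰ B` -/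
structure NB (V H T B A A' : Subgroup G) : Prop where
  ff : FF V H T B
  nt : Nt V A A'
  AT : A ≤ T
  AH : A' ≤ H
  nB : ¬ A' ≤ B

theorem NB.prod (h : NB V H T B A A') (hR : R ≤ T) (hn : A ⊔ A' ≤ N[R]) :
    IsProd (V ⊓ C[R]) (V ⊓ C[A ⊔ A']) V :=
  h.nt.irr inf_le_left (norm_inf h.nt.normV (norm_C hn)) fun e => h.nB
    ((le_inf h.AH (le_sup_right.trans (cents_symm ((inf_le_inf_left _ (C_anti hR)).trans e)))).trans h.ff.cz)

theorem NB.cmZ (h : NB V H T B A A') (hc : c ∈ T) (hx : c ∈ C[A ⊔ A']) (hv : v ∈ V) :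
    ⁅c, v⁆ ∈ V ⊓ C[A ⊔ A'] := by
  obtain ⟨u, hu, z, hz, rfl⟩ := (h.prod (zpowers_le.2 hc) (norm_of_cent (cents_symm (zpowers_le.2 hx)))).mul v hv
  have cV := h.ff.norm (h.ff.mp.TH hc)
  rw [cmV_C' h.ff.abl cV hz.1 hu.1 (C_le_C1 (mem_zpowers c) hu.2)]
  exact cm_mem (norm_inf (zpowers_le.2 cV) (norm_C (norm_of_cent (zpowers_le.2 hx))) (mem_zpowers c)) hz

theorem NB.cmR (h : NB V H T B A A') (hR : R ≤ T) (hn : A ⊔ A' ≤ N[R]) (ha : a ∈ A ⊔ A') (hv : v ∈ V) :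
    ⁅a, v⁆ ∈ C[R] := by
  obtain ⟨u, hu, z, hz, rfl⟩ := (h.prod hR hn).mul v hv
  rw [cmV_C (C_le_C1 ha hz.2)]
  exact (cm_mem (norm_inf h.nt.normV (norm_C hn) ha) hu).2

theorem NB.F_le (h : NB V H T B A A') (hb : b ∈ A) (b1 : b ≠ 1) (hc : c ∈ T) (hx : c ∈ C[A ⊔ A'])
    (hv : v ∈ V) (e : ⁅b * c, v⁆ ∈ C[A']) : v ∈ C[A] := by
  have e1 := h.cmZ hc hx hv
  rw [cm_mul, conj_eq_of_mem_C (cents_symm le_rfl (mem_sup_left hb)) e1.2] at e
  exact h.nt.mem_C hb b1 hv ((C[A'].mul_mem_cancel_left (C_anti le_sup_right e1.2)).1 e)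

/-- elements of `E` centralising `A` induce inner automorphisms -/
def Inn (E A A' : Subgroup G) : Prop := ∀ g ∈ E, g ∈ C[A] → ∃ b ∈ A, b⁻¹ * g ∈ C[A ⊔ A']

theorem NB.c1a (h : NB V H T B A A') (hE : E ≤ T) (he : EA E) (ht : C[E].relIndex V ≤ ♯E)
    (hi : Inn E A A') (hc : E ≤ C[A]) : E ≤ C[A ⊔ A'] ∨ A ≤ E := by
  refine (em _).imp_right fun e => ?_
  obtain ⟨g, hg, e⟩ := SetLike.not_le_iff_exists.1 e
  obtain ⟨b, hb, e1⟩ := hi g hg (hc hg)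
  have k : V ⊓ C[E] ≤ C[A] := fun v hv => h.F_le hb (fun e' => e (by simpa [e'] using e1))
    (mul_mem (inv_mem (h.AT hb)) (hE hg)) e1 hv.1 (by
      rw [mul_inv_cancel_left, cm_one_of_C hv.2 hg]; exact one_mem _)
  have := h.ff.no (E ⊔ A) ((sup_le hE h.AT).trans h.ff.mp.TH) (H12.ea_sup he h.nt.l.eA hc)
  exact le_sup_right.trans (eq_of_card_ge le_sup_left (this.trans ((rel_le_of_inf le_rfl fun v hv => by
    rw [C_sup]; exact ⟨hv.1, k ⟨hv.2, hv.1⟩⟩).trans ht))).ge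

theorem NB.c1q (h : NB V H T B A A') (hE : E ≤ T) (he : EA E) (ht : C[E].relIndex V ≤ ♯E)
    (hi : Inn E A A') (n1 : E ≤ N[A]) (n2 : E ≤ N[A ⊔ A']) (hq : E ≤ C[⁅V, E⁆]) : E ≤ C[A] := by
  by_contra hn
  obtain ⟨e, hee, hc⟩ := SetLike.not_le_iff_exists.1 hn
  have EV := hE.trans (h.ff.mp.TH.trans h.ff.norm)
  set Z := V ⊓ C[A ⊔ A'] with hZ
  have EZ : E ≤ N[Z] := norm_inf EV (norm_C n2)
  have VZ : V ≤ N[Z] := h.nt.normZ
  set W := V ⊓ centQ E Z with hW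
  have WF : ∀ e ∈ E, W ≤ V ⊓ centQ (zpowers e) Z := fun e he w hw =>
    ⟨hw.1, (mem_centQ1 (EZ he)).2 ⟨VZ hw.1, centQ_cm' EZ hw.2 he⟩⟩
  have CW : V ⊓ C[E] ≤ W := fun w hw => ⟨hw.1, (mem_centQ EZ).2 ⟨VZ hw.1, fun e he => by
    rw [cm_one_of_C' hw.2 he]; exact one_mem _⟩⟩
  have ZW : Z ≤ W := fun w hw => ⟨hw.1, (mem_centQ EZ).2 ⟨VZ hw.1, fun e he => cm_mem' hw (EZ he)⟩⟩
  have qW : ∀ e ∈ E, ∀ v ∈ V, ⁅e, v⁆ ∈ W := fun e he v hv =>
    CW ⟨cm_mem (EV he) hv, cents_symm hq (cm_mem_comm he hv)⟩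
  have cC := h.nt.card_C
  rw [← hZ] at cC
  have c1 : ♯(V ⊓ C[A]) ≤ ♯W := by
    have d1 : (centQ (zpowers e) Z).relIndex V ≤ Z.relIndex W :=
      rel_le (fun v => ⁅e, v⁆) (qW e hee) fun v hv v' hv' e1 => by
        have hw := mul_mem (inv_mem hv) hv'
        refine (mem_centQ1 (EZ hee)).2 ⟨VZ hw, ?_⟩
        rwa [show ⁅e, v'⁆ = ⁅e, v⁆ * ⁅e, v⁻¹ * v'⁆ by
          rw [← cmV h.ff.abl (EV hee) hv hw, mul_inv_cancel_left], inv_mul_cancel_left] at e1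
    have d2 := card_rel V (centQ (zpowers e) Z)
    have d3 := h.nt.card_F (n1 hee) (EZ hee) hc
    have d4 := h.nt.l.card
    have d5 : ♯A ≤ Z.relIndex W := Nat.le_of_mul_le_mul_left
      (d4.trans_le (d2 ▸ Nat.mul_le_mul d3 d1)) (card_pos _)
    rw [cC, ← card_mul_relIndex ZW]
    exact Nat.mul_le_mul_left _ d5
  have WF' : ∀ e ∈ E, e ∉ C[A] → W = V ⊓ centQ (zpowers e) Z := fun e he hc =>
    eq_of_card_ge (WF e he) ((h.nt.card_F (n1 he) (EZ he) hc).trans c1)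
  have nCW : ¬ V ⊓ C[A] ≤ W := fun e1 => hc (h.nt.cent_of ((ea_pi he).piElt hee) (EV hee) (n1 hee)
    fun w hw => C_anti le_sup_right (centQ_cm' EZ (e1 hw).2 hee).2)
  obtain ⟨v, hv, hv1⟩ := SetLike.not_le_iff_exists.1 nCW
  have c2 : C[A ⊔ A'].relIndex E ≤ Z.relIndex (W ⊓ C[A]) := by
    refine rel_le (fun g => ⁅g, v⁆⁻¹) (fun g hg => inv_mem ⟨qW g hg v hv.1,
      (cm_mem (norm_inf EV (norm_C n1) hg) hv).2⟩) fun g hg g' hg' e1 => ?_
    have m := mul_mem (inv_mem hg') hg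
    have e2 : ⁅g'⁻¹ * g, v⁆ ∈ Z := by
      convert conj_mem' (EZ hg') e1 using 1
      simp only [commutatorElement_def]; group
    rw [← inv_mem_iff, mul_inv_rev, inv_inv]
    generalize g'⁻¹ * g = k at m e2
    by_cases kc : k ∈ C[A]
    · obtain ⟨b, hb, e3⟩ := hi k m kc
      by_cases b1 : b = 1
      · simpa [b1] using e3
      refine (nCW (eq_of_card_ge (A := W) (fun w hw => mem_inf.2 ⟨hw.1, h.F_le hb b1
        (mul_mem (inv_mem (h.AT hb)) (hE m)) e3 hw.1 ?_⟩) c1).ge).elim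
      rw [mul_inv_cancel_left]
      exact C_anti le_sup_right (centQ_cm' EZ hw.2 m).2
    · exact (hv1 (WF' k m kc ▸ ⟨hv.1, (mem_centQ1 (EZ m)).2 ⟨VZ hv.1, e2⟩⟩)).elim
  have c3 : Z.relIndex (W ⊓ C[A]) < ♯A := by
    have i1 : Z ≤ W ⊓ C[A] := le_inf ZW (inf_le_right.trans (C_anti le_sup_left))
    have i2 : W ⊓ C[A] < V ⊓ C[A] := lt_of_le_of_ne (inf_le_inf_right _ inf_le_left)
      fun e1 => nCW (e1.ge.trans inf_le_left)
    have := card_lt i2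
    rw [cC, ← card_mul_relIndex i1] at this
    exact Nat.lt_of_mul_lt_mul_left this
  have hp := h.prod (R := E ⊓ C[A ⊔ A']) (inf_le_left.trans hE) (norm_of_cent (cents_symm inf_le_right))
  have c4 : ♯A ≤ C[E].relIndex (V ⊓ C[E ⊓ C[A ⊔ A']]) := by
    have d1 := (hp.symm.mono_left ZW inf_le_left).relIndex_eq
    have d2 := card_mul_relIndex (inf_le_left : W ≤ V)
    have d3 := (WF' e hee hc ▸ h.nt.card_F (n1 hee) (EZ hee) hc : ♯W ≤ ♯(V ⊓ C[A]))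
    have d4 : ♯A ≤ W.relIndex V := Nat.le_of_mul_le_mul_left
      (h.nt.l.card.trans_le (d2 ▸ Nat.mul_le_mul_right _ d3)) (card_pos _)
    exact d4.trans (d1 ▸ rel_le_of_inf le_rfl fun w hw => CW ⟨hw.2.1, hw.1⟩)
  have c5 := h.ff.no (E ⊓ C[A ⊔ A']) ((inf_le_left.trans hE).trans h.ff.mp.TH) (ea_le he inf_le_left)
  rw [rel_tower (L := C[E ⊓ C[A ⊔ A']]) (inf_le_right.trans (C_anti inf_le_left)),
    ← card_rel E C[A ⊔ A'], mul_comm] at ht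
  have := Nat.le_of_mul_le_mul_left ((Nat.mul_le_mul c5 c4).trans ht) (card_pos _)
  omega

theorem NB.c1 (h : NB V H T B A A') (E : Subgroup G) : E ≤ T → EA E → C[E].relIndex V ≤ ♯E →
    Inn E A A' → E ≤ N[A] → E ≤ N[A ⊔ A'] → E ≤ C[A] := by
  induction E using subgroup_ind with
  | h E ih =>
    intro hE he ht hi n1 n2
    by_cases e0 : E = ⊥
    · rw [e0]; exact bot_le
    have EH := hE.trans h.ff.mp.TH
    obtain ⟨-, e2, e3⟩ := replace_ff h.ff EH he e0 fun F hF =>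
      (meas_le_iff.2 (h.ff.no F (hF.trans EH) (ea_le he hF))).trans (le_meas_iff.2 ht)
    rcases (inf_le_left : E ⊓ C[⁅V, E⁆] ≤ E).eq_or_lt with e | e
    · exact h.c1q hE he ht hi n1 n2 (e.ge.trans inf_le_right)
    have t := le_meas_iff.1 (e2 ▸ le_meas_iff.2 ht)
    have i : Inn (E ⊓ C[⁅V, E⁆]) A A' := fun g hg => hi g hg.1
    rcases h.c1a (e.le.trans hE) (ea_le he e.le) t i
      (ih _ e (e.le.trans hE) (ea_le he e.le) t i (e.le.trans n1) (e.le.trans n2)) with k | k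
    · have EV := EH.trans h.ff.norm
      have EZ : E ≤ N[V ⊓ C[A ⊔ A']] := norm_inf EV (norm_C n2)
      have VZ := h.nt.normZ
      have hp := (h.prod (e.le.trans hE) (norm_of_cent (cents_symm k))).sup_eq
      rw [e3] at hp
      have := le_of_le_comm_sup (Z := V ⊓ centQ E (V ⊓ C[A ⊔ A'])) (ea_pi h.ff.ea) (ea_pi he) EV
        (norm_inf EV (norm_centQ (norm_self E) EZ)) (h.ff.abl.norm le_rfl inf_le_left)
        (hp.ge.trans (sup_le (sup_le_sup_left (fun w hw => ⟨hw.1, (mem_centQ EZ).2 ⟨VZ hw.1, fun e he => by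
          rw [cm_one_of_C' hw.2 he]; exact one_mem _⟩⟩) _) (le_sup_of_le_right fun w hw =>
          ⟨hw.1, (mem_centQ EZ).2 ⟨VZ hw.1, fun e he => cm_mem' hw (EZ he)⟩⟩)))
      exact fun g hg => h.nt.cent_of ((ea_pi he).piElt hg) (EV hg) (n1 hg) fun w hw =>
        C_anti le_sup_right (centQ_cm' EZ (this hw.1).2 hg).2
    · exact cents_of_le (H12.ea_le_centralizer he) (k.trans e.le)

end PU22
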