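import Mathlib
import Cfsg.Agent.H22.PU5

/-!
# Pushing up, part 6: FF-modules for minimal parabolics
-/

set_option autoImplicit false
set_option linter.unusedSectionVars false

namespace PU22

open Subgroup Cfsg H24 H11.ZN H12.NG
open H12 (meas)
open scoped commutatorElement

universe u

variable {G : Type u} [Group G] [Finite G]
  {V W H A A₀ A' B D E F L X Y Z K Q T P N U S R ω ω' : Subgroup G}
  {a b c d e g h t v w x y z : G}

theorem LS.cj (h : LS V H T B A₀ Y) (hg : g ∈ H) : LS V H T B A₀ (cj g Y) := by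
  have k : ∀ {g : G} {W : Subgroup G}, g ∈ H → W ≤ gen H A₀ W → H24.cj g W ≤ gen H A₀ (H24.cj g W) :=
    fun {g W} hg e => cj_le_iff.2 (e.trans (gen_le_iff.2 fun D h1 h2 =>
      cj_le_iff.1 (le_gen (h1.cj hg) (cj_mono g h2))))
  have k2 : ∀ {g : G} {W ω : Subgroup G}, g ∈ H → H ⊓ N[W] ≤ ω → H ⊓ N[H24.cj g W] ≤ H24.cj g ω :=
    fun {g W ω} hg e => by
      have := cj_mono g e; rwa [cj_inf, cj_N, cj_of_mem hg] at this
  refine ⟨h.ff, h.mo, cj_le_of_mem h.YH hg, h.Y2.cj g, k hg h.Yg, fun ω p e => h.nY _ (p.cj (inv_mem hg)) ?_,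
    fun W e1 e2 e3 e4 e5 => ?_⟩
  · have := k2 (inv_mem hg) e; rwa [cj_inv_cj] at this
  · obtain ⟨ω, p, e⟩ := h.mx _ (cj_le_iff.1 e1) (cj_le_of_mem e2 (inv_mem hg)) (e3.cj _)
      (k (inv_mem hg) e4) fun e => e5 (by rw [← e, cj_cj_inv])
    have := k2 hg e
    rw [cj_cj_inv] at this
    exact ⟨_, p.cj hg, this⟩

/-- the configuration inside the Sylow subgroup -/
structure LT (V H T B A₀ Y A A' : Subgroup G) : Prop where
  ls : LS V H T B A₀ Y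
  g : Good H A₀ Y A
  g' : Good H A₀ Y A'
  le : A ⊔ Y ≤ T
  nB : ¬ A' ≤ B

theorem LT.q (h : LT V H T B A₀ Y A A') : A ⊔ Y ≤ B := h.le.trans h.ls.ff.mp.le

theorem LT.nb (h : LT V H T B A₀ Y A A') : NB V H T B A A' :=
  ⟨h.ls.ff, h.ls.nt h.g h.g' (Pt.self H B) h.q h.nB, le_sup_left.trans h.le, h.ls.le h.g', h.nB⟩

theorem LT.cases (h : LT V H T B A₀ Y A A') (hD : Good H A₀ Y D) : D = A ∨ ∃ b ∈ A, D = cj b A' :=
  h.ls.cases h.g h.g' (Pt.self H B) h.q h.nB hD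

theorem LT.eq_or (h : LT V H T B A₀ Y A A') (hD : Pt H A₀ D) (h1 : D ≤ B) (h2 : D ≤ N[Y]) :
    D = A ∨ D ≤ Y := by
  by_cases e : D ≤ Y
  · exact Or.inr e
  · exact Or.inl (h.ls.eq ⟨hD, h2, e⟩ h.g (Pt.self H B) (sup_le h1 (le_sup_right.trans h.q)) h.q)

theorem LT.eq_or' (h : LT V H T B A₀ Y A A') (hD : Pt H A₀ D) (h1 : D ≤ A ⊔ Y) : D = A ∨ D ≤ Y :=
  h.eq_or hD (h1.trans h.q) (h1.trans ((h.ls.AY h.g).trans inf_le_right))

theorem LT.normY (h : LT V H T B A₀ Y A A') (hg : g ∈ H) (h1 : g ∈ N[A ⊔ Y]) (h2 : g ∈ N[A]) :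
    g ∈ N[Y] :=
  mem_N_of_cj_le (cj_le_iff.2 (h.ls.Yg.trans (gen_le_iff.2 fun D d1 d2 => cj_le_iff.1
    ((h.eq_or' (d1.cj hg) (cj_le_of_mem_N (d2.trans le_sup_right) h1)).resolve_left fun e => h.g.nle (by
      rw [cj_eq_iff, cj_of_mem_N (inv_mem h2)] at e
      exact e ▸ d2)))))

theorem LT.normX (h : LT V H T B A₀ Y A A') (hg : g ∈ H) (h1 : g ∈ N[Y]) (h2 : g ∈ N[A]) :
    g ∈ N[A ⊔ A'] := by
  refine mem_N_of_cj_le ?_
  rw [cj_sup, cj_of_mem_N h2]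
  refine sup_le le_sup_left ?_
  rcases h.cases (h.g'.cj hg h1) with e | ⟨b, hb, e⟩
  · exact e.le.trans le_sup_left
  · exact e.le.trans (cj_le_of_mem le_sup_right (mem_sup_left hb))

theorem LT.cmY (h : LT V H T B A₀ Y A A') (hD : Pt H A₀ D) (h1 : D ≤ Y) (hd : d ∈ D) (hv : v ∈ V) :
    ⁅d, v⁆ ∈ C[A ⊔ A'] := by
  rw [C_sup]; exact ⟨(h.ls.centD h.g hD h1).1 d hd v hv, (h.ls.centD h.g' hD h1).1 d hd v hv⟩

theorem LT.c1 (h : LT V H T B A₀ Y A A') (hE : E ≤ T) (he : EA E) (ht : C[E].relIndex V ≤ ♯E)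
    (n0 : E ≤ N[A ⊔ Y]) (n1 : E ≤ N[A]) : E ≤ C[A ⊔ A'] ∨ A ≤ E := by
  have EH := hE.trans h.ls.ff.mp.TH
  have nY : E ≤ N[Y] := fun g hg => h.normY (EH hg) (n0 hg) (n1 hg)
  have i : Inn E A A' := fun g hg hc => h.ls.tau h.g h.g' (Pt.self H B) h.q h.nB ⟨EH hg, nY hg⟩ hc
  exact h.nb.c1a hE he ht i (h.nb.c1 E hE he ht i n1 fun g hg => h.normX (EH hg) (nY hg) (n1 hg))

theorem LT.c2 (h : LT V H T B A₀ Y A A') (E : Subgroup G) : E ≤ T → EA E → C[E].relIndex V ≤ ♯E →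
    E ≤ N[A ⊔ Y] → E ≤ N[A] := by
  induction E using subgroup_ind with
  | h E ih =>
    intro hE he ht n0
    by_contra hn
    have EH := hE.trans h.ls.ff.mp.TH
    have EV := EH.trans h.ls.ff.norm
    have nt := h.nb.nt
    obtain ⟨E', i1, i2, i3⟩ := exists_maximal_pgroup Nat.prime_two (ea_pi he) (inf_lt_left.2 hn)
    obtain ⟨a, ha, a1, ac⟩ := exists_fix ((ea_pi he).inf_left N[A]) (ea_pi nt.l.eA) inf_le_right nt.l.ne
    have far : ∀ g ∈ E, g ∉ N[A] → cj g A ≤ Y := fun g hg gn =>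
      (h.eq_or' (h.g.pt.cj (EH hg)) (cj_le_of_mem_N le_sup_left (n0 hg))).resolve_left
        fun e => gn (mem_N_iff_cj.2 e)
    have farU : ∀ g ∈ E, g ∉ N[A] → cj g ⁅V, zpowers a⁆ ≤ C[A ⊔ A'] := fun g hg gn x hx => by
      obtain ⟨y, hy, rfl⟩ := mem_cj'.1 hx
      obtain ⟨w, hw, rfl⟩ := (mem_cm1 nt.l.abl (nt.l.norm ha)).1 hy
      rw [cm_conj]
      exact h.cmY (h.g.pt.cj (EH hg)) (far g hg gn) (conj_mem_cj g ha) (conj_mem (EV hg) hw)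
    have UC : ⁅V, zpowers a⁆ ⊓ C[A ⊔ A'] = ⊥ := eq_bot_iff.2 fun y hy => by
      obtain ⟨w, hw, rfl⟩ := (mem_cm1 nt.l.abl (nt.l.norm ha)).1 hy.1
      exact mem_bot.2 (nt.tl a ha w hw (C_anti le_sup_right hy.2))
    have UV : ⁅V, zpowers a⁆ ≤ V := (nt.l.cm_le ha).trans inf_le_left
    have farU' : ∀ g ∈ E, ∀ g' ∈ E, g'⁻¹ * g ∉ N[A] → cj g ⁅V, zpowers a⁆ ≤ C[cj g' (A ⊔ A')] :=
      fun g hg g' hg' gn => by
        rw [← cj_C, le_cj_iff, ← cj_mul]; exact farU _ (mul_mem (inv_mem hg') hg) gn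
    obtain ⟨e, hee, ne⟩ : ∃ e ∈ E, e ∉ E' := by
      by_contra e; push Not at e
      rw [relIndex_eq_one.2 e] at i3; omega
    have hV' : (⨆ g : E', cj (g : G) ⁅V, zpowers a⁆) ≤ V := iSup_le fun g => cj_le_of_mem_N UV (EV (i2.le g.2))
    obtain ⟨v₁, hv₁, hu₁⟩ := nt.l.exists_cm ha a1
    have m₁ := cm_mem_cm1 nt.l.abl (nt.l.norm ha) hv₁
    obtain ⟨u, hu, u1, uc⟩ := exists_fix (V := ⨆ g : E', cj (g : G) ⁅V, zpowers a⁆)
      ((ea_pi he).of_le i2.le) ((ea_pi nt.l.ea).of_le hV')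
      (fun k hk => mem_N_of_cj_le (cj_le_iff.2 (iSup_le fun g => cj_le_iff.1 (by
        rw [← cj_mul]
        exact le_iSup (fun g : E' => cj (g : G) ⁅V, zpowers a⁆) ⟨k * g, mul_mem hk g.2⟩))))
      (ne_bot_of_mem (le_iSup (fun g : E' => cj (g : G) ⁅V, zpowers a⁆) 1 (by simpa [cj_one] using m₁)) hu₁)
    have ue : u ∉ C[E] := fun uc' => u1 (by
      have : Fintype E' := Fintype.ofFinite _
      refine indep (fun g : E' => cj (g : G) ⁅V, zpowers a⁆) (fun g : E' => C[cj (g : G) (A ⊔ A')]) nt.l.abl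
        (fun g => cj_le_of_mem_N UV (EV (i2.le g.2))) (fun g => by rw [← cj_C, ← cj_inf, UC, cj_bot])
        (fun g g' => ?_) Finset.univ u (by simpa using hu) fun g _ => ?_
      · by_cases gn : (g' : G)⁻¹ * g ∈ N[A]
        · have m := i2.le (mul_mem (inv_mem g'.2) g.2)
          exact Or.inl (cj_eq_cj_iff.2 (norm_comm (zpowers_le.2 (EV m)) (norm_zpowers_of_cent
            (zpowers_le.2 (mem_C1_comm.1 (C_le_C1 (mem_inf.2 ⟨m, gn⟩) ac)))) (mem_zpowers _)))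
        · exact Or.inr (farU' _ (i2.le g.2) _ (i2.le g'.2) gn)
      · have : (⨆ g : E', cj (g : G) ⁅V, zpowers a⁆) ≤ cj e⁻¹ C[cj (g : G) (A ⊔ A')] :=
          iSup_le fun k => cj_le_iff.1 (by
            rw [← cj_mul]
            refine farU' _ (mul_mem hee (i2.le k.2)) _ (i2.le g.2) fun gn => ne ?_
            have := i1 (mem_inf.2 ⟨mul_mem (inv_mem (i2.le g.2)) (mul_mem hee (i2.le k.2)), gn⟩)
            exact (E'.mul_mem_cancel_right k.2).1 ((E'.mul_mem_cancel_left (inv_mem g.2)).1 this))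
        have := mem_cj.1 (this hu)
        rwa [inv_inv, mem_C1_iff_conj.1 (mem_C1_comm.1 (C_le_C1 hee uc'))] at this)
    have tw := rel_tower (V := V) (K := C[E]) (L := C[E']) (inf_le_right.trans (C_anti i2.le))
    have c1 := card_mul_relIndex i2.le
    rw [i3] at c1
    have c2 : 2 ≤ C[E].relIndex (V ⊓ C[E']) := by
      have := relIndex_pos C[E] (V ⊓ C[E'])
      have : C[E].relIndex (V ⊓ C[E']) ≠ 1 := fun e => ue (relIndex_eq_one.1 e ⟨hV' hu, uc⟩)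
      omega
    have t' : C[E'].relIndex V ≤ ♯E' := by rw [tw, ← c1] at ht; nlinarith
    have lt : E' < E := lt_of_le_of_ne i2.le fun e => ne (e ▸ hee)
    have n' := ih E' lt (i2.le.trans hE) (ea_le he i2.le) t' (i2.le.trans n0)
    have en : e ∉ N[A] := fun e => ne (i1 ⟨hee, e⟩)
    rcases h.c1 (i2.le.trans hE) (ea_le he i2.le) t' (i2.le.trans n0) n' with k | k
    swap
    · exact hn (norm_of_cent (cents_of_le (H12.ea_le_centralizer he) (k.trans i2.le)))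
    have c3 := h.ls.no E' (i2.le.trans EH) (ea_le he i2.le)
    have c4 : C[E].relIndex (V ⊓ C[E']) = 2 := by
      rw [tw, ← c1] at ht
      have := card_pos E'
      have : C[E].relIndex (V ⊓ C[E']) * ♯E' ≤ 2 * ♯E' := by nlinarith
      have := Nat.le_of_mul_le_mul_right this (card_pos E')
      omega
    obtain ⟨a', ha', a1'⟩ := exists_ne_one nt.r.ne
    obtain ⟨v₂, hv₂, hu₂⟩ := nt.r.exists_cm ha' a1'
    have nX : A ⊔ A' ≤ N[E'] := norm_of_cent (cents_symm k)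
    have f₁ := h.nb.cmR (i2.le.trans hE) nX (mem_sup_left ha) hv₁
    have f₂ := h.nb.cmR (i2.le.trans hE) nX (mem_sup_right ha') hv₂
    have g₁ : e * ⁅a, v₁⁆ * e⁻¹ ∈ C[A ⊔ A'] := farU e hee en (conj_mem_cj e m₁)
    have g₂ : e * ⁅a', v₂⁆ * e⁻¹ ∈ C[A] := by
      have := conj_mem_cj e (C_anti (far e⁻¹ (inv_mem hee) fun e' => en (by simpa using inv_mem e'))
        ((h.ls.core' h.g').2 a' ha' v₂ hv₂))
      rwa [cj_C, cj_cj_inv] at this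
    have fx : ∀ x ∈ C[E], e * x * e⁻¹ = x := fun x hx =>
      mem_C1_iff_conj.1 (mem_C1_comm.1 (C_le_C1 hee hx))
    have n₁ : ⁅a, v₁⁆ ∉ C[E] := fun e' => hu₁ (nt.tl a ha v₁ hv₁ (C_anti le_sup_right (fx _ e' ▸ g₁)))
    have n₂ : ⁅a', v₂⁆ ∉ C[E] := fun e' => hu₂ (nt.tr a' ha' v₂ hv₂ (fx _ e' ▸ g₂))
    have e3 := fx _ ((mul_mem_idx2 c4 ⟨nt.l.cm_mem ha hv₁, f₁⟩ ⟨nt.r.cm_mem ha' hv₂, f₂⟩).2 (iff_of_false n₁ n₂))
    have e4 := mul_mem (C_anti le_sup_left g₁) g₂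
    rw [show e * ⁅a, v₁⁆ * e⁻¹ * (e * ⁅a', v₂⁆ * e⁻¹) = e * (⁅a, v₁⁆ * ⁅a', v₂⁆) * e⁻¹ by group, e3] at e4
    exact hu₂ (nt.tr a' ha' v₂ hv₂ ((C[A].mul_mem_cancel_left (nt.l.qd a ha v₁ hv₁)).1 e4))

theorem LT.normW (h : LT V H T B A₀ Y A A') : T ≤ N[A ⊔ Y] :=
  gen_weak h.ls.ff.mp.two h.ls.ff.mp.TH (le_antisymm (gen_le_iff.2 fun D d1 d2 => by
    have t := h.ls.ti d1
    have n := h.c2 D (d2.trans inf_le_left) t.eA t.ti.le (d2.trans inf_le_right)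
    rcases h.eq_or d1 ((d2.trans inf_le_left).trans h.ls.ff.mp.le)
      (fun g hg => h.normY ((h.ls.mo' d1).le hg) (d2 hg).2 (n hg)) with e | e
    · exact e.le.trans le_sup_left
    · exact e.trans le_sup_right)
    (sup_le (le_gen h.g.pt (le_inf (le_sup_left.trans h.le) (norm_of_le le_sup_left)))
      (h.ls.Yg.trans (gen_mono (le_inf (le_sup_right.trans h.le) (norm_of_le le_sup_right))))))

/-- the output of the analysis of an FF-module for a minimal parabolic -/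
structure FFD (V H T B A A' : Subgroup G) : Prop extends NB V H T B A A' where
  o1 : ∀ t ∈ T, cj t A = A ∨ ∀ a ∈ cj t A, ∀ v ∈ V, ⁅a, v⁆ ∈ C[A ⊔ A']
  o2 : ∀ E, E ≤ T → EA E → C[E].relIndex V ≤ ♯E → E ≤ C[A ⊔ A'] ∨ A ≤ E
  o3 : Inn T A A'
  o5 : ∀ x ∈ A ⊔ A', x ∈ B ∨ ∃ b ∈ A, cj x A = cj b A'

theorem FF.ffd (h : FF V H T B) (hE : E ≤ H) (he : EA E) (hn : E ≠ ⊥) (ht : C[E].relIndex V ≤ ♯E) :
    ∃ A A', FFD V H T B A A' := by
  obtain ⟨A₀, h0⟩ := exists_MO hE he hn (le_meas_iff.2 ht)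
  obtain ⟨Y₀, l0⟩ := exists_LS h h0
  obtain ⟨A₁, g1⟩ := l0.exists_good
  obtain ⟨k, hk, e⟩ := Sylow_Jsub Nat.prime_two h.mp.syl (l0.two g1) ((l0.AY g1).trans inf_le_left)
  rw [cj_sup] at e
  have l := l0.cj hk
  have g : Good H A₀ (H24.cj k Y₀) (H24.cj k A₁) :=
    ⟨g1.pt.cj hk, norm_cj g1.norm k, fun e => g1.nle (cj_le_cj.1 e)⟩
  obtain ⟨A', g', n⟩ := l.partner g (Pt.self H B) (e.trans h.mp.le)
  have t : LT V H T B A₀ _ _ A' := ⟨l, g, g', e, n⟩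
  generalize H24.cj k Y₀ = Y at *
  generalize H24.cj k A₁ = A at *
  refine ⟨A, A', t.nb, fun x hx => (t.eq_or' (g.pt.cj (h.mp.TH hx))
    (cj_le_of_mem_N le_sup_left (t.normW hx))).imp_right fun e a ha v hv => t.cmY (g.pt.cj (h.mp.TH hx)) e ha hv,
    fun F f1 f2 f3 => t.c1 f1 f2 f3 (f1.trans t.normW) (t.c2 F f1 f2 f3 (f1.trans t.normW)),
    fun x hx hc => l.tau g g' (Pt.self H B) t.q n
      ⟨h.mp.TH hx, t.normY (h.mp.TH hx) (t.normW hx) (C_le_N _ hc)⟩ hc, fun x hx => ?_⟩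
  have xN := sup_le (le_sup_left.trans (l.AY g)) (le_sup_left.trans (l.AY g')) hx
  refine (t.cases (g.cj xN.1 xN.2)).imp_left fun e => ?_
  by_contra e'
  exact l.cj_nle g (Pt.self H B) t.q xN e' (e.le.trans (le_sup_left.trans t.q))

/-- a normal subgroup of `T` generated by offenders -/
theorem FFD.J (h : FFD V H T B A A') {J : Subgroup G} (hJ : J ⊴ T) (h1 : J ≠ ⊥)
    (hg : ∀ X, (∀ E, E ≤ J → EA E → C[E].relIndex V ≤ ♯E → E ≤ X) → J ≤ X) :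
    A ≤ J ∧ ∀ s ∈ T, s ∈ C[V ⊓ C[J]] → ∃ b ∈ A, b⁻¹ * s ∈ C[A ⊔ A'] := by
  have nX : A ⊔ C[A ⊔ A'] ≤ N[A ⊔ A'] := sup_le (norm_of_le le_sup_left) (C_le_N _)
  have AJ : A ≤ J := by
    by_contra e
    have := hg _ fun E e1 e2 e3 => (h.o2 E (e1.trans hJ.le) e2 e3).resolve_right fun e' => e (e'.trans e1)
    exact h.nB ((le_inf h.AH (norm_of_cent (le_sup_right.trans (cents_symm this)))).trans
      (h.ff.mp.N_le hJ.norm fun e => h1 (eq_bot_of_le h.ff.o2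
        (pcore_max' (h.ff.mp.two.of_le hJ.le) (hJ.le.trans h.ff.mp.TH) e))))
  have JX : J ≤ A ⊔ C[A ⊔ A'] := hg _ fun E e1 e2 e3 =>
    (h.o2 E (e1.trans hJ.le) e2 e3).elim (fun e => e.trans le_sup_right) fun e g hg => by
      obtain ⟨b, hb, e4⟩ := h.o3 g (hJ.le (e1 hg)) (cents_of_le (H12.ea_le_centralizer e2) e hg)
      rw [← mul_inv_cancel_left b g]
      exact mul_mem_sup hb e4
  have cJ : ∀ a ∈ A, ∀ v ∈ V, ⁅a, v⁆ ∈ C[J] := fun a ha v hv => mem_C_iff_le_C1.2 fun j hj => by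
    obtain ⟨b, hb, c, hc, rfl⟩ := (mem_sup_of_norm (norm_of_cent (C_anti le_sup_left))).1 (JX hj)
    have cT : c ∈ T := (T.mul_mem_cancel_left (h.AT hb)).1 (hJ.le hj)
    exact mul_mem (mem_C1_comm.1 (C_le_C1 hb (h.nt.l.qd a ha v hv))) (mem_C1_comm.1 (C_le_C1 (mem_zpowers c)
      (h.cmR (zpowers_le.2 cT) (norm_of_cent (cents_symm (zpowers_le.2 hc))) (mem_sup_left ha) hv)))
  refine ⟨AJ, fun s hs hc => h.o3 s hs ?_⟩
  have sV := h.ff.norm (h.ff.mp.TH hs)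
  have k : ∀ a ∈ A, ∀ v ∈ V, ⁅a, v⁆ ∈ C{s} := fun a ha v hv =>
    mem_C1_comm.1 (C_le_C1 (mem_inf.2 ⟨h.nt.l.cm_mem ha hv, cJ a ha v hv⟩) hc)
  refine h.nt.l.cent_of (h.ff.mp.two.piElt hs) sV (mem_N_iff_cj.2 ((h.o1 s hs).resolve_right fun e => ?_)) k
  obtain ⟨a, ha, a1⟩ := exists_ne_one h.nt.l.ne
  obtain ⟨v, hv, hu⟩ := h.nt.l.exists_cm ha a1
  have := e _ (conj_mem_cj s ha) _ (conj_mem sV hv)
  rw [← cm_conj, mem_C1_iff_conj.1 (mem_C1_comm.1 (k a ha v hv))] at this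
  exact hu (h.nt.tl a ha v hv (C_anti le_sup_right this))

end PU22
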