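import Mathlib
import Cfsg.Agent.H22.PU6

/-!
# Pushing up, part 9: chief sections of a minimal parabolic
-/

set_option autoImplicit false
set_option linter.unusedSectionVars false

namespace PU22

open Subgroup Cfsg H24 H11.ZN H12.NG
open scoped commutatorElement

universe u

variable {G : Type u} [Group G] [Finite G] {Γ : Type u} [Group Γ] [Finite Γ]
  {V W H A B D E L X Y Z K Q T P N U S R : Subgroup G} {a b c d e g h t v w x y z : G}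
  {ι : X →* Γ} {ρ : H →* Γ}

/-- an elementary abelian section -/
structure ES (X K H : Subgroup G) {Γ : Type u} [Group Γ] (ι : X →* Γ) (ρ : H →* Γ) : Prop where
  sec : Sec X K H ι ρ
  ea : EA X
  le : K ≤ X
  nX : H ≤ N[X]
  nK : H ≤ N[K]

theorem exists_ES (hX : EA X) (hK : K ≤ X) (h1 : H ≤ N[X]) (h2 : H ≤ N[K]) :
    ∃ (Γ : Type u) (_ : Group Γ) (_ : Finite Γ) (ι : X →* Γ) (ρ : H →* Γ), ES X K H ι ρ := by
  obtain ⟨Γ, _, _, ι, ρ, h⟩ := exists_sec (Abl.nml hX.1 hK) h1 h2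
  exact ⟨Γ, _, ‹_›, ι, ρ, h, hX, hK, h1, h2⟩

theorem ES.XK (s : ES X K H ι ρ) : X ≤ N[K] := (Abl.nml s.ea.1 s.le).norm

theorem ES.cm (s : ES X K H ι ρ) (hh : h ∈ H) (hx : x ∈ X) : ⁅ap ρ h, ap ι x⁆ = ap ι ⁅h, x⁆ := by
  rw [commutatorElement_def, commutatorElement_def, ap_mul _ (conj_mem (s.nX hh) hx) (inv_mem hx),
    ap_inv _ hx, s.sec.act h hh x hx]

theorem ES.cm_one (s : ES X K H ι ρ) (hh : h ∈ H) (hx : x ∈ X) : ⁅ap ρ h, ap ι x⁆ = 1 ↔ ⁅h, x⁆ ∈ K := by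
  rw [s.cm hh hx, s.sec.ker _ (cm_mem (s.nX hh) hx)]

theorem ap_range {D : Subgroup G} (f : D →* Γ) (hx : x ∈ D) : ap f x ∈ f.range :=
  img_le_range f D (ap_mem_img f hx hx)

theorem mem_range' {D : Subgroup G} {f : D →* Γ} {y : Γ} (h : y ∈ f.range) : ∃ x ∈ D, ap f x = y := by
  rwa [← img_dom, mem_img_of_le le_rfl] at h

theorem ES.mem_C (s : ES X K H ι ρ) (hA : A ≤ H) (hx : x ∈ X) :
    ap ι x ∈ C[img ρ A] ↔ ∀ a ∈ A, ⁅a, x⁆ ∈ K :=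
  ⟨fun e a ha => (s.cm_one (hA ha) hx).1 (cm_one_of_C e (ap_mem_img ρ ha (hA ha))), fun e =>
    mem_C_of_cm fun y hy => by
      obtain ⟨a, ha, rfl⟩ := (mem_img_of_le hA).1 hy
      exact (s.cm_one (hA ha) hx).2 (e a ha)⟩

theorem ES.pre_C (s : ES X K H ι ρ) (hA : A ≤ H) : pre ι C[img ρ A] = X ⊓ centQ A K := by
  ext x
  rw [mem_pre, mem_inf, mem_centQ (hA.trans s.nK)]
  exact and_congr_right fun hx => (s.mem_C hA hx).trans
    ⟨fun e => ⟨s.XK hx, fun a ha => cm_swap (e a ha)⟩, fun e a ha => cm_swap (e.2 a ha)⟩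

theorem ES.rel (s : ES X K H ι ρ) (hA : A ≤ H) : C[img ρ A].relIndex ι.range = (centQ A K).relIndex X := by
  rw [← img_dom, ← relIndex_pre _ _ le_rfl, s.pre_C hA, inf_relIndex_left]

theorem ES.ker (s : ES X K H ι ρ) : pre ρ ⊥ = H ⊓ centQ X K := by
  ext g
  rw [mem_pre_bot, mem_inf, mem_centQ s.XK]
  exact and_congr_right fun hg => (s.sec.kerρ g hg).trans ⟨fun e => ⟨s.nK hg, e⟩, fun e => e.2⟩

theorem ES.kerι (s : ES X K H ι ρ) : pre ι ⊥ = K := by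
  ext x
  rw [mem_pre_bot]
  exact ⟨fun e => (s.sec.ker x e.1).1 e.2, fun e => ⟨s.le e, (s.sec.ker x (s.le e)).2 e⟩⟩

theorem ES.norm_img (s : ES X K H ι ρ) (hA : A ≤ H) (hE : E ≤ X) (h : A ≤ N[E]) :
    img ρ A ≤ N[img ι E] := le_N_iff.2 fun y hy z hz => by
  obtain ⟨a, ha, rfl⟩ := (mem_img_of_le hA).1 hy
  obtain ⟨x, hx, rfl⟩ := (mem_img_of_le hE).1 hz
  rw [← s.sec.act a (hA ha) x (hE hx)]
  exact ap_mem_img ι (conj_mem (h ha) hx) (hE (conj_mem (h ha) hx))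

theorem ES.norm_pre (s : ES X K H ι ρ) {F : Subgroup Γ} (h : ρ.range ≤ N[F]) : H ≤ N[pre ι F] :=
  le_N_iff.2 fun g hg x hx => by
    obtain ⟨h1, h2⟩ := mem_pre.1 hx
    refine mem_pre.2 ⟨conj_mem (s.nX hg) h1, ?_⟩
    rw [s.sec.act g hg x h1]
    exact conj_mem (h (ap_range ρ hg)) h2

theorem MP.img (h : MP H T B) (hk : pre ρ ⊥ ≤ B) : MP ρ.range (img ρ T) (img ρ B) := by
  refine ⟨img_dom ρ ▸ h.syl.img ρ le_rfl, img_mono ρ h.le, lt_of_le_of_ne (img_le_range _ _) fun e =>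
    h.nle (le_of_img_le le_rfl h.BH hk (by rw [e, img_dom])), fun Y y1 y2 => ?_⟩
  rw [← img_pre_of_le y2]
  rcases h.uq (pre ρ Y) ((img_le_iff h.TH).1 y1) (pre_le _ _) with e | e
  · left; rw [e, img_dom]
  · right; exact img_mono ρ e

theorem ES.ff (s : ES X K H ι ρ) (h : MP H T B) (hn : ¬ Od2 H ≤ centQ X K)
    (hirr : ∀ E, K ≤ E → E ≤ X → H ≤ N[E] → E = K ∨ E = X) :
    FF ι.range ρ.range (img ρ T) (img ρ B) ∧ pre ρ ⊥ ≤ B ∧ T ⊓ pre ρ ⊥ = Q2 H := by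
  have nk : ¬ Od2 H ≤ pre ρ ⊥ := fun e => hn (e.trans (s.ker.le.trans inf_le_right))
  have hk := (h.le_or (ker_nml ρ)).resolve_right nk
  have mp := h.img hk
  have ea : EA ι.range := img_dom ι ▸ H12.ea_map (H12.ea_subgroupOf s.ea X) ι
  have nm : ρ.range ≤ N[ι.range] := img_dom ι ▸ img_dom ρ ▸ s.norm_img le_rfl le_rfl s.nX
  have fa : ρ.range ⊓ C[ι.range] = ⊥ := eq_bot_iff.2 fun y hy => by
    obtain ⟨g, hg, rfl⟩ := mem_range' hy.1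
    exact mem_bot.2 ((s.sec.kerρ g hg).2 fun x hx =>
      (s.cm_one hg hx).1 (cm_one_of_C' hy.2 (ap_range ι hx)))
  have irr : ∀ D : Subgroup Γ, P2 D → D ≤ ρ.range → ρ.range ≤ N[ι.range ⊓ C[D]] → ι.range ≤ C[D] :=
    fun D d1 d2 d3 => by
      have k := s.kerι ▸ ker_le_pre ι (ι.range ⊓ C[D])
      rcases hirr _ k (pre_le _ _) (s.norm_pre d3) with e | e
      · refine (IsPi.inf_C_ne_bot Nat.prime_two d1 (ea_pi ea) (d2.trans nm) (fun e' => hn ?_) ?_).elim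
        · refine le_centQ' s.XK ((Od2_le H).trans s.nK) fun g hg x hx => ?_
          have m := cm_mem (s.nX (Od2_le H hg)) hx
          exact (s.sec.ker _ m).1 (mem_bot.1 (e' ▸ ap_range ι m))
        · rw [← img_pre_of_le (inf_le_left (b := C[D])), e, ← s.kerι, img_ker]
      · have := img_pre_le ι (ι.range ⊓ C[D])
        rw [e, img_dom] at this
        exact this.trans inf_le_right
  have o2 : ∀ D : Subgroup Γ, P2 D → D ⊴ ρ.range → D = ⊥ := fun D d1 d2 => by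
    rw [eq_bot_iff, ← fa]
    exact le_inf d2.le (cents_symm (irr D d1 d2.le (norm_inf nm (norm_C d2.norm))))
  refine ⟨⟨mp, ea, nm, fa, o2 _ (pcore_pi _ _) (pcore_nml _ _), ?_⟩, hk, le_antisymm (h.inf_le' (ker_nml ρ) nk)
    (le_inf h.QT ((img_eq_bot (pcore_le _ _)).1 (o2 _ ((pcore_pi _ _).img ρ)
      (img_dom ρ ▸ (pcore_nml _ H).img ρ))))⟩
  refine (mp.uq _ (le_inf mp.TH (cents_symm inf_le_right)) inf_le_left).resolve_left fun e => nk ?_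
  have e1 := e.ge.trans inf_le_right
  have e2 := irr _ mp.two mp.TH (norm_of_cent e1)
  rw [inf_eq_left.2 e2] at e1
  refine (Od2_le H).trans ((img_eq_bot le_rfl).1 ?_)
  rw [img_dom, eq_bot_iff, ← fa]
  exact le_inf le_rfl e1

theorem secNO {W₁ W₂ : Subgroup G} (h : MP H T B) (hW : EA W₁) (h12 : W₂ ≤ W₁) (hL1 : H ≤ N[W₁])
    (hL2 : H ≤ N[W₂]) (hn : ¬ Od2 H ≤ centQ W₁ W₂) (hA : A ≤ T) (he : EA A) :
    (Q2 H).relIndex A ≤ (centQ A W₂).relIndex W₁ := by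
  obtain ⟨g, hg, ho, hn⟩ := exists_odd_not hn
  have a1 : Abl W₁ := hW.1
  obtain ⟨U₁, U₂, e1, e2, e3, e4, e5, e6, e7⟩ := exists_sect h12 ((der1_eq_bot.2 a1).le.trans bot_le)
    (ea_pi hW) hL1 hL2 hg ho fun e => hn ((mem_centQ (a1.norm le_rfl h12)).2 ⟨hL2 hg, e⟩)
  obtain ⟨Γ, _, _, ι, ρ, s⟩ := exists_ES (ea_le hW e3) e2 e4 e5
  obtain ⟨f, -, k⟩ := s.ff h (fun e => e6 fun w hw => centQ_cm s.XK (e (mem_Od2 hg ho)) hw) e7
  have AH := hA.trans h.TH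
  have := f.no (img ρ A) (img_le_range _ _) (H12.ea_map (H12.ea_subgroupOf he H) ρ)
  rw [card_img _ AH, s.rel AH] at this
  refine (rel_le_of_inf le_rfl (k ▸ le_inf (inf_le_right.trans hA) inf_le_left)).trans
    (this.trans (rel_le_of_inf e3 fun w hw => ?_))
  exact (mem_centQ (AH.trans e5)).2 ⟨s.XK hw.2, fun a ha => e1 (centQ_cm (AH.trans hL2) hw.1 ha)⟩

theorem centQ_bot (A : Subgroup G) : centQ A ⊥ = C[A] := by
  ext x
  rw [mem_centQ (by rw [N_bot]; exact le_top), N_bot]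
  exact ⟨fun e => mem_C_of_cm fun a ha => mem_bot.1 (cm_swap (e.2 a ha)), fun e =>
    ⟨mem_top _, fun a ha => mem_bot.2 (cm_one_of_C' e ha)⟩⟩

theorem secNO1 (h : MP H T B) (hW : EA W) (hL : H ≤ N[W]) (hn : ¬ Od2 H ≤ C[W]) (hA : A ≤ T)
    (he : EA A) : (Q2 H).relIndex A ≤ C[A].relIndex W := by
  have := secNO h hW bot_le hL (by rw [N_bot]; exact le_top) (by rwa [centQ_bot]) hA he
  rwa [centQ_bot] at this

/-- coprime stability for `O²` -/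
theorem Od2_stab {W₁ W₂ W₃ : Subgroup G} (h2 : P2 W₁) (hn1 : L ≤ N[W₁]) (h21 : W₂ ≤ W₁)
    (hn3 : L ≤ N[W₃]) (h13 : W₁ ≤ N[W₃]) (h12 : W₁ ≤ N[W₂]) (e1 : Od2 L ≤ centQ W₁ W₂)
    (e2 : Od2 L ≤ centQ W₂ W₃) : Od2 L ≤ centQ W₁ W₃ :=
  Od2_le_iff.2 fun _ hg ho => (mem_centQ h13).2 ⟨hn3 hg, fun _ hw => stab ho (hn3 hg) (h13 hw)
    (h2.piElt (cm_mem (hn1 hg) hw)) (centQ_cm (h21.trans h13) (e2 (mem_Od2 hg ho))
      (centQ_cm h12 (e1 (mem_Od2 hg ho)) hw))⟩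

theorem Od2_stab1 {W₁ W₂ : Subgroup G} (h2 : P2 W₁) (hn1 : L ≤ N[W₁])
    (e1 : ∀ g ∈ Od2 L, ∀ w ∈ W₁, ⁅g, w⁆ ∈ W₂) (e2 : Od2 L ≤ C[W₂]) : Od2 L ≤ C[W₁] :=
  Od2_le_iff.2 fun g hg ho => mem_C_of_cm fun w hw => by
    rw [← commutatorElement_inv, stab1 ho (h2.piElt (cm_mem (hn1 hg) hw))
      (cm_one_of_C' (e2 (mem_Od2 hg ho)) (e1 g (mem_Od2 hg ho) w hw)), inv_one]

end PU22
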