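import Mathlib
import Cfsg.Agent.H22.PU8
import Cfsg.Agent.H22.PU9

/-!
# Pushing up, part 10: the Baumann argument
-/

set_option autoImplicit false
set_option linter.unusedSectionVars false

namespace PU22

open Subgroup Cfsg H24 H11.ZN H12.NG
open H12 (MaxEA)
open scoped commutatorElement

universe u

variable {G : Type u} [Group G] [Finite G] {Γ : Type u} [Group Γ] [Finite Γ]
  {V W H A B D E L X Y Z K Q T P N U S R : Subgroup G} {a b c d e g h t v w x y z : G}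

/-- the 2-local subgroups containing the Sylow subgroup `T` have characteristic two -/
structure EC (T : Subgroup G) : Prop where
  syl : Syl 2 ⊤ T
  ch : ∀ Y, P2 Y → Y ≠ ⊥ → T ≤ N[Y] → C[Y] ⊓ C[Q2 N[Y]] ≤ Q2 N[Y]

theorem EC.cent (h : EC T) (hL : T ≤ L) (h1 : Q2 L ≠ ⊥) : C[Q2 L] ≤ Q2 L := by
  have n := (pcore_nml {2} L).norm
  have e : Q2 N[Q2 L] = Q2 L := le_antisymm (pcore_max' (pcore_pi _ _)
    ((pcore_le_Hall (h.syl.of_le (hL.trans n) le_top)).trans hL) (n.trans (pcore_nml _ _).norm))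
    (pcore_max (pcore_pi _ _) (nml_N _))
  have := h.ch _ (pcore_pi _ _) h1 (hL.trans n)
  rwa [e, inf_idem] at this

theorem Nt.eq_one {V A A' : Subgroup G} (h : Nt V A A') (ha : a ∈ A) (hc : a ∈ C[A ⊔ A']) : a = 1 := by
  by_contra a1
  exact h.symm.not_two ha a1 ((ea_pi h.r.eA).sup ((ea_pi h.l.eA).piElt ha).isPi
    (norm_of_cent (zpowers_le.2 (C_anti le_sup_right hc)))) (sup_le_sup_left (zpowers_le.2 ha) _)
    le_sup_left (mem_sup_right (mem_zpowers a))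

theorem MP.le_N' (h : MP H T B) (h1 : T ≤ N[X]) (h2 : Od2 H ≤ N[X]) : H ≤ N[X] :=
  (le_Od2_sup h.syl).trans (sup_le h2 h1)

theorem MP.nQ (_ : MP H T B) : H ≤ N[Q2 H] := (pcore_nml _ H).norm

theorem MP.kq (h : MP H T B) (hS : S ⊴ T) (hn : H ≤ N[S ⊓ Q2 H]) (h1 : ¬ S ≤ Q2 H) :
    Od2 H ≤ centQ (Q2 H) (S ⊓ Q2 H) := by
  have QN := (pcore_le {2} H).trans hn
  refine (h.Od2_le (nml_inf_of_norm (norm_centQ h.nQ hn)) fun e => h1 (le_trans (le_inf hS.le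
    (le_inf (hS.le.trans h.TH) (le_centQ' QN ((hS.le.trans h.TH).trans hn) fun a ha u hu =>
      ⟨cm_mem' ha (hS.norm (h.QT hu)), cm_mem (h.nQ (h.TH (hS.le ha))) hu⟩))) e)).trans inf_le_right

theorem MP.KQ (h : MP H T B) (hc : C[Q2 H] ≤ Q2 H) : ¬ Od2 H ≤ C[Q2 H] := fun e =>
  h.Od2_nle (e.trans (hc.trans (h.QT.trans h.le)))

/-- the hypothesis of pushing up -/
structure PS (H T B R : Subgroup G) : Prop where
  mp : MP H T B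
  ec : EC T
  cQ : C[Q2 H] ≤ Q2 H
  nml : R ⊴ T
  nR : H ≤ N[R ⊓ Q2 H]
  ne : R ≠ ⊥
  nn : ∀ Y, Y ≤ R → H ≤ N[Y] → N[R] ≤ N[Y] → Y = ⊥

theorem PS.two (h : PS H T B R) : P2 R := h.mp.two.of_le h.nml.le

theorem PS.nJ (h : PS H T B R) : ¬ JJ R ≤ Q2 H := fun e =>
  JJ_ne_bot h.two h.ne (h.nn _ (JJ_le R)
    (JJ_eq (le_inf (JJ_le R) e) inf_le_left ▸ h.nR.trans (N_le_N_JJ _)) (N_le_N_JJ R))

theorem PS.exists_V (h : PS H T B R) : ∃ V, EA V ∧ V ≤ R ⊓ Q2 H ∧ V ≤ C[Q2 H] ∧ H ≤ N[V] ∧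
    ¬ Od2 H ≤ C[V] ∧ ∀ E, E ≤ V → H ≤ N[E] → E = V ∨ Od2 H ≤ C[E] := by
  have kq := h.mp.kq h.nml h.nR fun e => h.nJ ((JJ_le R).trans e)
  have QN := (pcore_le {2} H).trans h.nR
  have c0 : T ⊓ (H ⊓ C[R ⊓ Q2 H]) ≤ Q2 H := h.mp.inf_le' (nml_inf_of_norm (norm_C h.nR)) fun e =>
    h.mp.KQ h.cQ (Od2_stab1 (pcore_pi _ _) h.mp.nQ (fun g hg w hw => centQ_cm QN (kq hg) hw)
      (e.trans inf_le_right))
  have z1 : OZ R ≤ OZ (R ⊓ Q2 H) := fun z hz => by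
    obtain ⟨h1, h2, h3⟩ := mem_OZ.1 hz
    have := C_anti (inf_le_left (b := Q2 H)) h2
    exact mem_OZ.2 ⟨⟨h1, c0 ⟨h.nml.le h1, h.mp.TH (h.nml.le h1), this⟩⟩, this, h3⟩
  obtain ⟨V, v1, ⟨v2, v3⟩, v4⟩ := exists_min (P := fun V => H ≤ N[V] ∧ ¬ Od2 H ≤ C[V])
    ⟨norm_OZ h.nR, fun e => OZ_ne_bot h.two h.ne (h.nn _ (OZ_le R)
      (h.mp.le_N' (norm_OZ h.nml.norm) (norm_of_cent (cents_of_le e z1))) (N_le_N_OZ R))⟩
  have m : ∀ E, E ≤ V → H ≤ N[E] → E = V ∨ Od2 H ≤ C[E] := fun E e1 e2 => by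
    by_cases e : Od2 H ≤ C[E]
    · exact Or.inr e
    · exact Or.inl (v4 E ⟨e2, e⟩ e1)
  have VQ := v1.trans (OZ_le _)
  have ea := ea_le (OZ_ea _) v1
  refine ⟨V, ea, VQ, ?_, v2, v3, m⟩
  have QV := (pcore_le {2} H).trans v2
  have KV := (Od2_le H).trans v2
  have lt := nil_comm_properl ((pcore_pi {2} H).nil Nat.prime_two) (VQ.trans inf_le_right)
    (fun e => v3 (by rw [e, C_bot]; exact le_top)) le_rfl QV
  have e1 := (m _ lt.le (norm_comm v2 h.mp.nQ)).resolve_left lt.ne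
  have e2 : ⁅Q2 H, Od2 H⁆ ≤ C[V] := by
    rw [commC]
    exact ((le_centQ QN).1 kq).2.trans (cents_symm (v1.trans (OZ_le_C _)))
  have e3 := three_subgroup (comm_eq_bot'.2 e1) (comm_eq_bot.2 e2)
  rwa [(m _ (comm_le_right KV) (norm_comm (Od2_nml H).norm v2)).resolve_right fun e => v3
    (Od2_stab1 (ea_pi ea) v2 (fun g hg w hw => commutator_mem_commutator hg hw) e), comm_eq_bot] at e3

/-- the FF-module of the pushing up situation -/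
structure PV (H T B R V W : Subgroup G) {Γ : Type u} [Group Γ] (ι : V →* Γ) (ρ : H →* Γ) : Prop where
  ps : PS H T B R
  es : ES V W H ι ρ
  le : V ≤ R ⊓ Q2 H
  cQ : V ≤ C[Q2 H]
  ff : FF ι.range ρ.range (img ρ T) (img ρ B)
  kB : pre ρ ⊥ ≤ B
  kT : T ⊓ pre ρ ⊥ = Q2 H

variable {ι : V →* Γ} {ρ : H →* Γ}

theorem PV.RH (h : PV H T B R V W ι ρ) : R ≤ H := h.ps.nml.le.trans h.ps.mp.TH

theorem PV.Qk (h : PV H T B R V W ι ρ) : Q2 H ≤ pre ρ ⊥ := h.kT.ge.trans inf_le_right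

theorem PV.tight (h : PV H T B R V W ι ρ) (hA : MaxEA 2 R A) :
    C[img ρ A].relIndex ι.range ≤ ♯(img ρ A) ∧ V ⊓ centQ A W ≤ A ∧ MaxEA 2 R (V ⊔ A ⊓ Q2 H) := by
  have AH := hA.le.trans h.RH
  have VR := h.le.trans inf_le_left
  have ic := hA.inf_centralizer VR h.es.ea
  have ea : EA (V ⊔ A ⊓ Q2 H) := H12.ea_sup h.es.ea (ea_le hA.ea inf_le_left) (cents_of_le h.cQ inf_le_right)
  have le : V ⊔ A ⊓ Q2 H ≤ R := sup_le VR (inf_le_left.trans hA.le)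
  have c1 := hA.card_le le ea
  have c2 := card_sup (A := V) (B := A ⊓ Q2 H) ((inf_le_left.trans AH).trans h.es.nX)
  rw [← inf_assoc, inf_eq_left.2 (inf_le_left.trans (h.le.trans inf_le_right)), ← ic] at c2
  have c3 := card_rel V C[A]
  have c4 := card_rel A (Q2 H)
  have c5 : ♯(img ρ A) = (Q2 H).relIndex A := by
    rw [card_img _ AH]
    exact le_antisymm (rel_anti_left h.Qk) (rel_le_of_inf le_rfl (h.kT ▸
      le_inf (inf_le_right.trans (hA.le.trans h.ps.nml.le)) inf_le_left))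
  have c6 := h.ff.no (img ρ A) (img_le_range _ _) (H12.ea_map (H12.ea_subgroupOf hA.ea H) ρ)
  rw [h.es.rel AH, c5] at *
  have i1 : V ⊓ C[A] ≤ V ⊓ centQ A W := fun v hv => ⟨hv.1, (mem_centQ (AH.trans h.es.nK)).2
    ⟨h.es.XK hv.1, fun a ha => by rw [cm_one_of_C' hv.2 ha]; exact one_mem _⟩⟩
  have c7 : (centQ A W).relIndex V ≤ C[A].relIndex V := rel_le_of_inf le_rfl fun v hv => (i1 ⟨hv.2, hv.1⟩).2
  have c8 : ♯(V ⊔ A ⊓ Q2 H) = ♯(A ⊓ Q2 H) * C[A].relIndex V := by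
    refine Nat.eq_of_mul_eq_mul_right (card_pos (V ⊓ C[A])) ?_
    rw [c2, ← c3]; ring
  have c9 : C[A].relIndex V ≤ (Q2 H).relIndex A :=
    Nat.le_of_mul_le_mul_left (c8 ▸ c4 ▸ c1) (card_pos _)
  refine ⟨c7.trans c9, ((eq_of_card_ge i1 (Nat.le_of_mul_le_mul_right ((Nat.mul_le_mul_left _
    (c9.trans c6)).trans ((card_rel V _).trans c3.symm).le) (relIndex_pos _ _))).ge.trans ic.le).trans
    inf_le_right, hA.of_card_le le ea ?_⟩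
  rw [c8, ← c4]
  exact Nat.mul_le_mul_left _ (c6.trans c7)

theorem PV.mem_ZJ (h : PV H T B R V W ι ρ) (hv : v ∈ V) (hc : ap ι v ∈ C[img ρ (JJ R)]) :
    v ∈ OZ (JJ R) := by
  have k : ∀ A, MaxEA 2 R A → v ∈ A := fun A hA => (h.tight hA).2.1 ⟨hv,
    (mem_centQ ((hA.le.trans h.RH).trans h.es.nK)).2 ⟨h.es.XK hv, fun a ha =>
      cm_swap ((h.es.mem_C ((JJ_le R).trans h.RH) hv).1 hc a (hA.le_J ha))⟩⟩
  obtain ⟨A, hA⟩ := H12.exists_maxEA 2 R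
  exact mem_OZ.2 ⟨hA.le_J (k A hA), mem_C_iff_le_C1.2 (H12.J_le_iff.2 fun A hA =>
    mem_C_iff_le_C1.1 (H12.ea_le_centralizer hA.ea (k A hA))), h.es.ea.2 v hv⟩

theorem PV.ZJ (h : PV H T B R V W ι ρ) : OZ (JJ R) ≤ Q2 H ∧ ∀ g ∈ Od2 H, ∀ z ∈ OZ (JJ R), ⁅g, z⁆ ∈ V := by
  obtain ⟨A, hA, nA⟩ : ∃ A, MaxEA 2 R A ∧ ¬ A ≤ Q2 H := by
    by_contra e; push Not at e; exact h.ps.nJ (H12.J_le_iff.2 e)
  have hB := (h.tight hA).2.2
  have BQ : V ⊔ A ⊓ Q2 H ≤ R ⊓ Q2 H := sup_le h.le (inf_le_inf_right _ hA.le)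
  have hB' := hB.of_le BQ inf_le_left
  have oz : ∀ {X C : Subgroup G}, MaxEA 2 X C → OZ (JJ X) ≤ C := fun hC z hz =>
    hC.mem_of_centralizer (JJ_le _ (OZ_le _ hz)) (C_anti hC.le_J (OZ_le_C _ hz)) (mem_OZ.1 hz).2.2
  have z1 : OZ (JJ R) ≤ OZ (JJ (R ⊓ Q2 H)) := fun z hz => mem_OZ.2 ⟨hB'.le_J (oz hB hz),
    C_anti (hB.J_le_J BQ inf_le_left) (OZ_le_C _ hz), (mem_OZ.1 hz).2.2⟩
  have nE : H ≤ N[OZ (JJ (R ⊓ Q2 H))] := norm_OZ (h.ps.nR.trans (N_le_N_JJ _))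
  have EV : OZ (JJ (R ⊓ Q2 H)) ≤ N[V] :=
    (((OZ_le _).trans (JJ_le _)).trans (inf_le_left.trans h.RH)).trans h.es.nX
  have AH := hA.le.trans h.RH
  have := h.ps.mp.Od2_le (nml_inf_of_norm (norm_centQ nE h.es.nX)) fun e => nA (le_trans (le_inf
    (hA.le.trans h.ps.nml.le) (le_inf AH (le_centQ' EV (AH.trans h.es.nX) fun a ha u hu => by
      obtain ⟨v, hv, b, hb, rfl⟩ := (mem_sup_of_norm ((inf_le_left.trans AH).trans h.es.nX)).1 (oz hB' hu)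
      rw [cmV_C (C_le_C1 ha (H12.ea_le_centralizer hA.ea hb.1))]
      exact cm_mem (h.es.nX (AH ha)) hv))) e)
  exact ⟨(oz hB).trans (BQ.trans inf_le_right), fun g hg z hz => centQ_cm EV (this hg).2 (z1 hz)⟩

theorem PV.nS (h : PV H T B R V W ι ρ) : H ≤ N[Bm R ⊓ Q2 H] := by
  have e : Bm R ⊓ Q2 H = R ⊓ Q2 H ⊓ C[OZ (JJ R) ⊔ V] := by
    rw [Bm, C_sup, inf_right_comm, ← inf_assoc]
    exact (inf_eq_left.2 (inf_le_left.trans (inf_le_right.trans (cents_symm h.cQ)))).symm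
  rw [e]
  refine norm_inf h.ps.nR (norm_C (h.ps.mp.le_N' (norm_sup (norm_OZ (h.ps.nml.norm.trans (N_le_N_JJ R)))
    (h.ps.mp.TH.trans h.es.nX)) fun g hg => mem_N_of_cj_le ?_))
  rw [cj_sup, cj_of_mem_N (h.es.nX (Od2_le H hg))]
  refine sup_le (fun x hx => ?_) le_sup_right
  obtain ⟨z, hz, e⟩ := mem_cj'.1 hx
  rw [e, conj_eq_cm]
  exact mul_mem (mem_sup_right (h.ZJ.2 g hg z hz)) (mem_sup_left hz)

theorem PV.ffd (h : PV H T B R V W ι ρ) : ∃ A A', FFD ι.range ρ.range (img ρ T) (img ρ B) A A' ∧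
    (∀ b ∈ A, ∃ j ∈ Bm R, ap ρ j = b) ∧ ∀ s ∈ Bm R, ∃ j ∈ Bm R, ap ρ j ∈ A ∧ ap ρ (j⁻¹ * s) ∈ C[A ⊔ A'] := by
  obtain ⟨A₁, hA, nA⟩ : ∃ A, MaxEA 2 R A ∧ ¬ A ≤ Q2 H := by
    by_contra e; push Not at e; exact h.ps.nJ (H12.J_le_iff.2 e)
  have ne : ∀ X, X ≤ R → ¬ X ≤ Q2 H → img ρ X ≠ ⊥ := fun X x1 x2 e =>
    x2 (h.kT ▸ le_inf (x1.trans h.ps.nml.le) ((img_eq_bot (x1.trans h.RH)).1 e))
  obtain ⟨A, A', f⟩ := h.ff.ffd (img_le_range ρ A₁) (H12.ea_map (H12.ea_subgroupOf hA.ea H) ρ)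
    (ne _ hA.le nA) (h.tight hA).1
  have JH := (JJ_le R).trans h.RH
  obtain ⟨k1, k2⟩ := f.J (J := img ρ (JJ R))
    (Nml.img ⟨(JJ_le R).trans h.ps.nml.le, h.ps.nml.norm.trans (N_le_N_JJ R)⟩ ρ) (ne _ (JJ_le R) h.ps.nJ)
    fun X hX => (img_le_iff JH).2 (H12.J_le_iff.2 fun C hC => (img_le_iff (hC.le.trans h.RH)).1
      (hX _ (img_mono ρ hC.le_J) (H12.ea_map (H12.ea_subgroupOf hC.ea H) ρ) (h.tight hC).1))
  have k3 : ∀ b ∈ A, ∃ j ∈ Bm R, ap ρ j = b := fun b hb => by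
    obtain ⟨j, hj, e⟩ := (mem_img_of_le JH).1 (k1 hb)
    exact ⟨j, JJ_le_Bm R hj, e⟩
  refine ⟨A, A', f, k3, fun s hs => ?_⟩
  have sH := h.RH hs.1
  obtain ⟨b, hb, e⟩ := k2 _ (ap_mem_img ρ (h.ps.nml.le hs.1) sH) (mem_C_of_cm fun y hy => by
    obtain ⟨v, hv, rfl⟩ := mem_range' hy.1
    rw [← commutatorElement_inv, (h.es.cm_one sH hv).2 (by
      rw [cm_one_of_C' hs.2 (h.mem_ZJ hv hy.2)]; exact one_mem _), inv_one])
  obtain ⟨j, hj, rfl⟩ := k3 b hb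
  exact ⟨j, hj, hb, by rwa [ap_mul _ (inv_mem (h.RH hj.1)) sH, ap_inv _ (h.RH hj.1)]⟩

end PU22
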