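import Mathlib
import Cfsg.Agent.H22.PU10

/-!
# Pushing up, part 11: the pushing up theorem
-/

set_option autoImplicit false
set_option linter.unusedSectionVars false

namespace PU22

open Subgroup Cfsg H24 H11.ZN H12.NG
open H12 (MaxEA)
open scoped commutatorElement

universe u

variable {G : Type u} [Group G] [Finite G] {Γ : Type u} [Group Γ] [Finite Γ]
  {V W H B D E L X Y Z K Q T P N U S R : Subgroup G} {a b c d e g h t v w x y z : G}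
  {ι : V →* Γ} {ρ : H →* Γ} {A A' : Subgroup Γ}

/-- after the Baumann argument -/
structure PW (H T B R V W : Subgroup G) {Γ : Type u} [Group Γ] (ι : V →* Γ) (ρ : H →* Γ)
    (A A' : Subgroup Γ) : Prop where
  pv : PV H T B R V W ι ρ
  fd : FFD ι.range ρ.range (img ρ T) (img ρ B) A A'
  sur : ∀ b ∈ A, ∃ j ∈ Bm R, ap ρ j = b
  dec : ∀ s ∈ Bm R, ∃ j ∈ Bm R, ap ρ j ∈ A ∧ ap ρ (j⁻¹ * s) ∈ C[A ⊔ A']

theorem PW.ST (h : PW H T B R V W ι ρ A A') : Bm R ≤ T := (Bm_le R).trans h.pv.ps.nml.le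
theorem PW.SH (h : PW H T B R V W ι ρ A A') : Bm R ≤ H := (Bm_le R).trans h.pv.RH
theorem PW.XH (h : PW H T B R V W ι ρ A A') : A ⊔ A' ≤ ρ.range :=
  sup_le (h.fd.AT.trans (img_le_range _ _)) h.fd.AH

theorem PW.dec' (h : PW H T B R V W ι ρ A A') {s : G} (hs : s ∈ Bm R) :
    ∃ j ∈ Bm R, ap ρ j ∈ A ∧ ∃ c ∈ Bm R ⊓ pre ρ C[A ⊔ A'], s = j * c := by
  obtain ⟨j, hj, e1, e2⟩ := h.dec s hs
  have m := mul_mem (inv_mem hj) hs
  exact ⟨j, hj, e1, _, ⟨m, mem_pre.2 ⟨h.SH m, e2⟩⟩, (mul_inv_cancel_left _ _).symm⟩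

theorem PW.AS (h : PW H T B R V W ι ρ A A') : A ≤ img ρ (Bm R) := fun b hb => by
  obtain ⟨j, hj, rfl⟩ := h.sur b hb; exact ap_mem_img ρ hj (h.SH hj)

theorem PW.imgS (h : PW H T B R V W ι ρ A A') :
    img ρ (Bm R) ≤ A ⊔ img ρ (Bm R ⊓ pre ρ C[A ⊔ A']) := fun y hy => by
  obtain ⟨s, hs, rfl⟩ := (mem_img_of_le h.SH).1 hy
  obtain ⟨j, hj, e, c, hc, rfl⟩ := h.dec' hs
  rw [ap_mul _ (h.SH hj) (h.SH hc.1)]
  exact mul_mem_sup e (ap_mem_img ρ hc (h.SH hc.1))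

theorem img_inf_pre_le (f : H →* Γ) (X : Subgroup G) (Y : Subgroup Γ) : img f (X ⊓ pre f Y) ≤ Y :=
  img_le_of_le_pre inf_le_right

theorem PW.nS1 (h : PW H T B R V W ι ρ A A') : Bm R ≤ N[Bm R ⊓ pre ρ C[A ⊔ A']] :=
  norm_inf (norm_self _) (norm_pre h.SH (h.imgS.trans (norm_C (sup_le (norm_of_le le_sup_left)
    (norm_of_cent (img_inf_pre_le _ _ _))))))

theorem PW.S0 (h : PW H T B R V W ι ρ A A') : Bm R ⊓ Q2 H ≤ Bm R ⊓ pre ρ C[A ⊔ A'] :=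
  inf_le_inf_left _ (h.pv.Qk.trans (ker_le_pre _ _))

theorem PW.dich (h : PW H T B R V W ι ρ A A') (hx : x ∈ pre ρ (A ⊔ A' ⊔ img ρ (Bm R ⊓ pre ρ C[A ⊔ A'])))
    (nx : x ∉ B) {Y' : Subgroup Γ} (h1 : A ≤ Y') (h2 : cj (ap ρ x) A ≤ Y') :
    A' ≤ Y' := by
  obtain ⟨xH, hx⟩ := mem_pre.1 hx
  obtain ⟨y, hy, c, hc, e⟩ := (mem_sup_of_norm (norm_of_cent (img_inf_pre_le ρ _ _))).1 hx
  rw [e, cj_mul, cj_of_mem_C (C_anti le_sup_left (img_inf_pre_le ρ _ _ hc))] at h2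
  rcases h.fd.o5 y hy with e1 | ⟨b, hb, e1⟩
  · refine (nx (le_of_img_le (zpowers_le.2 xH) h.pv.ps.mp.BH h.pv.kB ?_ (mem_zpowers x))).elim
    rw [img_zpowers _ xH, zpowers_le, e]
    exact mul_mem e1 (img_mono ρ (inf_le_left.trans (h.ST.trans h.pv.ps.mp.le)) hc)
  · rwa [e1, cj_le_iff, cj_of_mem (inv_mem (h1 hb))] at h2

theorem PW.exists_P (h : PW H T B R V W ι ρ A A') : ∃ P P₁, Bm R ≤ P ∧ P ≤ Od2 P₁ ⊔ Bm R ∧ P₁ ≤ H ∧
    ¬ P ≤ B ∧ Od2 P₁ ≤ N[Bm R ⊓ pre ρ C[A ⊔ A']] ∧ P₁ ≤ N[V ⊓ C[Bm R ⊓ pre ρ C[A ⊔ A']]] ∧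
    A ⊔ A' ≤ img ρ P₁ ∧ A' ≤ img ρ P ∧ ∃ x ∈ P, P ≤ Bm R ⊔ cj x (Bm R) := by
  have mp := h.pv.ps.mp
  set S₁ := Bm R ⊓ pre ρ C[A ⊔ A'] with hS₁
  have SH : S₁ ≤ H := inf_le_left.trans h.SH
  have cS : img ρ S₁ ≤ C[A ⊔ A'] := img_inf_pre_le ρ _ _
  have QH := pcore_le {2} H
  have n1 : pre ρ (img ρ S₁) ⊴ pre ρ (A ⊔ A' ⊔ img ρ S₁) :=
    (nml_sup_right (norm_of_cent (cents_symm cS))).pre ρ
  have QT : S₁ ⊔ Q2 H ≤ T := sup_le (inf_le_left.trans h.ST) mp.QT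
  have syl : Syl 2 (pre ρ (img ρ S₁)) (S₁ ⊔ Q2 H) := by
    rw [pre_img _ SH]
    refine Hall.mk' (sup_le_sup_left h.pv.Qk _) (mp.two.of_le QT) ?_
    rw [((isProd_sup' (SH.trans (ker_nml ρ).norm)).mono_left le_sup_left
      (sup_le_sup_left h.pv.Qk _)).relIndex_eq]
    exact (h.pv.kT ▸ mp.syl.inf_nml (ker_nml ρ)).idx.dvd (relIndex_dvd_of_le_left _ le_sup_right)
  have hF := Frattini_arg Nat.prime_two n1 syl
  set P₁ := pre ρ (A ⊔ A' ⊔ img ρ S₁) ⊓ N[S₁ ⊔ Q2 H] with hP₁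
  have PH : P₁ ≤ H := inf_le_left.trans (pre_le _ _)
  have SP : Bm R ≤ P₁ := le_inf ((img_le_iff h.SH).1 (h.imgS.trans (sup_le_sup_right le_sup_left _)))
    (norm_sup h.nS1 (h.SH.trans mp.nQ))
  have XP : A ⊔ A' ≤ img ρ P₁ := by
    have := img_mono ρ hF.sup_eq.ge
    rw [img_pre_of_le (sup_le h.XH (img_le_range _ _)), img_sup _ (pre_le _ _) PH,
      img_pre_of_le (img_le_range _ _)] at this
    exact le_sup_left.trans (this.trans (sup_le (img_mono ρ (inf_le_left.trans SP)) le_rfl))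
  have kq := mp.kq ⟨h.ST, h.pv.ps.nml.norm.trans (N_le_N_Bm R)⟩ h.pv.nS
    fun e => h.pv.ps.nJ ((JJ_le_Bm R).trans e)
  have nK : Od2 P₁ ≤ N[S₁] := Od2_le_iff.2 fun g hg ho => mem_N_of_cm fun w hw => h.S0 (by
    have gH := PH hg
    refine stab ho (h.pv.nS gH) (h.pv.nS (SH hw)) (mp.two.piElt (QT (cm_mem hg.2 (mem_sup_left hw))))
      (centQ_cm (QH.trans h.pv.nS) (kq (mem_Od2 gH ho)) ?_)
    refine h.pv.kT.le ⟨QT (cm_mem hg.2 (mem_sup_left hw)), mem_pre_bot.2 ⟨cm_in gH (SH hw), ?_⟩⟩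
    rw [ap_commutator _ gH (SH hw)]
    exact cm_one_of_C (cS (ap_mem_img ρ hw (SH hw))) (Od2_le_of_sup (nml_sup_left (norm_of_cent cS))
      ((mp.two.of_le (le_sup_left.trans QT)).img ρ) le_sup_right le_rfl
      (mem_Od2 (mem_pre.1 hg.1).2 (piElt_odd.1 ((piElt_odd.2 ho).ap ρ gH)))))
  have nB : ¬ Od2 P₁ ⊔ Bm R ≤ B := fun e => by
    obtain ⟨T₁, t1, t2⟩ := Sylow_superset Nat.prime_two (mp.two.of_le h.ST) SP
    have AT := h.AS.trans (img_mono ρ t2)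
    have : T₁ ≤ B := fun t ht => by
      by_contra nt
      obtain ⟨a, ha, a1⟩ := exists_ne_one h.fd.nt.r.ne
      exact h.fd.nt.not_two ha a1 ((t1.pi.img ρ).of_le (sup_le AT (h.dich (t1.le ht).1 nt AT
        (cj_le_of_mem AT (ap_mem_img ρ ht (PH (t1.le ht))))))) le_rfl le_sup_left (mem_sup_right ha)
    exact h.fd.nB (le_sup_right.trans (XP.trans (img_mono ρ ((le_Od2_sup t1).trans
      (sup_le (le_sup_left.trans e) this)))))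
  obtain ⟨P, p1, ⟨p2, p3⟩, p4⟩ := exists_min (P := fun P => Bm R ≤ P ∧ ¬ P ≤ B) ⟨le_sup_right, nB⟩
  obtain ⟨x, hx, nx⟩ := SetLike.not_le_iff_exists.1 p3
  have PP : P ≤ P₁ := p1.trans (sup_le (Od2_le _) SP)
  have xH := PH (PP hx)
  have k : A' ≤ img ρ (Bm R ⊔ cj x (Bm R)) := h.dich (PP hx).1 nx (h.AS.trans (img_mono ρ le_sup_left))
    ((cj_mono _ h.AS).trans (img_cj ρ xH _ ▸ img_mono ρ le_sup_right))
  have e := p4 _ ⟨le_sup_left, fun e => h.fd.nB (k.trans (img_mono ρ e))⟩ (sup_le p2 (cj_le_of_mem p2 hx))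
  refine ⟨P, P₁, p2, p1, PH, p3, nK, ?_, XP, e ▸ k, x, hx, e.ge⟩
  have : V ⊓ C[S₁] = V ⊓ C[S₁ ⊔ Q2 H] := by
    rw [C_sup, ← inf_assoc]; exact (inf_eq_left.2 (inf_le_left.trans h.pv.cQ)).symm
  rw [this]
  exact norm_inf (PH.trans h.pv.es.nX) (norm_C inf_le_right)

theorem PW.false (h : PW H T B R V W ι ρ A A') : False := by
  obtain ⟨P, P₁, p1, p2, p3, p4, p5, p6, p7, p8, p9⟩ := h.exists_P
  have mp := h.pv.ps.mp
  have es := h.pv.es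
  have nt := h.fd.nt
  set S₁ := Bm R ⊓ pre ρ C[A ⊔ A'] with hS₁
  set S := Bm R with hS
  have PH : P ≤ H := p2.trans (sup_le ((Od2_le _).trans p3) h.SH)
  have zj : OZ S ≤ OZ (JJ R) := fun z hz => by
    obtain ⟨C, hC⟩ := H12.exists_maxEA 2 R
    obtain ⟨z1, z2, z3⟩ := mem_OZ.1 hz
    have := C_anti (JJ_le_Bm R) z2
    exact mem_OZ.2 ⟨hC.le_J (hC.mem_of_centralizer z1.1 (C_anti hC.le_J this) z3), this, z3⟩
  have VS : V ≤ S ⊓ Q2 H := le_inf (le_inf (h.pv.le.trans inf_le_left)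
    (cents_of_le h.pv.cQ h.pv.ZJ.1)) (h.pv.le.trans inf_le_right)
  have ZS : OZ S ⊔ V ⊓ C[S₁] ≤ S ⊓ Q2 H :=
    sup_le (le_inf (OZ_le _) (zj.trans h.pv.ZJ.1)) (inf_le_left.trans VS)
  have SC : S₁ ≤ C[OZ S ⊔ V ⊓ C[S₁]] := cents_sup (inf_le_left.trans (le_C_OZ S)) (cents_symm inf_le_right)
  have zc : ∀ v ∈ V, ap ι v ∈ C[img ρ (JJ R)] → v ∈ C[S] := fun v hv e =>
    cents_symm (inf_le_right : S ≤ _) (h.pv.mem_ZJ hv e)
  have kz0 : ∀ v ∈ V ⊓ C[S₁], ap ι v ∈ C[A] → v ∈ OZ S := fun v hv e =>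
    mem_OZ.2 ⟨(VS hv.1).1, zc v hv.1 ((es.mem_C ((JJ_le R).trans h.pv.RH) hv.1).2 fun s hs => by
      obtain ⟨j, hj, e1, c, hc, rfl⟩ := h.dec' (JJ_le_Bm R hs)
      rw [cm_mul, cm_one_of_C hv.2 hc, mul_one, mul_inv_cancel, one_mul]
      exact (es.cm_one (h.SH hj) hv.1).1 (cm_one_of_C e e1)), es.ea.2 v hv.1⟩
  have red : ∀ a ∈ S, ∀ z ∈ OZ S ⊔ V ⊓ C[S₁], ∃ j ∈ S, ap ρ j ∈ A ∧ j⁻¹ * a ∈ S₁ ∧ ∃ v ∈ V ⊓ C[S₁],
      z * v⁻¹ ∈ OZ S ∧ ⁅a, z⁆ = ⁅j, v⁆ := fun a ha z hz => by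
    obtain ⟨j, hj, e1, c, hc, rfl⟩ := h.dec' ha
    obtain ⟨v, hv, y, hy, rfl⟩ := (mem_sup_of_norm' (norm_OZ (norm_of_le (inf_le_left.trans
      (VS.trans inf_le_left))))).1 (sup_comm (OZ S) _ ▸ hz)
    refine ⟨j, hj, e1, by rwa [inv_mul_cancel_left], v, hv, conj_mem (norm_OZ (norm_self S) (VS hv.1).1) hy, ?_⟩
    rw [cmV_C (C_le_C1 ha (OZ_le_C _ hy)), cm_mul, cm_one_of_C hv.2 hc, mul_one, mul_inv_cancel, one_mul]
  have nV : S ≤ N[V ⊓ C[S₁]] := norm_inf (h.SH.trans es.nX) (norm_C h.nS1)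
  have ne : ∀ j ∈ S₁, ap ρ j ∈ A → ap ρ j = 1 := fun j hj e => nt.eq_one e (mem_pre.1 hj.2).2
  have loc : Loc P S₁ (OZ S ⊔ V ⊓ C[S₁]) S := by
    refine ⟨p1, mp.two.of_le h.ST, inf_le_left, p2.trans (sup_le p5 h.nS1), p2.trans (sup_le
      (fun g hg => mem_N_of_cj_le ?_) (norm_sup (norm_OZ (norm_self S)) nV)), ZS.trans h.S0, SC,
      fun z hz => ea_sq (H12.ea_sup (OZ_ea S) (ea_le es.ea inf_le_left) (cents_of_le (OZ_le_C S)
        (inf_le_left.trans (VS.trans inf_le_left)))) hz, le_sup_left, fun a ha na z hz e => ?_,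
      fun a ha z hz => ?_, ?_, fun e => ?_, p9⟩
    · rw [cj_sup, cj_of_mem_N (p6 (Od2_le _ hg))]
      refine sup_le (fun x hx => ?_) le_sup_right
      obtain ⟨z, hz, e⟩ := mem_cj'.1 hx
      rw [e, conj_eq_cm]
      exact mul_mem (mem_sup_right ⟨h.pv.ZJ.2 g (Od2_mono p3 hg) z (zj hz),
        cm_mem (norm_C p5 hg) (C_anti inf_le_left (OZ_le_C _ hz))⟩) (mem_sup_left hz)
    · obtain ⟨j, hj, e1, e2, v, hv, e3, e4⟩ := red a ha z hz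
      rw [← inv_mul_cancel_right z v]
      refine mul_mem e3 (kz0 v hv (nt.mem_C e1 (fun e5 => na ?_) (ap_range ι hv.1) ?_))
      · rw [← mul_inv_cancel_left j a]
        exact mul_mem ⟨hj, mem_pre.2 ⟨h.SH hj, e5 ▸ one_mem _⟩⟩ e2
      · rw [es.cm (h.SH hj) hv.1, ← e4]
        refine C_anti p8 ((es.mem_C PH (e4 ▸ cm_mem (es.nX (h.SH hj)) hv.1)).2 fun p hp => ?_)
        rw [cm_one_of_C e hp]; exact one_mem _
    · obtain ⟨j, hj, e1, -, v, hv, -, e4⟩ := red a ha z hz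
      rw [e4]
      exact kz0 _ (cm_mem (nV hj) hv) (es.cm (h.SH hj) hv.1 ▸ nt.l.qd _ e1 _ (ap_range ι hv.1))
    · have d1 : S₁.relIndex S = ♯A := by
        rw [hS₁, inf_relIndex_left, relIndex_pre _ _ h.SH, ← inf_relIndex_right]
        have hp : IsProd (C[A ⊔ A'] ⊓ img ρ S) A (img ρ S) := ⟨inf_le_right, h.AS, fun y hy => by
          obtain ⟨b, hb, c, hc, rfl⟩ := (mem_sup_of_norm (norm_of_cent ((img_inf_pre_le ρ _ _).trans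
            (C_anti le_sup_left)))).1 (h.imgS hy)
          have := img_inf_pre_le ρ _ _ hc
          exact ⟨c, ⟨this, img_mono ρ inf_le_left hc⟩, b, hb, mem_C.1 this b (mem_sup_left hb)⟩⟩
        have e0 : A ⊓ (C[A ⊔ A'] ⊓ img ρ S) = ⊥ := eq_bot_iff.2 fun b hb => mem_bot.2 (nt.eq_one hb.1 hb.2.1)
        rw [hp.relIndex_eq, ← card_rel A (C[A ⊔ A'] ⊓ img ρ S), card_eq_one'.2 e0, one_mul]
      have hp := nt.irr (img_le_range ι (V ⊓ C[S₁])) (p7.trans (es.norm_img p3 inf_le_left p6)) fun e =>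
        h.fd.nB ((le_inf h.fd.AH (le_sup_right.trans (cents_symm (le_trans (fun y hy => ?_) e)))).trans
          h.pv.ff.cz)
      · rw [d1, ← nt.l.ti, ← inf_relIndex_left ι.range,
          (hp.symm.mono_left (inf_le_inf_left _ (C_anti le_sup_left)) inf_le_left).relIndex_eq,
          ← relIndex_pre _ _ inf_le_left, relIndex_sup_of_norm (norm_OZ (norm_of_le
            (inf_le_left.trans (VS.trans inf_le_left))))]
        refine le_antisymm (rel_le_of_inf le_rfl fun v hv => kz0 v hv.2 (mem_pre.1 hv.1).2.2)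
          (rel_le_of_inf le_rfl fun v hv => mem_pre.2 ⟨hv.2.1, ap_range ι hv.2.1, C_anti h.AS
            ((es.mem_C h.SH hv.2.1).2 fun s hs => ?_)⟩)
        rw [cm_one_of_C (OZ_le_C _ hv.1) hs]; exact one_mem _
      · obtain ⟨v, hv, rfl⟩ := mem_range' hy.1
        exact ap_mem_img ι ⟨hv, C_anti inf_le_left (zc v hv (C_anti (img_mono ρ
          ((JJ_le R).trans h.pv.ps.nml.le)) hy.2))⟩ hv
    · obtain ⟨b, hb, b1⟩ := exists_ne_one nt.l.ne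
      obtain ⟨j, hj, rfl⟩ := h.sur b hb
      exact b1 (ne j (e hj) hb)
  have TS : T ≤ N[S] := h.pv.ps.nml.norm.trans (N_le_N_Bm R)
  refine loc.false (fun Y y1 y2 y3 => h.pv.ps.nn Y (y1.trans (Bm_le R))
    (mp.le_N (TS.trans y3) fun e => p4 ((le_inf PH y2).trans e)) ((N_le_N_Bm R).trans y3)) h.pv.ps.ec.syl TS
    (fun t ht => (cj_le_of_mem_N ZS (h.pv.nS (mp.TH ht))).trans (h.S0.trans SC)) fun z hz z1 zT zP => ?_
  have zT' := mem_C_iff_le_C1.1 zT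
  have HC : H ≤ C{z} := (mp.eq (le_inf mp.TH zT') inf_le_left fun e =>
    p4 ((le_inf PH (mem_C_iff_le_C1.1 zP)).trans e)).ge.trans inf_le_right
  have n := (pcore_nml {2} C{z}).norm
  refine ⟨Q2 C{z}, pcore_pi _ _, n, sup_le le_sup_left (le_sup_of_le_right (le_inf (inf_le_left.trans
    (h.pv.cQ.trans ((C_anti (pcore_max' (pcore_pi _ _) ((pcore_le_Hall (h.pv.ps.ec.syl.of_le zT' le_top)).trans
      mp.TH) (HC.trans n))).trans (h.pv.ps.ec.cent zT' (ne_bot_of_mem ?_ z1))))) le_sup_right))⟩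
  exact pcore_max' (piElt_two_of_sq (OZ_sq hz)).isPi (zpowers_le_C1 z) (norm_zpowers_of_cent le_rfl)
    (mem_zpowers z)

theorem PS.false (h : PS H T B R) : False := by
  obtain ⟨V, v1, v2, v3, v4, v5, v6⟩ := h.exists_V
  obtain ⟨Γ, _, _, ι, ρ, s⟩ := exists_ES (K := V ⊓ C[Od2 H]) v1 inf_le_left v4
    (norm_inf v4 (norm_C (Od2_nml H).norm))
  obtain ⟨f, k1, k2⟩ := s.ff h.mp (fun e => v5 (Od2_stab1 (ea_pi v1) v4
    (fun g hg w hw => centQ_cm s.XK (e hg) hw) (cents_symm inf_le_right))) fun E e1 e2 e3 =>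
    (v6 E e2 e3).symm.imp_left fun e => le_antisymm (le_inf e2 (cents_symm e)) e1
  have pv : PV H T B R V _ ι ρ := ⟨h, s, v2, v3, f, k1, k2⟩
  obtain ⟨A, A', f1, f2, f3⟩ := pv.ffd
  exact PW.false ⟨pv, f1, f2, f3⟩

end PU22
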