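import Mathlib
import Cfsg.Agent.H22.PU11
import Cfsg.Prelude.Def_Quasithin

/-!
# Pushing up, part 12: translation of the hypotheses
-/

set_option autoImplicit false
set_option linter.unusedSectionVars false

namespace PU22

open Subgroup Cfsg H24 H11.ZN H12.NG

universe u

variable {G : Type u} [Group G] [Finite G] {H B T R : Subgroup G}

theorem ec_of (h : IsOfEvenCharacteristic G) (T : Sylow 2 G) : EC (T : Subgroup G) :=
  ⟨syl_top_of_sylow Nat.prime_two T, fun Y y1 y2 y3 g hg => by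
    have := h N[Y] ⟨Y, y1.isPGroup Nat.prime_two, y2, rfl⟩ ⟨T, y3⟩
    rw [Q2, pcore_singleton Nat.prime_two] at hg ⊢
    refine ⟨⟨g, C_le_N _ hg.1⟩, this (mem_centralizer_iff.2 fun x hx => Subtype.ext ?_), rfl⟩
    exact mem_C.1 hg.2 _ (mem_map_of_mem _ hx)⟩

theorem Q2_ne_bot (h : H ∈ calH G) : Q2 H ≠ ⊥ := fun e => h (by
  rw [Q2, pcore_singleton Nat.prime_two] at e
  exact (map_eq_bot_iff_of_injective _ H.subtype_injective).1 e)

theorem mem_calH (h : Q2 H ≠ ⊥) : H ∈ calH G := fun e => h (by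
  rw [Q2, pcore_singleton Nat.prime_two, e, Subgroup.map_bot])

theorem mp_of_uniq (T : Sylow 2 G) (hT : (T : Subgroup G) ≤ H)
    (hU : ∃! K : Subgroup H, IsCoatom K ∧ (T : Subgroup G).subgroupOf H ≤ K) : ∃ B, MP H T B := by
  obtain ⟨K, ⟨k1, k2⟩, k3⟩ := hU
  refine ⟨K.map H.subtype, (syl_top_of_sylow Nat.prime_two T).of_le hT le_top,
    (le_map_subtype_iff hT).2 k2, lt_of_le_of_ne (map_subtype_le _) fun e => k1.1 ?_, fun X x1 x2 => ?_⟩
  · rw [← subgroupOf_map_subtype' K, e, subgroupOf_self]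
  · by_cases e : X.subgroupOf H = ⊤
    · exact Or.inl (le_antisymm x2 (subgroupOf_eq_top.1 e))
    · obtain ⟨M, m1, m2⟩ := exists_coatom e
      exact Or.inr ((le_map_subtype_iff x2).2 (k3 M ⟨m1, (subgroupOf_mono H x1).trans m2⟩ ▸ m2))

theorem MP.norm_inf (h : MP H T B) (hR : R ⊴ T) (hs : Syl 2 (Od2 H ⊔ R) R) : H ≤ N[R ⊓ Q2 H] := by
  have n : H ≤ N[Od2 H ⊔ R] :=
    h.le_N' (norm_sup (h.TH.trans (Od2_nml H).norm) hR.norm) (norm_of_le le_sup_left)
  have e : R ⊓ Q2 H = (Od2 H ⊔ R) ⊓ Q2 H := le_antisymm (inf_le_inf_right _ le_sup_right)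
    (le_inf (hs.nml_le ((pcore_pi _ _).inf_right _)
      (nml_inf_of_norm ((sup_le (H12.NG.Od2_le H) (hR.le.trans h.TH)).trans h.nQ))) inf_le_right)
  rw [e]
  exact H24.norm_inf n h.nQ

end PU22
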