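import Mathlib
import Cfsg.Agent.H22.PU12

/-!
# The `qrc`-lemma, part 1: the case `V ≤ O₂(H)`
-/

set_option autoImplicit false
set_option linter.unusedSectionVars false

namespace PU22

open Subgroup Cfsg H24 H11.ZN H12.NG
open H12 (MaxEA)
open scoped commutatorElement

universe u

variable {G : Type u} [Group G] [Finite G]
  {V W H A B D E L M X Y Z K Q T P N U S R : Subgroup G} {a b c d e g t v w x y z : G}

theorem cj_le_nc (hg : g ∈ H) : cj g V ≤ ncl V H := le_iSup₂_of_le g hg le_rfl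
theorem le_nc : V ≤ ncl V H := (cj_one V).ge.trans (cj_le_nc (one_mem H))
theorem nc_le (h : ∀ g ∈ H, cj g V ≤ X) : ncl V H ≤ X := iSup₂_le h
theorem nc_le' (h1 : V ≤ X) (h2 : H ≤ N[X]) : ncl V H ≤ X :=
  nc_le fun _ hg => cj_le_of_mem_N h1 (h2 hg)
theorem N_nc : H ≤ N[ncl V H] := fun _ hg => mem_N_of_cj_le (cj_le_iff.2 (nc_le fun _ hx =>
  cj_le_iff.1 (cj_mul _ _ V ▸ cj_le_nc (mul_mem hg hx))))

theorem two_le_rel (h : ¬ B ≤ K) : 2 ≤ K.relIndex B := by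
  have := relIndex_pos K B
  have : K.relIndex B ≠ 1 := fun e => h (relIndex_eq_one.1 e)
  omega

theorem quad_of (hV : EA V) (hB : B ≤ M) (hn : B ≤ N[V]) (h1 : ¬ B ≤ C[V]) (hq : ⁅V, B⁆ ≤ C[B])
    (h : C[B].relIndex V ≤ C[V].relIndex B ^ 2) : QuadParamLE M V 2 := by
  have k : ∀ a ∈ B, ∀ b ∈ B, ∀ v ∈ V, ⁅a * b, v⁆ = ⁅b, v⁆ * ⁅a, v⁆ := fun a ha b hb v hv => by
    rw [cm_mul, comm_of_cent (cents_symm le_rfl : B ≤ C[C[B]]) ha (hq (cm_mem_comm hb hv))]; group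
  refine ⟨B, hB, ⟨h1, fun b hb => mem_C_of_cm fun v hv => ?_, fun a ha b hb => ?_⟩,
    comm_eq_bot.2 hq, by rwa [inf_relIndex_left]⟩
  · rw [← commutatorElement_inv, sq, k b hb b hb v hv, ea_sq hV (cm_mem (hn hb) hv), inv_one]
  · rw [show a * b * a⁻¹ * b⁻¹ = a * b * (b * a)⁻¹ by group]
    refine mem_C_of_cm fun v hv => ?_
    have e := k a ha b hb _ (conj_mem' (hn (mul_mem hb ha)) hv)
    rw [Abl.comm hV.1 (cm_mem (hn hb) (conj_mem' (hn (mul_mem hb ha)) hv))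
      (cm_mem (hn ha) (conj_mem' (hn (mul_mem hb ha)) hv)),
      ← k b hb a ha _ (conj_mem' (hn (mul_mem hb ha)) hv)] at e
    rw [← commutatorElement_inv, inv_eq_one]
    simp only [commutatorElement_def, mul_left_inj] at e ⊢
    calc _ = a * b * ((b * a)⁻¹ * v * (b * a)) * (a * b)⁻¹ * v⁻¹ := by group
      _ = 1 := by rw [e]; group

theorem off (hA : MaxEA 2 T A) (hU : U ≤ T) (he : EA U) : C[A].relIndex U ≤ C[U].relIndex A := by
  have := (hA.bestOffender hU he).1 (A ⊓ C[U]) inf_le_left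
  rw [inf_eq_left.2 (cents_symm inf_le_right), ← card_rel A C[U], ← card_rel U C[A]] at this
  refine Nat.le_of_mul_le_mul_left ?_ (Nat.mul_pos (card_pos (A ⊓ C[U])) (card_pos (U ⊓ C[A])))
  nlinarith

theorem exists_quad (hA : MaxEA 2 T A) (hU : U ≤ T) (he : EA U) (hn : T ≤ N[U]) (h : ¬ A ≤ C[U]) :
    ∃ A', MaxEA 2 T A' ∧ ⁅U, A'⁆ ≤ C[A'] ∧ ¬ A' ≤ C[U] := by
  have : Fact (Nat.Prime 2) := ⟨Nat.prime_two⟩
  obtain ⟨h1, h2, h3⟩ := hA.replace hU he (hA.le.trans hn)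
  exact ⟨_, h1, comm_eq_bot.1 h2, fun e => h3 (fun e' => h (comm_eq_bot'.1 e')) (comm_eq_bot'.2 e)⟩

theorem le_sq (n : ℕ) : n ≤ n ^ 2 := Nat.le_self_pow two_ne_zero n

theorem rel_C_cj (g : G) (A B : Subgroup G) :
    C[cj g A].relIndex (cj g B) = C[A].relIndex B := by rw [← cj_C, relIndex_cj]

/-- the filtration lemma -/
theorem filt (hQ : H ≤ N[Q])
    (n3 : ∀ B, B ≤ Q → ¬ B ≤ C[V] → ⁅V, B⁆ ≤ C[B] → C[V].relIndex B ^ 2 < C[B].relIndex V)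
    (B : Subgroup G) (hB : B ≤ Q) (hq : ⁅ncl V H, B⁆ ≤ C[B]) (h1 : ¬ B ≤ C[ncl V H]) :
    C[ncl V H].relIndex B ^ 2 < C[B].relIndex (ncl V H) := by
  induction B using WellFoundedLT.induction with
  | ind B ih =>
  obtain ⟨g, hg, h2⟩ : ∃ g ∈ H, ¬ B ≤ C[cj g V] := by
    by_contra! e
    exact h1 (cents_symm (nc_le fun g hg => cents_symm (e g hg)))
  have h3 := n3 (cj g⁻¹ B) (cj_le_of_mem_N hB (hQ (inv_mem hg)))
    (fun e => h2 (by rwa [← cj_C, le_cj_iff])) (by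
      have := cj_mono g⁻¹ ((comm_mono_left (cj_le_nc hg)).trans hq)
      rwa [cj_comm, cj_inv_cj, cj_C] at this)
  rw [← rel_C_cj g, ← rel_C_cj g _ V, cj_cj_inv] at h3
  have t1 := rel_tower (V := B) (K := C[ncl V H]) (L := C[cj g V])
    (inf_le_right.trans (C_anti (cj_le_nc hg)))
  have t2 := rel_tower (V := ncl V H) (K := C[B]) (L := C[B ⊓ C[cj g V]])
    (inf_le_right.trans (C_anti inf_le_left))
  have t3 := rel_mono_right (K := C[B])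
    (le_inf (cj_le_nc hg) (cents_symm (inf_le_right (a := B) (b := C[cj g V]))))
  have t4 : C[ncl V H].relIndex (B ⊓ C[cj g V]) ^ 2 ≤ C[B ⊓ C[cj g V]].relIndex (ncl V H) := by
    by_cases e : B ⊓ C[cj g V] ≤ C[ncl V H]
    · rw [relIndex_eq_one.2 e]; exact relIndex_pos _ _
    · exact (ih _ (inf_lt_left.2 h2) (inf_le_left.trans hB) ((comm_mono_right inf_le_left).trans
        (hq.trans (C_anti inf_le_left))) e).le
  rw [t1, t2, mul_pow, mul_comm]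
  exact Nat.mul_lt_mul_of_lt_of_le' (h3.trans_le t3) t4 (pow_pos (relIndex_pos _ _) 2)

theorem rel_le_two (h : ∀ x ∈ X, ∀ y ∈ X, x ∉ K → y ∉ K → x⁻¹ * y ∈ K) : K.relIndex X ≤ 2 := by
  by_cases e : X ≤ K
  · rw [relIndex_eq_one.2 e]; exact one_le_two
  obtain ⟨a, ha, h1⟩ := SetLike.not_le_iff_exists.1 e
  refine (index_eq_two_iff'.2 ⟨⟨a, ha⟩⁻¹, fun b => ?_⟩).le
  by_cases hb : (b : G) ∈ K
  · exact Or.inr ⟨hb, fun h2 => h1 (by simpa using mul_mem hb (inv_mem h2))⟩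
  · exact Or.inl ⟨h a ha b b.2 h1 hb, hb⟩

/-- counting for a pairing into a group of order two -/
theorem pair {U₂ : Subgroup G} (hU : Abl U) (h2 : U₂ ≤ D) (hD : D ≤ U)
    (h3 : ∀ x ∈ D, ∀ y ∈ D, x ∉ U₂ → y ∉ U₂ → x⁻¹ * y ∈ U₂) (B : Subgroup G) (hn : B ≤ N[U])
    (h4 : ⁅U, B⁆ ≤ D) (h5 : B ≤ C[D]) : (centQ B U₂).relIndex U ≤ C[U].relIndex B := by
  induction B using WellFoundedLT.induction with
  | ind B ih =>
  have nU : U ≤ N[U₂] := hU.norm le_rfl (h2.trans hD)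
  have nB : B ≤ N[U₂] := norm_of_cent (cents_of_le h5 h2)
  by_cases e : U ≤ centQ B U₂
  · rw [relIndex_eq_one.2 e]; exact relIndex_pos _ _
  obtain ⟨u, hu, h6⟩ := SetLike.not_le_iff_exists.1 e
  have m : ∀ b ∈ B, b ∈ centQ (zpowers u) U₂ ↔ ⁅b, u⁆ ∈ U₂ := fun b hb =>
    (mem_centQ1 (nU hu)).trans ⟨fun e => cm_swap e.2, fun e => ⟨nB hb, cm_swap e⟩⟩
  have k : ∀ a ∈ B, ∀ b ∈ B, ∀ v ∈ U, ⁅a * b, v⁆ = ⁅b, v⁆ * ⁅a, v⁆ := fun a ha b hb v hv => by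
    rw [cm_mul, comm_of_cent h5 ha (h4 (cm_mem_comm hb hv))]; group
  have k' : ∀ a ∈ B, ∀ v ∈ U, ⁅a⁻¹, v⁆ = ⁅a, v⁆⁻¹ := fun a ha v hv =>
    eq_inv_of_mul_eq_one_left (by rw [← k a ha _ (inv_mem ha) v hv]; simp)
  obtain ⟨b, hb, h7⟩ : ∃ b ∈ B, ⁅b, u⁆ ∉ U₂ := by
    by_contra! e'
    exact h6 ((mem_centQ nB).2 ⟨nU hu, fun b hb => cm_swap (e' b hb)⟩)
  have h8 : ¬ B ≤ centQ (zpowers u) U₂ := fun e => h7 ((m b hb).1 (e hb))
  set B' := B ⊓ centQ (zpowers u) U₂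
  have nB' : B' ≤ N[U₂] := inf_le_left.trans nB
  have i1 := ih B' (inf_lt_left.2 h8) (inf_le_left.trans hn)
    ((comm_mono_right inf_le_left).trans h4) (inf_le_left.trans h5)
  have t1 := rel_tower (V := B) (K := C[U]) (L := centQ (zpowers u) U₂) fun x hx =>
    (m x hx.1).2 (cm_one_of_C' hx.2 hu ▸ one_mem _)
  have t2 := rel_tower (V := U) (K := centQ B U₂) (L := centQ B' U₂) fun x hx =>
    (mem_centQ nB').2 ⟨nU hx.1, fun y hy => centQ_cm nB hx.2 hy.1⟩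
  have key : ∀ w ∈ U ⊓ centQ B' U₂, ⁅b, w⁆ ∈ U₂ → w ∈ centQ B U₂ := fun w hw e =>
    (mem_centQ nB).2 ⟨nU hw.1, fun y hy => cm_swap (by
      by_cases hy' : ⁅y, u⁆ ∈ U₂
      · exact centQ_cm' nB' hw.2 ⟨hy, (m y hy).2 hy'⟩
      have h9 : y * b⁻¹ ∈ B' := ⟨B.mul_mem hy (B.inv_mem hb), (m _ (mul_mem hy (inv_mem hb))).2 (by
        rw [k y hy _ (inv_mem hb) u hu, k' b hb u hu]
        exact h3 _ (h4 (cm_mem_comm hb hu)) _ (h4 (cm_mem_comm hy hu)) h7 hy')⟩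
      rw [← inv_mul_cancel_right y b, k _ h9.1 b hb w hw.1]
      exact mul_mem e (centQ_cm' nB' hw.2 h9))⟩
  have t3 : (centQ B U₂).relIndex (U ⊓ centQ B' U₂) ≤ 2 := rel_le_two fun x hx y hy h9 h10 =>
    key _ (Subgroup.mul_mem _ (Subgroup.inv_mem _ hx) hy) (by
      rw [cmV hU (hn hb) (inv_mem hx.1) hy.1, show ⁅b, x⁻¹⁆ = ⁅b, x⁆⁻¹ from
        eq_inv_of_mul_eq_one_left (by rw [← cmV hU (hn hb) (inv_mem hx.1) hx.1]; simp)]
      exact h3 _ (h4 (cm_mem_comm hb hx.1)) _ (h4 (cm_mem_comm hb hy.1))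
        (fun e => h9 (key x hx e)) fun e => h10 (key y hy e))
  rw [t1, t2, mul_comm]
  exact Nat.mul_le_mul i1 (t3.trans (two_le_rel h8))

theorem exists_idx2 (hT : P2 T) (hD : EA D) (hn : T ≤ N[D]) (h1 : D ≠ ⊥) :
    ∃ U₂, U₂ < D ∧ T ≤ N[U₂] ∧ ∀ x ∈ D, ∀ y ∈ D, x ∉ U₂ → y ∉ U₂ → x⁻¹ * y ∈ U₂ := by
  obtain ⟨U₂, -, ⟨h2, h3⟩, h4⟩ := exists_max (P := fun U => U < D ∧ T ≤ N[U]) (H := ⊥)
    ⟨bot_lt_iff_ne_bot.2 h1, by rw [N_bot]; exact le_top⟩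
  have nD : D ≤ N[U₂] := Abl.norm hD.1 le_rfl h2.le
  obtain ⟨v, hv, h5, h6⟩ := exists_fix_mod hT (ea_pi hD) hn h3 nD h2.not_ge
  have h7 : U₂ ⊔ zpowers v ≤ D := sup_le h2.le (zpowers_le.2 hv)
  have h8 : U₂ ⊔ zpowers v = D := by
    by_contra e
    refine h5 ((h4 _ ⟨lt_of_le_of_ne h7 e, fun p hp => mem_N_of_cj_le ?_⟩ le_sup_left).le
      (mem_sup_right (mem_zpowers v)))
    rw [cj_sup, cj_of_mem_N (h3 hp), cj_zpowers, conj_eq_cm]
    exact sup_le le_sup_left (zpowers_le.2 (mul_mem (mem_sup_left (h6 p hp))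
      (mem_sup_right (mem_zpowers v))))
  have k : ∀ x ∈ D, x ∉ U₂ → ∃ a ∈ U₂, x = a * v := fun x hx h => by
    obtain ⟨a, ha, _, ⟨j, rfl⟩, rfl⟩ := (mem_sup_of_norm (zpowers_le.2 (nD hv))).1 (h8.ge hx)
    obtain ⟨i, rfl | rfl⟩ := Int.even_or_odd' j <;>
      simp only [zpow_add, zpow_mul, zpow_two, ea_sq hD hv, one_zpow, mul_one, one_mul, zpow_one]
        at h ⊢
    · exact absurd ha h
    · exact ⟨a, ha, rfl⟩
  refine ⟨U₂, h2, h3, fun x hx y hy h9 h10 => ?_⟩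
  obtain ⟨a, ha, rfl⟩ := k x hx h9
  obtain ⟨b, hb, rfl⟩ := k y hy h10
  rw [show (a * v)⁻¹ * (b * v) = v⁻¹ * (a⁻¹ * b) * v by group]
  exact conj_mem' (nD hv) (mul_mem (inv_mem ha) hb)

/-- the hypothesis of the `qrc`-lemma, when conclusions (1) and (3) fail -/
structure QR (H T B M V R : Subgroup G) : Prop where
  mp : MP H T B
  ec : EC T
  cQ : C[Q2 H] ≤ Q2 H
  ne : T ≠ ⊥
  TM : T ≤ M
  ea : EA V
  VM : V ≤ M
  nV : M ≤ N[V]
  R1 : R = Q2 M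
  R2 : R = T ⊓ C[V]
  hI : B ≤ N[Od2 M] ∨ B ≤ N[V]
  nn : ∀ Y, Y ≤ R → H ≤ N[Y] → M ≤ N[Y] → Y = ⊥
  n3 : ¬ QuadParamLE M V 2

namespace QR

variable (h : QR H T B M V R)
include h

theorem syl : Syl 2 M T := h.ec.syl.of_le h.TM le_top
theorem VT : V ≤ T := h.syl.nml_le (ea_pi h.ea) ⟨h.VM, h.nV⟩
theorem TV : T ≤ N[V] := h.TM.trans h.nV
theorem RT : R ≤ T := h.R2.le.trans inf_le_left
theorem RC : R ≤ C[V] := h.R2.le.trans inf_le_right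
theorem nR : M ≤ N[R] := h.R1 ▸ (pcore_nml _ M).norm
theorem VR : V ≤ R := (le_inf h.VT (Abl.le_C h.ea.1)).trans h.R2.ge

theorem lt3 (hA : A ≤ T) (h1 : ¬ A ≤ C[V]) (hq : ⁅V, A⁆ ≤ C[A]) :
    C[V].relIndex A ^ 2 < C[A].relIndex V :=
  lt_of_not_ge fun e => h.n3 (quad_of h.ea (hA.trans h.TM) (hA.trans h.TV) h1 hq e)

theorem JR : JJ T ≤ R := H12.J_le_iff.2 fun A hA => by
  by_contra e
  obtain ⟨A', h1, h2, h3⟩ := exists_quad hA h.VT h.ea h.TV fun e' => e (h.R2 ▸ le_inf hA.le e')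
  exact (h.lt3 h1.le h3 h2).not_ge ((off h1 h.VT h.ea).trans (le_sq _))

theorem nJ : ¬ JJ T ≤ Q2 H := fun e => JJ_ne_bot h.mp.two h.ne (h.nn _ h.JR
  (JJ_eq e h.mp.QT ▸ h.mp.nQ.trans (N_le_N_JJ _)) (JJ_eq h.JR h.RT ▸ h.nR.trans (N_le_N_JJ _)))

theorem nRQ : ¬ H ≤ N[R ⊓ Q2 H] := fun e => PS.false (R := R) ⟨h.mp, h.ec, h.cQ,
  ⟨h.RT, h.TM.trans h.nR⟩, e, ne_bot_of_le (JJ_ne_bot h.mp.two h.ne) h.JR,
  fun Y y1 y2 y3 => h.nn Y y1 y2 (h.nR.trans y3)⟩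

theorem nHV : ¬ H ≤ N[V] := fun e => h.nRQ (by
  rw [h.R2, inf_right_comm, inf_eq_right.2 h.mp.QT]
  exact norm_inf h.mp.nQ (norm_C e))

theorem abl (hV : V ≤ Q2 H) : Abl (ncl V H) := by
  have k : ∀ g ∈ H, ¬ cj g V ≤ C[V] → C[V].relIndex (cj g V) < C[cj g V].relIndex V :=
    fun g hg e => (le_sq _).trans_lt (h.lt3 ((cj_le_of_mem_N hV (h.mp.nQ hg)).trans h.mp.QT) e
      ((comm_le_right (hV.trans (cj_of_mem_N (h.mp.nQ hg) ▸
        norm_cj (h.mp.QT.trans h.TV) g))).trans (Abl.le_C (ea_cj h.ea g).1)))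
  have k' : ∀ g ∈ H, cj g V ≤ C[V] := fun g hg => by
    by_contra e
    have h1 := k g⁻¹ (inv_mem hg) fun e' => e (by
      have := cent_cj e' g
      rw [cj_cj_inv] at this
      exact cents_symm this)
    rw [← rel_C_cj g, ← rel_C_cj g _ V, cj_cj_inv] at h1
    exact h1.asymm (k g hg e)
  refine abl_iff.2 (nc_le fun g hg => cents_symm (nc_le fun x hx => ?_))
  have := cent_cj (k' (g⁻¹ * x) (mul_mem (inv_mem hg) hx)) g
  rwa [← cj_mul, mul_inv_cancel_left] at this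

theorem not_le : ¬ V ≤ Q2 H := fun hV => by
  have mp := h.mp
  have hU := h.abl hV
  have UQ : ncl V H ≤ Q2 H := nc_le' hV mp.nQ
  have fl := filt mp.nQ fun A hA => h.lt3 (hA.trans mp.QT)
  have eU : EA (ncl V H) := ea_of_sq fun x hx => by
    have : ncl V H ≤ OZ (ncl V H) := nc_le fun g hg y hy =>
      mem_OZ.2 ⟨cj_le_nc hg hy, hU.le_C (cj_le_nc hg hy), (ea_cj h.ea g).2 y hy⟩
    exact OZ_sq (this hx)
  have VU : V ≤ ncl V H := le_nc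
  have nU : H ≤ N[ncl V H] := N_nc
  have mU : ∀ X, V ≤ X → H ≤ N[X] → ncl V H ≤ X := fun X => nc_le'
  generalize ncl V H = U at *
  have KH := H12.NG.Od2_le H
  have QH : Q2 H ≤ H := pcore_le _ _
  have nK : ¬ Od2 H ≤ C[U] := fun e => h.nHV (mp.le_N' h.TV (norm_of_cent (cents_of_le e VU)))
  have cU : T ⊓ C[U] ≤ Q2 H := (le_inf inf_le_left (le_inf (inf_le_left.trans mp.TH) inf_le_right)).trans
    (mp.inf_le' (nml_inf_of_norm (norm_C nU)) fun e => nK (e.trans inf_le_right))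
  obtain ⟨A₀, a1, a2⟩ : ∃ A, MaxEA 2 T A ∧ ¬ A ≤ C[U] := by
    by_contra! e
    exact h.nJ (H12.J_le_iff.2 fun A hA => (le_inf hA.le (e A hA)).trans cU)
  obtain ⟨A, hA, q1, q2⟩ := exists_quad a1 (UQ.trans mp.QT) eU (mp.TH.trans nU) a2
  have o1 := off hA (UQ.trans mp.QT) eU
  have nA : ¬ A ≤ Q2 H := fun e => (fl A e q1 q2).not_ge (o1.trans (le_sq _))
  have AH := hA.le.trans mp.TH
  have c1 : ∀ U', U' ≤ U → H ≤ N[U'] → Od2 H ≤ C[U'] ∨ Od2 H ≤ centQ U U' := fun U' u1 u2 => by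
    by_contra! e
    have s1 := secNO1 mp (ea_le eU u1) u2 e.1 hA.le hA.ea
    have s2 := secNO mp eU u1 nU u2 e.2 hA.le hA.ea
    have t1 := rel_tower (V := U) (K := C[A]) (L := centQ A U') fun x hx =>
      (mem_centQ (AH.trans u2)).2 ⟨hU.norm le_rfl u1 hx.1, fun a ha =>
        cm_one_of_C' hx.2 ha ▸ one_mem _⟩
    have t2 := rel_mono_right (K := C[A]) (le_inf u1 (le_centQ' (AH.trans u2) (norm_self _)
      fun x hx a ha => cm_mem' hx (u2 (AH ha))))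
    have t3 := rel_tower (V := A) (K := C[U]) (L := Q2 H) ((inf_le_inf_right _ hA.le).trans cU)
    have t4 := two_le_rel nA
    have t5 : (Q2 H).relIndex A * (Q2 H).relIndex A ≤ C[A].relIndex U :=
      t1 ▸ Nat.mul_le_mul (s1.trans t2) s2
    by_cases e' : A ⊓ Q2 H ≤ C[U]
    · rw [t3, relIndex_eq_one.2 e'] at o1
      nlinarith
    · have t6 := (fl _ inf_le_right ((comm_mono_right inf_le_left).trans
        (q1.trans (C_anti inf_le_left))) e').trans_le (rel_anti_left (C_anti inf_le_left))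
      rw [t3] at o1
      nlinarith [Nat.mul_le_mul t5 t6, Nat.mul_le_mul o1 o1]
  have c2 : Od2 H ≤ C[⁅U, Q2 H⁆] :=
    (c1 _ (comm_le_left (QH.trans nU)) (norm_comm nU mp.nQ)).resolve_right fun e => by
      have n1 : U ≤ N[⁅U, Q2 H⁆] := norm_comm_left _ _
      have n2 : H ≤ N[⁅U, Q2 H⁆ ⊔ V] := mp.le_N'
        (norm_sup (mp.TH.trans (norm_comm nU mp.nQ)) h.TV) fun g hg => mem_N_of_cj_le (by
          rw [cj_sup, cj_of_mem_N (norm_comm nU mp.nQ (KH hg))]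
          refine sup_le le_sup_left fun x hx => ?_
          obtain ⟨z, hz, rfl⟩ := mem_cj'.1 hx
          rw [conj_eq_cm]
          exact mul_mem (mem_sup_left (centQ_cm n1 (e hg) (VU hz))) (mem_sup_right hz))
      exact h.nHV (le_antisymm (le_of_le_comm_sup (ea_pi eU) (pcore_pi _ _) (QH.trans nU)
        (mp.QT.trans h.TV) (hU.norm le_rfl VU) (mU _ le_sup_right n2)) VU ▸ nU)
  have nK' := (Od2_nml H).norm
  have k1 : ⁅Q2 H, Od2 H⁆ ≤ Q2 H := comm_le_left (KH.trans mp.nQ)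
  have k2 : ⁅Q2 H, Od2 H⁆ ≤ Od2 H := comm_le_right (QH.trans nK')
  have k3 : H ≤ N[⁅Q2 H, Od2 H⁆] := norm_comm mp.nQ nK'
  have k4 : ⁅Q2 H, Od2 H⁆ ≤ ⁅⁅Q2 H, Od2 H⁆, Od2 H⁆ := by
    have n3 := norm_comm k3 nK'
    exact (commC _ _).le.trans ((le_centQ (QH.trans n3)).1 (Od2_stab (pcore_pi _ _) mp.nQ k1 n3 (QH.trans n3)
      (QH.trans k3) ((le_centQ (QH.trans k3)).2 ⟨KH.trans k3, (commC _ _).le⟩)
      ((le_centQ (k1.trans (QH.trans n3))).2 ⟨KH.trans n3, (commC _ _).le⟩))).2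
  have k5 : ¬ ⁅Q2 H, Od2 H⁆ ≤ C[U] := fun e => h.nRQ (mp.le_N'
    (norm_inf (h.TM.trans h.nR) (mp.TH.trans mp.nQ)) (norm_of_comm_le_left
      ((comm_mono_left inf_le_right).trans (le_inf
        (h.R2 ▸ le_inf (k1.trans mp.QT) (cents_of_le e VU)) k1))))
  generalize ⁅Q2 H, Od2 H⁆ = P at *
  have PH := k1.trans QH
  have d1 : ⁅U, P⁆ ≤ U := comm_le_left (PH.trans nU)
  have d2 : Od2 H ≤ C[⁅U, P⁆] := cents_of_le c2 (comm_mono_right k1)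
  obtain ⟨U₂, u1, u2, u3⟩ := exists_idx2 mp.two (ea_le eU d1) (mp.TH.trans (norm_comm nU k3))
    fun e => k5 (comm_eq_bot'.1 e)
  have u4 : H ≤ N[U₂] := mp.le_N' u2 (norm_of_cent (cents_of_le d2 u1.le))
  have u5 : U ≤ N[U₂] := hU.norm le_rfl (u1.le.trans d1)
  have p1 := pair hU u1.le d1 u3 P (PH.trans nU) le_rfl (k2.trans d2)
  rcases c1 (U ⊓ centQ P U₂) inf_le_left (norm_inf nU (norm_centQ k3 u4)) with e | e
  · exact (fl P k1 (cents_symm (k2.trans d2)) k5).not_ge (((rel_le_of_inf le_rfl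
      ((inf_comm _ _).le.trans (cents_symm (k2.trans e)))).trans p1).trans (le_sq _))
  · have e1 := ((le_centQ (hU.norm le_rfl inf_le_left)).1 e).2
    have := three_subgroup_mod (A := Od2 H) (B := U) (L := P) (KH.trans u4) u5 (PH.trans u4)
      ((le_centQ (PH.trans u4)).1 (e1.trans inf_le_right)).2
      ((comm_eq_bot'.2 d2).le.trans bot_le)
    exact u1.not_ge ((commC _ _).le.trans ((comm_mono_left k4).trans this))

end QR

end PU22
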