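import Mathlib
import Cfsg.Agent.H22.PU13
import Cfsg.Agent.H2.Zipper

/-!
# The `qrc`-lemma, part 2: the case `V ≰ O₂(H)`
-/

set_option autoImplicit false
set_option linter.unusedSectionVars false

namespace PU22

open Subgroup Cfsg H24 H11.ZN H12.NG
open H12 (MaxEA)
open scoped commutatorElement

universe u

variable {G : Type u} [Group G] [Finite G]
  {V W H A B D E L M X Y Z K Q T P N U S R : Subgroup G} {a b c d e g t v w x y z : G}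

theorem zip (hS : P2 S) (h1 : S ≤ H) (h2 : ¬ S ≤ Q2 H) : ∃ L L', L ≤ H ∧ S ≤ L' ∧ L' < L ∧
    ¬ S ≤ Q2 L ∧ (∀ X, S ≤ X → X ≤ L → ¬ X ≤ L' → L ≤ X) ∧
    ∀ a ∈ S, a ∉ Q2 L → ∃ g ∈ L, a ∉ cj g L' := by
  obtain ⟨L, l1, ⟨l2, l3⟩, l4⟩ := exists_min (P := fun L => S ≤ L ∧ ¬ S ≤ Q2 L) ⟨h1, h2⟩
  have m : ∀ X, S ≤ X → X < L → S ≤ Q2 X := fun X x1 x2 => by
    by_contra e
    exact x2.ne (l4 X ⟨x1, e⟩ x2.le)
  have lt : ∀ Y : Subgroup L, Y ≠ ⊤ → Y.map L.subtype < L := fun Y hY =>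
    lt_of_le_of_ne (map_subtype_le _) fun e => hY (by
      rw [← subgroupOf_map_subtype' Y, e, subgroupOf_self])
  have ns : ¬ (S.subgroupOf L).IsSubnormal := fun e => l3 (by
    rw [Q2, pcore_singleton Nat.prime_two, le_map_subtype_iff l2]
    exact H2.le_pCore_of_isSubnormal e ((isPi_subgroupOf hS L).isPGroup Nat.prime_two))
  have z := H2.zipper (S.subgroupOf L) (fun Y y1 y2 => by
    have := m _ ((le_map_subtype_iff l2).2 y1) (lt Y y2)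
    rw [Q2, pcore_map_subtype, ← map_subgroupOf' l2, map_subtype_le_map_subtype] at this
    exact (H11.sn_of_isNilpotent ((pcore_pi _ Y).nil Nat.prime_two) this).trans
      (H11.SN.of_le_normalizer (pcore_le _ Y) (pcore_nml _ Y).norm)) ns
  obtain ⟨Y, y1, y2⟩ := exists_coatom (X := S.subgroupOf L) fun e => ns (e ▸ IsSubnormal.top)
  have y3 := (le_map_subtype_iff l2).2 y2
  refine ⟨L, _, l1, y3, lt Y y1.1, l3, fun X x1 x2 x3 => ?_, fun a ha h3 => ?_⟩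
  · by_contra e
    obtain ⟨Y', y4, y5⟩ := exists_coatom (X := X.subgroupOf L) fun e' => e (subgroupOf_eq_top.1 e')
    exact x3 ((le_map_subtype_iff x2).2 (z _ _ y4 y1 ((subgroupOf_mono L x1).trans y5) y2 ▸ y5))
  · by_contra! e
    obtain ⟨N₀, n1, n2⟩ := core_spec L (Y.map L.subtype)
    have n3 : N₀ ≤ Y.map L.subtype := fun x hx => by simpa using ((n2 x).1 hx).2 1 (one_mem _)
    exact h3 (n1.pcore_le _ (inf_pcore_le _ le_sup_left ⟨(n2 a).2 ⟨l2 ha, e⟩,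
      m (N₀ ⊔ S) le_sup_right ((sup_le n3 y3).trans_lt (lt Y y1.1)) ha⟩))

theorem fix_of_C (hx : x ∈ Z ⊔ cj x Z) (hZ : EA Z) (hA : A ≤ Z) (h1 : w ∈ cj x A) (h2 : w ∈ C[Z]) :
    w ∈ A := by
  have e : w ∈ C[Z ⊔ cj x Z] := C_sup Z _ ▸ ⟨h2, Abl.le_C (ea_cj hZ x).1 (cj_mono x hA h1)⟩
  have := mem_cj.1 h1
  rwa [mul_assoc, ← mem_C.1 e x hx, inv_mul_cancel_left] at this

theorem rel_sup_le (hA : A ≤ K) (hn : B ≤ N[A]) : K.relIndex (B ⊔ A) ≤ K.relIndex B := by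
  choose! f h1 g h2 h3 using fun x => (mem_sup_of_norm' (x := x) hn).1
  refine rel_le f h1 fun x hx y hy e => ?_
  rw [h3 x hx, h3 y hy, show (f x * g x)⁻¹ * (f y * g y) = (g x)⁻¹ * ((f x)⁻¹ * f y) * g y by group]
  exact mul_mem (mul_mem (inv_mem (hA (h2 x hx))) e) (hA (h2 y hy))

theorem core (eZ : EA Z) (hQ : P2 Q) (cQ : C[Q] ≤ Q) (QZ : Q ≤ N[Z]) (ZL : Z ≤ L) (QL : Q ≤ L)
    (LQ : L ≤ N[Q]) (x1 : x ∈ Z ⊔ cj x Z) (xL : x ∈ L) (x2 : L ≤ Z ⊔ cj x Z ⊔ Q) (ha : a ∈ Z)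
    (a1 : a ∉ Q2 L) (gen : ∀ a ∈ Z, a ∉ Q2 L → ∃ g ∈ L, L ≤ zpowers a ⊔ cj g Z ⊔ Q2 L)
    (nw : L ⊓ N[⁅Q, Z⁆] ≤ N[Z])
    (lt : ∀ A, P2 A → A ≤ N[Z] → ¬ A ≤ C[Z] → ⁅Z, A⁆ ≤ C[A] → C[Z].relIndex A ^ 2 < C[A].relIndex Z) :
    ∃ A, EA A ∧ A ≤ N[Z] ∧ ¬ A ≤ C[Z] ∧ ⁅⁅Z, A⁆, A⁆ ≤ C[A] ∧
      C[A].relIndex Z ≤ C[Z].relIndex A ^ 2 := by
  have eZ' := ea_cj eZ x
  have aZ := Abl.le_C eZ.1
  have aZ' := Abl.le_C eZ'.1
  have ZL' := cj_le_of_mem ZL xL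
  have QZ' : Q ≤ N[cj x Z] := cj_of_mem_N (LQ xL) ▸ norm_cj QZ x
  have nO := Q2_nml L
  have pO : P2 (Q2 L) := pcore_pi _ _
  have QO : Q ≤ Q2 L := pcore_max' hQ QL LQ
  have cW : cj x ⁅Q, Z⁆ = ⁅Q, cj x Z⁆ := by rw [cj_comm, cj_of_mem_N (LQ xL)]
  have WZ := comm_le_right QZ
  have WZ' := comm_le_right QZ'
  have WQ := comm_le_left (ZL.trans LQ)
  have WQ' := comm_le_left (ZL'.trans LQ)
  have UQ := sup_le WQ WQ'
  have QU : Q ≤ N[⁅Q, Z⁆ ⊔ ⁅Q, cj x Z⁆] := norm_sup (norm_comm_left _ _) (norm_comm_left _ _)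
  have XU : Z ⊔ cj x Z ≤ centQ Q (⁅Q, Z⁆ ⊔ ⁅Q, cj x Z⁆) := sup_le
    ((le_centQ QU).2 ⟨norm_of_comm_le_left ((comm_mono_left UQ).trans le_sup_left),
      (commC _ _).le.trans le_sup_left⟩)
    ((le_centQ QU).2 ⟨norm_of_comm_le_left ((comm_mono_left UQ).trans le_sup_right),
      (commC _ _).le.trans le_sup_right⟩)
  have LU := x2.trans (sup_le (XU.trans (centQ_le_N _ _)) QU)
  have OZ : Q2 L ≤ N[Z] := by
    by_contra e
    have PL := sup_le ZL nO.le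
    obtain ⟨y, ⟨y1, y2⟩, y3⟩ := SetLike.exists_of_lt ((((ea_pi eZ).sup' pO (ZL.trans nO.norm)).nil
      Nat.prime_two).proper_norm (inf_lt_left.2 fun e' => e (le_sup_right.trans e')))
    have z1 : Z ≤ (Z ⊔ Q2 L) ⊓ N[Z] := le_inf le_sup_left (norm_self Z)
    have k : ∀ y ∈ N[(Z ⊔ Q2 L) ⊓ N[Z]], ¬ cj y Z ≤ C[Z] →
        C[Z].relIndex (cj y Z) < C[cj y Z].relIndex Z := fun y hy e =>
      (le_sq _).trans_lt (lt _ (ea_pi (ea_cj eZ y)) ((cj_le_of_mem_N z1 hy).trans inf_le_right) e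
        ((comm_le_right (by
          rw [← cj_N, le_cj_iff]
          exact (cj_le_of_mem_N z1 (inv_mem hy)).trans inf_le_right)).trans (Abl.le_C (ea_cj eZ y).1)))
    by_cases c : cj y Z ≤ C[Z]
    · refine y3 ⟨y1, nw ⟨PL y1, mem_N_of_cj_le fun u hu => ?_⟩⟩
      obtain ⟨w, hw, w', hw', rfl⟩ := (mem_sup_of_norm (WQ'.trans (norm_comm_left Q Z))).1
        (cj_le_of_mem_N le_sup_left (LU (PL y1)) hu)
      exact mul_mem hw (fix_of_C x1 eZ WZ (cW.ge hw')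
        ((mul_mem_cancel_left (aZ (WZ hw))).1 (c (cj_mono y WZ hu))))
    · have h1 := k y⁻¹ (inv_mem y2) fun e' => c (by
        have := cent_cj e' y
        rw [cj_cj_inv] at this
        exact cents_symm this)
      rw [← rel_C_cj y, ← rel_C_cj y _ Z, cj_cj_inv] at h1
      exact h1.asymm (k y y2 c)
  have cO := cj_of_mem_N (nO.norm xL)
  have OZ' : Q2 L ≤ N[cj x Z] := cO ▸ norm_cj OZ x
  have cA : cj x (Z ⊓ Q2 L) = cj x Z ⊓ Q2 L := by rw [cj_inf, cO]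
  have o1 : Q2 L ≤ N[Z ⊓ Q2 L] := norm_inf OZ (norm_self _)
  have o2 : Q2 L ≤ N[cj x Z ⊓ Q2 L] := norm_inf OZ' (norm_self _)
  have c1 : ⁅Q2 L, Z⁆ ≤ Z ⊓ Q2 L := le_inf (comm_le_right OZ) (comm_le_left (ZL.trans nO.norm))
  have c2 : ⁅Q2 L, cj x Z⁆ ≤ cj x Z ⊓ Q2 L :=
    le_inf (comm_le_right OZ') (comm_le_left (ZL'.trans nO.norm))
  have XD : Z ⊔ cj x Z ≤ C[Z ⊓ cj x Z] :=
    sup_le (cents_of_le aZ inf_le_left) (cents_of_le aZ' inf_le_right)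
  have LD := x2.trans (sup_le (norm_of_cent XD) (norm_inf QZ QZ'))
  have DO : Z ⊓ cj x Z ≤ Q2 L :=
    pcore_max' (ea_pi (ea_le eZ inf_le_left)) (inf_le_left.trans ZL) LD
  have AO : cj x Z ⊓ Q2 L ⊔ Z ⊓ Q2 L ≤ Q2 L := sup_le inf_le_right inf_le_right
  have LA : L ≤ N[cj x Z ⊓ Q2 L ⊔ Z ⊓ Q2 L] := x2.trans (sup_le (sup_le
    (norm_of_comm_le_left ((comm_mono_left AO).trans (c1.trans le_sup_right)))
    (norm_of_comm_le_left ((comm_mono_left AO).trans (c2.trans le_sup_left))))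
    (QO.trans (norm_sup o2 o1)))
  have d1 : ⁅Z ⊓ Q2 L, cj x Z ⊓ Q2 L⁆ ≤ Z ⊓ cj x Z := le_inf
    ((commutator_mono inf_le_left inf_le_right).trans (comm_le_left OZ))
    ((commutator_mono inf_le_right inf_le_left).trans (comm_le_right OZ'))
  have OD := nO.le.trans LD
  have d2 : ∀ {A B E : Subgroup G}, A ≤ Q2 L → B ≤ Q2 L → E ≤ Q2 L → ⁅A, E⁆ ≤ Z ⊓ cj x Z →
      ⁅B, E⁆ ≤ Z ⊓ cj x Z → ⁅E, A ⊔ B⁆ ≤ Z ⊓ cj x Z := fun h1 h2 h3 h4 h5 =>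
    (commC _ _).le.trans ((le_centQ (h3.trans OD)).1 (sup_le ((le_centQ (h3.trans OD)).2
      ⟨h1.trans OD, h4⟩) ((le_centQ (h3.trans OD)).2 ⟨h2.trans OD, h5⟩))).2
  have d3 : ∀ {Y : Subgroup G}, Y ≤ C[Y] → ⁅Y ⊓ Q2 L, Y ⊓ Q2 L⁆ ≤ Z ⊓ cj x Z := fun e =>
    (comm_eq_bot.2 (inf_le_left.trans (cents_of_le e inf_le_left))).le.trans bot_le
  have d4 := d2 inf_le_right inf_le_right AO (d2 inf_le_right inf_le_right inf_le_right (d3 aZ') d1)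
    (d2 inf_le_right inf_le_right inf_le_right ((commC _ _).le.trans d1) (d3 aZ))
  have KL := H12.NG.Od2_le L
  have nK : ¬ Od2 L ≤ centQ (cj x Z ⊓ Q2 L ⊔ Z ⊓ Q2 L) (Z ⊓ cj x Z) := fun e => by
    have XL := sup_le ZL ZL'
    have k1 := Od2_le_of_sup (nml_inf_of_norm (norm_C LD)) hQ QL
      (x2.trans (sup_le_sup_right (le_inf XL XD) _))
    have k2 := Od2_le_of_sup (nml_inf_of_norm (norm_centQ LQ LU)) hQ QL
      (x2.trans (sup_le_sup_right (le_inf XL XU) _))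
    have k3 := Od2_stab1 (pO.of_le AO) LA (fun g hg w hw => centQ_cm (AO.trans OD) (e hg) hw)
      (k1.trans inf_le_right)
    have k4 := Od2_stab1 hQ LQ (fun g hg w hw => centQ_cm QU (k2 hg).2 hw) (cents_of_le k3 (sup_le
      ((le_inf WZ (WQ.trans QO)).trans le_sup_right) ((le_inf WZ' (WQ'.trans QO)).trans le_sup_left)))
    exact a1 (pcore_max' (Od2_eq_bot.1 (Od2_Od2 L ▸ Od2_eq_bot.2 (hQ.of_le (k4.trans cQ)))) le_rfl
      (norm_self L) (ZL ha))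
  have s1 := secIneq ((le_inf inf_le_left DO).trans le_sup_right) d4 (pO.of_le AO) LA LD nK ZL
    (fun a ha b hb w hw => cm_one_of_C (aZ (cm_mem' ha (OZ (AO hw)))) hb ▸ one_mem _) nO pO gen ha a1
  have n1 := zpowers_le.2 (LD (ZL ha))
  have s2 : ∀ Y, Y ≤ Q2 L → Y ≤ C[Z] → Y ≤ centQ (zpowers a) (Z ⊓ cj x Z) := fun Y y1 y2 =>
    (le_centQ n1).2 ⟨y1.trans OD, (comm_eq_bot.2 (cents_of_le y2 (zpowers_le.2 ha))).le.trans bot_le⟩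
  have s3 : (Q2 L).relIndex Z ≤ C[Z].relIndex (cj x Z ⊓ Q2 L) := s1.trans
    ((rel_sup_le (s2 _ inf_le_right (inf_le_left.trans aZ)) (inf_le_right.trans o1)).trans
      (rel_le_of_inf le_rfl (s2 _ (inf_le_right.trans inf_le_right) inf_le_left)))
  have s4 : (Z ⊓ cj x Z).relIndex (Z ⊓ Q2 L) ≤ C[Z].relIndex (cj x Z ⊓ Q2 L) := by
    rw [← relIndex_cj x, cj_of_mem_N (LD xL), cA]
    exact rel_le_of_inf le_rfl fun w hw => ⟨fix_of_C x1 eZ le_rfl hw.2.1 hw.1, hw.2.1⟩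
  have s5 : Z ⊓ cj x Z ≤ C[cj x Z ⊓ Q2 L] := inf_le_right.trans (cents_of_le aZ' inf_le_left)
  refine ⟨cj x Z ⊓ Q2 L, ea_le eZ' inf_le_left, inf_le_right.trans OZ, fun e => ?_,
    (comm_mono_left ((comm_mono_right inf_le_right).trans ((commC _ _).le.trans c1))).trans
      (d1.trans s5), (rel_anti_left s5).trans ?_⟩
  · rw [relIndex_eq_one.2 e] at s3
    exact absurd ((two_le_rel fun e => a1 (e ha)).trans s3) (by decide)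
  · rw [rel_tower (inf_le_right.trans DO), sq]
    exact Nat.mul_le_mul s4 s3

namespace QR

variable (h : QR H T B M V R)
include h

theorem VZ : V ≤ OZ R := fun x hx => mem_OZ.2 ⟨h.VR hx, cents_symm h.RC hx, h.ea.2 x hx⟩
theorem ZT : OZ R ≤ T := (OZ_le R).trans h.RT
theorem TZ : T ≤ N[OZ R] := norm_OZ (h.TM.trans h.nR)

theorem relZ (hA : A ≤ T) : C[V].relIndex A = C[OZ R].relIndex A :=
  le_antisymm (rel_anti_left (C_anti h.VZ)) (rel_le_of_inf le_rfl fun _ hx =>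
    le_C_OZ R (h.R2.ge ⟨hA hx.2, hx.1⟩))

theorem into (hA : P2 A) (hn : A ≤ N[OZ R]) : ∃ g, cj g (OZ R) = OZ R ∧ cj g A ≤ T := by
  obtain ⟨g, h1, h2⟩ := Sylow_Jsub Nat.prime_two (h.ec.syl.of_le h.TZ le_top) hA hn
  exact ⟨g, cj_of_mem_N h1, h2⟩

theorem not_C (e : cj g (OZ R) = OZ R) (hA : cj g A ≤ T) (h1 : ¬ A ≤ C[OZ R]) : ¬ cj g A ≤ C[V] :=
  fun e' => h1 (relIndex_eq_one.1 (by
    rw [← rel_C_cj g, e, ← h.relZ hA]; exact relIndex_eq_one.2 e'))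

theorem lt3' (hA : P2 A) (hn : A ≤ N[OZ R]) (h1 : ¬ A ≤ C[OZ R]) (hq : ⁅OZ R, A⁆ ≤ C[A]) :
    C[OZ R].relIndex A ^ 2 < C[A].relIndex (OZ R) := by
  obtain ⟨g, e, h2⟩ := h.into hA hn
  have h3 := cj_mono g hq
  rw [cj_comm, cj_C, e] at h3
  have := (h.lt3 h2 (h.not_C e h2 h1) ((comm_mono_left h.VZ).trans h3)).trans_le
    (rel_mono_right h.VZ)
  rwa [h.relZ h2, ← e, rel_C_cj, rel_C_cj] at this

theorem cubic (hA : EA A) (hn : A ≤ N[OZ R]) (h1 : ¬ A ≤ C[OZ R]) (hq : ⁅⁅OZ R, A⁆, A⁆ ≤ C[A])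
    (h4 : C[A].relIndex (OZ R) ≤ C[OZ R].relIndex A ^ 2) : CubicParamLE M V 2 := by
  obtain ⟨g, e, h2⟩ := h.into (ea_pi hA) hn
  have h3 := cj_mono g hq
  rw [cj_comm, cj_comm, cj_C, e] at h3
  have h5 := ea_cj hA g
  refine ⟨cj g A, h2.trans h.TM, ⟨h.not_C e h2 h1, fun b hb => h5.2 b hb ▸ one_mem _,
    fun a ha b hb => ?_⟩, comm_eq_bot.2 ((comm_mono_left (comm_mono_left h.VZ)).trans h3), ?_⟩
  · rw [Abl.comm h5.1 ha hb]; simp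
  · rw [inf_relIndex_left, h.relZ h2]
    refine (rel_mono_right h.VZ).trans ?_
    rwa [← e, rel_C_cj, rel_C_cj]

theorem exists_N : ∃ N, N ⊴ B ∧ T ⊓ N = R := by
  rcases h.hI with e | e
  · have n1 : M ≤ N[Q2 (Od2 M)] := norm_pcore _ (Od2_nml M).norm
    have n2 := (H12.NG.Od2_le M).trans n1
    have e1 : R ⊓ Od2 M = Q2 (Od2 M) := h.R1 ▸ pcore_inf_nml _ (Od2_nml M)
    have e2 : R ≤ T ⊓ centQ (Od2 M) (Q2 (Od2 M)) := le_inf h.RT (le_centQ' n2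
      (h.RT.trans (h.TM.trans n1)) fun a ha u hu => e1.le
        ⟨cm_mem' ha (h.nR (H12.NG.Od2_le M hu)), cm_mem ((Od2_nml M).norm (h.TM (h.RT ha))) hu⟩)
    refine ⟨B ⊓ centQ (Od2 M) (Q2 (Od2 M)), nml_inf_of_norm (norm_centQ e (norm_pcore _ e)), ?_⟩
    rw [← inf_assoc, inf_eq_left.2 h.mp.le]
    refine le_antisymm (h.R1 ▸ pcore_max' (h.mp.two.inf_left _) (inf_le_left.trans h.TM)
      ((le_Od2_sup h.syl).trans (sup_le (le_N_of_cm fun g hg x hx => ?_) (norm_inf (norm_self T)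
        (norm_centQ (h.TM.trans (Od2_nml M).norm) (h.TM.trans n1)))))) e2
    exact e2 (e1.ge (centQ_cm' n2 hx.2 hg)).1
  · refine ⟨B ⊓ C[V], nml_inf_of_norm (norm_C e), ?_⟩
    rw [← inf_assoc, inf_eq_left.2 h.mp.le, h.R2]

theorem KZ : Od2 H ≤ C[OZ (Q2 H)] := by
  by_contra e
  have h1 := secNO1 h.mp (OZ_ea _) (norm_OZ h.mp.nQ) e h.VT h.ea
  have h2 := two_le_rel h.not_le
  have h3 := h.lt3 ((OZ_le _).trans h.mp.QT) (fun e' => by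
    rw [relIndex_eq_one.2 e'] at h1; omega) ((comm_le_right
      (h.VT.trans (h.mp.TH.trans (norm_OZ h.mp.nQ)))).trans (Abl.le_C (OZ_ea _).1))
  exact h3.not_ge (((rel_anti_left (le_C_OZ _)).trans h1).trans (le_sq _))

theorem nZ : ¬ OZ R ≤ Q2 H := fun e => h.not_le (h.VZ.trans e)
theorem WZ : ⁅Q2 H, OZ R⁆ ≤ OZ R := comm_le_right (h.mp.QT.trans h.TZ)
theorem WQ : ⁅Q2 H, OZ R⁆ ≤ Q2 H := comm_le_left (h.ZT.trans (h.mp.TH.trans h.mp.nQ))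
theorem TW : T ≤ N[⁅Q2 H, OZ R⁆] := norm_comm (h.mp.TH.trans h.mp.nQ) h.TZ

theorem nW : ¬ H ≤ N[⁅Q2 H, OZ R⁆] := fun e => by
  have n1 := (pcore_le {2} H).trans e
  have := h.mp.Od2_le (nml_inf_of_norm (norm_inf (norm_centQ h.mp.nQ e) (norm_C e)))
    fun e' => h.nZ (le_trans (le_inf h.ZT (le_inf (h.ZT.trans h.mp.TH) (le_inf
      ((le_centQ n1).2 ⟨h.ZT.trans h.TW, (commC _ _).le⟩)
      (cents_of_le (Abl.le_C (OZ_ea R).1) h.WZ)))) e')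
  exact h.mp.KQ h.cQ (Od2_stab1 (pcore_pi _ _) h.mp.nQ
    (fun g hg w hw => centQ_cm n1 (this hg).2.1 hw) (this.trans (inf_le_right.trans inf_le_right)))

theorem NW : H ⊓ N[⁅Q2 H, OZ R⁆] ≤ N[OZ R] := by
  obtain ⟨N, n1, n2⟩ := h.exists_N
  have mp := h.mp
  have b1 := mp.N_le h.TW h.nW
  have t1 := le_inf mp.TH h.TW
  have b2 : B ≤ N[Q2 H ⊓ N] := norm_inf (mp.BH.trans mp.nQ) n1.norm
  have b3 := (mp.QT.trans mp.le).trans b2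
  have RN : R ≤ N := n2.ge.trans inf_le_right
  have QR : Q2 H ⊓ N ≤ R := (inf_le_inf_right _ mp.QT).trans n2.le
  have W1 : H ⊓ N[⁅Q2 H, OZ R⁆] ≤ N[⁅Q2 H, OZ R⁆] := inf_le_right
  have H1 : H ⊓ N[⁅Q2 H, OZ R⁆] ≤ H := inf_le_left
  generalize H ⊓ N[⁅Q2 H, OZ R⁆] = N₁ at *
  have c1 : N₁ ⊓ (N ⊓ (C[⁅Q2 H, OZ R⁆] ⊓ centQ (Q2 H) (Q2 H ⊓ N))) ⊴ N₁ :=
    nml_inf_of_norm (norm_inf (b1.trans n1.norm) (norm_inf (norm_C W1)
      (norm_centQ (H1.trans mp.nQ) (b1.trans b2))))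
  have c2 : T ⊓ (N₁ ⊓ (N ⊓ (C[⁅Q2 H, OZ R⁆] ⊓ centQ (Q2 H) (Q2 H ⊓ N)))) = R :=
    le_antisymm ((inf_le_inf_left _ (inf_le_right.trans inf_le_left)).trans n2.le)
      (le_inf h.RT (le_inf (h.RT.trans t1) (le_inf RN (le_inf (cents_of_le (le_C_OZ R) h.WZ)
        (le_centQ' b3 (h.RT.trans (mp.le.trans b2)) fun a ha u hu =>
          ⟨cm_mem (mp.nQ (mp.TH (h.RT ha))) hu, cm_mem' (RN ha) (n1.norm (mp.le (mp.QT hu)))⟩)))))
  have c3 := (mp.syl.of_le t1 H1).inf_nml c1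
  rw [c2] at c3
  refine (Frattini_arg Nat.prime_two c1 c3).sup_eq.ge.trans (sup_le ((le_Od2_sup c3).trans
    (sup_le (norm_of_cent (Od2_le_iff.2 fun g hg ho => mem_C_of_cm fun v hv => ?_))
      (h.RT.trans h.TZ))) (inf_le_right.trans (N_le_N_OZ R)))
  have k2 := three_subgroup (A := zpowers g) (B := Q2 H) (K := OZ R) (comm_eq_bot'.2
    (cents_of_le (OZ_le_C R) (((le_centQ b3).1 (zpowers_le.2 hg.2.2.2)).2.trans QR)))
    (comm_eq_bot'.2 (zpowers_le.2 hg.2.2.1))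
  have z1 : ⁅g, v⁆ ∈ C[Q2 H] := comm_eq_bot.1 k2 (cm_mem_comm (mem_zpowers g) hv)
  have z2 : ⁅g, v⁆ ∈ R := QR ⟨h.cQ z1, cm_in hg.2.1 (RN (OZ_le R hv))⟩
  have z3 : ⁅g, v⁆ * ⁅g, v⁆ = 1 := by
    have := cm_mul' g v v
    rw [OZ_sq hv, comm_of_cent (OZ_le_C R) hv z2, mul_inv_cancel_right] at this
    rw [← this]; simp
  rw [← commutatorElement_inv, stab1 ho (piElt_two_of_sq z3) (cm_one_of_C'
    (h.KZ (mem_Od2 (H1 hg.1) ho)) (mem_OZ.2 ⟨h.cQ z1, z1, by rw [sq, z3]⟩)), inv_one]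

theorem main : CubicParamLE M V 2 := by
  have mp := h.mp
  have QZ := mp.QT.trans h.TZ
  have eZ := OZ_ea R
  have aZ : Abl (OZ R) := eZ.1
  obtain ⟨L, L', l1, l2, l3, l4, l5, l6⟩ := zip ((ea_pi eZ).sup (pcore_pi {2} H) QZ)
    (sup_le (h.ZT.trans mp.TH) (pcore_le _ H)) fun e => h.nZ (le_sup_left.trans e)
  have LQ := l1.trans mp.nQ
  have ZL : OZ R ≤ L := le_sup_left.trans (l2.trans l3.le)
  have QL : Q2 H ≤ L := le_sup_right.trans (l2.trans l3.le)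
  have QO : Q2 H ≤ Q2 L := pcore_max' (pcore_pi _ _) QL LQ
  have nO := Q2_nml L
  have gen : ∀ g ∈ L, ∀ X, X ≤ L → cj g (OZ R) ≤ X → Q2 H ≤ X → ¬ X ≤ cj g L' → L ≤ X :=
    fun g hg X x1 x2 x3 x4 => by
    have := l5 (cj g⁻¹ X) (cj_le_iff.1 (by rw [cj_sup, cj_of_mem_N (LQ hg)]; exact sup_le x2 x3))
      (cj_le_of_mem x1 (inv_mem hg)) fun e => x4 (le_cj_iff.2 e)
    rwa [← cj_le_iff, cj_of_mem hg] at this
  obtain ⟨a, ha, a1⟩ := SetLike.not_le_iff_exists.1 fun e : OZ R ≤ Q2 L => l4 (sup_le e QO)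
  obtain ⟨x, xL, x1, x2⟩ : ∃ x ∈ L, x ∈ OZ R ⊔ cj x (OZ R) ∧ L ≤ OZ R ⊔ cj x (OZ R) ⊔ Q2 H := by
    obtain ⟨g, hg, e⟩ := l6 a (mem_sup_left ha) a1
    have e1 : OZ R ⊔ cj g (OZ R) ≤ L := sup_le ZL (cj_le_of_mem ZL hg)
    have e2 := gen g hg _ (sup_le e1 QL) (le_sup_right.trans le_sup_left) le_sup_right
      fun e' => e (e' (mem_sup_left (mem_sup_left ha)))
    obtain ⟨x, hx, q, hq, rfl⟩ := (mem_sup_of_norm' (e1.trans LQ)).1 (e2 hg)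
    have := e1 hx
    rw [cj_mul, cj_of_mem_N (QZ hq)] at hx e2
    exact ⟨x, this, hx, e2⟩
  obtain ⟨A, b1, b2, b3, b4, b5⟩ := core eZ (pcore_pi _ _) h.cQ QZ ZL QL LQ x1 xL x2 ha a1
    (fun b hb b1 => by
      obtain ⟨g, hg, e⟩ := l6 b (mem_sup_left hb) b1
      exact ⟨g, hg, gen g hg _ (sup_le (sup_le (zpowers_le.2 (ZL hb)) (cj_le_of_mem ZL hg)) nO.le)
        (le_sup_right.trans le_sup_left) (QO.trans le_sup_right)
        fun e' => e (e' (mem_sup_left (mem_sup_left (mem_zpowers b))))⟩)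
    ((inf_le_inf_right _ l1).trans h.NW) fun A => h.lt3'
  exact h.cubic b1 b2 b3 b4 b5

end QR

end PU22
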