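import Mathlib
import Cfsg.Agent.H22.Ho8
import Cfsg.Agent.H22.HoQ

/-!
Groups with a proper `2`-generated core: definitions. See `stubs/TU/README.md`.
-/

set_option autoImplicit false
set_option linter.unusedSectionVars false
set_option linter.unusedVariables false

namespace H22.TU

open H24 H3.B71 H6.ZD H26.BR H22.Ho Subgroup MulAction Cfsg

universe u

variable {G Ω : Type u} [Group G] [MulAction G Ω]

/-- `s, t` are distinct commuting involutions -/
structure F4 {G : Type*} [Group G] (s t : G) : Prop where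
  is : Inv s
  it : Inv t
  ne : s ≠ t
  cm : s * t = t * s

/-- a transitive action of odd degree `> 1` in which a four-group fixes at most one point -/
structure U4 (G Ω : Type u) [Group G] [MulAction G Ω] : Prop where
  trans : ∀ b c : Ω, ∃ g : G, g • b = c
  nontriv : Nontrivial Ω
  odd : Odd (Nat.card Ω)
  uniq : ∀ s t : G, F4 s t → ∀ b c : Ω, s • b = b → t • b = b → s • c = c → t • c = c → b = c

/-- the same for a subgroup -/
structure UM {G : Type*} [Group G] (M : Subgroup G) : Prop where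
  ne : M ≠ ⊤
  odd : Odd M.index
  uniq : ∀ s ∈ M, ∀ t ∈ M, F4 s t → ∀ g : G, g * s * g⁻¹ ∈ M → g * t * g⁻¹ ∈ M → g ∈ M

/-- `2`-rank at least two -/
def R2 (G : Type*) [Group G] : Prop := ∃ s t : G, F4 s t

/-- `2`-rank at least three -/
def R3 (G : Type u) [Group G] : Prop := ∃ E : Subgroup G, El E ∧ 8 ≤ ♯E

/-- a `2`-central involution -/
def Tz (z : G) : Prop := Inv z ∧ ∃ T, Syl 2 ⊤ T ∧ T ≤ C{z}

/-- involutions in a `2`-subgroup commute -/
def CI (G : Type u) [Group G] : Prop :=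
  ∀ P : Subgroup G, IsPi {2} P → ∀ s ∈ P, ∀ t ∈ P, s * s = 1 → t * t = 1 → s * t = t * s

/-- a wide `2`-central involution `z` fixing `a` -/
structure Wz (z : G) (a : Ω) : Prop where
  u4 : U4 G Ω
  r3 : R3 G
  tz : Tz z
  fix : z • a = a
  wide : ¬ Nar Ω z

/-- the local structure of `C(z)` -/
structure Loc (z : G) (a : Ω) (Y L : Subgroup G) : Prop where
  YC : Y ≤ C{z}
  inv : ∀ s ∈ C{z}, s * s = 1 → s • a = a → s ∈ Y
  LY : L ⊴ Y
  zL : z ∈ L
  sn : (L.subgroupOf C{z}).IsSubnormal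
  orb : Orb Y a = Orb L a
  mv : ∃ x ∈ L, x • a ≠ a
  odd : Odd (Orb Y a).ncard
  simple : IsSimpleGroup (img (pr Y a) L)
  nab : ¬ Abl (img (pr Y a) L)

/-- the Bender case -/
def Bd (a : Ω) (Y L : Subgroup G) : Prop := ∀ x ∈ L, x * x ∈ Ker Y a → x ∉ Ker Y a → NarO Y a x

/-- `G` is almost simple with socle `J` -/
structure AS (J : Subgroup G) : Prop where
  nml : J.Normal
  simple : IsSimpleGroup J
  nab : ¬ Abl J
  cent : C[J] = ⊥

/-- the configuration of `J₁` -/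
structure JC (Ω : Type u) [MulAction G Ω] (J : Subgroup G) : Prop where
  nse : ¬ ∃ H : Subgroup J, IsStronglyEmbedded H
  syl : ∀ T, Syl 2 J T → El T ∧ ♯T = 8
  trans : ∀ b c : Ω, ∃ g ∈ J, g • b = c
  cnj : ∀ x ∈ J, ∀ y ∈ J, Inv x → Inv y → ∃ g ∈ J, g * x * g⁻¹ = y
  tz : ∀ y ∈ J, Inv y → Tz y
  wide : ∀ y ∈ J, Inv y → ¬ Nar Ω y
  ker : ∀ y ∈ J, Inv y → ∀ x ∈ J, x ∈ C{y} → (∀ c : Ω, y • c = c → x • c = c) → x ∈ zpowers y

theorem F4.symm {G : Type*} [Group G] {s t : G} (h : F4 s t) : F4 t s := ⟨h.it, h.is, h.ne.symm, h.cm.symm⟩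

theorem F4.map {G H : Type*} [Group G] [Group H] {s t : G} (h : F4 s t) {f : G →* H}
    (hf : Function.Injective f) : F4 (f s) (f t) :=
  ⟨⟨fun e => h.is.1 (hf (e.trans (map_one f).symm)), by rw [← map_mul, h.is.2, map_one]⟩,
    ⟨fun e => h.it.1 (hf (e.trans (map_one f).symm)), by rw [← map_mul, h.it.2, map_one]⟩,
    fun e => h.ne (hf e), by rw [← map_mul, h.cm, map_mul]⟩

theorem F4.conj {G : Type*} [Group G] {s t : G} (h : F4 s t) (g : G) : F4 (g * s * g⁻¹) (g * t * g⁻¹) :=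
  h.map (f := (MulAut.conj g).toMonoidHom) (MulAut.conj g).injective

theorem F4.mul {G : Type*} [Group G] {s t : G} (h : F4 s t) : Inv (s * t) :=
  ⟨fun e => h.ne (by rw [eq_inv_of_mul_eq_one_left e, inv_eq_of_mul_eq_one_right h.it.2]), by
    rw [mul_assoc, ← mul_assoc t, ← h.cm, mul_assoc, h.it.2, mul_one, h.is.2]⟩

theorem UM.map {G H : Type*} [Group G] [Group H] {M : Subgroup G} (h : UM M) (e : G ≃* H) :
    UM (M.map e.toMonoidHom) := by
  have m : ∀ x : H, x ∈ M.map e.toMonoidHom ↔ e.symm x ∈ M := fun x => mem_map_equiv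
  refine ⟨fun k => h.ne (eq_top_iff.2 fun x _ => by simpa using (m (e x)).1 (k ▸ mem_top _)),
    by rw [index_map_of_bijective e.bijective]; exact h.odd, fun s hs t ht f g h1 h2 => ?_⟩
  exact (m g).2 (h.uniq _ ((m s).1 hs) _ ((m t).1 ht) (f.map (f := e.symm.toMonoidHom) e.symm.injective) _
    (by simpa using (m _).1 h1) (by simpa using (m _).1 h2))

theorem UM.u4 [Finite G] {M : Subgroup G} (h : UM M) : U4 G (G ⧸ M) := by
  refine ⟨fun b c => exists_smul_eq G b c, nontrivial_cosets h.ne, h.odd, fun s t f b c => ?_⟩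
  obtain ⟨x, rfl⟩ := QuotientGroup.mk_surjective b
  obtain ⟨y, rfl⟩ := QuotientGroup.mk_surjective c
  simp only [smul_mk_iffQ]
  intro h1 h2 h3 h4
  have := h.uniq _ h1 _ h2 (by simpa using f.conj x⁻¹) (y⁻¹ * x) (by convert h3 using 1; group)
    (by convert h4 using 1; group)
  exact (QuotientGroup.eq.2 this).symm

theorem stab_one (M : Subgroup G) : stabilizer G ((1 : G) : G ⧸ M) = M := stabilizer_quotient M

theorem R3.r2 [Finite G] (h : R3 G) : R2 G := by
  obtain ⟨E, hE, h8⟩ := h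
  obtain ⟨s, hs, s1, -⟩ := exists_ne3 (R := E) (by omega) 1 1 1
  obtain ⟨t, ht, t1, ts, -⟩ := exists_ne3 (R := E) (by omega) 1 s 1
  exact ⟨s, t, ⟨s1, hE s hs⟩, ⟨t1, hE t ht⟩, ts.symm, hE.comm hs ht⟩

theorem r3_iff [Finite G] : R3 G ↔ ¬ PRankLE 2 2 G := by
  refine ⟨fun ⟨E, hE, h8⟩ h => ?_, fun h => ?_⟩
  · have := h E hE.abl fun a ha => by rw [pow_two, hE a ha]
    omega
  · simp only [PRankLE, not_forall, not_le] at h
    obtain ⟨E, -, h1, h2⟩ := h
    have hE : El E := fun a ha => by rw [← pow_two, h1 a ha]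
    obtain ⟨n, hn⟩ := (IsPGroup.iff_card (p := 2) (G := E)).1 fun x =>
      ⟨1, Subtype.ext (by simpa using h1 x x.2)⟩
    refine ⟨E, hE, ?_⟩
    rw [hn] at h2 ⊢
    exact Nat.pow_le_pow_right two_pos (n := 2) (i := 3) ((Nat.pow_lt_pow_iff_right one_lt_two).1 h2)

theorem as_top [IsSimpleGroup G] (nab : ¬ IsMulCommutative G) : AS (⊤ : Subgroup G) := by
  have na : ¬ Abl (⊤ : Subgroup G) := fun h => nab ⟨⟨fun x y =>
    congrArg Subtype.val (h.is_comm.comm ⟨x, mem_top x⟩ ⟨y, mem_top y⟩)⟩⟩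
  refine ⟨inferInstance, topEquiv.isSimpleGroup, na, ?_⟩
  have : (C[(⊤ : Subgroup G)]).Normal := inferInstance
  refine (this.eq_bot_or_eq_top).resolve_right fun e => nab ⟨⟨fun x y => ?_⟩⟩
  exact mem_C.1 (e.ge (mem_top y)) x (mem_top x)

end H22.TU
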